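import Cfsg.Statements.S4689
import Cfsg.Agent.BrauerPairs.Nil.Main
-- import your own Cfsg.Agent.* helpers here

set_option autoImplicit false
open Cfsg

namespace Cfsg.Agent.S4689

/-- Fix a prime p and a maximal ideal M of the algebraic integers containing p, and a nilpotent p-block B of the finite group G. Then B has p-regular rank one (a single irreducible Brauer character), and some χ₀ ∈ B restricts to that Brauer character: every χ ∈ B agrees on the p-regular elements with a natural-number multiple of χ₀. -/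
theorem result {G : Type*} [Group G] [Fintype G] (p : ℕ) [Fact p.Prime] (M : Ideal Cfsg.AlgInt) (hM : Cfsg.IsPModular p M) (B : Set (Cfsg.IrrCharacter G)) (hnil : Cfsg.IsNilpotentBlock p M B) : Cfsg.blockRank p B = 1 ∧ ∃ χ₀ ∈ B, ∀ χ ∈ B, ∃ d : ℕ, ∀ x : G, Cfsg.pRegularPart p (χ : G → ℂ) x = (d : ℂ) * Cfsg.pRegularPart p (χ₀ : G → ℂ) x := by
  haveI : M.IsPrime := Cfsg.Agent.Block.isPrime_of_isPModular hM
  haveI := Cfsg.Agent.Block.charP_resF hM
  obtain ⟨c, hc⟩ := Cfsg.Agent.Block.exists_isDefectClass hnil.1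
  obtain ⟨S⟩ := (inferInstance : Nonempty (Sylow p (Subgroup.centralizer ({c} : Set G))))
  obtain ⟨D, hDB, -⟩ := Cfsg.Agent.BrauerPairs.Nil.exists_nilData hM ⟨B, hnil.1⟩ hnil
    ⟨c, hc, S, rfl⟩
  obtain rfl : D.B.1 = B := by rw [hDB]
  obtain ⟨χ, hχ, h0⟩ := Cfsg.Agent.BlockVal.exists_height_zero (p := p)
    (Cfsg.Agent.Block.pBlock_nonempty D.B.2)
  obtain ⟨Φ, hΦ⟩ := D.exists_equiv hχ h0
  refine ⟨Cfsg.Agent.BrauerPairs.Nil.blockRank_eq_one D, χ, hχ, fun ψ hψ =>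
    ⟨Cfsg.charDegree ((Φ ⟨ψ, hψ⟩ : Cfsg.IrrCharacter D.P) : D.P → ℂ), fun x => ?_⟩⟩
  by_cases hx : p ∣ orderOf x
  · simp [Cfsg.pRegularPart, Cfsg.IsPRegular, hx]
  · have := hΦ ⟨ψ, hψ⟩ x hx
    simp only [Cfsg.pRegularPart, Cfsg.IsPRegular, hx, not_false_eq_true, if_true]
    exact this

end Cfsg.Agent.S4689
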