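import Cfsg.Statements.S4733
import Cfsg.Agent.Block.Idempotent
import Cfsg.Agent.Brauer.WeakOrth
import Cfsg.Agent.BlockVal.HeightZero
import Cfsg.Agent.BlocksChar.Degree
import Cfsg.Agent.CharInd.GenChar
import Cfsg.Agent.CharInd.Clifford

set_option autoImplicit false
open Cfsg
open scoped ComplexConjugate

namespace Cfsg.Agent.S4733

universe u

variable {G : Type u} [Group G] [Fintype G] {p : ℕ} [Fact p.Prime] {M : Ideal AlgInt}

/-- A character vanishing on the `p`-singular elements has degree divisible by the `p`-part. -/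
theorem pPart_dvd_of_vanish (χ : IrrCharacter G)
    (hv : ∀ y : G, p ∣ orderOf y → (χ : G → ℂ) y = 0) :
    (Nat.card G).factorization p ≤ (charDegree (χ : G → ℂ)).factorization p := by
  classical
  obtain ⟨P⟩ := (inferInstance : Nonempty (Sylow p G))
  letI := Fintype.ofFinite (P : Subgroup G)
  haveI : Finite (IrrCharacter (P : Subgroup G)) := CharInd.finite_irrCharacter
  letI := Fintype.ofFinite (IrrCharacter (P : Subgroup G))
  obtain ⟨c, hc⟩ := CharInd.isCharacter_coef
    (CharInd.isCharacter_res (P : Subgroup G) (Char.isCharacter_of_irr χ.2))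
  have h := CharInd.classInner_irrSum (fun ξ : IrrCharacter (P : Subgroup G) => (c ξ : ℂ))
    (Char.trivialIrr _)
  rw [← hc] at h
  have hsum : ∑ x : (P : Subgroup G), (χ : G → ℂ) (x : G) = (χ : G → ℂ) 1 := by
    rw [Finset.sum_eq_single 1]
    · rfl
    · intro x _ hx
      refine hv _ ?_
      obtain ⟨i, hi⟩ := IsPGroup.iff_orderOf.1 P.isPGroup' x
      rw [Subgroup.orderOf_coe, hi]
      exact dvd_pow_self p fun h0 => hx (orderOf_eq_one_iff.1 (by rw [hi, h0, pow_zero]))
    · exact fun h => absurd (Finset.mem_univ _) h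
  simp only [classInner, Char.trivialIrr, map_one, mul_one, hsum] at h
  rw [inv_mul_eq_iff_eq_mul₀ (Nat.cast_ne_zero.2 Nat.card_pos.ne'),
    ← BlocksChar.charDegree_eq] at h
  have hdvd : Nat.card (P : Subgroup G) ∣ charDegree (χ : G → ℂ) := ⟨_, by exact_mod_cast h⟩
  rw [P.card_eq_multiplicity] at hdvd
  exact ((Fact.out : p.Prime).pow_dvd_iff_le_factorization
    (BlocksChar.charDegree_pos χ).ne').1 hdvd

/-- A block of defect zero has one member. -/
theorem subsingleton_of_defect_zero [M.IsPrime] (hM : IsPModular p M)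
    {B : Set (IrrCharacter G)} (hB : IsPBlock M B) (h0 : blockDefect p B = 0) :
    ∃ χ : IrrCharacter G, B = {χ} := by
  classical
  obtain ⟨χ, hχ, hh⟩ := BlockVal.exists_height_zero (p := p) (Block.pBlock_nonempty hB)
  rw [BlockVal.blockDefect_eq hχ hh] at h0
  refine ⟨χ, Set.Subset.antisymm ?_ (Set.singleton_subset_iff.2 hχ)⟩
  rw [Block.pBlock_eq hB hχ]
  refine Block.blockOf_subset_of_memLocalRing (A := {χ}) (fun g => ?_) rfl
  rw [blockCoeff, finsum_mem_singleton, ← mul_assoc, ← BlocksChar.charDegree_eq, inv_mul_eq_div]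
  refine (Block.localRing M).mul_mem
    ((Block.memLocalRing_natCast_div_iff hM (BlocksChar.charDegree_pos χ).ne'
      Nat.card_pos.ne').2 (by omega)) ?_
  rw [← Char.irr_inv χ.2]
  exact Block.char_memLocalRing χ.2 _

/-- Let p be a prime, M a maximal ideal of the algebraic integers containing p, and B a p-block of the finite group G with k irreducible characters and p-regular rank l (the number of irreducible Brauer characters). Then l ≤ k, and the following are equivalent: B has defect 0; k = l = 1; k = l. -/
theorem result {G : Type*} [Group G] [Finite G] (p : ℕ) [Fact p.Prime] (M : Ideal Cfsg.AlgInt) (hM : Cfsg.IsPModular p M) (B : Set (Cfsg.IrrCharacter G)) (hB : Cfsg.IsPBlock M B) : Cfsg.blockRank p B ≤ Nat.card B ∧ (Cfsg.blockDefect p B = 0 ↔ (Nat.card B = 1 ∧ Cfsg.blockRank p B = 1)) ∧ (Cfsg.blockDefect p B = 0 ↔ Nat.card B = Cfsg.blockRank p B) := by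
  classical
  letI := Fintype.ofFinite G
  haveI : M.IsPrime := hM.2.1.isPrime
  haveI : Finite (IrrCharacter G) := CharInd.finite_irrCharacter
  letI := Fintype.ofFinite (IrrCharacter G)
  set f : B → G → ℂ := fun χ => pRegularPart p ((χ : IrrCharacter G) : G → ℂ) with hf
  have hrange : Set.range f = (fun χ : IrrCharacter G => pRegularPart p (χ : G → ℂ)) '' B := by
    ext v; simp [f]
  have hrank : blockRank p B = Set.finrank ℂ (Set.range f) := by
    rw [blockRank, hrange]; rfl
  have hle : blockRank p B ≤ Nat.card B := by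
    rw [hrank, Nat.card_eq_fintype_card]; exact finrank_range_le_card f
  have hfwd : blockDefect p B = 0 → Nat.card B = 1 ∧ blockRank p B = 1 := by
    intro h0
    obtain ⟨χ, rfl⟩ := subsingleton_of_defect_zero hM hB h0
    refine ⟨by simp, ?_⟩
    rw [blockRank, Set.image_singleton, finrank_span_singleton]
    intro h
    have h1 := congrFun h 1
    simp only [pRegularPart, IsPRegular, orderOf_one, Nat.dvd_one, (Fact.out : p.Prime).ne_one,
      not_false_eq_true, if_true, Pi.zero_apply] at h1
    exact Char.irr_one_ne_zero χ.2 h1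
  have hbwd : Nat.card B = blockRank p B → blockDefect p B = 0 := by
    intro h
    rw [hrank, Nat.card_eq_fintype_card] at h
    have hli := linearIndependent_iff_card_eq_finrank_span.2 h
    have hint := Block.blockCoeff_memLocalRing hB
    obtain ⟨χ, hχ, hh⟩ := BlockVal.exists_height_zero (p := p) (Block.pBlock_nonempty hB)
    have hv : ∀ y : G, p ∣ orderOf y → (χ : G → ℂ) y = 0 := by
      intro y hy
      have hz : ∑ ξ : B, conj (((ξ : IrrCharacter G) : G → ℂ) y) • f ξ = 0 := by
        funext x
        simp only [Finset.sum_apply, Pi.smul_apply, smul_eq_mul, f, pRegularPart, IsPRegular,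
          Pi.zero_apply]
        by_cases hx : p ∣ orderOf x
        · simp [hx]
        · have hw := Brauer.weakOrth_of_integral hM B hint hx hy
          rw [← finsum_set_coe_eq_finsum_mem, finsum_eq_sum_of_fintype] at hw
          refine Eq.trans ?_ hw
          exact Finset.sum_congr rfl fun ξ _ => by simp [hx, mul_comm]
      have := Fintype.linearIndependent_iff.1 hli _ hz ⟨χ, hχ⟩
      simpa using this
    have h1 := pPart_dvd_of_vanish χ hv
    rw [BlockVal.blockDefect_eq hχ hh]
    omega
  exact ⟨hle, ⟨hfwd, fun ⟨h1, h2⟩ => hbwd (h1.trans h2.symm)⟩,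
    ⟨fun h => (hfwd h).1.trans (hfwd h).2.symm, hbwd⟩⟩

end Cfsg.Agent.S4733
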