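import Cfsg.Statements.S4436
import Cfsg.Agent.BlockCover.FongReynolds
import Cfsg.Agent.Block.FirstMain

set_option linter.style.haveILetI false

set_option autoImplicit false
open Cfsg

namespace Cfsg.Agent.S4436

/-- Let N be a normal subgroup of the finite group G, b a block of N (relative to a maximal ideal M of the algebraic integers containing p), T the stabilizer of b in G, N ≤ T, and B′ a block of T covering b (some member of B′ has a constituent in b on restriction to N) that induces the block B of G. Then every defect group of B′ is a defect group of B, and for every ψ ∈ B′ the induced character ψ^G is an irreducible character of G lying in B with the same height as ψ. -/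
theorem result {G : Type*} [Group G] [Fintype G] (p : ℕ) [Fact p.Prime] (M : Ideal Cfsg.AlgInt) (hM : Cfsg.IsPModular p M) (N : Subgroup G) [hN : N.Normal] [Fintype N] (b : Set (Cfsg.IrrCharacter N)) (hb : Cfsg.IsPBlock M b) (T : Subgroup G) [Fintype T] (hT : ∀ g : G, g ∈ T ↔ ∀ θ ∈ b, ∀ θ' : Cfsg.IrrCharacter N, (∀ n : N, (θ' : N → ℂ) n = (θ : N → ℂ) ⟨g * n * g⁻¹, hN.conj_mem n n.2 g⟩) → θ' ∈ b) (hNT : N ≤ T) (B' : Set (Cfsg.IrrCharacter T)) (hB' : Cfsg.IsPBlock M B') (hcov : (∃ ψ ∈ B', ∃ θ ∈ b, Cfsg.classInner (fun n : N => (ψ : T → ℂ) ⟨(n : G), hNT n.2⟩) (θ : N → ℂ) ≠ 0)) (B : Set (Cfsg.IrrCharacter G)) (hind : Cfsg.IsInducedBlock M T B' B) : (∀ D : Subgroup T, Cfsg.IsDefectGroup p M B' D → Cfsg.IsDefectGroup p M B (D.map T.subtype)) ∧ ∀ ψ ∈ B', ∃ χ ∈ B, (χ : G → ℂ) = Cfsg.indFun T (ψ : T → ℂ) ∧ Cfsg.blockHeight p B (χ : G → ℂ) = Cfsg.blockHeight p B' (ψ : T → ℂ) := by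
  classical
  have hp := (Fact.out : p.Prime)
  have hmem := BlockCover.mem_stab_iff (T := T) hT
  haveI : M.IsPrime := hM.2.1.isPrime
  obtain ⟨B₀, hind₀, -, hiff⟩ := BlockCover.induced_block hNT hmem hM hb hB' hcov
  rw [← Block.isInducedBlock_unique hind hind₀] at hiff
  have hdeg : ∀ ψ : IrrCharacter T, ∀ χ : IrrCharacter G,
      (χ : G → ℂ) = indFun T (ψ : T → ℂ) →
      (charDegree (χ : G → ℂ)).factorization p =
        T.index.factorization p + (charDegree (ψ : T → ℂ)).factorization p := by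
    intro ψ χ h
    have h1 := CharInd.indFun_one_apply (H := T) (ψ : T → ℂ)
    rw [← h, (Block.irr_one_eq_charDegree ψ.2).1, (Block.irr_one_eq_charDegree χ.2).1,
      ← Nat.cast_mul] at h1
    have h2 : charDegree (χ : G → ℂ) = T.index * charDegree (ψ : T → ℂ) := by exact_mod_cast h1
    rw [h2, Nat.factorization_mul Subgroup.index_ne_zero_of_finite
      (Block.irr_one_eq_charDegree ψ.2).2.1.ne']
    rfl
  have hinf : sInf ((fun χ : IrrCharacter G => (charDegree (χ : G → ℂ)).factorization p) '' B) =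
      T.index.factorization p +
        sInf ((fun ψ : IrrCharacter T => (charDegree (ψ : T → ℂ)).factorization p) '' B') := by
    obtain ⟨ψ₀, hψ₀⟩ := Block.pBlock_nonempty hB'
    obtain ⟨χ₀, hχ₀⟩ := Block.pBlock_nonempty hind.2.1
    apply le_antisymm
    · obtain ⟨ψ, hψ, hψe⟩ := Nat.sInf_mem (s := (fun ψ : IrrCharacter T =>
        (charDegree (ψ : T → ℂ)).factorization p) '' B') ⟨_, ψ₀, hψ₀, rfl⟩
      rw [← hψe]
      let χ : IrrCharacter G := ⟨indFun T (ψ : T → ℂ), BlockCover.indFun_irr hNT hmem hb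
        (BlockCover.block_over hNT hM hb hmem hB' hcov hψ)⟩
      exact Nat.sInf_le ⟨χ, (hiff χ).2 ⟨ψ, hψ, rfl⟩, hdeg ψ χ rfl⟩
    · refine le_csInf ⟨_, χ₀, hχ₀, rfl⟩ ?_
      rintro _ ⟨χ, hχ, rfl⟩
      obtain ⟨ψ, hψ, h⟩ := (hiff χ).1 hχ
      show _ ≤ (charDegree (χ : G → ℂ)).factorization p
      rw [hdeg ψ χ h]
      exact add_le_add le_rfl (Nat.sInf_le (Set.mem_image_of_mem _ hψ))
  refine ⟨fun D hD => ?_, fun ψ hψ => ?_⟩
  · obtain ⟨E, hE, hle⟩ := Block.exists_defectGroup_map_le hM hind hD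
    refine Block.isDefectGroup_of_card_le hM hind.2.1 hE (Block.subConj_of_le hle) ?_
    rw [Subgroup.card_map_of_injective (f := T.subtype) Subtype.val_injective,
      Block.card_isDefectGroup hM hind.2.1 hE, Block.card_isDefectGroup hM hB' hD]
    refine Nat.pow_le_pow_right hp.pos ?_
    rw [blockDefect, blockDefect, hinf, ← T.card_mul_index,
      Nat.factorization_mul Nat.card_pos.ne' Subgroup.index_ne_zero_of_finite, Finsupp.add_apply]
    omega
  · refine ⟨⟨indFun T (ψ : T → ℂ), BlockCover.indFun_irr hNT hmem hb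
      (BlockCover.block_over hNT hM hb hmem hB' hcov hψ)⟩, (hiff _).2 ⟨ψ, hψ, rfl⟩, rfl, ?_⟩
    rw [blockHeight, blockHeight, hinf, hdeg ψ _ rfl]
    omega

end Cfsg.Agent.S4436
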