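import Cfsg.Statements.S4487
import Cfsg.Agent.BlockVal.PElement
import Cfsg.Agent.Cores.Basic

set_option autoImplicit false
open Cfsg

namespace Cfsg.Agent.S4487

/-- Let G be a finite group and p a prime such that G has no non-trivial normal subgroup of order prime to p and C_G(O_p(G)) ≤ O_p(G). Then G has a single p-block: any two irreducible characters lie in the same block relative to every maximal ideal M of the algebraic integers containing p. -/
theorem result {G : Type*} [Group G] [Finite G] (p : ℕ) [Fact p.Prime] (M : Ideal Cfsg.AlgInt) (hM : Cfsg.IsPModular p M) (hcore : Cfsg.pPrimeCore p G = ⊥) (hconstr : Subgroup.centralizer ((Cfsg.pCore p G) : Set G) ≤ Cfsg.pCore p G) (χ ψ : Cfsg.IrrCharacter G) : Cfsg.SameBlock M (χ : G → ℂ) (ψ : G → ℂ) := by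
  classical
  haveI := Fintype.ofFinite G
  haveI : M.IsPrime := hM.2.1.isPrime
  have hp : p.Prime := Fact.out
  have hN : IsPGroup p (Cfsg.pCore p G) := Cores.pCore_isPGroup
  haveI hNn : (Cfsg.pCore p G).Normal := inferInstance
  intro g
  by_cases hg : g ∈ Subgroup.centralizer ((Cfsg.pCore p G) : Set G)
  · -- a `p`-element: the value is congruent to the class size
    have hgN := hconstr hg
    have key : ∀ φ : Cfsg.IrrCharacter G, Cfsg.MemLocalIdeal M
        (Cfsg.centralChar (φ : G → ℂ) g - ((Subgroup.centralizer ({g} : Set G)).index : ℂ)) :=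
      fun φ => BlockVal.centralChar_pElement hM (Cfsg.pCore p G) hN φ hgN
    simpa using Block.memLocalIdeal_sub (key χ) (key ψ)
  · exact Block.memLocalIdeal_sub
      (Block.centralChar_mem_of_class_avoids_centralizer hM hN χ.2 hg)
      (Block.centralChar_mem_of_class_avoids_centralizer hM hN ψ.2 hg)

end Cfsg.Agent.S4487
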