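import Cfsg.Statements.S4722
import Cfsg.Agent.Brauer.SectionColumns
import Cfsg.Agent.Brauer.Kernel
import Cfsg.Agent.BlocksChar.DefectZero
import Cfsg.Agent.CharInd.GenChar
import Cfsg.Agent.CharInd.Clifford
import Cfsg.Agent.CharInd.Kernel

set_option autoImplicit false
open Cfsg
open scoped ComplexConjugate

namespace Cfsg.Agent.S4722

universe u

open MonoidAlgebra Cfsg.Agent.Block in
/-- A combination of the characters vanishing on a section stays so inside the principal block. -/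
theorem principal_part_eq_zero {G : Type u} [Group G] [Fintype G] {p : ℕ} {M : Ideal AlgInt}
    (hM : IsPModular p M) {y : G} {k : ℕ} (hy : orderOf y = p ^ k) (c : IrrCharacter G → ℂ)
    (h : ∀ g : G, Element.pPart p g = y → ∑ χ : IrrCharacter G, c χ * (χ : G → ℂ) g = 0) :
    ∑ᶠ χ ∈ principalBlock M G, c χ * (χ : G → ℂ) y = 0 := by
  classical
  haveI : M.IsPrime := hM.2.1.isPrime
  set C := Subgroup.centralizer ({y} : Set G) with hC
  letI := Fintype.ofFinite C
  have hb0 : IsPBlock M (principalBlock M C) := ⟨Char.trivialIrr C, rfl⟩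
  set z := toC M (incl C (idemS M (principalBlock M C))) with hz
  have hzC : ∀ g : G, z.coeff g ≠ 0 → Element.pPart p (y * g) = y := by
    intro g hg
    by_cases hgC : g ∈ C
    swap
    · rw [hz, mapR_incl, coeff_incl_of_notMem _ _ hgC] at hg
      exact absurd rfl hg
    rw [hz, mapR_incl, toC_idemS hb0, show g = ((⟨g, hgC⟩ : C) : G) from rfl, coeff_incl_coe,
      coeff_blockIdem] at hg
    have hreg : ¬ p ∣ orderOf (⟨g, hgC⟩ : C) := fun h' =>
      hg (Brauer.blockCoeff_eq_zero_of_integral hM _ (blockCoeff_memLocalRing hb0) h')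
    rw [Subgroup.orderOf_mk] at hreg
    exact (Element.eq_pPart hM.1 (Subgroup.mem_centralizer_singleton_iff.1 hgC).symm rfl hy
      ((Nat.Prime.coprime_iff_not_dvd hM.1).2 hreg).symm).1.symm
  have hterm : ∀ χ : IrrCharacter G,
      (if χ ∈ principalBlock M G then (χ : G → ℂ) y else 0) =
        charLin (χ : G → ℂ) (single y 1 * z) := by
    intro χ
    rw [hz, ← Brauer.charLin_principal_section hM hy (Subgroup.mem_zpowers y) C hC _
      (Char.irr_isClassFunction χ.2),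
      (isCentralElt_commute (blockIdem_isCentralElt _) _ : _ = _).symm,
      charLin_central_mul χ.2 (blockIdem_isCentralElt _), omega_blockIdem, charLin_single, one_mul,
      ite_mul, one_mul, zero_mul]
  rw [finsum_mem_eq_toFinset_sum, Finset.sum_congr rfl (g := fun χ : IrrCharacter G =>
      c χ * charLin (χ : G → ℂ) (single y 1 * z)) (fun χ hχ => by
        rw [← hterm, if_pos (by simpa using hχ)]),
    Finset.sum_subset (Finset.subset_univ _) (fun χ _ hχ => by
      rw [← hterm, if_neg (by simpa using hχ), mul_zero])]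
  simp only [charLin_eq_sum, Finset.mul_sum]
  rw [Finset.sum_comm]
  refine Finset.sum_eq_zero fun g _ => ?_
  have hcoef : (single y 1 * z).coeff g = z.coeff (y⁻¹ * g) := by
    rw [Block.coeff_mul_sum, Finset.sum_eq_single y]
    · simp [coeff_single]
    · intro b _ hb
      simp [coeff_single, Finsupp.single_apply, Ne.symm hb]
    · simp
  rw [Finset.sum_congr rfl (g := fun χ : IrrCharacter G => z.coeff (y⁻¹ * g) *
    (c χ * (χ : G → ℂ) g)) (fun χ _ => by rw [hcoef]; ring), ← Finset.mul_sum]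
  by_cases h0 : z.coeff (y⁻¹ * g) = 0
  · rw [h0, zero_mul]
  · rw [h g (by simpa using hzC _ h0), mul_zero]

/-- Let M be a maximal ideal of the algebraic integers containing 2, P a 2-subgroup of the finite group G, U a subset of P, and t an involution of G such that no element of U is inverted by any conjugate of t. Let θ be a generalized character of P vanishing outside U, and for χ in the principal 2-block B₀ put a_χ = #P⁻¹ Σ_{y ∈ P} χ(y) θ(y⁻¹). Then Σ_{χ ∈ B₀} a_χ χ(t)^2/χ(1) = 0, Σ_{χ ∈ B₀} a_χ χ(1) = 0 and Σ_{χ ∈ B₀} a_χ χ(t) = 0. If moreover #P⁻¹ Σ_{y ∈ P} θ(y) ≠ 0, then either at least two of the a_χ have positive real part and at least two have negative real part, or G has a proper normal subgroup containing O_2'(G) and t. -/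
theorem result {G : Type*} [Group G] [Finite G] (M : Ideal Cfsg.AlgInt) (hM : Cfsg.IsPModular 2 M) (P : Subgroup G) (hP : IsPGroup 2 P) (U : Set G) (hUP : U ⊆ (P : Set G)) (t : G) (ht : orderOf t = 2) (hinv : ∀ u ∈ U, ∀ g : G, (g * t * g⁻¹) * u * (g * t * g⁻¹)⁻¹ ≠ u⁻¹) (θ : ↥P → ℂ) (hθ : Cfsg.IsGeneralizedCharacter ↥P θ) (hθU : ∀ y : ↥P, (y : G) ∉ U → θ y = 0) : (∑ᶠ χ ∈ Cfsg.principalBlock M G, ((Nat.card ↥P : ℂ)⁻¹ * ∑ᶠ y : ↥P, (χ : G → ℂ) (y : G) * θ y⁻¹) * (χ : G → ℂ) t ^ 2 / (χ : G → ℂ) 1 = 0) ∧ (∑ᶠ χ ∈ Cfsg.principalBlock M G, ((Nat.card ↥P : ℂ)⁻¹ * ∑ᶠ y : ↥P, (χ : G → ℂ) (y : G) * θ y⁻¹) * (χ : G → ℂ) 1 = 0) ∧ (∑ᶠ χ ∈ Cfsg.principalBlock M G, ((Nat.card ↥P : ℂ)⁻¹ * ∑ᶠ y : ↥P, (χ : G → ℂ) (y : G) * θ y⁻¹) * (χ : G → ℂ) t = 0) ∧ ((Nat.card ↥P : ℂ)⁻¹ * ∑ᶠ y : ↥P, θ y ≠ 0 → (2 ≤ Nat.card {χ : Cfsg.IrrCharacter G // χ ∈ Cfsg.principalBlock M G ∧ 0 < (((Nat.card ↥P : ℂ)⁻¹ * ∑ᶠ y : ↥P, (χ : G → ℂ) (y : G) * θ y⁻¹)).re} ∧ 2 ≤ Nat.card {χ :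 Cfsg.IrrCharacter G // χ ∈ Cfsg.principalBlock M G ∧ (((Nat.card ↥P : ℂ)⁻¹ * ∑ᶠ y : ↥P, (χ : G → ℂ) (y : G) * θ y⁻¹)).re < 0}) ∨ ∃ K : Subgroup G, K.Normal ∧ K ≠ ⊤ ∧ Cfsg.pPrimeCore 2 G ≤ K ∧ t ∈ K) := by
  classical
  letI := Fintype.ofFinite G
  letI := Fintype.ofFinite P
  haveI : Finite (IrrCharacter G) := CharInd.finite_irrCharacter
  letI := Fintype.ofFinite (IrrCharacter G)
  haveI : Finite (IrrCharacter P) := CharInd.finite_irrCharacter
  letI := Fintype.ofFinite (IrrCharacter P)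
  haveI : Fact (Nat.Prime 2) := ⟨Nat.prime_two⟩
  haveI : M.IsPrime := hM.2.1.isPrime
  set B := principalBlock M G with hBdef
  set a : IrrCharacter G → ℂ := fun χ =>
    (Nat.card P : ℂ)⁻¹ * ∑ᶠ y : ↥P, (χ : G → ℂ) (y : G) * θ y⁻¹ with ha
  have htt : t * t = 1 := by rw [← pow_two, ← ht, pow_orderOf_eq_one]
  have htinv : t⁻¹ = t := inv_eq_of_mul_eq_one_right htt
  -- the facts about a single element of the support
  have hsupp : ∀ v : P, θ v⁻¹ ≠ 0 → (v : G)⁻¹ ∈ U := fun v hv => by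
    by_contra h
    exact hv (hθU _ (by simpa using h))
  have hvt : ∀ v : P, θ v⁻¹ ≠ 0 → ¬ IsConj (v : G) 1 ∧ ¬ IsConj (v : G) t := by
    intro v hv
    have hu := hsupp v hv
    constructor
    · intro h
      rw [isConj_one_left] at h
      refine hinv _ hu 1 ?_
      simp [isConj_iff_eq, h]
    · intro h
      obtain ⟨g, hg⟩ := isConj_iff.1 h.symm
      refine hinv _ hu g ?_
      rw [← hg, mul_inv_cancel, one_mul, inv_inv, mul_inv_rev, mul_inv_rev, inv_inv, htinv,
        ← mul_assoc]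
  have horder : ∀ v : P, ∃ k : ℕ, orderOf (v : G) = 2 ^ k := fun v => by
    obtain ⟨k, hk⟩ := IsPGroup.iff_orderOf.1 hP v
    exact ⟨k, by rw [Subgroup.orderOf_coe, hk]⟩
  -- moving a sum over the block inside
  have hswap : ∀ f : IrrCharacter G → ℂ,
      (∀ v : P, θ v⁻¹ ≠ 0 → ∑ᶠ χ ∈ B, f χ * (χ : G → ℂ) v = 0) →
      ∑ᶠ χ ∈ B, a χ * f χ = 0 := by
    intro f hf
    simp only [ha, finsum_mem_eq_toFinset_sum] at hf ⊢
    simp only [finsum_eq_sum_of_fintype, Finset.mul_sum, Finset.sum_mul]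
    rw [Finset.sum_comm]
    refine Finset.sum_eq_zero fun v _ => ?_
    by_cases hv : θ v⁻¹ = 0
    · simp [hv]
    · calc _ = ((Nat.card P : ℂ)⁻¹ * θ v⁻¹) * ∑ χ ∈ B.toFinset, f χ * (χ : G → ℂ) v := by
            rw [Finset.mul_sum]; exact Finset.sum_congr rfl fun χ _ => by ring
        _ = 0 := by rw [hf v hv, mul_zero]
  have h1 : ∑ᶠ χ ∈ B, a χ * (χ : G → ℂ) 1 = 0 := by
    refine hswap _ fun v hv => ?_
    obtain ⟨k, hk⟩ := horder v
    letI := Fintype.ofFinite (Subgroup.centralizer ({(v : G)} : Set G))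
    have h := Brauer.principal_column_eq_zero hM hk (g := (1 : G))
      (Subgroup.centralizer ({(v : G)} : Set G)) rfl 1 (by rw [orderOf_one]; norm_num) (by
        rw [(Element.pPart_eq_self Nat.prime_two (k := 0) (g := (1 : G)) (by simp)).1]
        exact (hvt v hv).1)
    rw [← h]
    refine finsum_mem_congr rfl fun χ _ => ?_
    rw [OneMemClass.coe_one, mul_one, ← Char.irr_inv χ.2, inv_one, mul_comm]
  have h2 : ∑ᶠ χ ∈ B, a χ * (χ : G → ℂ) t = 0 := by
    refine hswap _ fun v hv => ?_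
    obtain ⟨k, hk⟩ := horder v
    letI := Fintype.ofFinite (Subgroup.centralizer ({(v : G)} : Set G))
    have h := Brauer.principal_column_eq_zero hM hk (g := t)
      (Subgroup.centralizer ({(v : G)} : Set G)) rfl 1 (by rw [orderOf_one]; norm_num) (by
        rw [(Element.pPart_eq_self Nat.prime_two (k := 1) (by rw [ht, pow_one])).1]
        exact (hvt v hv).2)
    rw [← h]
    refine finsum_mem_congr rfl fun χ _ => ?_
    rw [OneMemClass.coe_one, mul_one, ← Char.irr_inv χ.2, htinv, mul_comm]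
  have h3 : ∑ᶠ χ ∈ B, a χ * ((χ : G → ℂ) t ^ 2 / (χ : G → ℂ) 1) = 0 := by
    refine hswap _ fun v hv => ?_
    obtain ⟨k, hk⟩ := horder v
    refine principal_part_eq_zero hM hk _ fun g hg => ?_
    rw [← BlocksChar.sum_irr_pair_eq_zero t t g⁻¹ ?_]
    · refine Finset.sum_congr rfl fun χ _ => ?_
      rw [inv_inv]; ring
    intro b c hbc
    refine hinv _ (hsupp v hv) b ?_
    set x := b * t * b⁻¹ with hx
    set y := c * t * c⁻¹ with hy
    have hxx : x⁻¹ = x := by rw [hx, mul_inv_rev, mul_inv_rev, inv_inv, htinv, mul_assoc]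
    have hyy : y⁻¹ = y := by rw [hy, mul_inv_rev, mul_inv_rev, inv_inv, htinv, mul_assoc]
    have hg' : g = y * x := by rw [← inv_inv g, ← hbc, mul_inv_rev, hxx, hyy]
    have hconj : x * g * x⁻¹ = g⁻¹ := by rw [← hbc, hg']; group
    have hpinv : Element.pPart 2 g⁻¹ = (v : G)⁻¹ := by
      refine ((Element.eq_pPart (a := (v : G)⁻¹) (b := (Element.pComplPart 2 g)⁻¹) (k := k)
        Nat.prime_two ?_ ?_ ?_ ?_).1).symm
      · have := Element.commute_pPart_pComplPart 2 g
        rw [hg] at this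
        exact this.inv_inv
      · rw [← mul_inv_rev, ← hg, (Element.commute_pPart_pComplPart 2 g).symm.eq,
          Element.pPart_mul_pComplPart]
      · rw [orderOf_inv, hk]
      · rw [orderOf_inv]; exact Element.coprime_orderOf_pComplPart Nat.prime_two g
    have h4 := (Element.pPart_conj Nat.prime_two x g).1
    rw [hconj, hpinv, hg] at h4
    calc x * (v : G)⁻¹ * x⁻¹ = (x * (v : G) * x⁻¹)⁻¹ := by group
      _ = _ := by rw [← h4]
  refine ⟨by simp only [mul_div_assoc]; exact h3, h1, h2, fun hne => ?_⟩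
  -- the coefficients are rational integers
  have hint : ∀ χ : IrrCharacter G, ∃ n : ℤ, a χ = n := by
    intro χ
    obtain ⟨m, hm⟩ := CharInd.isCharacter_coef
      (CharInd.isCharacter_res P (Char.isCharacter_of_irr χ.2))
    obtain ⟨m', hm'⟩ := CharInd.genChar_coef hθ
    refine ⟨∑ ξ, (m ξ : ℤ) * m' ξ, ?_⟩
    rw [← CharInd.genChar_classInner (θ := fun k : P => (χ : G → ℂ) k) (a := fun ξ => (m ξ : ℤ))
      (by rw [hm]; exact Finset.sum_congr rfl fun ξ _ => by rw [Int.cast_natCast]) hm']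
    simp only [ha, classInner, finsum_eq_sum_of_fintype]
    congr 1
    refine Finset.sum_congr rfl fun y _ => ?_
    congr 1
    obtain ⟨ψ, ψ', hψ, hψ', rfl⟩ := hθ
    simp only [Pi.sub_apply, map_sub, Char.isCharacter_inv hψ, Char.isCharacter_inv hψ']
  choose n hn using hint
  have hre : ∀ χ : IrrCharacter G, (a χ).re = (n χ : ℝ) := fun χ => by
    rw [hn]; exact Complex.intCast_re _
  set triv := Char.trivialIrr G
  have htB : triv ∈ B := Block.mem_blockOf_self triv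
  have htn : n triv ≠ 0 := by
    intro h0
    apply hne
    have h := hn triv
    rw [h0, Int.cast_zero] at h
    simp only [ha] at h
    rw [← h]
    congr 1
    simp only [triv, Char.trivialIrr, one_mul, finsum_eq_sum_of_fintype]
    exact (Fintype.sum_equiv (Equiv.inv P) _ _ fun _ => rfl).symm
  -- either the signs are mixed or the involution is in the kernel
  have hkey : ∀ s : ℤ, s ≠ 0 →
      2 ≤ Nat.card {χ : IrrCharacter G // χ ∈ B ∧ 0 < s * n χ} ∨
        ∀ χ ∈ B, n χ ≠ 0 → (χ : G → ℂ) t = (χ : G → ℂ) 1 := by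
    intro s hs
    by_contra hcon
    push Not at hcon
    obtain ⟨hlt, χ₁, hχ₁, hn₁, hne₁⟩ := hcon
    haveI : Subsingleton {χ : IrrCharacter G // χ ∈ B ∧ 0 < s * n χ} :=
      Finite.card_le_one_iff_subsingleton.1 (by omega)
    -- the weighted squares sum to zero for every centre
    have hreal : ∀ χ : IrrCharacter G,
        ((χ : G → ℂ) t).re = (χ : G → ℂ) t ∧ (charDegree (χ : G → ℂ) : ℂ) = (χ : G → ℂ) 1 :=
      fun χ => ⟨Complex.conj_eq_iff_re.1 (by rw [← Char.irr_inv χ.2, htinv]),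
        BlocksChar.charDegree_eq χ⟩
    set d : IrrCharacter G → ℝ := fun χ => (charDegree (χ : G → ℂ) : ℝ)
    set x : IrrCharacter G → ℝ := fun χ => ((χ : G → ℂ) t).re
    have hd : ∀ χ, 0 < d χ := fun χ => Nat.cast_pos.2 (BlocksChar.charDegree_pos χ)
    have e1 : ∑ χ ∈ B.toFinset, (n χ : ℝ) * d χ = 0 := by
      rw [finsum_mem_eq_toFinset_sum] at h1
      exact_mod_cast (show ((∑ χ ∈ B.toFinset, (n χ : ℝ) * d χ : ℝ) : ℂ) = 0 by
        push_cast
        rw [← h1]
        refine Finset.sum_congr rfl fun χ _ => ?_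
        simp only [d, Complex.ofReal_natCast, hn, (hreal χ).2])
    have e2 : ∑ χ ∈ B.toFinset, (n χ : ℝ) * x χ = 0 := by
      rw [finsum_mem_eq_toFinset_sum] at h2
      exact_mod_cast (show ((∑ χ ∈ B.toFinset, (n χ : ℝ) * x χ : ℝ) : ℂ) = 0 by
        push_cast
        rw [← h2]
        refine Finset.sum_congr rfl fun χ _ => ?_
        simp only [x, hn, (hreal χ).1])
    have e3 : ∑ χ ∈ B.toFinset, (n χ : ℝ) * (x χ ^ 2 / d χ) = 0 := by
      rw [finsum_mem_eq_toFinset_sum] at h3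
      exact_mod_cast (show ((∑ χ ∈ B.toFinset, (n χ : ℝ) * (x χ ^ 2 / d χ) : ℝ) : ℂ) = 0 by
        push_cast
        rw [← h3]
        refine Finset.sum_congr rfl fun χ _ => ?_
        simp only [x, d, hn, Complex.ofReal_natCast, (hreal χ).1, (hreal χ).2])
    have hquad : ∀ r : ℝ, ∑ χ ∈ B.toFinset, (n χ : ℝ) * ((x χ - r * d χ) ^ 2 / d χ) = 0 := by
      intro r
      calc _ = ∑ χ ∈ B.toFinset, ((n χ : ℝ) * (x χ ^ 2 / d χ) - 2 * r * ((n χ : ℝ) * x χ)
            + r ^ 2 * ((n χ : ℝ) * d χ)) := Finset.sum_congr rfl fun χ _ => by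
              field_simp [(hd χ).ne']; ring
        _ = 0 := by
          rw [Finset.sum_add_distrib, Finset.sum_sub_distrib, ← Finset.mul_sum, ← Finset.mul_sum,
            e1, e2, e3]
          ring
    -- all ratios agree
    have hall : ∃ r : ℝ, ∀ χ ∈ B, n χ ≠ 0 → x χ = r * d χ := by
      obtain ⟨χ₀, hχ₀⟩ : ∃ χ₀, ∀ χ ∈ B, 0 < s * n χ → χ = χ₀ := by
        rcases isEmpty_or_nonempty {χ : IrrCharacter G // χ ∈ B ∧ 0 < s * n χ} with h | ⟨⟨χ₀, h₀⟩⟩
        · exact ⟨triv, fun χ hχ hp => (h.false ⟨χ, hχ, hp⟩).elim⟩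
        · exact ⟨χ₀, fun χ hχ hp => congrArg Subtype.val (Subsingleton.elim
            (⟨χ, hχ, hp⟩ : {χ : IrrCharacter G // χ ∈ B ∧ 0 < s * n χ}) ⟨χ₀, h₀⟩)⟩
      refine ⟨x χ₀ / d χ₀, fun χ hχ hnχ => ?_⟩
      have hle : ∀ ψ ∈ B.toFinset,
          0 ≤ -((s : ℝ) * ((n ψ : ℝ) * ((x ψ - x χ₀ / d χ₀ * d ψ) ^ 2 / d ψ))) := by
        intro ψ hψ
        by_cases hp : 0 < s * n ψ
        · rw [hχ₀ ψ (by simpa using hψ) hp]
          field_simp [(hd χ₀).ne']
          simp
        · push Not at hp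
          have hp' : (s : ℝ) * (n ψ : ℝ) ≤ 0 := by exact_mod_cast hp
          have hq : 0 ≤ (x ψ - x χ₀ / d χ₀ * d ψ) ^ 2 / d ψ := div_nonneg (sq_nonneg _) (hd ψ).le
          nlinarith
      have h0 := (Finset.sum_eq_zero_iff_of_nonneg hle).1
        (by rw [Finset.sum_neg_distrib, ← Finset.mul_sum, hquad, mul_zero, neg_zero]) χ
        (by simpa using hχ)
      simp only [neg_eq_zero, mul_eq_zero, Int.cast_eq_zero, hs, hnχ, false_or, div_eq_zero_iff,
        (hd χ).ne', or_false, pow_eq_zero_iff two_ne_zero, sub_eq_zero] at h0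
      exact h0
    obtain ⟨r, hr⟩ := hall
    have hr1 : r = 1 := by
      have h := hr triv htB htn
      simp only [x, d, triv, Char.trivialIrr, Complex.one_re, charDegree, Nat.floor_one,
        Nat.cast_one, mul_one] at h
      exact h.symm
    apply hne₁
    have h := hr χ₁ hχ₁ hn₁
    rw [hr1, one_mul] at h
    rw [← (hreal χ₁).1, ← (hreal χ₁).2]
    simp only [x, d] at h
    rw [h, Complex.ofReal_natCast]
  have hpos : ∀ χ, (0 < (a χ).re ↔ 0 < (1 : ℤ) * n χ) ∧ ((a χ).re < 0 ↔ 0 < (-1 : ℤ) * n χ) :=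
    fun χ => by
      rw [hre, one_mul, neg_one_mul, Left.neg_pos_iff, Int.cast_pos, Int.cast_lt_zero]
      exact ⟨Iff.rfl, Iff.rfl⟩
  have eqp : Nat.card {χ : IrrCharacter G // χ ∈ B ∧ 0 < (a χ).re} =
      Nat.card {χ : IrrCharacter G // χ ∈ B ∧ 0 < (1 : ℤ) * n χ} :=
    Nat.card_congr (Equiv.subtypeEquivRight fun χ => and_congr_right fun _ => (hpos χ).1)
  have eqn : Nat.card {χ : IrrCharacter G // χ ∈ B ∧ (a χ).re < 0} =
      Nat.card {χ : IrrCharacter G // χ ∈ B ∧ 0 < (-1 : ℤ) * n χ} :=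
    Nat.card_congr (Equiv.subtypeEquivRight fun χ => and_congr_right fun _ => (hpos χ).2)
  have hfin : (∀ χ ∈ B, n χ ≠ 0 → (χ : G → ℂ) t = (χ : G → ℂ) 1) →
      ∃ K : Subgroup G, K.Normal ∧ K ≠ ⊤ ∧ pPrimeCore 2 G ≤ K ∧ t ∈ K := by
    intro hall
    obtain ⟨χ, hχB, hχ, hχn⟩ : ∃ χ ∈ B, χ ≠ triv ∧ n χ ≠ 0 := by
      by_contra hcon
      push Not at hcon
      rw [finsum_mem_eq_toFinset_sum, Finset.sum_eq_single triv (fun χ hχ hne => by
        rw [hn, hcon χ (by simpa using hχ) hne]; simp)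
        (fun h => absurd (by simpa using htB) h)] at h1
      apply htn
      simpa [triv, Char.trivialIrr, hn] using h1
    obtain ⟨K, hKn, hK⟩ := CharInd.exists_charKer (Char.isCharacter_of_irr χ.2)
    refine ⟨K, hKn, fun htop => hχ ?_, sSup_le ?_, (hK t).2 (hall χ hχB hχn)⟩
    · refine Subtype.ext (funext fun g => ?_)
      have hcst : ∀ g : G, (χ : G → ℂ) g = (χ : G → ℂ) 1 := fun g =>
        (hK g).1 (htop ▸ Subgroup.mem_top g)
      have h := CharInd.classInner_irr_self χ.2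
      simp only [classInner, hcst, Finset.sum_const, Finset.card_univ, nsmul_eq_mul,
        ← Nat.card_eq_fintype_card] at h
      rw [inv_mul_cancel_left₀ (Nat.cast_ne_zero.2 Nat.card_pos.ne'),
        ← BlocksChar.charDegree_eq, Complex.conj_natCast] at h
      have hd1 : charDegree (χ : G → ℂ) = 1 := Nat.eq_one_of_mul_eq_one_right (by exact_mod_cast h :
        charDegree (χ : G → ℂ) * charDegree (χ : G → ℂ) = 1)
      rw [hcst g, ← BlocksChar.charDegree_eq, hd1, Nat.cast_one]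
      rfl
    · rintro N ⟨hN, hNc⟩ g hg
      haveI := hN
      exact (hK g).2 (Brauer.trivialOn_of_sameBlock hM N
        ((Nat.Prime.coprime_iff_not_dvd Nat.prime_two).1 hNc.symm)
        (χ := triv) (ψ := χ) hχB (fun _ _ => rfl) g hg)
  rcases hkey 1 one_ne_zero with hp | hall
  · rcases hkey (-1) (by norm_num) with hq | hall
    · exact Or.inl ⟨eqp ▸ hp, eqn ▸ hq⟩
    · exact Or.inr (hfin hall)
  · exact Or.inr (hfin hall)

end Cfsg.Agent.S4722
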