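import Cfsg.Statements.S3370
import Cfsg.Agent.Arith.Zsigmondy
import Cfsg.Agent.TwoGroups.Recognition
-- import your own Cfsg.Agent.* helpers here

set_option autoImplicit false
open scoped Pointwise
open Cfsg

namespace Cfsg.Agent.S3370

theorem eq_one_of_two_pow_sub_one_eq {p n a : ℕ} (hp : p.Prime) (ha : 1 ≤ a)
    (h : 2 ^ n - 1 = p ^ a) : a = 1 := by
  by_contra hne
  have hn : 1 ≤ n := by
    by_contra hn
    have : n = 0 := by omega
    subst this
    simp at h
    exact absurd h.symm (pow_ne_zero _ hp.ne_zero)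
  have hp2 : p ≠ 2 := by
    rintro rfl
    have h1 : 2 ∣ 2 ^ n := dvd_pow_self 2 (by omega)
    have h2 : 2 ∣ 2 ^ a := dvd_pow_self 2 (by omega)
    have := Nat.one_le_pow n 2 two_pos
    omega
  obtain ⟨r, hr, hord⟩ := Cfsg.Agent.Arith.exists_prime_orderOf_eq (a := p) (n := 2 * a)
    hp.one_lt (by omega) (fun hh => hp2 hh.1) (fun hh => by omega)
  have : Fact r.Prime := ⟨hr⟩
  obtain ⟨hd, hmin⟩ := (Cfsg.Agent.Arith.primitive_iff_orderOf hp.pos (by omega)).mpr hord
  have hfac : p ^ (2 * a) - 1 = (p ^ a + 1) * (p ^ a - 1) := by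
    rw [← Nat.sq_sub_sq, one_pow, ← pow_mul, mul_comm a 2]
  rw [hfac] at hd
  rcases hr.dvd_mul.mp hd with hd1 | hd1
  · rw [← h, Nat.sub_add_cancel (Nat.one_le_pow n 2 two_pos)] at hd1
    have hr2 := (Nat.prime_dvd_prime_iff_eq hr Nat.prime_two).mp (hr.dvd_of_dvd_pow hd1)
    subst hr2
    have := Cfsg.Agent.Arith.lt_of_orderOf_eq (by omega) hord
    omega
  · exact hmin a (by omega) (by omega) hd1

theorem pow_eq_two_pow_add_one {q n a : ℕ} (hq : q.Prime) (hq2 : q ≠ 2) (hn : 1 ≤ n)
    (h : q ^ n = 2 ^ a + 1) : n = 1 ∨ (q = 3 ∧ n = 2) := by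
  by_contra hcon
  push Not at hcon
  obtain ⟨hn1, hq3⟩ := hcon
  have hsub : q ^ n - 1 = 2 ^ a := by rw [h, Nat.add_sub_cancel]
  by_cases h2 : n = 2 ∧ ∃ m : ℕ, q + 1 = 2 ^ m
  · obtain ⟨rfl, m, hm⟩ := h2
    have hfac : q ^ 2 - 1 = (q + 1) * (q - 1) := by rw [← Nat.sq_sub_sq, one_pow]
    obtain ⟨t, -, ht⟩ := (Nat.dvd_prime_pow Nat.prime_two).mp
      (Dvd.intro_left _ (hfac.symm.trans hsub))
    have hq' := hq.two_le
    -- `2 ^ t` and `2 ^ m` differ by two
    rcases Nat.lt_or_ge t 2 with ht2 | ht2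
    · interval_cases t
      · exact hq2 (by norm_num at ht; omega)
      · exact hq3 (by norm_num at ht; omega) rfl
    · obtain ⟨c, hc⟩ := pow_dvd_pow 2 ht2
      rcases Nat.lt_or_ge m 2 with hm2 | hm2
      · interval_cases m <;> norm_num at hm <;> omega
      · obtain ⟨d, hd⟩ := pow_dvd_pow 2 hm2
        omega
  obtain ⟨r, hr, hord⟩ := Cfsg.Agent.Arith.exists_prime_orderOf_eq (a := q) (n := n)
    hq.one_lt (by omega) (fun hh => hq2 hh.1) h2
  have : Fact r.Prime := ⟨hr⟩
  obtain ⟨hd, -⟩ := (Cfsg.Agent.Arith.primitive_iff_orderOf hq.pos (by omega)).mpr hord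
  rw [hsub] at hd
  have := (Nat.prime_dvd_prime_iff_eq hr Nat.prime_two).mp (hr.dvd_of_dvd_pow hd)
  have := Cfsg.Agent.Arith.lt_of_orderOf_eq (by omega) hord
  omega

theorem cyclic_or_quaternion {G : Type*} [Group G] [Finite G] (h8 : Nat.card G = 8)
    (z : G) (hz : orderOf z = 2) (huniq : ∀ g : G, g ^ 2 = 1 → g = 1 ∨ g = z) :
    IsCyclic G ∨ Nonempty (G ≃* QuaternionGroup 2) := by
  by_cases hcyc : ∃ g : G, orderOf g = 8
  · obtain ⟨g, hg⟩ := hcyc
    exact Or.inl (isCyclic_of_orderOf_eq_card g (hg.trans h8.symm))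
  push Not at hcyc
  right
  have h4 : ∀ g : G, g ^ 4 = 1 := by
    intro g
    have hd : orderOf g ∣ 2 ^ 3 := by rw [show 2 ^ 3 = 8 by norm_num, ← h8]; exact orderOf_dvd_natCard g
    obtain ⟨k, hk, hk'⟩ := (Nat.dvd_prime_pow Nat.prime_two).mp hd
    have : k ≠ 3 := fun hh => hcyc g (by rw [hk', hh]; norm_num)
    exact orderOf_dvd_iff_pow_eq_one.mp (hk' ▸ pow_dvd_pow 2 (show k ≤ 2 by omega))
  have hsq : ∀ g : G, g ^ 2 ≠ 1 → g ^ 2 = z := fun g hg =>
    (huniq (g ^ 2) (by rw [← pow_mul, h4 g])).resolve_left hg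
  obtain ⟨x, hx⟩ : ∃ x : G, x ^ 2 ≠ 1 := by
    by_contra hcon
    push Not at hcon
    classical
    have : Fintype G := Fintype.ofFinite G
    have hsub : (Finset.univ : Finset G) ⊆ {1, z} := fun g _ => by
      simpa using huniq g (hcon g)
    have := (Finset.card_le_card hsub).trans Finset.card_le_two
    rw [Finset.card_univ, ← Nat.card_eq_fintype_card, h8] at this
    omega
  have hox : orderOf x = 4 := orderOf_eq_prime_pow (p := 2) (n := 1) (by rwa [pow_one]) (h4 x)
  obtain ⟨y, hy⟩ : ∃ y : G, y ∉ Subgroup.zpowers x := by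
    by_contra hcon
    push Not at hcon
    have := Nat.card_congr (Subgroup.topEquiv (G := G)).toEquiv
    rw [← (eq_top_iff.mpr fun g _ => hcon g : Subgroup.zpowers x = ⊤), Nat.card_zpowers, hox, h8] at this
    omega
  have hy2 : y ^ 2 ≠ 1 := by
    intro hh
    rcases huniq y hh with h | h
    · exact hy (h ▸ one_mem _)
    · exact hy (by rw [h, ← hsq x hx]; exact Subgroup.pow_mem _ (Subgroup.mem_zpowers x) _)
  have hyx : y ^ 2 = x ^ 2 := (hsq y hy2).trans (hsq x hx).symm
  have hidx : (Subgroup.zpowers x).index = 2 := by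
    have := (Subgroup.zpowers x).card_mul_index
    rw [Nat.card_zpowers, hox, h8] at this
    omega
  have hn : (Subgroup.zpowers x).Normal := Subgroup.normal_of_index_eq_two hidx
  obtain ⟨k, hk'⟩ := mem_powers_iff_mem_zpowers.mpr (hn.conj_mem x (Subgroup.mem_zpowers x) y)
  have hk : x ^ k = y * x * y⁻¹ := hk'
  have hk4 : x ^ k = x ^ (k % 4) := by rw [← hox, pow_mod_orderOf]
  have hinv : y * x * y⁻¹ = x⁻¹ := by
    have hx3 : x ^ 3 = x⁻¹ := eq_inv_of_mul_eq_one_left (by rw [← pow_succ, h4])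
    have := Nat.mod_lt k (show 4 > 0 by norm_num)
    rw [hk4] at hk
    interval_cases hkk : k % 4
    · rw [pow_zero, eq_comm, conj_eq_one_iff] at hk
      exact absurd (by rw [hk, one_pow]) hx
    · exfalso
      rw [pow_one] at hk
      have hc : Commute y x := mul_inv_eq_iff_eq_mul.mp hk.symm
      rcases huniq (x⁻¹ * y) (by rw [hc.symm.inv_left.mul_pow, inv_pow, hyx, inv_mul_cancel]) with h | h
      · exact hy (inv_mul_eq_one.mp h ▸ Subgroup.mem_zpowers x)
      · rw [inv_mul_eq_iff_eq_mul, ← hsq x hx] at h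
        exact hy (h ▸ mul_mem (Subgroup.mem_zpowers x) (Subgroup.pow_mem _ (Subgroup.mem_zpowers x) _))
    · exfalso
      have h1 : (y * x * y⁻¹) ^ 2 = 1 := by rw [← hk, ← pow_mul, h4]
      rw [conj_pow, conj_eq_one_iff] at h1
      exact hx h1
    · rw [← hk, hx3]
  exact Cfsg.Agent.TwoGroups.equiv_quaternion_of_generators (n := 2) (a := x) (b := y)
    (by rw [hox]) (by rw [h8]) hy (by rw [← pow_two, hyx]) hinv

def sdX : GL (Fin 2) (ZMod 3) :=
  ⟨!![1, 1; 1, 0], !![0, 1; 1, 2], by decide, by decide⟩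

def sdY : GL (Fin 2) (ZMod 3) :=
  ⟨!![1, 0; 2, 2], !![1, 0; 2, 2], by decide, by decide⟩

theorem sd_rel : sdX ^ 8 = 1 ∧ sdX ^ 4 ≠ 1 ∧ sdY ^ 2 = 1 ∧ sdY ≠ 1 ∧
    sdY * sdX * sdY⁻¹ = sdX ^ 3 := by decide

theorem quasiDihedral_of_card_sixteen (H : Subgroup (GL (Fin 2) (ZMod 3)))
    (h16 : Nat.card H = 16) : Cfsg.IsQuasiDihedral H := by
  obtain ⟨hx8, hx4, hy2, hy1, hconj⟩ := sd_rel
  have hcard : Nat.card (GL (Fin 2) (ZMod 3)) = 2 ^ 4 * 3 := by
    rw [Matrix.card_GL_field, Fin.prod_univ_two]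
    simp [ZMod.card]
  let S : Subgroup (GL (Fin 2) (ZMod 3)) :=
    { carrier := {g | ∃ i e : ℕ, g = sdX ^ i * sdY ^ e}
      one_mem' := ⟨0, 0, by simp⟩
      mul_mem' := by
        rintro _ _ ⟨i, e, rfl⟩ ⟨j, f, rfl⟩
        refine ⟨i + 3 ^ e * j, e + f, ?_⟩
        have key : ∀ e j : ℕ, sdY ^ e * sdX ^ j = sdX ^ (3 ^ e * j) * sdY ^ e := by
          intro e
          induction e with
          | zero => simp
          | succ e ih =>
            intro j
            have hstep : ∀ j : ℕ, sdY * sdX ^ j = sdX ^ (3 * j) * sdY := by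
              intro j
              have := (conj_pow (i := j) (a := sdY) (b := sdX)).symm
              rw [hconj, ← pow_mul] at this
              rw [← this]; group
            rw [pow_succ', mul_assoc, ih, ← mul_assoc, hstep, mul_assoc, pow_succ', ← mul_assoc 3]
        rw [pow_add, pow_add, mul_assoc, ← mul_assoc (sdY ^ e), key]
        simp [mul_assoc]
      inv_mem' := by
        rintro _ ⟨i, e, rfl⟩
        refine ⟨3 ^ e * (7 * i), e, ?_⟩
        have key2 : ∀ e j : ℕ, sdY ^ e * sdX ^ j = sdX ^ (3 ^ e * j) * sdY ^ e := by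
          intro e
          induction e with
          | zero => simp
          | succ e ih =>
            intro j
            have hstep : ∀ j : ℕ, sdY * sdX ^ j = sdX ^ (3 * j) * sdY := by
              intro j
              have := (conj_pow (i := j) (a := sdY) (b := sdX)).symm
              rw [hconj, ← pow_mul] at this
              rw [← this]; group
            rw [pow_succ', mul_assoc, ih, ← mul_assoc, hstep, mul_assoc, pow_succ', ← mul_assoc 3]
        rw [← key2, inv_eq_iff_mul_eq_one, mul_assoc, ← mul_assoc (sdY ^ e) (sdY ^ e), ← pow_add,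
          ← two_mul e, pow_mul sdY, hy2, one_pow, one_mul, ← pow_add,
          show i + 7 * i = 8 * i by ring, pow_mul, hx8, one_pow] }
  have hS : IsPGroup 2 S := by
    rintro ⟨_, i, e, rfl⟩
    refine ⟨3, Subtype.ext ?_⟩
    rw [SubmonoidClass.coe_pow, OneMemClass.coe_one]
    show (sdX ^ i * sdY ^ e) ^ 2 ^ 3 = 1
    rcases Nat.even_or_odd' e with ⟨c, rfl | rfl⟩
    · rw [pow_mul, hy2, one_pow, mul_one, ← pow_mul, mul_comm i, pow_mul,
        show (2 : ℕ) ^ 3 = 8 by norm_num, hx8, one_pow]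
    · rw [pow_succ sdY, pow_mul, hy2, one_pow, one_mul, show (2 : ℕ) ^ 3 = 2 * 4 by norm_num,
        pow_mul, pow_two (sdX ^ i * sdY)]
      have hyi : sdY⁻¹ = sdY := inv_eq_of_mul_eq_one_right (by rw [← pow_two, hy2])
      have : sdY * sdX ^ i * sdY = sdX ^ (3 * i) := by
        calc sdY * sdX ^ i * sdY = sdY * sdX ^ i * sdY⁻¹ := by rw [hyi]
          _ = _ := by rw [← conj_pow, hconj, ← pow_mul]
      rw [mul_assoc, ← mul_assoc sdY, this, ← pow_add, ← pow_mul,
        show (i + 3 * i) * 4 = 8 * (2 * i) by ring, pow_mul, hx8, one_pow]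
  obtain ⟨P, hP⟩ := hS.exists_le_sylow
  let Q : Sylow 2 (GL (Fin 2) (ZMod 3)) := Sylow.ofCard H (by
    rw [h16, hcard, Nat.factorization_mul (by norm_num) (by norm_num)]
    rw [Finsupp.add_apply, Nat.Prime.factorization_pow Nat.prime_two, Finsupp.single_eq_same,
      Nat.prime_three.factorization, Finsupp.single_eq_of_ne (by norm_num)]
    norm_num)
  obtain ⟨c, hc⟩ := MulAction.exists_smul_eq (GL (Fin 2) (ZMod 3)) P Q
  have hmem : ∀ g ∈ S, c * g * c⁻¹ ∈ H := by
    intro g hg
    have h1 : MulAut.conj c • g ∈ MulAut.conj c • (P : Subgroup (GL (Fin 2) (ZMod 3))) :=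
      Subgroup.smul_mem_pointwise_smul _ _ _ (hP hg)
    rw [← Sylow.coe_subgroup_smul, hc] at h1
    exact h1
  let x : H := ⟨c * sdX * c⁻¹, hmem _ ⟨1, 0, by simp⟩⟩
  let y : H := ⟨c * sdY * c⁻¹, hmem _ ⟨0, 1, by simp⟩⟩
  refine ⟨3, le_rfl, by rw [h16]; norm_num, x, y, ?_, ?_, ?_⟩
  · apply orderOf_eq_prime_pow (p := 2) (n := 2)
    · intro h
      have h' := congrArg Subtype.val h
      simp [x, conj_pow, show (2 : ℕ) ^ 2 = 4 by norm_num] at h'
      exact hx4 h'
    · refine Subtype.ext ?_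
      simp [x, conj_pow, show (2 : ℕ) ^ (2 + 1) = 8 by norm_num, hx8]
  · apply orderOf_eq_prime
    · refine Subtype.ext ?_
      simp [y, conj_pow, hy2]
    · intro h
      have h' := congrArg Subtype.val h
      simp [y] at h'
      exact hy1 h'
  · refine Subtype.ext ?_
    show c * sdY * c⁻¹ * (c * sdX * c⁻¹) * (c * sdY * c⁻¹)⁻¹ = _
    rw [SubmonoidClass.coe_pow]
    show _ = (c * sdX * c⁻¹) ^ (2 ^ (3 - 1) - 1)
    rw [conj_pow, show (2 : ℕ) ^ (3 - 1) - 1 = 3 by norm_num, ← hconj]
    group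

/-- Let q be a prime, V a non-trivial finite vector space over the field with q elements, and G a non-trivial finite p-group (p prime) acting faithfully and linearly on V and transitively on the non-zero vectors. Then either q = 2 and G has prime order p = |V| − 1; or p = 2, V has q elements with q = 2^m + 1 and G is cyclic of order 2^m; or p = 2, q = 3, V has 9 elements and G is cyclic of order 8, quaternion of order 8, or semidihedral of order 16. -/
theorem result (q : ℕ) [Fact q.Prime] {V : Type*} [AddCommGroup V] [Module (ZMod q) V] [Finite V] [Nontrivial V]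
    {G : Type*} [Group G] [Finite G] [Nontrivial G] (p : ℕ) [Fact p.Prime] (hG : IsPGroup p G)
    (ρ : G →* (V ≃ₗ[ZMod q] V)) (hρ : Function.Injective ρ)
    (htrans : ∀ v w : V, v ≠ 0 → w ≠ 0 → ∃ g : G, ρ g v = w) :
    (q = 2 ∧ p = Nat.card V - 1 ∧ Nat.card G = p) ∨
    (p = 2 ∧ Nat.card V = q ∧ (∃ m : ℕ, q = 2 ^ m + 1 ∧ Nat.card G = 2 ^ m) ∧ IsCyclic G) ∨
    (p = 2 ∧ q = 3 ∧ Nat.card V = 9 ∧
      ((IsCyclic G ∧ Nat.card G = 8) ∨ Nonempty (G ≃* QuaternionGroup 2) ∨ (Cfsg.IsQuasiDihedral G ∧ Nat.card G = 16))) := by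
  classical
  have hp : p.Prime := Fact.out
  have hq : q.Prime := Fact.out
  let act : MulAction G V := MulAction.compHom V ρ
  have hsmul : ∀ (g : G) (v : V), g • v = ρ g v := fun g v => rfl
  have : Fintype V := Fintype.ofFinite V
  obtain ⟨v₀, hv₀⟩ := exists_ne (0 : V)
  have horb : MulAction.orbit G v₀ = ({0}ᶜ : Set V) := by
    ext w
    constructor
    · rintro ⟨g, rfl⟩
      simpa [hsmul] using hv₀
    · intro hw
      obtain ⟨g, hg⟩ := htrans v₀ w hv₀ (by simpa using hw)
      exact ⟨g, hg⟩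
  obtain ⟨a, ha⟩ := hG.card_orbit v₀
  rw [horb, Nat.card_coe_set_eq, Set.ncard_compl, Set.ncard_singleton] at ha
  obtain ⟨n, hn, hn1⟩ : ∃ n, Nat.card V = q ^ n ∧ 1 ≤ n :=
    ⟨_, (Module.natCard_eq_pow_finrank (K := ZMod q)).trans (by rw [Nat.card_zmod]),
      Module.finrank_pos⟩
  rw [hn] at ha
  have hN : 1 < Nat.card V := Finite.one_lt_card
  -- order is the orbit length times the stabiliser
  have hos : Nat.card G = p ^ a * Nat.card (MulAction.stabilizer G v₀) := by
    rw [← ha, mul_comm, ← Subgroup.card_mul_index (MulAction.stabilizer G v₀),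
      MulAction.index_stabilizer, horb, Set.ncard_compl, Set.ncard_singleton, hn]
  have hq1 : q = 2 → q ^ n ≠ 2 := by
    intro h2 h
    obtain ⟨g, hg⟩ := exists_ne (1 : G)
    refine hg (hρ (LinearEquiv.ext fun v => ?_))
    rw [map_one]
    show ρ g v = v
    by_cases hv : v = 0
    · simp [hv]
    · have huniv : ({0}ᶜ : Set V).ncard = 1 := by
        rw [Set.ncard_compl, Set.ncard_singleton, hn, h]
      obtain ⟨w, hw⟩ := Set.ncard_eq_one.mp huniv
      have h1 : v ∈ ({0}ᶜ : Set V) := by simpa using hv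
      have h2 : ρ g v ∈ ({0}ᶜ : Set V) := by simpa using hv
      rw [hw, Set.mem_singleton_iff] at h1 h2
      rw [h1] at h2 ⊢
      exact h2
  have ha1 : 1 ≤ a := by
    by_contra hcon
    have h0 : a = 0 := by omega
    rw [h0, pow_zero] at ha
    have h2 : q ^ n = 2 := by omega
    exact hq1 ((Nat.prime_dvd_prime_iff_eq hq Nat.prime_two).mp (h2 ▸ dvd_pow_self q (by omega))) h2
  rcases hq.eq_two_or_odd' with rfl | hodd
  · left
    have h1 := eq_one_of_two_pow_sub_one_eq hp ha1 ha
    rw [h1, pow_one] at ha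
    refine ⟨rfl, by rw [hn, ha], ?_⟩
    suffices hst : MulAction.stabilizer G v₀ = ⊥ by
      rw [hos, hst, Subgroup.card_bot, mul_one, h1, pow_one]
    by_contra hst
    set U := MulAction.stabilizer G v₀
    let W : Submodule (ZMod 2) V :=
      { carrier := MulAction.fixedPoints U V
        add_mem' := fun {x y} hx hy u => by
          show ρ (u : G) (x + y) = x + y
          rw [map_add]
          exact congrArg₂ (· + ·) (hx u) (hy u)
        zero_mem' := fun u => map_zero (ρ (u : G))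
        smul_mem' := fun c x hx u => by
          show ρ (u : G) (c • x) = c • x
          rw [map_smul]
          exact congrArg _ (hx u) }
    have hWcard : Nat.card (MulAction.fixedPoints U V) = Nat.card W := rfl
    obtain ⟨k, hk⟩ : ∃ k, Nat.card W = 2 ^ k :=
      ⟨_, (Module.natCard_eq_pow_finrank (K := ZMod 2)).trans (by rw [Nat.card_zmod])⟩
    have hkpos : 1 ≤ k := by
      by_contra hcon
      rw [show k = 0 by omega, pow_zero, Nat.card_eq_one_iff_unique] at hk
      have : (⟨v₀, fun u => u.2⟩ : W) = 0 := hk.1.elim _ _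
      exact hv₀ (congrArg Subtype.val this)
    have hkn : k < n := by
      by_contra hcon
      have hWtop : W = ⊤ := by
        refine SetLike.coe_injective (Set.eq_of_subset_of_ncard_le (Set.subset_univ _) ?_)
        show (Set.univ : Set V).ncard ≤ (W : Set V).ncard
        rw [Set.ncard_univ, hn, ← Nat.card_coe_set_eq]
        exact (Nat.pow_le_pow_right two_pos (by omega : n ≤ k)).trans hk.ge
      refine hst ((Subgroup.eq_bot_iff_forall _).mpr fun u hu => hρ (LinearEquiv.ext fun v => ?_))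
      rw [map_one]
      exact (hWtop ▸ Submodule.mem_top : v ∈ W) ⟨u, hu⟩
    have hmod := (hG.to_subgroup U).card_modEq_card_fixedPoints (α := V)
    rw [hWcard, hk, hn] at hmod
    have hd := (Nat.modEq_iff_dvd' (Nat.pow_le_pow_right two_pos hkn.le)).mp hmod.symm
    have hsplit : 2 ^ n - 2 ^ k = 2 ^ k * (2 ^ (n - k) - 1) := by
      rw [Nat.mul_sub, mul_one, ← pow_add, Nat.add_sub_cancel' hkn.le]
    rw [hsplit] at hd
    rcases hp.dvd_mul.mp hd with hd | hd
    · have := (Nat.prime_dvd_prime_iff_eq hp Nat.prime_two).mp (hp.dvd_of_dvd_pow hd)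
      have h4 : 4 ≤ 2 ^ n := (show 4 = 2 ^ 2 by norm_num) ▸ Nat.pow_le_pow_right two_pos (by omega)
      omega
    · have h2 : 2 ≤ 2 ^ (n - k) := Nat.le_self_pow (by omega) 2
      have h3 : 2 ^ (n - k) < 2 ^ n := Nat.pow_lt_pow_right one_lt_two (by omega)
      have := Nat.le_of_dvd (by omega) hd
      omega
  right
  have hq2 : q ≠ 2 := fun h => by subst h; exact absurd hodd (by decide)
  have hp2 : p = 2 := by
    have h1 : 2 ∣ p ^ a := by
      rw [← ha]
      have := (Nat.odd_iff.mp (hodd.pow (n := n)))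
      omega
    exact ((Nat.prime_dvd_prime_iff_eq Nat.prime_two hp).mp (Nat.prime_two.dvd_of_dvd_pow h1)).symm
  subst hp2
  have hqa : q ^ n = 2 ^ a + 1 := by
    have := Nat.one_le_pow n q hq.pos
    omega
  rcases pow_eq_two_pow_add_one hq hq2 hn1 hqa with rfl | ⟨rfl, rfl⟩
  · left
    rw [pow_one] at hn hqa
    have hrank : Module.finrank (ZMod q) V = 1 := by
      have h := Module.natCard_eq_pow_finrank (K := ZMod q) (V := V)
      rw [Nat.card_zmod, hn] at h
      exact (Nat.pow_right_injective hq.two_le (show q ^ _ = q ^ 1 by rw [← h, pow_one]) : _)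
    have hscal : ∀ v : V, ∃ c : ZMod q, c • v₀ = v :=
      (finrank_eq_one_iff_of_nonzero' v₀ hv₀).mp hrank
    have hfree : MulAction.stabilizer G v₀ = ⊥ := by
      rw [Subgroup.eq_bot_iff_forall]
      intro g hg
      refine hρ (LinearEquiv.ext fun v => ?_)
      obtain ⟨c, rfl⟩ := hscal v
      rw [map_one, map_smul]
      exact congrArg _ hg
    refine ⟨rfl, hn, ⟨a, hqa, by rw [hos, hfree, Subgroup.card_bot, mul_one]⟩, ?_⟩
    choose c hc using fun g : G => hscal (ρ g v₀)
    have hinj : ∀ {s t : ZMod q}, s • v₀ = t • v₀ → s = t :=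
      fun h => smul_left_injective (ZMod q) hv₀ h
    let f : G →* ZMod q :=
      { toFun := c
        map_one' := hinj (by rw [hc, map_one, one_smul]; rfl)
        map_mul' := fun x y => hinj (by
          rw [hc, map_mul, LinearEquiv.mul_apply, ← hc y, map_smul, ← hc x, smul_smul, mul_comm]) }
    refine isCyclic_of_injective_ringHom f fun x y hxy => ?_
    have hxy' : c x = c y := hxy
    have h1 : ρ x v₀ = ρ y v₀ := by rw [← hc, ← hc, hxy']
    have hst : y⁻¹ * x ∈ MulAction.stabilizer G v₀ := by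
      rw [MulAction.mem_stabilizer_iff, mul_smul, inv_smul_eq_iff]
      exact h1
    rw [hfree, Subgroup.mem_bot] at hst
    exact (inv_mul_eq_one.mp hst).symm
  · right
    have ha3 : a = 3 := Nat.pow_right_injective le_rfl (show 2 ^ a = 2 ^ 3 by norm_num at hqa ⊢; omega)
    subst ha3
    refine ⟨rfl, rfl, by rw [hn]; norm_num, ?_⟩
    have hrank : Module.finrank (ZMod 3) V = 2 := by
      have h := Module.natCard_eq_pow_finrank (K := ZMod 3) (V := V)
      rw [Nat.card_zmod, hn] at h
      exact (Nat.pow_right_injective (by norm_num) h).symm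
    let b := (Module.finBasisOfFinrankEq (ZMod 3) V hrank).equivFun
    let φ : (V ≃ₗ[ZMod 3] V) →* ((Fin 2 → ZMod 3) ≃ₗ[ZMod 3] (Fin 2 → ZMod 3)) :=
      { toFun := fun f => b.symm.trans (f.trans b)
        map_one' := by ext; simp
        map_mul' := fun f g => by ext; simp }
    let ι : G →* GL (Fin 2) (ZMod 3) :=
      (Matrix.GeneralLinearGroup.toLin.symm.toMonoidHom.comp
        (LinearMap.GeneralLinearGroup.generalLinearEquiv (ZMod 3) (Fin 2 → ZMod 3)).symm.toMonoidHom).comp
          (φ.comp ρ)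
    have hι : Function.Injective ι := by
      show Function.Injective (fun x => Matrix.GeneralLinearGroup.toLin.symm
        ((LinearMap.GeneralLinearGroup.generalLinearEquiv (ZMod 3) (Fin 2 → ZMod 3)).symm (φ (ρ x))))
      refine (MulEquiv.injective _).comp ((MulEquiv.injective _).comp (Function.Injective.comp ?_ hρ))
      intro f g hfg
      ext v
      have := LinearEquiv.congr_fun hfg (b v)
      simpa [φ] using this
    have hdvd : Nat.card G ∣ 48 := by
      have h := Subgroup.card_dvd_of_injective ι hι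
      rwa [Matrix.card_GL_field, Fin.prod_univ_two, ZMod.card,
        show ((3 : ℕ) ^ 2 - 3 ^ ((0 : Fin 2) : ℕ)) * (3 ^ 2 - 3 ^ ((1 : Fin 2) : ℕ)) = 48 by
          norm_num] at h
    obtain ⟨s, hs⟩ := IsPGroup.iff_card.mp (hG.to_subgroup (MulAction.stabilizer G v₀))
    rw [hs, ← pow_add] at hos
    have hs1 : s ≤ 1 := by
      by_contra hcon
      have h32 : 2 ^ 5 ∣ 48 := dvd_trans (pow_dvd_pow 2 (by omega)) (hos ▸ hdvd)
      norm_num at h32
    interval_cases s
    · -- regular of order eight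
      have h8 : Nat.card G = 8 := by rw [hos]; norm_num
      have hfree : ∀ v : V, v ≠ 0 → ∀ g : G, ρ g v = v → g = 1 := by
        intro v hv g hg
        obtain ⟨c, hc⟩ := htrans v₀ v hv₀ hv
        have hst : c⁻¹ * g * c ∈ MulAction.stabilizer G v₀ := by
          rw [MulAction.mem_stabilizer_iff, mul_smul, mul_smul, inv_smul_eq_iff]
          show ρ g (ρ c v₀) = ρ c v₀
          rw [hc, hg]
        rw [Subgroup.card_eq_one.mp (show Nat.card (MulAction.stabilizer G v₀) = 1 by rw [hs, pow_zero]),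
          Subgroup.mem_bot] at hst
        calc g = c * (c⁻¹ * g * c) * c⁻¹ := by group
          _ = 1 := by rw [hst]; group
      have hneg : ∀ g : G, g ^ 2 = 1 → g ≠ 1 → ∀ v, ρ g v = -v := by
        intro g hg hg1 v
        have h2 : ρ g (v + ρ g v) = v + ρ g v := by
          rw [map_add, ← LinearEquiv.mul_apply, ← map_mul, ← pow_two, hg, map_one, add_comm]
          rfl
        have h3 : v + ρ g v = 0 := by_contra fun h => hg1 (hfree _ h g h2)
        exact (neg_eq_of_add_eq_zero_right h3).symm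
      obtain ⟨z, hz⟩ := exists_prime_orderOf_dvd_card' (G := G) 2 (by rw [h8]; norm_num)
      have hz2 : z ^ 2 = 1 := orderOf_dvd_iff_pow_eq_one.mp (hz ▸ dvd_rfl)
      have hz1 : z ≠ 1 := fun h => by simp [h] at hz
      rcases cyclic_or_quaternion h8 z hz (fun g hg => or_iff_not_imp_left.mpr fun hg1 =>
        hρ (LinearEquiv.ext fun v => by rw [hneg g hg hg1, hneg z hz2 hz1])) with h | h
      · exact Or.inl ⟨h, h8⟩
      · exact Or.inr (Or.inl h)
    · refine Or.inr (Or.inr ⟨?_, by rw [hos]; norm_num⟩)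
      obtain ⟨m, hm, hcd, x, y, hx, hy, hxy⟩ := quasiDihedral_of_card_sixteen ι.range (by
        rw [← Nat.card_congr (MonoidHom.ofInjective hι).toEquiv, hos]; norm_num)
      set e := (MonoidHom.ofInjective hι).symm
      refine ⟨m, hm, ?_, e x, e y, ?_, ?_, ?_⟩
      · rw [← hcd]; exact (Nat.card_congr e.toEquiv).symm
      · rw [← hx]; exact orderOf_injective e.toMonoidHom e.injective x
      · exact (orderOf_injective e.toMonoidHom e.injective y).trans hy
      · rw [← map_inv, ← map_mul, ← map_mul, hxy, map_pow]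

end Cfsg.Agent.S3370
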