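import Cfsg.Statements.S0112
import Cfsg.Agent.PGroup.Basic

set_option autoImplicit false
open Cfsg

namespace Cfsg.Agent.S0112

open scoped commutatorElement

theorem aux.{v} (n : ℕ) : ∀ {X : Type v} [Group X] [Finite X] {p : ℕ} [Fact p.Prime],
    Nat.card X = p ^ n → ∀ A : Subgroup X, Nat.card A = p ^ 2 →
    Subgroup.centralizer (A : Set X) = A → Group.nilpotencyClass X = n - 1 := by
  induction n using Nat.strong_induction_on with
  | _ n ih =>
  intro X _ _ p _ hX A hA hC
  have hp := (Fact.out : p.Prime)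
  have hXp : IsPGroup p X := IsPGroup.of_card hX
  haveI := hXp.isNilpotent
  have hn2 : 2 ≤ n := by
    have := Subgroup.card_le_card_group A
    rw [hA, hX] at this
    exact (Nat.pow_le_pow_iff_right hp.one_lt).mp this
  set Z := Subgroup.center X
  have hZA : Z ≤ A := hC ▸ Subgroup.center_le_centralizer _
  rcases Nat.lt_or_ge n 3 with h3 | h3
  · have hn : n = 2 := by omega
    subst hn
    have hab := IsPGroup.commutative_of_card_eq_prime_sq hX
    have h1 : Group.nilpotencyClass X ≤ 1 := by
      rw [← Subgroup.lowerCentralSeries_eq_bot_iff_nilpotencyClass_le,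
        Subgroup.top_lowerCentralSeries_one, commutator_eq_bot_iff_center_eq_top, eq_top_iff]
      exact fun x _ => Subgroup.mem_center_iff.mpr fun y => hab y x
    haveI : Nontrivial X := Finite.one_lt_card_iff_nontrivial.mp (hX ▸ Nat.one_lt_pow two_ne_zero hp.one_lt)
    have h0 : Group.nilpotencyClass X ≠ 0 := fun h =>
      not_subsingleton X (Group.nilpotencyClass_zero_iff_subsingleton.mp h)
    omega
  haveI : Nontrivial X := Finite.one_lt_card_iff_nontrivial.mp
    (hX ▸ Nat.one_lt_pow (show n ≠ 0 by omega) hp.one_lt)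
  have hZneA : Z ≠ A := by
    intro h
    have htop : Subgroup.centralizer (A : Set X) = ⊤ := by
      rw [← h, eq_top_iff]
      exact fun x _ => Subgroup.mem_centralizer_iff.mpr fun z hz => (Subgroup.mem_center_iff.mp hz x).symm
    rw [hC] at htop
    rw [htop, Subgroup.card_top, hX] at hA
    have := Nat.pow_right_injective hp.two_le hA
    omega
  have hZcard : Nat.card Z = p := by
    obtain ⟨k, hk⟩ := (hXp.to_subgroup Z).exists_card_eq
    have hk0 : k ≠ 0 := fun h => by
      haveI := hXp.center_nontrivial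
      exact absurd (Finite.one_lt_card (α := Z)) (by rw [hk, h, pow_zero]; exact lt_irrefl 1)
    have hk2 : k < 2 := by
      rw [← Nat.pow_lt_pow_iff_right hp.one_lt, ← hk, ← hA]
      exact lt_of_le_of_ne (Subgroup.card_le_of_le hZA)
        fun h => hZneA (Subgroup.eq_of_le_of_card_ge hZA h.ge)
    rw [hk, show k = 1 by omega, pow_one]
  set π := QuotientGroup.mk' Z
  set N := Subgroup.normalizer (A : Set X)
  have hAN : A < N := by
    have := Cfsg.Agent.PGroup.lt_inf_normalizer (H := A) (K := ⊤)
      (hXp.to_subgroup ⊤) (lt_top_iff_ne_top.mpr fun h => by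
        rw [h, Subgroup.card_top, hX] at hA
        have := Nat.pow_right_injective hp.two_le hA
        omega)
    rwa [top_inf_eq] at this
  -- `[A, N] ≤ Z`
  have hcomm : ∀ g ∈ N, ∀ a ∈ A, g * a * g⁻¹ * a⁻¹ ∈ Z := by
    haveI hAn : (A.subgroupOf N).Normal := Subgroup.normal_in_normalizer
    have hNp : IsPGroup p N := hXp.to_subgroup N
    have hne : A.subgroupOf N ≠ ⊥ := fun h => by
      have := Nat.card_congr (Subgroup.subgroupOfEquivOfLe hAN.le).toEquiv
      rw [h, Subgroup.card_bot, hA] at this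
      exact (Nat.one_lt_pow two_ne_zero hp.one_lt).ne this
    haveI : ⁅A.subgroupOf N, (⊤ : Subgroup N)⁆.Normal := Subgroup.commutator_normal _ _
    have hlt := Cfsg.Agent.PGroup.commutator_top_lt hNp hne
    set C := ⁅A.subgroupOf N, (⊤ : Subgroup N)⁆
    have hCc : C ≤ Subgroup.center N := by
      obtain ⟨j, hj⟩ := (hNp.to_subgroup C).exists_card_eq
      have hj2 : j < 2 := by
        rw [← Nat.pow_lt_pow_iff_right hp.one_lt, ← hj, ← hA,
          ← Nat.card_congr (Subgroup.subgroupOfEquivOfLe hAN.le).toEquiv]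
        exact lt_of_le_of_ne (Subgroup.card_le_of_le hlt.le)
          fun h => hlt.ne (Subgroup.eq_of_le_of_card_ge hlt.le h.ge)
      rcases (show j = 0 ∨ j = 1 by omega) with rfl | rfl
      · rw [pow_zero, Subgroup.card_eq_one] at hj
        rw [hj]; exact bot_le
      · exact Cfsg.Agent.PGroup.le_center_of_card_eq hNp (hj.trans (pow_one p))
    intro g hg a ha
    have h1 : ⁅(⟨g, hg⟩ : N), ⟨a, hAN.le ha⟩⁆ ∈ C := by
      rw [← commutatorElement_inv]
      exact inv_mem (Subgroup.commutator_mem_commutator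
        (show (⟨a, hAN.le ha⟩ : N) ∈ A.subgroupOf N from ha) (Subgroup.mem_top _))
    have h2 : g * a * g⁻¹ * a⁻¹ ∈ A := hlt.le h1
    -- elements of `A` central in `N` are central in `X`
    by_contra hnot
    have h3 : ∀ w ∈ N, w * (g * a * g⁻¹ * a⁻¹) = (g * a * g⁻¹ * a⁻¹) * w := fun w hw =>
      congrArg Subtype.val (Subgroup.mem_center_iff.mp (hCc h1) ⟨w, hw⟩)
    set u := g * a * g⁻¹ * a⁻¹
    have hgen : Z ⊔ Subgroup.zpowers u = A := by
      refine Subgroup.eq_of_le_of_card_ge (sup_le hZA (Subgroup.zpowers_le.mpr h2)) ?_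
      have hlt' : Z < Z ⊔ Subgroup.zpowers u := lt_of_le_of_ne le_sup_left fun h =>
        hnot (h.symm ▸ Subgroup.mem_sup_right (Subgroup.mem_zpowers u))
      obtain ⟨j, hj⟩ := (hXp.to_subgroup (Z ⊔ Subgroup.zpowers u)).exists_card_eq
      rw [hA, hj]
      refine Nat.pow_le_pow_right hp.pos ?_
      by_contra hc
      have := Nat.pow_le_pow_right hp.pos (show j ≤ 1 by omega)
      rw [← hj, pow_one, ← hZcard] at this
      exact hlt'.ne (Subgroup.eq_of_le_of_card_ge hlt'.le this)
    refine hAN.not_ge fun w hw => ?_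
    rw [← hC, Subgroup.mem_centralizer_iff]
    have h4 : A ≤ Subgroup.centralizer ({w} : Set X) := by
      rw [← hgen, sup_le_iff, Subgroup.zpowers_le, Subgroup.mem_centralizer_singleton_iff]
      exact ⟨fun z hz => Subgroup.mem_centralizer_singleton_iff.mpr
        (Subgroup.mem_center_iff.mp hz w).symm, (h3 w hw).symm⟩
    exact fun b hb => Subgroup.mem_centralizer_singleton_iff.mp (h4 hb)
  have hZN : Z ≤ N := hZA.trans hAN.le
  have hAq : ∀ g : X, (∀ a ∈ A, g * a * g⁻¹ * a⁻¹ ∈ Z) → g ∈ N := by
    intro g hg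
    refine Subgroup.mem_normalizer_iff_map_conj_eq.mpr (Subgroup.eq_of_le_of_card_ge ?_ ?_)
    · rintro _ ⟨a, ha, rfl⟩
      have := mul_mem (hZA (hg a ha)) ha
      rwa [inv_mul_cancel_right] at this
    · exact (Subgroup.card_map_of_injective (MulAut.conj g).injective).ge
  have hqc : ∀ g a : X, π g * π a = π a * π g ↔ g * a * g⁻¹ * a⁻¹ ∈ Z := by
    intro g a
    rw [← commutatorElement_eq_one_iff_mul_comm, ← map_commutatorElement]
    exact QuotientGroup.eq_one_iff _
  have hcentA : Subgroup.centralizer ((A.map π : Subgroup (X ⧸ Z)) : Set (X ⧸ Z)) = N.map π := by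
    refine le_antisymm (fun q hq => ?_) ?_
    · obtain ⟨g, rfl⟩ := QuotientGroup.mk'_surjective Z q
      refine ⟨g, hAq g fun a ha => (hqc g a).mp ?_, rfl⟩
      exact (Subgroup.mem_centralizer_iff.mp hq _ ⟨a, ha, rfl⟩).symm
    · rintro _ ⟨g, hg, rfl⟩
      rw [Subgroup.mem_centralizer_iff]
      rintro _ ⟨a, ha, rfl⟩
      exact ((hqc g a).mpr (hcomm g hg a ha)).symm
  -- the order of `N` is `p ^ 3`
  have hNcard : Nat.card N = p ^ 3 := by
    obtain ⟨a, ha, haZ⟩ := SetLike.exists_of_lt (lt_of_le_of_ne hZA hZneA)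
    have hCa : Subgroup.centralizer ({a} : Set X) = A := by
      refine le_antisymm ?_ ?_
      · intro w hw
        rw [← hC, Subgroup.mem_centralizer_iff]
        have h4 : A ≤ Subgroup.centralizer ({w} : Set X) := by
          have hgen : Z ⊔ Subgroup.zpowers a = A := by
            refine Subgroup.eq_of_le_of_card_ge (sup_le hZA (Subgroup.zpowers_le.mpr ha)) ?_
            have hlt' : Z < Z ⊔ Subgroup.zpowers a := lt_of_le_of_ne le_sup_left fun h =>
              haZ (h.symm ▸ Subgroup.mem_sup_right (Subgroup.mem_zpowers a))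
            obtain ⟨j, hj⟩ := (hXp.to_subgroup (Z ⊔ Subgroup.zpowers a)).exists_card_eq
            rw [hA, hj]
            refine Nat.pow_le_pow_right hp.pos ?_
            by_contra hc
            have := Nat.pow_le_pow_right hp.pos (show j ≤ 1 by omega)
            rw [← hj, pow_one, ← hZcard] at this
            exact hlt'.ne (Subgroup.eq_of_le_of_card_ge hlt'.le this)
          rw [← hgen, sup_le_iff, Subgroup.zpowers_le, Subgroup.mem_centralizer_singleton_iff]
          exact ⟨fun z hz => Subgroup.mem_centralizer_singleton_iff.mpr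
            (Subgroup.mem_center_iff.mp hz w).symm, (Subgroup.mem_centralizer_singleton_iff.mp hw).symm⟩
        exact fun b hb => Subgroup.mem_centralizer_singleton_iff.mp (h4 hb)
      · intro w hw
        rw [Subgroup.mem_centralizer_singleton_iff]
        exact (Subgroup.mem_centralizer_iff.mp (hC.ge hw) a ha).symm
    -- `g ↦ [g, a]` embeds `N / A` into `Z`
    have h1 : A.relIndex N ≤ p := by
      rw [← hZcard, Subgroup.relIndex, Subgroup.index_eq_card]
      refine Nat.card_le_card_of_injective (Quotient.lift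
        (fun g : N => (⟨(g : X) * a * (g : X)⁻¹ * a⁻¹, hcomm g g.2 a ha⟩ : Z)) ?_) ?_
      · intro g g' hgg
        change QuotientGroup.leftRel _ g g' at hgg
        rw [QuotientGroup.leftRel_apply, Subgroup.mem_subgroupOf, ← hCa,
          Subgroup.mem_centralizer_singleton_iff] at hgg
        simp only [Subgroup.coe_mul, Subgroup.coe_inv] at hgg
        refine Subtype.ext ?_
        calc (g : X) * a * (g : X)⁻¹ * a⁻¹ = g * (a * ((g : X)⁻¹ * g')) * (g' : X)⁻¹ * a⁻¹ := by group
          _ = g * ((g : X)⁻¹ * g' * a) * (g' : X)⁻¹ * a⁻¹ := by rw [hgg]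
          _ = g' * a * (g' : X)⁻¹ * a⁻¹ := by group
      · rintro ⟨g⟩ ⟨g'⟩ heq
        refine Quotient.sound ?_
        change QuotientGroup.leftRel _ g g'
        rw [QuotientGroup.leftRel_apply, Subgroup.mem_subgroupOf, ← hCa,
          Subgroup.mem_centralizer_singleton_iff]
        simp only [Subgroup.coe_mul, Subgroup.coe_inv]
        have h2 : (g : X) * a * (g : X)⁻¹ = g' * a * (g' : X)⁻¹ :=
          mul_right_cancel (b := a⁻¹) (congrArg Subtype.val heq)
        calc (g : X)⁻¹ * g' * a = (g : X)⁻¹ * ((g' : X) * a * (g' : X)⁻¹) * g' := by group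
          _ = (g : X)⁻¹ * ((g : X) * a * (g : X)⁻¹) * g' := by rw [h2]
          _ = a * ((g : X)⁻¹ * g') := by group
    obtain ⟨j, hj⟩ := (hXp.to_subgroup N).exists_card_eq
    have h2 := Subgroup.relIndex_mul_relIndex (⊥ : Subgroup X) A N bot_le hAN.le
    rw [Subgroup.relIndex_bot_left, Subgroup.relIndex_bot_left, hA, hj] at h2
    have hj2 : 2 < j := by
      rw [← Nat.pow_lt_pow_iff_right hp.one_lt, ← hj, ← hA]
      exact lt_of_le_of_ne (Subgroup.card_le_of_le hAN.le)
        fun h => hAN.ne (Subgroup.eq_of_le_of_card_ge hAN.le h.ge)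
    have hj3 : j ≤ 3 := by
      rw [← Nat.pow_le_pow_iff_right hp.one_lt, ← h2, pow_succ p 2]
      exact Nat.mul_le_mul_left _ h1
    rw [hj, show j = 3 by omega]
  have hcardmap : ∀ K : Subgroup X, Z ≤ K → Nat.card (K.map π) * p = Nat.card K := by
    intro K hK
    have h1 := Subgroup.card_mul_index (Z.subgroupOf K)
    rw [Nat.card_congr (Subgroup.subgroupOfEquivOfLe hK).toEquiv, hZcard] at h1
    rw [← h1, mul_comm]
    congr 1
    have h2 := Subgroup.index_ker (π.comp K.subtype)
    rw [← MonoidHom.comap_ker, QuotientGroup.ker_mk'] at h2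
    rw [show K.map π = (π.comp K.subtype).range by rw [MonoidHom.range_comp, Subgroup.range_subtype],
      ← h2]
    rfl
  have hA' : Nat.card (N.map π) = p ^ 2 := by
    have := hcardmap N hZN
    rw [hNcard, pow_succ p 2] at this
    exact Nat.eq_of_mul_eq_mul_right hp.pos this
  have hC' : Subgroup.centralizer ((N.map π : Subgroup (X ⧸ Z)) : Set (X ⧸ Z)) = N.map π := by
    refine le_antisymm ?_ ?_
    · refine (Subgroup.centralizer_le ?_).trans hcentA.le
      exact SetLike.coe_subset_coe.mpr (Subgroup.map_mono hAN.le)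
    · intro q hq
      rw [Subgroup.mem_centralizer_iff]
      intro s hs
      exact congrArg Subtype.val (IsPGroup.commutative_of_card_eq_prime_sq hA' ⟨s, hs⟩ ⟨q, hq⟩)
  have hcardQ : Nat.card (X ⧸ Z) = p ^ (n - 1) := by
    have h1 := Subgroup.card_mul_index Z
    rw [hZcard, Subgroup.index_eq_card, hX, show n = n - 1 + 1 by omega, pow_succ', ] at h1
    exact Nat.eq_of_mul_eq_mul_left hp.pos h1
  have := ih (n - 1) (by omega) hcardQ (N.map π) hA' hC'
  rw [Group.nilpotencyClass_eq_quotient_center_plus_one, this]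
  omega


/-- A p-group with a self-centralizing subgroup of order p^2 is of maximal class. -/
theorem result {X : Type*} [Group X] [Finite X] {p : ℕ} [Fact p.Prime] (n : ℕ) (hX : Nat.card X = p ^ n) (A : Subgroup X) (hA : Nat.card A = p ^ 2) (hC : Subgroup.centralizer (A : Set X) = A) : Group.nilpotencyClass X = n - 1 := by
  exact aux n hX A hA hC

end Cfsg.Agent.S0112
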