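import Cfsg.Statements.S0115
import Cfsg.Agent.H4.MaxClass
import Mathlib.GroupTheory.SpecificGroups.KleinFour

set_option autoImplicit false
open Cfsg

namespace Cfsg.Agent.S0115


/-- A 2-group of order 2^n, n ≥ 3, is of maximal class exactly when its commutator quotient is a Klein four-group. -/
theorem result {X : Type*} [Group X] [Finite X] (n : ℕ) (hn : 3 ≤ n) (hX : Nat.card X = 2 ^ n) : Group.nilpotencyClass X = n - 1 ↔ IsKleinFour (X ⧸ commutator X) := by
  haveI : Fact (Nat.Prime 2) := ⟨Nat.prime_two⟩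
  constructor
  · intro hc
    have hidx := Cfsg.Agent.H4.index_commutator_eq_sq hn hX hc
    obtain ⟨a, b, r, h⟩ := Cfsg.Agent.H4.exists_maxClassData_of_class hn hX hc
    have hcard : Nat.card (X ⧸ commutator X) = 4 := by
      rw [← Subgroup.index_eq_card, hidx]; norm_num
    refine ⟨hcard, ?_⟩
    haveI : Nontrivial (X ⧸ commutator X) := Finite.one_lt_card_iff_nontrivial.mp (by omega)
    rw [Monoid.exponent_eq_prime_iff Nat.prime_two]
    intro q hq
    obtain ⟨g, rfl⟩ := QuotientGroup.mk'_surjective _ q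
    refine orderOf_eq_prime ?_ hq
    rw [← map_pow]
    refine (QuotientGroup.eq_one_iff _).mpr ?_
    rw [h.commutator_eq_sq, show a ^ 2 = a ^ (2 ^ 1) by rw [pow_one]]
    rcases h.toCyclicExt.exists_eq g with ⟨i, rfl⟩ | ⟨i, rfl⟩
    · rw [pow_two, ← zpow_add, h.mem_zpowers_two_pow_iff (by linarith [h.two_le])]
      simp [← two_mul]
    · have h1 : (a ^ i * b) ^ 2 = a ^ (i + r * i) * (b * b) := by
        rw [pow_two, mul_assoc, ← mul_assoc b, h.toCyclicExt.mul_zpow, zpow_add]
        simp only [mul_assoc]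
      rw [h1]
      refine mul_mem ?_ ?_
      · rw [h.mem_zpowers_two_pow_iff (by linarith [h.two_le]), pow_one]
        obtain ⟨k, hk⟩ := h.hr4
        exact ⟨2 * k * i, by linear_combination i * hk⟩
      · rcases h.b_sq_cases with hb | hb
        · rw [hb]; exact one_mem _
        · rw [hb, show n - 1 - 1 = 1 + (n - 3) by omega, pow_add, pow_mul]
          exact Subgroup.npow_mem_zpowers _ _
  · intro hk
    obtain ⟨a, b, r, h⟩ := Cfsg.Agent.H4.exists_maxClassData_of_index hn hX
      (by rw [Subgroup.index_eq_card]; exact hk.card_four)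
    exact Cfsg.Agent.H4.maxClassData_class h

end Cfsg.Agent.S0115
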