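import Cfsg.Statements.S0514
import Cfsg.Agent.Transfer.Frobenius
import Cfsg.Agent.Fusion.Basic
import Cfsg.Agent.Classif.DihedralTwoAut

set_option autoImplicit false
open Cfsg

namespace Cfsg.Agent.S0514

/-- In a finite group whose Sylow 2-subgroups are dihedral of order at least 4, the centralizer of any involution has a
normal subgroup of odd order whose index in the centralizer is a power of 2. -/
theorem result {X : Type*} [Group X] [Finite X]
    (S : Sylow 2 X) (n : ℕ) (hn : 2 ≤ n) (hS : Nonempty ((S : Subgroup X) ≃* DihedralGroup n)) (t : X)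
    (ht : orderOf t = 2) :
    ∃ N : Subgroup (Subgroup.centralizer ({t} : Set X)), N.Normal ∧ Odd (Nat.card N) ∧ ∃ k : ℕ, N.index = 2 ^ k := by
  classical
  haveI : Fact (Nat.Prime 2) := ⟨Nat.prime_two⟩
  haveI : NeZero n := ⟨by omega⟩
  set C := Subgroup.centralizer ({t} : Set X) with hC
  have htC : t ∈ C := Subgroup.mem_centralizer_singleton_iff.2 rfl
  have hnpc : Cfsg.HasNormalPComplement 2 C := by
    refine Cfsg.Agent.Transfer.hasNormalPComplement_of_coprime_centralize fun Q hQ _ g hg hgo => ?_
    set tC : C := ⟨t, htC⟩ with htCdef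
    have htcomm : ∀ h : C, h * tC = tC * h := fun h =>
      Subtype.ext (Subgroup.mem_centralizer_singleton_iff.1 h.2)
    set Z : Subgroup C := Subgroup.zpowers tC with hZ
    haveI : Z.Normal := ⟨fun z hz h => by
      obtain ⟨m, rfl⟩ := Subgroup.mem_zpowers_iff.1 hz
      rw [((show Commute h tC from htcomm h).zpow_right m).eq, mul_inv_cancel_right]
      exact hz⟩
    have htord : orderOf tC = 2 := by
      have := Subgroup.orderOf_coe tC
      rw [show ((tC : C) : X) = t from rfl, ht] at this
      exact this.symm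
    have hZp : IsPGroup 2 Z := IsPGroup.of_card (n := 1) (by rw [Nat.card_zpowers, htord, pow_one])
    set R : Subgroup C := Q ⊔ Z with hR
    have hRp : IsPGroup 2 R := IsPGroup.to_sup_of_normal_right hQ hZp
    have hgR : g ∈ Subgroup.normalizer (R : Set C) :=
      Cfsg.Agent.Fusion.cj_eq_iff_mem_normalizer.1 (by
        show R.map (MulAut.conj g).toMonoidHom = R
        rw [hR, Subgroup.map_sup]
        show Cfsg.Agent.Fusion.cj g Q ⊔ Cfsg.Agent.Fusion.cj g Z = _
        rw [Cfsg.Agent.Fusion.cj_eq_of_mem hg, Cfsg.Agent.Fusion.cj_eq_of_normal g Z])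
    obtain ⟨T, hT⟩ := (hRp.map C.subtype).exists_le_sylow
    obtain ⟨x, hx⟩ := Cfsg.Agent.Fusion.exists_cj_sylow S T
    have hinto : ∀ r : R, x⁻¹ * ((r : C) : X) * x ∈ (S : Subgroup X) := fun r => by
      have : ((r : C) : X) ∈ (T : Subgroup X) := hT ⟨(r : C), r.2, rfl⟩
      rw [← hx] at this
      exact Cfsg.Agent.Fusion.mem_cj.1 this
    let f : R →* (S : Subgroup X) :=
      (((MulAut.conj x⁻¹).toMonoidHom.comp C.subtype).comp R.subtype).codRestrict (S : Subgroup X)
        (fun r => by simpa using hinto r)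
    have hf : Function.Injective f := fun a b h => by
      have := congrArg Subtype.val h
      exact Subtype.ext (Subtype.ext ((MulAut.conj x⁻¹).injective this))
    let e : R →* DihedralGroup n := hS.some.toMonoidHom.comp f
    have he : Function.Injective e := hS.some.injective.comp hf
    let φ : MulAut R := R.normalizerMonoidHom ⟨g, hgR⟩
    have hφ : φ ^ orderOf g = 1 := by
      rw [← map_pow]
      have : (⟨g, hgR⟩ : Subgroup.normalizer (R : Set C)) ^ orderOf g = 1 :=
        Subtype.ext (pow_orderOf_eq_one g)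
      rw [this, map_one]
    have htR : tC ∈ R := Subgroup.mem_sup_right (Subgroup.mem_zpowers _)
    have hφt : φ ⟨tC, htR⟩ = ⟨tC, htR⟩ := by
      refine Subtype.ext ?_
      show g * tC * g⁻¹ = tC
      rw [htcomm g, mul_inv_cancel_right]
    have hodd : Odd (orderOf g) := Nat.coprime_two_right.1 hgo
    have hone := Cfsg.Agent.Classif.dihedral_aut_trivial hRp e he φ hodd hφ
      (t := ⟨tC, htR⟩) (by rw [Subgroup.orderOf_mk, htord]) hφt
    refine Subgroup.mem_centralizer_iff.2 fun q hq => ?_
    have h1 : φ ⟨q, Subgroup.mem_sup_left hq⟩ = ⟨q, Subgroup.mem_sup_left hq⟩ := by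
      rw [hone, MulAut.one_apply]
    have h2 : g * q * g⁻¹ = q := congrArg Subtype.val h1
    calc q * g = g * q * g⁻¹ * g := by rw [h2]
      _ = g * q := by rw [inv_mul_cancel_right]
  obtain ⟨P, N, hN, hc⟩ := hnpc
  obtain ⟨k, hk⟩ := P.isPGroup'.exists_card_eq
  refine ⟨N, hN, ?_, k, by rw [← hk, hc.symm.index_eq_card]⟩
  rw [← Nat.not_even_iff_odd, even_iff_two_dvd]
  intro h2
  apply P.not_dvd_index
  rwa [hc.index_eq_card]

end Cfsg.Agent.S0514
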