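import Cfsg.Statements.S0508
import Cfsg.Agent.S3282
import Cfsg.Agent.S0514
import Cfsg.Agent.TwoFusion.DihedralFusion
import Cfsg.Agent.BSWall.Recognition
import Cfsg.Agent.TwoFusion.SEBasic

set_option autoImplicit false
open Cfsg

namespace Cfsg.Agent.S0508

open Subgroup

theorem dih_rot {n : ℕ} (hn : 2 < n) (A : Subgroup (DihedralGroup n)) [IsCyclic A]
    (hA : Nat.card A = n) : A = zpowers (DihedralGroup.r 1) := by
  haveI : NeZero n := ⟨by omega⟩
  obtain ⟨g, hg⟩ := IsCyclic.exists_ofOrder_eq_natCard (α := A)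
  rw [hA, ← Subgroup.orderOf_coe] at hg
  have hg' : zpowers (g : DihedralGroup n) = A :=
    Subgroup.eq_of_le_of_card_ge (zpowers_le.2 g.2) (by rw [Nat.card_zpowers, hg, hA])
  refine Subgroup.eq_of_le_of_card_ge ?_ (by rw [Nat.card_zpowers, DihedralGroup.orderOf_r_one, hA])
  rw [← hg', zpowers_le]
  rcases hcase : (g : DihedralGroup n) with i | i
  · exact ⟨(i.val : ℤ), by simp⟩
  · rw [hcase, DihedralGroup.orderOf_sr] at hg; omega

theorem dih_central {n : ℕ} (hn : 2 < n) {x : DihedralGroup n}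
    (hc : x * DihedralGroup.r 1 = DihedralGroup.r 1 * x) : x ∈ zpowers (DihedralGroup.r 1) := by
  haveI : NeZero n := ⟨by omega⟩
  rcases x with i | i
  · exact ⟨(i.val : ℤ), by simp⟩
  · exfalso
    rw [DihedralGroup.sr_mul_r, DihedralGroup.r_mul_sr] at hc
    injection hc with hc
    have h2 : ((2 : ℕ) : ZMod n) = 0 := by
      push_cast
      linear_combination hc
    rw [ZMod.natCast_eq_zero_iff] at h2
    have := Nat.le_of_dvd two_pos h2
    omega

theorem dih_outside {n : ℕ} [NeZero n] {x : DihedralGroup n} (hx : x ∉ zpowers (DihedralGroup.r 1)) :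
    x * x = 1 ∧ ∀ y ∈ zpowers (DihedralGroup.r (1 : ZMod n)), x * y * x⁻¹ = y⁻¹ := by
  rcases x with i | i
  · exact absurd ⟨(i.val : ℤ), by simp⟩ hx
  · refine ⟨DihedralGroup.sr_mul_self i, ?_⟩
    rintro _ ⟨k, rfl⟩
    simp

theorem dih_two : ∀ u : DihedralGroup 2, u * u = 1 := by decide

/-- Let G be a finite simple group with a dihedral Sylow 2-subgroup S (of order at least 4), t an involution in the
centre of S, C the centralizer of t and O the core of C (its largest normal subgroup of odd order). Suppose that: if O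
is nontrivial then the centralizer of O in S is cyclic of index 2 in S; every element of S not centralizing O inverts
every element of O; and the normalizer of every nontrivial subgroup of O lies in C. Then G is isomorphic to a projective
special linear group of dimension 2 over a field of odd order. -/
theorem result {G : Type*} [Group G] [Finite G] [IsSimpleGroup G] (S : Sylow 2 G) (n : ℕ)
    (hn : 2 ≤ n) (hS : Nonempty ((S : Subgroup G) ≃* DihedralGroup n)) (t : G) (ht : orderOf t = 2)
    (htS : t ∈ (S : Subgroup G))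
    (htZ : ∀ s ∈ (S : Subgroup G), s * t = t * s) (O : Subgroup G)
    (hO : O = (Cfsg.oddCore (Subgroup.centralizer ({t} : Set G))).map (Subgroup.centralizer ({t} : Set G)).subtype)
    (ha : O ≠ ⊥ → IsCyclic ((S : Subgroup G) ⊓ Subgroup.centralizer (O : Set G) : Subgroup G) ∧
      ((S : Subgroup G) ⊓ Subgroup.centralizer (O : Set G)).relIndex (S : Subgroup G) = 2)
    (hb : ∀ s ∈ (S : Subgroup G), s ∉ Subgroup.centralizer (O : Set G) → ∀ y ∈ O, s * y * s⁻¹ = y⁻¹)
    (hc : ∀ Y : Subgroup G, Y ≤ O → Y ≠ ⊥ → Subgroup.normalizer (Y : Set G) ≤ Subgroup.centralizer ({t} : Set G)) :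
    ∃ (F : Type) (_ : Field F) (_ : Fintype F), Odd (Fintype.card F) ∧ Nonempty (G ≃* Matrix.ProjectiveSpecialLinearGroup (Fin 2) F) := by
  classical
  obtain ⟨e⟩ := hS
  haveI : NeZero n := ⟨by omega⟩
  haveI : Fact (Nat.Prime 2) := ⟨Nat.prime_two⟩
  set C := Subgroup.centralizer ({t} : Set G) with hCdef
  have hScard : Nat.card (S : Subgroup G) = 2 * n := by
    rw [Nat.card_congr e.toEquiv, DihedralGroup.nat_card]
  have hti : t⁻¹ = t := TwoFusion.involution_inv ht
  have hSC : (S : Subgroup G) ≤ C := fun s hs => mem_centralizer_singleton_iff.2 (htZ s hs)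
  -- the structure of `C(t)`
  obtain ⟨N, hNn, hNodd, k, hNk⟩ := Cfsg.Agent.S0514.result S n hn ⟨e⟩ t ht
  haveI := hNn
  have h2grp : IsPGroup 2 (C ⧸ N) := IsPGroup.of_card hNk
  have hcore : Cfsg.oddCore C = N := by
    refine le_antisymm (sSup_le ?_) (le_sSup ⟨hNn, Nat.coprime_two_right.2 hNodd⟩)
    rintro N' ⟨-, hN'⟩ x hx
    rw [← QuotientGroup.eq_one_iff]
    obtain ⟨j, hj⟩ := h2grp (x : C ⧸ N)
    have h1 : orderOf (x : C ⧸ N) ∣ 2 ^ j := orderOf_dvd_of_pow_eq_one hj
    have h2 : orderOf (x : C ⧸ N) ∣ Nat.card N' :=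
      (orderOf_map_dvd (QuotientGroup.mk' N) x).trans (Subgroup.orderOf_dvd_natCard _ hx)
    exact orderOf_eq_one_iff.1 (Nat.eq_one_of_dvd_coprimes (hN'.pow_right j) h2 h1)
  rw [hcore] at hO
  have hOC : O ≤ C := hO ▸ Subgroup.map_subtype_le N
  have hOcard : Odd (Nat.card O) := by
    rw [hO, Subgroup.card_map_of_injective C.subtype_injective]; exact hNodd
  have hOS : ∀ x ∈ O, x ∈ (S : Subgroup G) → x = 1 := by
    intro x hxO hxS
    rw [← orderOf_eq_one_iff]
    obtain ⟨j, hj⟩ := IsPGroup.iff_orderOf.1 S.isPGroup' ⟨x, hxS⟩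
    rw [Subgroup.orderOf_mk] at hj
    exact Nat.eq_one_of_dvd_coprimes ((Nat.coprime_two_right.2 hOcard).pow_right j)
      (Subgroup.orderOf_dvd_natCard _ hxO) (dvd_of_eq hj)
  have hOn : ∀ c ∈ C, ∀ x ∈ O, c * x * c⁻¹ ∈ O := by
    intro c hc x hx
    rw [hO] at hx ⊢
    obtain ⟨y, hy, rfl⟩ := hx
    exact ⟨⟨c, hc⟩ * y * ⟨c, hc⟩⁻¹, hNn.conj_mem y hy ⟨c, hc⟩, rfl⟩
  have hCdec : ∀ c ∈ C, ∃ o ∈ O, ∃ σ ∈ (S : Subgroup G), c = o * σ := by
    let SC := S.subtype hSC
    have hmap : ((SC : Subgroup C).map (QuotientGroup.mk' N)) = ⊤ := by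
      refine Subgroup.eq_top_of_card_eq _ ?_
      have h1 : Nat.card ((SC : Subgroup C).map (QuotientGroup.mk' N)) ∣ Nat.card (C ⧸ N) :=
        Subgroup.card_subgroup_dvd_card _
      have h2 := (SC : Subgroup C).index_map_dvd (QuotientGroup.mk'_surjective N)
      have h3 : ¬ 2 ∣ (SC : Subgroup C).index := SC.not_dvd_index
      have h4 : ((SC : Subgroup C).map (QuotientGroup.mk' N)).index ∣ 2 ^ k := by
        rw [← hNk]; exact Subgroup.index_dvd_card _
      obtain ⟨j, -, hj⟩ := (Nat.dvd_prime_pow Nat.prime_two).1 h4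
      rcases j with _ | j
      · have h5 := Subgroup.card_mul_index ((SC : Subgroup C).map (QuotientGroup.mk' N))
        rw [hj, pow_zero, mul_one] at h5
        exact h5
      · exact absurd ((hj ▸ dvd_pow_self 2 (by omega)).trans h2) h3
    intro c hc
    have : ((⟨c, hc⟩ : C) : C ⧸ N) ∈ (SC : Subgroup C).map (QuotientGroup.mk' N) := by
      rw [hmap]; exact Subgroup.mem_top _
    obtain ⟨σ, hσ, hσe⟩ := this
    have h6 : ((⟨c, hc⟩ : C) * σ⁻¹ : C) ∈ N := by
      rw [← QuotientGroup.eq_one_iff, QuotientGroup.mk_mul, QuotientGroup.mk_inv,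
        mul_inv_eq_one]
      exact hσe.symm
    refine ⟨c * (σ : G)⁻¹, ?_, σ, hσ, by group⟩
    rw [hO]; exact ⟨_, h6, rfl⟩
  -- the rotations
  obtain ⟨S0, hS0S, hS0c, hS0card, htS0, hS0O, hout⟩ :
      ∃ S0 : Subgroup G, S0 ≤ S ∧ IsCyclic S0 ∧ Nat.card S0 = n ∧ t ∈ S0 ∧
        (∀ r ∈ S0, ∀ o ∈ O, r * o = o * r) ∧
        ∀ s ∈ (S : Subgroup G), s ∉ S0 → s * s = 1 ∧ (∀ r ∈ S0, s * r * s⁻¹ = r⁻¹) ∧
          ∀ o ∈ O, s * o * s⁻¹ = o⁻¹ := by
    -- a cyclic subgroup of index two containing `t` and centralising `O`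
    obtain ⟨A, hAS, hAc, hAcard, htA, hAO, hAinv⟩ :
        ∃ A : Subgroup G, A ≤ S ∧ IsCyclic A ∧ Nat.card A = n ∧ t ∈ A ∧
          (∀ r ∈ A, ∀ o ∈ O, r * o = o * r) ∧
          ∀ s ∈ (S : Subgroup G), s ∉ A → ∀ o ∈ O, s * o * s⁻¹ = o⁻¹ := by
      by_cases hO1 : O = ⊥
      · have hOtriv : ∀ o ∈ O, o = 1 := fun o ho => by rwa [hO1, Subgroup.mem_bot] at ho
        rcases hn.eq_or_lt with h2 | h2
        · refine ⟨zpowers t, zpowers_le.2 htS, inferInstance, by rw [Nat.card_zpowers, ht, h2],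
            mem_zpowers t, fun r _ o ho => by simp [hOtriv o ho],
            fun s _ _ o ho => by simp [hOtriv o ho]⟩
        · refine ⟨((zpowers (DihedralGroup.r (1 : ZMod n))).map e.symm.toMonoidHom).map
            (S : Subgroup G).subtype, Subgroup.map_subtype_le _, ?_, ?_, ?_,
            fun r _ o ho => by simp [hOtriv o ho], fun s _ _ o ho => by simp [hOtriv o ho]⟩
          · rw [MonoidHom.map_zpowers, MonoidHom.map_zpowers]; infer_instance
          · rw [Subgroup.card_map_of_injective (S : Subgroup G).subtype_injective,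
              Subgroup.card_map_of_injective e.symm.injective, Nat.card_zpowers,
              DihedralGroup.orderOf_r_one]
          · refine ⟨⟨t, htS⟩, ⟨e ⟨t, htS⟩, dih_central h2 ?_, e.symm_apply_apply _⟩, rfl⟩
            apply e.symm.injective
            rw [map_mul, map_mul, e.symm_apply_apply]
            exact Subtype.ext (htZ _ (e.symm _).2).symm
      · obtain ⟨hc1, hc2⟩ := ha hO1
        refine ⟨(S : Subgroup G) ⊓ centralizer (O : Set G), inf_le_left, hc1, ?_,
          ⟨htS, mem_centralizer_iff.2 fun o ho => (mem_centralizer_singleton_iff.1 (hOC ho))⟩,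
          fun r hr o ho => (mem_centralizer_iff.1 hr.2 o ho).symm,
          fun s hs hsA o ho => hb s hs (fun h => hsA ⟨hs, h⟩) o ho⟩
        have h3 := Subgroup.card_mul_index (((S : Subgroup G) ⊓ centralizer (O : Set G)).subgroupOf S)
        rw [Nat.card_congr (Subgroup.subgroupOfEquivOfLe inf_le_left).toEquiv, ← Subgroup.relIndex,
          hc2, hScard] at h3
        omega
    refine ⟨A, hAS, hAc, hAcard, htA, hAO, fun s hs hsA => ?_⟩
    rcases hn.eq_or_lt with h2 | h2
    · subst h2
      have hsq : ∀ x ∈ (S : Subgroup G), x * x = 1 := fun x hx =>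
        congrArg Subtype.val (e.injective (a₁ := ⟨x, hx⟩ * ⟨x, hx⟩) (a₂ := 1)
          (by rw [map_mul, map_one]; exact dih_two _))
      refine ⟨hsq s hs, fun r hr => ?_, hAinv s hs hsA⟩
      have hr' := hAS hr
      have : s * r = r * s := by
        calc s * r = s * (s * r * (s * r)) * r := by rw [hsq _ (mul_mem hs hr'), mul_one]
          _ = (s * s) * (r * s) * (r * r) := by group
          _ = r * s := by rw [hsq s hs, hsq r hr', one_mul, mul_one]
      rw [this, mul_inv_cancel_right, eq_inv_iff_mul_eq_one]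
      exact hsq r hr'
    · set A' : Subgroup (DihedralGroup n) := (A.subgroupOf S).map e.toMonoidHom
      haveI : IsCyclic A := hAc
      have hA'c : IsCyclic A' := by
        haveI : IsCyclic (A.subgroupOf S) := (Subgroup.subgroupOfEquivOfLe hAS).isCyclic.2 inferInstance
        exact ((A.subgroupOf S).equivMapOfInjective e.toMonoidHom e.injective).isCyclic.1 inferInstance
      have hA' : A' = zpowers (DihedralGroup.r 1) := by
        haveI := hA'c
        refine dih_rot h2 A' ?_
        rw [Subgroup.card_map_of_injective e.injective,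
          Nat.card_congr (Subgroup.subgroupOfEquivOfLe hAS).toEquiv, hAcard]
      have hs' : e ⟨s, hs⟩ ∉ zpowers (DihedralGroup.r (1 : ZMod n)) := by
        rw [← hA']
        rintro ⟨y, hy, hye⟩
        exact hsA (e.injective hye ▸ hy : (⟨s, hs⟩ : (S : Subgroup G)) ∈ A.subgroupOf S)
      obtain ⟨h1, h3⟩ := dih_outside hs'
      refine ⟨?_, fun r hr => ?_, hAinv s hs hsA⟩
      · exact congrArg Subtype.val (e.injective (a₁ := ⟨s, hs⟩ * ⟨s, hs⟩) (a₂ := 1)
          (by rw [map_mul, map_one]; exact h1))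
      · have h4 := h3 (e ⟨r, hAS hr⟩) (hA' ▸ ⟨_, hr, rfl⟩)
        rw [← map_inv, ← map_mul, ← map_inv, ← map_mul] at h4
        exact congrArg Subtype.val (e.injective h4)
  -- the subgroup `K`
  obtain ⟨s, hs, hsS0⟩ : ∃ s ∈ (S : Subgroup G), s ∉ S0 := by
    by_contra hall
    push Not at hall
    have := Subgroup.card_le_of_le (show (S : Subgroup G) ≤ S0 from hall)
    omega
  obtain ⟨hss, hsinvS, hsinvO⟩ := hout s hs hsS0
  have hs2 : orderOf s = 2 := orderOf_eq_prime (by rw [pow_two]; exact hss) fun e1 =>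
    hsS0 (e1 ▸ one_mem _)
  have hOcomm : ∀ a ∈ O, ∀ b ∈ O, a * b = b * a := by
    intro a ha' b hb'
    have e1 : (b * a)⁻¹ = (a * b)⁻¹ := by
      rw [← hsinvO _ (mul_mem ha' hb'), mul_inv_rev, ← hsinvO a ha', ← hsinvO b hb']; group
    exact (inv_injective e1).symm
  have hS0comm : ∀ a ∈ S0, ∀ b ∈ S0, a * b = b * a := by
    haveI := hS0c
    letI := IsCyclic.commGroup (α := S0)
    intro a ha' b hb'
    exact congrArg Subtype.val (mul_comm (⟨a, ha'⟩ : S0) ⟨b, hb'⟩)
  let K : Subgroup G :=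
    { carrier := {x | ∃ o ∈ O, ∃ r ∈ S0, x = o * r}
      one_mem' := ⟨1, one_mem _, 1, one_mem _, (one_mul _).symm⟩
      mul_mem' := by
        rintro _ _ ⟨o, ho, r, hr, rfl⟩ ⟨o', ho', r', hr', rfl⟩
        refine ⟨o * o', mul_mem ho ho', r * r', mul_mem hr hr', ?_⟩
        rw [show o * r * (o' * r') = o * (r * o') * r' by group, hS0O r hr o' ho']; group
      inv_mem' := by
        rintro _ ⟨o, ho, r, hr, rfl⟩
        refine ⟨o⁻¹, inv_mem ho, r⁻¹, inv_mem hr, ?_⟩
        rw [mul_inv_rev, hS0O r⁻¹ (inv_mem hr) o⁻¹ (inv_mem ho)] }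
  have hKC : K ≤ C := by
    rintro _ ⟨o, ho, r, hr, rfl⟩; exact mul_mem (hOC ho) (hSC (hS0S hr))
  have hKab : IsMulCommutative K := ⟨⟨fun x y => Subtype.ext (by
    obtain ⟨o, ho, r, hr, hx⟩ := x.2
    obtain ⟨o', ho', r', hr', hy⟩ := y.2
    show (x : G) * y = y * x
    rw [hx, hy, show o * r * (o' * r') = o * (r * o') * r' by group,
      show o' * r' * (o * r) = o' * (r' * o) * r by group, hS0O r hr o' ho', hS0O r' hr' o ho,
      show o * (o' * r) * r' = o * o' * (r * r') by group,
      show o' * (o * r') * r = o' * o * (r' * r) by group, hOcomm o ho o' ho', hS0comm r hr r' hr'])⟩⟩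
  have htK : t ∈ K := ⟨1, one_mem _, t, htS0, (one_mul t).symm⟩
  have hinvK : ∀ x ∈ K, s * x * s⁻¹ = x⁻¹ := by
    rintro _ ⟨o, ho, r, hr, rfl⟩
    rw [show s * (o * r) * s⁻¹ = (s * o * s⁻¹) * (s * r * s⁻¹) by group, hsinvO o ho, hsinvS r hr,
      mul_inv_rev, hS0O r⁻¹ (inv_mem hr) o⁻¹ (inv_mem ho)]
  have hS0uniq : ∀ r ∈ S0, r * r = 1 → r = 1 ∨ r = t := by
    intro r hr hrr
    by_contra hne
    push Not at hne
    haveI := hS0c
    haveI : Fintype S0 := Fintype.ofFinite _
    have h3 := IsCyclic.card_pow_eq_one_le (α := S0) (show 0 < 2 by norm_num)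
    have htt : t * t = 1 := TwoFusion.involution_mul_self ht
    have hsub : ({1, ⟨t, htS0⟩, ⟨r, hr⟩} : Finset S0) ⊆
        (Finset.univ.filter fun a : S0 => a ^ 2 = 1) := by
      intro a ha'
      simp only [Finset.mem_insert, Finset.mem_singleton] at ha'
      rcases ha' with rfl | rfl | rfl <;> simp [pow_two, Subtype.ext_iff, htt, hrr]
    have h4 := Finset.card_le_card hsub
    have h5 : ({1, ⟨t, htS0⟩, ⟨r, hr⟩} : Finset S0).card = 3 := by
      rw [Finset.card_eq_three]
      refine ⟨1, ⟨t, htS0⟩, ⟨r, hr⟩, ?_, ?_, ?_, rfl⟩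
      · exact fun h => TwoFusion.involution_ne_one ht (congrArg Subtype.val h).symm
      · exact fun h => hne.1 (congrArg Subtype.val h).symm
      · exact fun h => hne.2 (congrArg Subtype.val h).symm
    omega
  have hKinv : ∀ x ∈ K, x * x = 1 → x = 1 ∨ x = t := by
    rintro _ ⟨o, ho, r, hr, rfl⟩ hxx
    have e1 : o * o = (r * r)⁻¹ := by
      refine eq_inv_of_mul_eq_one_left ?_
      calc o * o * (r * r) = o * (o * r) * r := by group
        _ = o * (r * o) * r := by rw [hS0O r hr o ho]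
        _ = 1 := by rw [← hxx]; group
    have h1 : o * o = 1 := hOS _ (mul_mem ho ho)
      (e1 ▸ inv_mem (mul_mem (hS0S hr) (hS0S hr)))
    have ho1 : o = 1 := by
      by_contra hne
      have := orderOf_eq_prime (p := 2) (by rw [pow_two]; exact h1) hne
      have h2 := Subgroup.orderOf_dvd_natCard _ ho
      rw [this] at h2
      exact Nat.not_even_iff_odd.2 hOcard (even_iff_two_dvd.2 h2)
    rw [h1, eq_comm, inv_eq_one] at e1
    rw [ho1, one_mul]; exact hS0uniq r hr e1
  have hout2 : ∀ c ∈ C, c ∉ K → ∃ κ ∈ K, c = κ * s := by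
    intro c hc hcK
    obtain ⟨o, ho, σ, hσ, rfl⟩ := hCdec c hc
    refine ⟨o * (σ * s⁻¹), ⟨o, ho, σ * s⁻¹, ?_, rfl⟩, by group⟩
    -- `S0` has index two in `S`
    by_contra hσs
    have hσ0 : σ ∉ S0 := fun h => hcK ⟨o, ho, σ, h, rfl⟩
    obtain ⟨hσσ, hσinv, -⟩ := hout σ hσ hσ0
    obtain ⟨hq, hqinv, -⟩ := hout (σ * s⁻¹) (mul_mem hσ (inv_mem hs)) hσs
    -- the product of two inverting elements centralises `S0`, which is then of exponent two
    have hex : ∀ r ∈ S0, r * r = 1 := by
      intro r hr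
      have e1 := hqinv r hr
      rw [show σ * s⁻¹ * r * (σ * s⁻¹)⁻¹ = σ * (s⁻¹ * r * s) * σ⁻¹ by group] at e1
      have e2 : s⁻¹ * r * s = r⁻¹ := by
        have := hsinvS r⁻¹ (inv_mem hr)
        rw [inv_inv] at this
        calc s⁻¹ * r * s = s⁻¹ * (s * r⁻¹ * s⁻¹) * s := by rw [this]
          _ = r⁻¹ := by group
      rw [e2, hσinv _ (inv_mem hr), inv_inv] at e1
      nth_rewrite 1 [e1]
      exact inv_mul_cancel r
    have hS0le : n ≤ 2 := by
      rw [← hS0card]
      calc Nat.card S0 ≤ Nat.card (({1, t} : Finset G)) := Nat.card_le_card_of_injective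
            (fun r => (⟨r.1, by
              rcases hS0uniq r.1 r.2 (hex r.1 r.2) with h | h <;> simp [h]⟩ : ({1, t} : Finset G)))
            fun a b h => Subtype.ext (congrArg Subtype.val h :)
        _ ≤ 2 := by rw [Nat.card_eq_finsetCard]; exact Finset.card_le_two
    -- so `S` has order four, too small
    have h4 : 4 < Nat.card (S : Subgroup G) := by
      haveI : Fintype (S : Subgroup G) := Fintype.ofFinite _
      rw [Nat.card_eq_fintype_card]
      let L : Finset (S : Subgroup G) :=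
        {1, ⟨t, htS⟩, ⟨s, hs⟩, ⟨σ, hσ⟩, ⟨σ * s⁻¹, mul_mem hσ (inv_mem hs)⟩}
      have h5 : L.card = 5 := by
        have a1 : (1 : G) ≠ t := (TwoFusion.involution_ne_one ht).symm
        have a2 : (1 : G) ≠ s := fun h => hsS0 (h ▸ one_mem _)
        have a3 : (1 : G) ≠ σ := fun h => hσ0 (h ▸ one_mem _)
        have a4 : (1 : G) ≠ σ * s⁻¹ := fun h => hσs (h ▸ one_mem _)
        have a5 : t ≠ s := fun h => hsS0 (h ▸ htS0)
        have a6 : t ≠ σ := fun h => hσ0 (h ▸ htS0)
        have a7 : t ≠ σ * s⁻¹ := fun h => hσs (h ▸ htS0)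
        have a8 : s ≠ σ := fun h => hσs (by rw [← h, mul_inv_cancel]; exact one_mem _)
        have a9 : s ≠ σ * s⁻¹ := fun h => a3 (by
          calc (1 : G) = s * s := hss.symm
            _ = σ * s⁻¹ * s := by nth_rewrite 1 [h]; rfl
            _ = σ := by group)
        have a10 : σ ≠ σ * s⁻¹ := fun h => a2 (by
          rw [eq_comm, mul_eq_left, inv_eq_one] at h; exact h.symm)
        simp [L, Subtype.ext_iff, Finset.card_insert_of_notMem, a1, a2, a3, a4, a5, a6, a7, a8, a9, a10]
      have := Finset.card_le_univ L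
      omega
    omega
  have hH : K ⊔ zpowers s = C := by
    refine le_antisymm (sup_le hKC (zpowers_le.2 (hSC hs))) fun c hc => ?_
    by_cases hcK : c ∈ K
    · exact Subgroup.mem_sup_left hcK
    obtain ⟨κ, hκ, rfl⟩ := hout2 c hc hcK
    exact Subgroup.mul_mem_sup hκ (mem_zpowers s)
  have hCK : K ⊓ centralizer ({s} : Set G) = zpowers t := by
    refine le_antisymm (fun x hx => ?_) (zpowers_le.2 ⟨htK, mem_centralizer_singleton_iff.2 ?_⟩)
    · have h1 := hinvK x hx.1
      rw [← mem_centralizer_singleton_iff.1 hx.2, mul_inv_cancel_right] at h1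
      rcases hKinv x hx.1 (by nth_rewrite 1 [h1]; exact inv_mul_cancel x) with rfl | rfl
      · exact one_mem _
      · exact mem_zpowers _
    · exact (htZ s hs).symm
  have hTI : ∀ g : G, g ∉ C → K ⊓ K.map (MulAut.conj g).toMonoidHom = ⊥ := by
    intro g hg
    by_contra hne
    obtain ⟨⟨x, hx⟩, hx1⟩ := (Subgroup.ne_bot_iff_exists_ne_one).1 hne
    have hx1' : x ≠ 1 := fun h => hx1 (Subtype.ext h)
    obtain ⟨p, hp, hpx⟩ := Nat.exists_prime_and_dvd (mt orderOf_eq_one_iff.1 hx1')
    set y := x ^ (orderOf x / p) with hy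
    have hyo : orderOf y = p := orderOf_pow_orderOf_div (orderOf_pos x).ne' hpx
    have hy1 : y ≠ 1 := fun h => by
      rw [h, orderOf_one] at hyo
      exact hp.one_lt.ne hyo
    have hyK : y ∈ K := pow_mem hx.1 _
    obtain ⟨w, hw, hwy⟩ := pow_mem hx.2 (orderOf x / p)
    have hwy' : g * w * g⁻¹ = y := hwy
    have hgt : g * t * g⁻¹ = t → False := fun h =>
      hg (mem_centralizer_singleton_iff.2 (mul_inv_eq_iff_eq_mul.1 h))
    by_cases hp2 : p = 2
    · subst hp2
      have hyy : y * y = 1 := by rw [← pow_two, ← hyo, pow_orderOf_eq_one]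
      have hyt : y = t := (hKinv y hyK hyy).resolve_left hy1
      have hww : w * w = 1 := by
        calc w * w = g⁻¹ * ((g * w * g⁻¹) * (g * w * g⁻¹)) * g := by group
          _ = 1 := by rw [hwy', hyy]; group
      have hwt : w = t := (hKinv w hw hww).resolve_left fun h => hy1 (by rw [← hwy', h]; group)
      exact hgt (by rw [← hwt, hwy', hyt, hwt])
    · obtain ⟨o, ho, r, hr, hyor⟩ := hyK
      have hor : Commute o r := (hS0O r hr o ho).symm
      have hyp : y ^ p = 1 := hyo ▸ pow_orderOf_eq_one y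
      rw [hyor, hor.mul_pow] at hyp
      have hrp : r ^ p = 1 := by
        have h1 : r ^ p = (o ^ p)⁻¹ := eq_inv_of_mul_eq_one_right hyp
        rw [h1, inv_eq_one]
        exact hOS _ (pow_mem ho p) (by
          rw [show o ^ p = (r ^ p)⁻¹ from eq_inv_of_mul_eq_one_left hyp]
          exact inv_mem (pow_mem (hS0S hr) p))
      have hr1 : r = 1 := by
        obtain ⟨j, hj⟩ := IsPGroup.iff_orderOf.1 S.isPGroup' ⟨r, hS0S hr⟩
        rw [Subgroup.orderOf_mk] at hj
        rw [← orderOf_eq_one_iff]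
        exact Nat.eq_one_of_dvd_coprimes
          (((Nat.coprime_primes hp Nat.prime_two).2 hp2).pow_right j)
          (orderOf_dvd_of_pow_eq_one hrp) (dvd_of_eq hj)
      rw [hr1, mul_one] at hyor
      have hyO : y ∈ O := hyor ▸ ho
      -- the conjugate of `t` centralises `y`
      set w' := g * t * g⁻¹ with hw'
      have hwt' : w * t = t * w := mem_centralizer_singleton_iff.1 (hKC hw)
      have hcomm : w' * y = y * w' := by
        rw [hw', ← hwy']
        calc g * t * g⁻¹ * (g * w * g⁻¹) = g * (t * w) * g⁻¹ := by group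
          _ = g * (w * t) * g⁻¹ := by rw [hwt']
          _ = g * w * g⁻¹ * (g * t * g⁻¹) := by group
      have hw'C : w' ∈ C := by
        refine hc (zpowers y) (zpowers_le.2 hyO) (by simpa using hy1) ?_
        refine Subgroup.centralizer_le_normalizer _ ?_
        rw [Subgroup.mem_centralizer_iff]
        rintro _ ⟨i, rfl⟩
        exact ((show Commute w' y from hcomm).zpow_right i).symm.eq
      have hw'K : w' ∈ K := by
        by_contra hnK
        obtain ⟨κ, hκ, hκe⟩ := hout2 w' hw'C hnK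
        have hyK' : y ∈ K := ⟨y, hyO, 1, one_mem _, (mul_one y).symm⟩
        have e1 : w' * y * w'⁻¹ = y⁻¹ := by
          rw [hκe, show κ * s * y * (κ * s)⁻¹ = κ * (s * y * s⁻¹) * κ⁻¹ by group, hinvK y hyK']
          have := congrArg Subtype.val (hKab.is_comm.comm ⟨κ, hκ⟩ ⟨y⁻¹, inv_mem hyK'⟩)
          simp only [Subgroup.coe_mul] at this
          rw [this, mul_inv_cancel_right]
        rw [hcomm, mul_inv_cancel_right] at e1
        have : orderOf y ∣ 2 := orderOf_dvd_of_pow_eq_one (by
          rw [pow_two]; nth_rewrite 1 [e1]; exact inv_mul_cancel y)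
        rw [hyo] at this
        exact hp2 ((Nat.prime_dvd_prime_iff_eq hp Nat.prime_two).1 this)
      refine hgt ((hKinv w' hw'K ?_).resolve_left ?_)
      · rw [hw', show g * t * g⁻¹ * (g * t * g⁻¹) = g * (t * t) * g⁻¹ by group,
          TwoFusion.involution_mul_self ht]; group
      · rw [hw']; intro h
        exact TwoFusion.involution_ne_one ht (by
          calc t = g⁻¹ * (g * t * g⁻¹) * g := by group
            _ = 1 := by rw [h]; group)
  have h4G : 4 ≤ Nat.card G :=
    le_trans (by omega) (Subgroup.card_le_card_group (S : Subgroup G))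
  have hno : ∀ H : Subgroup G, H.index ≠ 2 := by
    intro H hH2
    haveI := Subgroup.normal_of_index_eq_two hH2
    rcases (inferInstance : H.Normal).eq_bot_or_eq_top with h | h
    · rw [h, Subgroup.index_bot] at hH2; omega
    · rw [h, Subgroup.index_top] at hH2; omega
  have hconj : ∀ x y : G, orderOf x = 2 → orderOf y = 2 → IsConj x y := by
    rcases TwoFusion.dihedral_cases hn e with h4 | ⟨⟨m, a, b, h⟩, -⟩
    · exact TwoFusion.all_conj_of_no_index_two_four h4 hno
    · exact TwoFusion.Dih.all_conj_of_no_index_two h hno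
  obtain ⟨Q, D, hcard, hQC, hDc, hD2, hinf, hN, hX⟩ := Cfsg.Agent.S3282.result t ht K hKab hKC htK s
    hs2 (hSC hs) (fun h => by
      rcases hKinv s h hss with e1 | e1
      · exact hsS0 (e1 ▸ one_mem _)
      · exact hsS0 (e1 ▸ htS0)) hH hCK hinvK hTI hconj
  have hD1 : 1 < Nat.card D := by
    by_contra hle
    have hd : Nat.card D = 1 := by have : 0 < Nat.card D := Nat.card_pos; omega
    rw [hd] at hD2
    rw [← hD2] at hcard
    have hG : Nat.card G = 12 := by omega
    have hScard4 : Nat.card (S : Subgroup G) = 4 := by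
      have hd12 : Nat.card (S : Subgroup G) ∣ 12 := hG ▸ Subgroup.card_subgroup_dvd_card _
      have hnd : ¬ 2 ∣ (S : Subgroup G).index := S.not_dvd_index
      have h1 := Subgroup.card_mul_index (S : Subgroup G)
      rw [hG] at h1
      obtain ⟨j, hj⟩ := IsPGroup.iff_card.1 S.isPGroup'
      rw [hj] at h1 hd12 ⊢
      have hj3 : j < 4 := by
        by_contra hlt
        have := Nat.le_of_dvd (by norm_num) hd12
        have := Nat.pow_le_pow_right (show 0 < 2 by norm_num) (show 4 ≤ j by omega)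
        omega
      interval_cases j <;> omega
    have hidx : (S : Subgroup G).index = 3 := by
      have h1 := Subgroup.card_mul_index (S : Subgroup G)
      rw [hScard4, hG] at h1; omega
    have hcore : (S : Subgroup G).normalCore = ⊥ :=
      ((Subgroup.normalCore_normal _).eq_bot_or_eq_top).resolve_right fun h => by
        have := Subgroup.card_le_of_le ((S : Subgroup G).normalCore_le)
        rw [h, Subgroup.card_top, hG, hScard4] at this
        omega
    rw [Subgroup.normalCore_eq_ker] at hcore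
    have := Nat.card_le_card_of_injective _ ((MonoidHom.ker_eq_bot_iff _).1 hcore)
    rw [Nat.card_perm, show Nat.card (G ⧸ (S : Subgroup G)) = 3 from hidx, hG] at this
    exact absurd this (by decide)
  obtain ⟨u, hu, huD, huinv, -⟩ := (hX D le_rfl (by
    intro h; rw [h, Subgroup.card_bot] at hD1; omega)).2
  obtain ⟨F, iF, iFF, hodd, -, e'⟩ :=
    BSWall.exists_psl_of_concl Q D hcard hQC hDc hD2 hinf hN hD1 ⟨u, hu, huD, huinv⟩
  exact ⟨F, iF, iFF, hodd, e'⟩

end Cfsg.Agent.S0508
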