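import Cfsg.Statements.S0885

import Cfsg.Agent.OddChar43.Zassenhaus

set_option autoImplicit false
open Cfsg
open Cfsg.Agent Cfsg.Agent.OddChar43

namespace Cfsg.Agent.S0885

open MulAction

/-- Let G be a finite Zassenhaus group on Ω with h + 1 points whose two-point stabilizer E has odd order e, and let H be the subgroup of the stabilizer of a consisting of the identity and the elements fixing no point other than a (given here as a subgroup of the stabilizer of order one less than the number of points whose non-identity elements fix only a; it is the Frobenius kernel of the stabilizer). Then either h - 1 ≤ 2 * e, or H is a non-abelian 2-group whose commutator subgroup has index at most 4 * e ^ 2 + 1 in H. -/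
theorem result {G Ω : Type*} [Group G] [Finite G] [MulAction G Ω] [Fintype Ω] (hZ : Cfsg.IsZassenhausGroup G Ω) {a b : Ω} (hab : a ≠ b) (h e : ℕ) (hh : Fintype.card Ω = h + 1) (he : Nat.card ↥(MulAction.stabilizer G a ⊓ MulAction.stabilizer G b : Subgroup G) = e) (hodd : Odd e) (H : Subgroup G) (hHa : H ≤ MulAction.stabilizer G a) (hHcard : Nat.card H + 1 = Fintype.card Ω) (hHfix : ∀ u ∈ H, u ≠ 1 → ∀ c : Ω, u • c = c → c = a) : h - 1 ≤ 2 * e ∨ (IsPGroup 2 H ∧ (∃ u v : H, u * v ≠ v * u) ∧ (commutator H).index ≤ 4 * e ^ 2 + 1) := by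
  classical
  haveI : Fintype G := Fintype.ofFinite G
  rcases Nat.lt_or_ge (2 * e) (h - 1) with hbig | hle
  swap
  · exact Or.inl hle
  refine Or.inr ?_
  haveI := hZ.1
  have hz := PermB.zData_of_isZassenhausGroup hZ
  have h3 := PermB.three_le_card_of_isZassenhausGroup hZ
  have hN := CharDeep.isKernel_of_hyp hz h3 hHa
    (by rw [Nat.card_eq_fintype_card (α := Ω)]; exact hHcard) hHfix
  have hHh : Nat.card H = h := by omega
  obtain ⟨M, hM⟩ : ∃ M : Subgroup G, M = Subgroup.normalClosure (H : Set G) := ⟨_, rfl⟩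
  haveI : M.Normal := hM ▸ Subgroup.normalClosure_normal
  have hHM : H ≤ M := hM ▸ Subgroup.le_normalClosure
  have hMne : M ≠ ⊥ := fun e' => by
    have h1 : H = ⊥ := le_bot_iff.1 (e' ▸ hHM)
    rw [h1, Subgroup.card_bot] at hHh
    omega
  have hZ' := Zassenhaus.normal_isZassenhaus hZ M hMne
  have hz' := PermB.zData_of_isZassenhausGroup hZ'
  have hfix' : ∀ u ∈ H.subgroupOf M, u ≠ 1 → ∀ c : Ω, u • c = c → c = a := fun u hu hu1 c hc =>
    hHfix (u : G) hu (fun e' => hu1 (Subtype.ext e')) c hc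
  have hHMcard : Nat.card (H.subgroupOf M) = Nat.card H :=
    Nat.card_congr (Subgroup.subgroupOfEquivOfLe hHM).toEquiv
  have hN' := CharDeep.isKernel_of_hyp hz' h3 (a := a) (H := H.subgroupOf M)
    (fun u hu => hHa hu) (by rw [hHMcard, Nat.card_eq_fintype_card (α := Ω)]; exact hHcard) hfix'
  let ι : PermB.ZData.H2 (G := M) a b →* (stabilizer G a ⊓ stabilizer G b : Subgroup G) :=
    (M.subtype.comp (PermB.ZData.H2 (G := M) a b).subtype).codRestrict _ fun u => u.2
  have hι : Function.Injective ι := fun u v huv =>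
    Subtype.ext (Subtype.ext (congrArg (fun w : (stabilizer G a ⊓ stabilizer G b : Subgroup G) => (w : G)) huv))
  have hdvd : Nat.card (PermB.ZData.H2 (G := M) a b) ∣ e := by
    rw [← he, Nat.card_congr (MonoidHom.ofInjective hι).toEquiv]
    exact Subgroup.card_subgroup_dvd_card _
  have hle : Nat.card (PermB.ZData.H2 (G := M) a b) ≤ e := Nat.le_of_dvd hodd.pos hdvd
  have hmin : ∀ M' : Subgroup M, M'.Normal → H.subgroupOf M ≤ M' → M' = ⊤ := by
    intro M' hn hle'
    rw [eq_top_iff]
    rintro ⟨x, hx⟩ -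
    have key : M ≤ M'.map M.subtype := by
      conv_lhs => rw [hM, Subgroup.normalClosure]
      rw [Subgroup.closure_le]
      intro y hy
      obtain ⟨u, hu, hconj⟩ := Group.mem_conjugatesOfSet_iff.1 hy
      obtain ⟨g, rfl⟩ := isConj_iff.1 hconj
      haveI : IsPretransitive M Ω := hz'.isPretransitive
      obtain ⟨n, hn'⟩ := IsPretransitive.exists_smul_eq (M := M) a (g • a)
      have hl : (n : G)⁻¹ * g ∈ stabilizer G a := by
        rw [mem_stabilizer_iff, mul_smul, ← hn']
        exact inv_smul_smul (n : G) a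
      have h1 := hN.conj _ hl u hu
      refine ⟨n * ⟨_, hHM h1⟩ * n⁻¹, hn.conj_mem _ (hle' h1) n, ?_⟩
      simp [mul_assoc]
    obtain ⟨w, hw, hwe⟩ := key hx
    rwa [show (⟨x, hx⟩ : M) = w from Subtype.ext hwe.symm]
  have hcore := OddChar43.zassenhaus_core (G := M) (Ω := Ω) hZ' hab (Odd.of_dvd_nat hodd hdvd) hN' hmin
    (by rw [hHMcard, hHh]; omega)
  obtain ⟨h1, ⟨u, v, huv⟩, h3'⟩ := OddChar43.ZExc.of_equiv (Subgroup.subgroupOfEquivOfLe hHM) hle hcore
  exact ⟨h1, ⟨u, v, huv⟩, h3'⟩

end Cfsg.Agent.S0885
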