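import Cfsg.Statements.S0588
import Cfsg.Agent.SolvStruct.Products

set_option autoImplicit false
open Cfsg
open scoped Pointwise commutatorElement

namespace Cfsg.Agent.S0588

/-- If a subgroup H of a finite group G contains the centralizer of every non-identity element of H, then the order of H is coprime to its index. -/
theorem result {G : Type*} [Group G] [Finite G] (H : Subgroup G) (h : ∀ x ∈ H, x ≠ 1 → Subgroup.centralizer ({x} : Set G) ≤ H) : (Nat.card H).Coprime H.index := by
  refine Nat.coprime_of_dvd fun p hp hpH hpi => ?_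
  haveI : Fact p.Prime := ⟨hp⟩
  obtain ⟨P⟩ : Nonempty (Sylow p H) := inferInstance
  set P' := (P : Subgroup H).map H.subtype with hP'
  obtain ⟨S, hS⟩ := (P.isPGroup'.map H.subtype).exists_le_sylow
  obtain ⟨x, hxP, hx⟩ : ∃ x ∈ P', x ≠ 1 := by
    by_contra hc
    push Not at hc
    apply P.ne_bot_of_dvd_card hpH
    refine le_bot_iff.1 fun y hy => Subgroup.mem_bot.2 ?_
    exact Subtype.ext (hc _ (Subgroup.mem_map_of_mem _ hy))
  have hSp : IsPGroup p (S : Subgroup G) := S.isPGroup'
  haveI : Nontrivial (S : Subgroup G) :=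
    ⟨⟨⟨x, hS hxP⟩, 1, fun he => hx (congrArg Subtype.val he)⟩⟩
  haveI := hSp.center_nontrivial
  obtain ⟨z, hz⟩ := exists_ne (1 : Subgroup.center (S : Subgroup G))
  have hzc : ∀ s ∈ (S : Subgroup G), s * (z : (S : Subgroup G)).1 = (z : (S : Subgroup G)).1 * s :=
    fun s hs => congrArg Subtype.val (Subgroup.mem_center_iff.1 z.2 ⟨s, hs⟩)
  have hxH : x ∈ H := Subgroup.map_subtype_le _ hxP
  have hzH : (z : (S : Subgroup G)).1 ∈ H := h x hxH hx
    (Subgroup.mem_centralizer_singleton_iff.2 (hzc x (hS hxP)).symm)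
  have hz1 : (z : (S : Subgroup G)).1 ≠ 1 := fun he => hz (Subtype.ext (Subtype.ext he))
  have hSH : (S : Subgroup G) ≤ H := fun s hs =>
    h _ hzH hz1 (Subgroup.mem_centralizer_singleton_iff.2 (hzc s hs))
  have h1 : Nat.card (S : Subgroup G) ∣ Nat.card H := Subgroup.card_dvd_of_le hSH
  rw [S.card_eq_multiplicity] at h1
  refine Nat.pow_succ_factorization_not_dvd (Nat.card_pos.ne' : Nat.card G ≠ 0) hp ?_
  rw [pow_succ, ← Subgroup.card_mul_index H]
  exact Nat.mul_dvd_mul (by rw [Subgroup.card_mul_index H]; exact h1) hpi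

end Cfsg.Agent.S0588
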