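import Cfsg.Statements.S0589
import Cfsg.Agent.SolvStruct.Products
import Cfsg.Agent.S0588

set_option autoImplicit false
open Pointwise
open Cfsg
open scoped Pointwise commutatorElement

namespace Cfsg.Agent.S0589

/-- Let H be a Frobenius complement in a finite group G and L a subgroup of G whose order divides the order of H. Then L is contained in some conjugate of H. -/
theorem result {G : Type*} [Group G] [Finite G] (H : Subgroup G) (hH : Cfsg.IsFrobeniusComplement H) (L : Subgroup G) (hL : Nat.card L ∣ Nat.card H) : ∃ x : G, L ≤ MulAut.conj x • H := by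
  classical
  obtain ⟨hHne, hHtop, hTI⟩ := hH
  rcases eq_or_ne L ⊥ with rfl | hLne
  · exact ⟨1, bot_le⟩
  have huniq : ∀ {x g g' : G}, x ≠ 1 → g⁻¹ * x * g ∈ H → g'⁻¹ * x * g' ∈ H →
      (g : G ⧸ H) = (g' : G ⧸ H) := by
    intro x g g' hx h1 h2
    rw [QuotientGroup.eq]
    by_contra hc
    have : g⁻¹ * x * g ∈ H ⊓ MulAut.conj (g⁻¹ * g') • H :=
      ⟨h1, SolvStruct.mem_conj_smul.2 (by simpa [mul_assoc] using h2)⟩
    rw [hTI _ hc, Subgroup.mem_bot] at this
    refine hx ?_
    have h3 := congrArg (fun z => g * z * g⁻¹) this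
    simpa [mul_assoc] using h3
  have hHall : (Nat.card H).Coprime H.index := S0588.result H fun x hxH hx c hc => by
    by_contra hcH
    have hc' : c * x = x * c := Subgroup.mem_centralizer_singleton_iff.1 hc
    have : x ∈ H ⊓ MulAut.conj c • H := ⟨hxH, SolvStruct.mem_conj_smul.2 (by
      rw [mul_assoc, ← hc', inv_mul_cancel_left]; exact hxH)⟩
    rw [hTI c hcH, Subgroup.mem_bot] at this
    exact hx this
  have hex : ∀ x : L, x ≠ 1 → ∃ q : G ⧸ H, x • q = q := by
    intro x hx
    obtain ⟨p, hp, m, hm⟩ := Nat.exists_prime_and_dvd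
      (show orderOf (x : G) ≠ 1 by
        rw [Ne, orderOf_eq_one_iff]; exact fun he => hx (Subtype.ext he))
    haveI : Fact p.Prime := ⟨hp⟩
    have hm0 : m ≠ 0 := by
      rintro rfl
      exact (orderOf_pos (x : G)).ne' (by simpa using hm)
    have hy : orderOf ((x : G) ^ m) = p := by
      rw [orderOf_pow_of_dvd hm0 (hm ▸ dvd_mul_left m p), hm,
        Nat.mul_div_cancel _ (Nat.pos_of_ne_zero hm0)]
    obtain ⟨PH⟩ : Nonempty (Sylow p H) := inferInstance
    have hpH : p ∣ Nat.card H := by
      have h1 : p ∣ orderOf x := by rw [← Subgroup.orderOf_coe, hm]; exact dvd_mul_right _ _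
      exact (h1.trans (orderOf_dvd_natCard x)).trans hL
    have hPc : Nat.card ((PH : Subgroup H).map H.subtype : Subgroup G) =
        p ^ (Nat.card G).factorization p := by
      rw [← Nat.card_congr (Subgroup.equivMapOfInjective _ _ H.subtype_injective).toEquiv,
        PH.card_eq_multiplicity, ← Subgroup.card_mul_index H,
        Nat.factorization_mul Nat.card_pos.ne' Subgroup.FiniteIndex.index_ne_zero,
        Finsupp.add_apply,
        Nat.factorization_eq_zero_of_not_dvd (hp.coprime_iff_not_dvd.1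
          (hHall.coprime_dvd_left hpH)), add_zero]
    let P : Sylow p G := Sylow.ofCard _ hPc
    obtain ⟨R, hR⟩ := (IsPGroup.of_card (p := p) (n := 1)
      (by rw [Nat.card_zpowers, hy, pow_one] :
        Nat.card (Subgroup.zpowers ((x : G) ^ m)) = p ^ 1)).exists_le_sylow
    obtain ⟨g, hg⟩ := MulAction.exists_smul_eq G P R
    refine ⟨(g : G ⧸ H), ?_⟩
    have h1 : g⁻¹ * (x : G) ^ m * g ∈ H := by
      have h2 : (x : G) ^ m ∈ (MulAut.conj g • (P : Subgroup G) : Subgroup G) := by
        have := hR (Subgroup.mem_zpowers _)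
        rw [← hg] at this
        exact this
      exact Subgroup.map_subtype_le (PH : Subgroup H) (SolvStruct.mem_conj_smul.1 h2)
    have hne : (x : G) ^ m ≠ 1 := fun he => hp.ne_one (by simpa [he] using hy.symm)
    show (((x : G) * g : G) : G ⧸ H) = (g : G ⧸ H)
    refine huniq hne ?_ h1
    have h4 : (x : G)⁻¹ * (x : G) ^ m * (x : G) = (x : G) ^ m := by
      rw [mul_assoc, ((Commute.refl (x : G)).pow_left m).eq, inv_mul_cancel_left]
    have h5 : ((x : G) * g)⁻¹ * (x : G) ^ m * ((x : G) * g) =
        g⁻¹ * ((x : G)⁻¹ * (x : G) ^ m * (x : G)) * g := by simp [mul_assoc]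
    rw [h5, h4]; exact h1
  have hun : ∀ x : L, x ≠ 1 → ∀ q q' : G ⧸ H, x • q = q → x • q' = q' → q = q' := by
    intro x hx q q' h1 h2
    obtain ⟨g, rfl⟩ := QuotientGroup.mk_surjective q
    obtain ⟨g', rfl⟩ := QuotientGroup.mk_surjective q'
    have aux : ∀ g : G, (((x : G) * g : G) : G ⧸ H) = (g : G ⧸ H) → g⁻¹ * (x : G) * g ∈ H := by
      intro g hg
      have := QuotientGroup.eq.1 hg.symm
      simpa [mul_assoc] using this
    exact huniq (fun he => hx (Subtype.ext he)) (aux g h1) (aux g' h2)
  obtain ⟨x0, hx0⟩ : ∃ x : L, x ≠ 1 := by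
    haveI := (Subgroup.nontrivial_iff_ne_bot L).2 hLne
    exact exists_ne 1
  obtain ⟨P, hP⟩ := hex x0 hx0
  haveI : Fintype L := Fintype.ofFinite L
  haveI : Fintype (G ⧸ H) := Fintype.ofFinite _
  let S : (G ⧸ H) → Finset L := fun q => Finset.univ.filter fun x => x ≠ 1 ∧ x • q = q
  have hdisj : ∀ q q' : G ⧸ H, q ≠ q' → Disjoint (S q) (S q') := by
    intro q q' hne
    rw [Finset.disjoint_left]
    intro x hx hx'
    simp only [S, Finset.mem_filter] at hx hx'
    exact hne (hun x hx.2.1 q q' hx.2.2 hx'.2.2)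
  have hScard : ∀ q : G ⧸ H, (S q).card + 1 = Nat.card (MulAction.stabilizer L q) := by
    intro q
    have e : S q = (Finset.univ.filter fun x : L => x • q = q).erase 1 := by
      ext x; simp [S]
    rw [e, Finset.card_erase_add_one (by simp), ← Fintype.card_coe, ← Nat.card_eq_fintype_card]
    exact Nat.card_congr (Equiv.subtypeEquivRight fun x => by simp)
  let O : (G ⧸ H) → Finset (G ⧸ H) := fun q => (MulAction.orbit L q).toFinset
  have hsum : ∀ q : G ⧸ H, (O q).card + ((O q).biUnion S).card = Nat.card L := by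
    intro q
    rw [Finset.card_biUnion fun a _ b _ hab => hdisj a b hab, Finset.card_eq_sum_ones,
      ← Finset.sum_add_distrib]
    have hconst : ∀ a ∈ O q, 1 + (S a).card = Nat.card (MulAction.stabilizer L q) := by
      intro a ha
      simp only [O, Set.mem_toFinset] at ha
      obtain ⟨l, rfl⟩ := ha
      rw [add_comm, hScard, ← Nat.card_congr
        (MulAction.stabilizerEquivStabilizer (g := l) (a := q) (b := l • q) rfl).toEquiv]
    rw [Finset.sum_congr rfl hconst, Finset.sum_const, smul_eq_mul]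
    have : (O q).card = (MulAction.stabilizer L q).index := by
      rw [MulAction.index_stabilizer]
      simp [O, Set.ncard_eq_toFinset_card']
    rw [this, mul_comm, Subgroup.card_mul_index]
  have hhalf : ∀ r : G ⧸ H, (∃ y : L, y ≠ 1 ∧ y • r = r) → 2 * (O r).card ≤ Nat.card L := by
    rintro r ⟨y, hy1, hy2⟩
    have hge : (O r).card ≤ ((O r).biUnion S).card := by
      rw [Finset.card_biUnion fun a _ b _ hab => hdisj a b hab, Finset.card_eq_sum_ones]
      refine Finset.sum_le_sum fun a ha => Finset.card_pos.2 ?_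
      simp only [O, Set.mem_toFinset] at ha
      obtain ⟨l, rfl⟩ := ha
      refine ⟨l * y * l⁻¹, Finset.mem_filter.2 ⟨Finset.mem_univ _, ?_, ?_⟩⟩
      · exact fun he => hy1 (by simpa using he)
      · simp only [mul_smul, inv_smul_smul, hy2]
    have := hsum r
    omega
  have hall : ∀ x : L, x ≠ 1 → ∀ q : G ⧸ H, x • q = q → q ∈ O P := by
    intro x hx q hq
    by_contra hqP
    have hOd : Disjoint (O q) (O P) := by
      rw [Finset.disjoint_left]
      intro a ha ha'
      simp only [O, Set.mem_toFinset] at ha ha' hqP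
      rw [← MulAction.orbit_eq_iff] at ha ha'
      exact hqP (MulAction.orbit_eq_iff.1 (ha.symm.trans ha'))
    have hd2 : Disjoint ((O q).biUnion S) ((O P).biUnion S) := by
      rw [Finset.disjoint_biUnion_left]
      intro a ha
      rw [Finset.disjoint_biUnion_right]
      intro b hb
      exact hdisj a b fun hab => Finset.disjoint_left.1 hOd ha (hab ▸ hb)
    have hsub : ((O q).biUnion S) ∪ ((O P).biUnion S) ⊆ Finset.univ.erase (1 : L) := by
      intro y hy
      simp only [Finset.mem_union, Finset.mem_biUnion, S, Finset.mem_filter] at hy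
      rcases hy with ⟨a, -, -, hy, -⟩ | ⟨a, -, -, hy, -⟩ <;> simp [hy]
    have hle := Finset.card_le_card hsub
    rw [Finset.card_union_of_disjoint hd2, Finset.card_erase_of_mem (Finset.mem_univ _),
      Finset.card_univ, ← Nat.card_eq_fintype_card] at hle
    have h1 := hhalf q ⟨x, hx, hq⟩
    have h2 := hhalf P ⟨x0, hx0, hP⟩
    have h3 := hsum q
    have h4 := hsum P
    have : 0 < Nat.card L := Nat.card_pos
    omega
  have hO : ((O P).biUnion S) = Finset.univ.erase (1 : L) := by
    refine Finset.Subset.antisymm (fun x hx => ?_) fun x hx => ?_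
    · simp only [Finset.mem_biUnion, S, Finset.mem_filter] at hx
      obtain ⟨a, -, -, hx, -⟩ := hx
      simp [hx]
    · obtain ⟨q, hq⟩ := hex x (Finset.ne_of_mem_erase hx)
      exact Finset.mem_biUnion.2 ⟨q, hall x (Finset.ne_of_mem_erase hx) q hq,
        Finset.mem_filter.2 ⟨Finset.mem_univ _, Finset.ne_of_mem_erase hx, hq⟩⟩
  have hone : (O P).card = 1 := by
    have h1 := hsum P
    rw [hO, Finset.card_erase_of_mem (Finset.mem_univ _), Finset.card_univ,
      ← Nat.card_eq_fintype_card] at h1
    have : 0 < Nat.card L := Nat.card_pos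
    omega
  obtain ⟨g, rfl⟩ := QuotientGroup.mk_surjective P
  refine ⟨g, fun l hl => ?_⟩
  rw [SolvStruct.mem_conj_smul]
  have h1 : (⟨l, hl⟩ : L) • (g : G ⧸ H) = (g : G ⧸ H) := by
    refine Finset.card_le_one.1 hone.le _ ?_ _ ?_
    · simpa [O] using MulAction.mem_orbit (g : G ⧸ H) (⟨l, hl⟩ : L)
    · simp [O]
  have := QuotientGroup.eq.1 h1.symm
  simpa [mul_assoc] using this

end Cfsg.Agent.S0589
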