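import Cfsg.Statements.S3378
import Cfsg.Agent.Recog.Icosahedral
import Cfsg.Agent.TwoGroups.Recognition
-- import your own Cfsg.Agent.* helpers here

set_option autoImplicit false
open scoped Pointwise
open Cfsg

namespace Cfsg.Agent.S3378

universe uG

theorem solvable_perm_card_three {X : Type*} [Finite X] (h : Nat.card X = 3) :
    Group.IsSolvable (Equiv.Perm X) := by
  have : IsZGroup (Equiv.Perm X) := by
    apply IsZGroup.of_squarefree
    rw [Nat.card_perm, h, show Nat.factorial 3 = 2 * 3 by rfl, Nat.squarefree_mul (by norm_num)]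
    exact ⟨Nat.prime_two.squarefree, Nat.prime_three.squarefree⟩
  infer_instance

theorem solvable_card_24 {M : Type*} [Group M] [Finite M] (h : Nat.card M = 24) :
    Group.IsSolvable M := by
  have : Fact (Nat.Prime 2) := ⟨Nat.prime_two⟩
  obtain ⟨S, hS⟩ := Sylow.exists_subgroup_card_pow_prime 2 (n := 3) (G := M) (by rw [h]; norm_num)
  have hidx : Nat.card (M ⧸ S) = 3 := by
    have := S.card_mul_index
    rw [hS, h] at this
    show S.index = 3
    omega
  let φ := MulAction.toPermHom M (M ⧸ S)
  have hker : φ.ker ≤ S := by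
    intro g hg
    have := congrArg (fun σ => σ ((1 : M) : M ⧸ S)) hg
    simp only [Equiv.Perm.one_apply] at this
    change g • ((1 : M) : M ⧸ S) = _ at this
    rw [MulAction.Quotient.smul_mk, smul_eq_mul, mul_one, QuotientGroup.eq, mul_one] at this
    exact inv_mem_iff.mp this
  have h1 : Group.IsSolvable φ.ker := by
    have : Group.IsNilpotent φ.ker :=
      ((IsPGroup.of_card (p := 2) (n := 3) hS).to_le hker).isNilpotent
    infer_instance
  have h2 : Group.IsSolvable φ.range :=
    have := solvable_perm_card_three hidx; inferInstance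
  exact Group.isSolvable_of_ker_le_range φ.ker.subtype φ.rangeRestrict (by simp)

theorem sl_of_quaternion_sylow (G : Type uG) [Group G] [Finite G] (h120 : Nat.card G = 120)
    (hns : ¬ Group.IsSolvable G)
    (hQ : ∀ P : Sylow 2 G, Nonempty ((P : Subgroup G) ≃* QuaternionGroup 2)) :
    Nonempty (G ≃* Matrix.SpecialLinearGroup (Fin 2) (ZMod 5)) := by
  classical
  have : Fact (Nat.Prime 2) := ⟨Nat.prime_two⟩
  have : Fact (Nat.Prime 5) := ⟨by norm_num⟩
  have hext : ∀ (N : Subgroup G) (_ : N.Normal), Group.IsSolvable N →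
      Group.IsSolvable (G ⧸ N) → False := fun N _ h1 h2 =>
    hns (Group.isSolvable_of_ker_le_range N.subtype (QuotientGroup.mk' N) (by simp))
  -- one involution in each Sylow 2-subgroup
  have huniq : ∀ (P : Sylow 2 G) (s t : G), s ∈ P → t ∈ P → s ^ 2 = 1 → t ^ 2 = 1 →
      s ≠ 1 → t ≠ 1 → s = t := by
    intro P s t hs ht hs2 ht2 hs1 ht1
    obtain ⟨e⟩ := hQ P
    have key : ∀ u : QuaternionGroup 2, u ^ 2 = 1 → u ≠ 1 → u = QuaternionGroup.a 2 := by
      intro u
      rcases u with i | i <;> revert i <;> decide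
    have conv : ∀ u : G, ∀ hu : u ∈ P, u ^ 2 = 1 → u ≠ 1 →
        e ⟨u, hu⟩ = QuaternionGroup.a 2 := fun u hu h2 h1 =>
      key _ (by rw [← map_pow, show (⟨u, hu⟩ : (P : Subgroup G)) ^ 2 = 1 from Subtype.ext h2,
        map_one]) (fun hh => h1 (congrArg Subtype.val ((map_eq_one_iff e e.injective).mp hh)))
    exact congrArg Subtype.val (e.injective ((conv s hs hs2 hs1).trans (conv t ht ht2 ht1).symm))
  have hcard2 : ∀ P : Sylow 2 G, Nat.card (P : Subgroup G) = 8 := fun P => by
    rw [Nat.card_congr (hQ P).some.toEquiv, Cfsg.Agent.TwoGroups.nat_card_quaternionGroup]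
  have hcardp : ∀ (p : ℕ) [Fact p.Prime] (P : Sylow p G), p = 3 ∨ p = 5 ∨ p = 2 ∨
      Nat.card (P : Subgroup G) = 1 := by
    intro p hp P
    by_contra hcon
    push Not at hcon
    obtain ⟨h3, h5, h2, h1⟩ := hcon
    obtain ⟨k, hk⟩ := IsPGroup.iff_card.mp P.2
    rcases Nat.eq_zero_or_pos k with rfl | hk0
    · exact h1 hk
    have hd : p ∣ 2 ^ 3 * (3 * 5) := by
      norm_num
      rw [← h120]
      exact dvd_trans (hk ▸ dvd_pow_self p hk0.ne') (Subgroup.card_subgroup_dvd_card _)
    rcases hp.out.dvd_mul.mp hd with h | h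
    · exact h2 ((Nat.prime_dvd_prime_iff_eq hp.out Nat.prime_two).mp (hp.out.dvd_of_dvd_pow h))
    rcases hp.out.dvd_mul.mp h with h | h
    · exact h3 ((Nat.prime_dvd_prime_iff_eq hp.out Nat.prime_three).mp h)
    · exact h5 ((Nat.prime_dvd_prime_iff_eq hp.out (by norm_num)).mp h)
  -- subgroups of order prime to eight are solvable
  have hsub : ∀ H : Subgroup G, ¬ 8 ∣ Nat.card H → Group.IsSolvable H := by
    intro H h8
    have : IsZGroup H := by
      refine ⟨fun p hp Q => ?_⟩
      have : Fact p.Prime := ⟨hp⟩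
      obtain ⟨P, hP⟩ := (Q.2.map H.subtype).exists_le_sylow
      obtain ⟨k, hk⟩ := IsPGroup.iff_card.mp Q.2
      have hinj : Nat.card ((Q : Subgroup H).map H.subtype) = p ^ k := by
        rw [Subgroup.card_map_of_injective H.subtype_injective, hk]
      have hdv := Subgroup.card_dvd_of_le hP
      rw [hinj] at hdv
      rcases hcardp p P with rfl | rfl | rfl | h1
      · obtain ⟨j, hj⟩ := IsPGroup.iff_card.mp P.2
        have hd3 : 3 ^ j ∣ 120 := by rw [← hj, ← h120]; exact Subgroup.card_subgroup_dvd_card _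
        have : j ≤ 1 := by
          by_contra hcon
          exact absurd (dvd_trans (pow_dvd_pow 3 (by omega : 2 ≤ j)) hd3) (by norm_num)
        rw [hj] at hdv
        have hk1 : k ≤ 1 := ((Nat.pow_dvd_pow_iff_le_right (by norm_num)).mp hdv).trans this
        interval_cases k
        · have : Subsingleton (Q : Subgroup H) := (Nat.card_eq_one_iff_unique.mp hk).1
          infer_instance
        · exact isCyclic_of_prime_card (hk.trans (pow_one _))
      · obtain ⟨j, hj⟩ := IsPGroup.iff_card.mp P.2
        have hd3 : 5 ^ j ∣ 120 := by rw [← hj, ← h120]; exact Subgroup.card_subgroup_dvd_card _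
        have : j ≤ 1 := by
          by_contra hcon
          exact absurd (dvd_trans (pow_dvd_pow 5 (by omega : 2 ≤ j)) hd3) (by norm_num)
        rw [hj] at hdv
        have hk1 : k ≤ 1 := ((Nat.pow_dvd_pow_iff_le_right (by norm_num)).mp hdv).trans this
        interval_cases k
        · have : Subsingleton (Q : Subgroup H) := (Nat.card_eq_one_iff_unique.mp hk).1
          infer_instance
        · exact isCyclic_of_prime_card (hk.trans (pow_one _))
      · have hk2 : k ≤ 2 := by
          by_contra hcon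
          exact h8 (dvd_trans (by rw [hk]; exact pow_dvd_pow 2 (by omega : 3 ≤ k))
            (Subgroup.card_subgroup_dvd_card _))
        interval_cases k
        · have : Subsingleton (Q : Subgroup H) := (Nat.card_eq_one_iff_unique.mp hk).1
          infer_instance
        · exact isCyclic_of_prime_card (hk.trans (pow_one _))
        · by_contra hnc
          -- an exponent two subgroup of order four has two involutions
          have hexp : ∀ q : (Q : Subgroup H), q ^ 2 = 1 := by
            intro q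
            have hd : orderOf q ∣ 2 ^ 2 := hk ▸ orderOf_dvd_natCard q
            obtain ⟨i, hi, hio⟩ := (Nat.dvd_prime_pow Nat.prime_two).mp hd
            refine orderOf_dvd_iff_pow_eq_one.mp (hio ▸ ?_)
            rcases (by omega : i ≤ 1 ∨ i = 2) with hi' | rfl
            · exact (pow_dvd_pow 2 hi').trans (by norm_num)
            · exact absurd (isCyclic_of_orderOf_eq_card q (by rw [hio, hk])) hnc
          have : Nontrivial (Q : Subgroup H) := Finite.one_lt_card_iff_nontrivial.mp (by rw [hk]; norm_num)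
          obtain ⟨s, hs⟩ := exists_ne (1 : (Q : Subgroup H))
          obtain ⟨t, ht1, hts⟩ : ∃ t : (Q : Subgroup H), t ≠ 1 ∧ t ≠ s := by
            by_contra hcon
            push Not at hcon
            have : Fintype (Q : Subgroup H) := Fintype.ofFinite _
            have hc := (Finset.card_le_card (fun t _ => by
              simpa [or_iff_not_imp_left] using hcon t :
              (Finset.univ : Finset (Q : Subgroup H)) ⊆ {1, s})).trans Finset.card_le_two
            rw [Finset.card_univ, ← Nat.card_eq_fintype_card, hk] at hc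
            norm_num at hc
          refine hts (Subtype.ext (Subtype.ext ?_))
          refine (huniq P ((t : H) : G) ((s : H) : G) (hP ⟨_, t.2, rfl⟩) (hP ⟨_, s.2, rfl⟩)
            (congrArg (fun u : (Q : Subgroup H) => ((u : H) : G)) (hexp t))
            (congrArg (fun u : (Q : Subgroup H) => ((u : H) : G)) (hexp s)) ?_ ?_)
          · exact fun hh => ht1 (Subtype.ext (Subtype.ext hh))
          · exact fun hh => hs (Subtype.ext (Subtype.ext hh))
      · rw [h1, Nat.dvd_one] at hdv
        have : Subsingleton (Q : Subgroup H) := (Nat.card_eq_one_iff_unique.mp (hk.trans hdv)).1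
        infer_instance
    infer_instance
  have h2free : ∀ H : Subgroup G, H.index ≠ 2 := by
    intro H hH
    have hn : H.Normal := Subgroup.normal_of_index_eq_two hH
    refine hext H hn (hsub H ?_) ?_
    · have := H.card_mul_index
      rw [hH, h120] at this
      omega
    · have : IsCyclic (G ⧸ H) := isCyclic_of_prime_card (p := 2) hH
      infer_instance
  -- the six Sylow 5-subgroups
  have h5card : ∀ P : Sylow 5 G, Nat.card (P : Subgroup G) = 5 := fun P => by
    rw [P.card_eq_multiplicity, h120, show (120 : ℕ) = 5 * 24 by norm_num,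
      Nat.factorization_mul (by norm_num) (by norm_num), Finsupp.add_apply,
      Nat.Prime.factorization_self (by norm_num), Nat.factorization_eq_zero_of_not_dvd (by norm_num)]
    norm_num
  obtain ⟨P₀⟩ := (inferInstance : Nonempty (Sylow 5 G))
  have hidx5 : (P₀ : Subgroup G).index = 24 := by
    have := (P₀ : Subgroup G).card_mul_index
    rw [h5card, h120] at this
    omega
  have h6 : Nat.card (Sylow 5 G) = 6 := by
    have hd := P₀.card_dvd_index
    rw [hidx5] at hd
    have hm := card_sylow_modEq_one 5 G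
    unfold Nat.ModEq at hm
    have hle := Nat.le_of_dvd (by norm_num) hd
    rcases Nat.lt_or_ge 1 (Nat.card (Sylow 5 G)) with hgt | hone
    · interval_cases h : Nat.card (Sylow 5 G) <;> simp_all
    exfalso
    have hone' : Nat.card (Sylow 5 G) = 1 := le_antisymm hone Nat.card_pos
    have : Subsingleton (Sylow 5 G) := (Nat.card_eq_one_iff_unique.mp hone').1
    have hn : (P₀ : Subgroup G).Normal := Sylow.normal_of_subsingleton P₀
    refine hext _ hn (hsub _ (by rw [h5card]; norm_num)) (solvable_card_24 ?_)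
    exact hidx5
  let φ := MulAction.toPermHom G (Sylow 5 G)
  have hK20 : Nat.card φ.ker ∣ 20 := by
    have hle : φ.ker ≤ Subgroup.normalizer ((P₀ : Subgroup G) : Set G) := by
      intro g hg
      have h1 := congrArg (fun σ => σ P₀) hg
      simp only [Equiv.Perm.one_apply] at h1
      change g • P₀ = P₀ at h1
      exact Sylow.smul_eq_iff_mem_normalizer.mp h1
    have h20 : Nat.card (Subgroup.normalizer ((P₀ : Subgroup G) : Set G)) = 20 := by
      have h1 := (Subgroup.normalizer ((P₀ : Subgroup G) : Set G)).card_mul_index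
      have h2 : (Subgroup.normalizer ((P₀ : Subgroup G) : Set G)).index = 6 :=
        P₀.card_eq_index_normalizer.symm.trans h6
      rw [h2, h120] at h1
      omega
    exact h20 ▸ Subgroup.card_dvd_of_le hle
  have hK5 : ¬ 5 ∣ Nat.card φ.ker := by
    intro h5
    obtain ⟨g, hg⟩ := exists_prime_orderOf_dvd_card' 5 h5
    obtain ⟨P, hP⟩ := (IsPGroup.of_card (p := 5) (n := 1)
      (by rw [Nat.card_zpowers, Subgroup.orderOf_coe, hg, pow_one] :
        Nat.card (Subgroup.zpowers (g : G)) = 5 ^ 1)).exists_le_sylow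
    have hPe : Subgroup.zpowers (g : G) = (P : Subgroup G) :=
      Subgroup.eq_of_le_of_card_ge hP (by rw [h5card, Nat.card_zpowers, Subgroup.orderOf_coe, hg])
    have hPK : (P : Subgroup G) ≤ φ.ker := hPe ▸ Subgroup.zpowers_le.mpr g.2
    have hall : ∀ R : Sylow 5 G, (R : Subgroup G) ≤ φ.ker := by
      intro R x hx
      obtain ⟨c, rfl⟩ := MulAction.exists_smul_eq G P R
      rw [Sylow.coe_subgroup_smul, Subgroup.mem_pointwise_smul_iff_inv_smul_mem] at hx
      have hx' : c⁻¹ * x * c ∈ φ.ker := hPK (by simpa [mul_assoc] using hx)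
      have := (inferInstance : φ.ker.Normal).conj_mem _ hx' c
      simpa [mul_assoc] using this
    have hinj : Nat.card (Sylow 5 G) ≤ Nat.card (Sylow 5 φ.ker) :=
      Nat.card_le_card_of_injective (fun R => R.subtype (hall R))
        fun R R' h => Sylow.subtype_injective h
    rw [h6] at hinj
    have hmod := card_sylow_modEq_one 5 φ.ker
    unfold Nat.ModEq at hmod
    have hd : Nat.card (Sylow 5 φ.ker) ∣ 20 :=
      (Sylow.card_dvd_index (default : Sylow 5 φ.ker)).trans
        ((Subgroup.index_dvd_card _).trans hK20)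
    have := Nat.le_of_dvd (by norm_num) hd
    interval_cases h : Nat.card (Sylow 5 φ.ker) <;> simp_all
  have hK4 : Nat.card φ.ker ∣ 4 := by
    have hcop : (Nat.card φ.ker).Coprime 5 :=
      Nat.coprime_comm.mp ((Nat.Prime.coprime_iff_not_dvd (by norm_num)).mpr hK5)
    exact hcop.dvd_of_dvd_mul_right (show Nat.card φ.ker ∣ 4 * 5 from hK20)
  have hKsol : Group.IsSolvable φ.ker :=
    hsub _ fun h8 => absurd (h8.trans hK4) (by norm_num)
  have hcardX : Nat.card (Sylow 5 G) = 6 := h6
  have : Fintype (Sylow 5 G) := Fintype.ofFinite _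
  have heven : φ.range ≤ alternatingGroup (Sylow 5 G) := by
    rintro _ ⟨g, rfl⟩
    rw [Equiv.Perm.mem_alternatingGroup]
    by_contra hne
    refine h2free (Equiv.Perm.sign.comp φ).ker ?_
    rw [Subgroup.index_ker]
    have hle : Nat.card (Equiv.Perm.sign.comp φ).range ≤ 2 :=
      (Subgroup.card_le_card_group _).trans (by simp [Nat.card_eq_fintype_card])
    have hlt : 1 < Nat.card (Equiv.Perm.sign.comp φ).range := by
      rw [Subgroup.one_lt_card_iff_ne_bot, Ne, MonoidHom.range_eq_bot_iff]
      intro h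
      exact hne (DFunLike.congr_fun h g)
    omega
  set A := alternatingGroup (Sylow 5 G) with hAdef
  set R := φ.range.subgroupOf A with hRdef
  have hRcard : Nat.card R = Nat.card φ.range :=
    Nat.card_congr (Subgroup.subgroupOfEquivOfLe heven).toEquiv
  have hsix : Nat.card (alternatingGroup (Sylow 5 G)) = 360 := by
    have : Nontrivial (Sylow 5 G) := Finite.one_lt_card_iff_nontrivial.mp (by omega)
    rw [nat_card_alternatingGroup, hcardX]
    rfl
  have hsimple : IsSimpleGroup (alternatingGroup (Sylow 5 G)) :=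
    alternatingGroup.isSimpleGroup (by omega)
  have hmul : Nat.card φ.ker * Nat.card φ.range = 120 := by
    rw [← h120, ← Subgroup.index_ker]; exact φ.ker.card_mul_index
  have hKcard : Nat.card φ.ker = 2 := by
    have hle := Nat.le_of_dvd (by norm_num) hK4
    have hpos : 0 < Nat.card φ.ker := Nat.card_pos
    have h360 := R.card_mul_index
    rw [hsix, hRcard] at h360
    interval_cases hc : Nat.card φ.ker
    · -- index three in a simple group of order 360
      exfalso
      rw [one_mul] at hmul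
      rw [hmul] at h360
      let ψ := MulAction.toPermHom (alternatingGroup (Sylow 5 G)) (alternatingGroup (Sylow 5 G) ⧸ R)
      have hidxR : R.index = 3 := by omega
      rcases IsSimpleGroup.eq_bot_or_eq_top_of_normal ψ.ker inferInstance with hk | hk
      · have := Nat.card_le_card_of_injective ψ ((MonoidHom.ker_eq_bot_iff ψ).mp hk)
        rw [hsix, Nat.card_perm, ← Subgroup.index_eq_card, hidxR] at this
        norm_num [Nat.factorial] at this
      · have hR1 : R = ⊤ := by
          rw [eq_top_iff]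
          intro g _
          have h1 := congrArg (fun σ => σ ((1 : alternatingGroup (Sylow 5 G)) :
            alternatingGroup (Sylow 5 G) ⧸ R)) (MonoidHom.mem_ker.mp (hk ▸ Subgroup.mem_top g))
          simp only [Equiv.Perm.one_apply] at h1
          change g • ((1 : A) : A ⧸ R) = ((1 : A) : A ⧸ R) at h1
          rw [MulAction.Quotient.smul_mk, smul_eq_mul, mul_one, QuotientGroup.eq, mul_one] at h1
          exact inv_mem_iff.mp h1
        rw [hR1, Subgroup.index_top] at hidxR
        omega
    · rfl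
    · norm_num at hK4
    · exfalso
      have h30 : Nat.card φ.range = 30 := by omega
      refine hext φ.ker inferInstance hKsol ?_
      have hZ : IsZGroup (G ⧸ φ.ker) := by
        apply IsZGroup.of_squarefree
        rw [← Subgroup.index_eq_card, Subgroup.index_ker, h30, show (30 : ℕ) = 2 * (3 * 5) by norm_num,
          Nat.squarefree_mul (by norm_num), Nat.squarefree_mul (by norm_num)]
        exact ⟨Nat.prime_two.squarefree, Nat.prime_three.squarefree, (by norm_num : Nat.Prime 5).squarefree⟩
      infer_instance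
  rw [hKcard] at hmul
  have hr60 : Nat.card φ.range = 60 := by omega
  have hidxR : R.index = 6 := by
    have := R.card_mul_index
    rw [hsix, hRcard, hr60] at this
    omega
  -- transfer the standard generators of `A₅`
  set X := ↥A ⧸ R with hXdef
  have hXc : Nat.card X = 6 := hidxR
  have : Fintype X := Fintype.ofFinite X
  let ψ := MulAction.toPermHom A X
  have hψker : ψ.ker = ⊥ := by
    refine (IsSimpleGroup.eq_bot_or_eq_top_of_normal ψ.ker inferInstance).resolve_right fun hk => ?_
    have hR1 : R = ⊤ := by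
      rw [eq_top_iff]
      intro g _
      have h1 := congrArg (fun σ => σ ((1 : A) : X)) (MonoidHom.mem_ker.mp (hk ▸ Subgroup.mem_top g))
      simp only [Equiv.Perm.one_apply] at h1
      change g • ((1 : A) : A ⧸ R) = ((1 : A) : A ⧸ R) at h1
      rw [MulAction.Quotient.smul_mk, smul_eq_mul, mul_one, QuotientGroup.eq, mul_one] at h1
      exact inv_mem_iff.mp h1
    rw [hR1, Subgroup.index_top] at hidxR
    omega
  have hψinj : Function.Injective ψ := (MonoidHom.ker_eq_bot_iff ψ).mp hψker
  have hψrange : ψ.range = alternatingGroup X := by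
    refine Equiv.Perm.eq_alternatingGroup_of_index_eq_two ?_
    have h1 := ψ.range.card_mul_index
    rw [← Nat.card_congr (MonoidHom.ofInjective hψinj).toEquiv, hsix, Nat.card_perm, hXc] at h1
    norm_num [Nat.factorial] at h1
    omega
  let e₀ : Fin 6 ≃ X := (Finite.equivFinOfCardEq hXc).symm
  let e : Fin 6 ≃ X := e₀.trans (Equiv.swap (e₀ 5) ((1 : A) : X))
  have he5 : e 5 = ((1 : A) : X) := by simp [e]
  let u₀ : Equiv.Perm (Fin 6) := Equiv.swap 0 3 * Equiv.swap 3 1
  let v₀ : Equiv.Perm (Fin 6) := Equiv.swap 0 1 * Equiv.swap 1 2 * Equiv.swap 2 3 * Equiv.swap 3 4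
  have hrel : u₀ ^ 3 = 1 ∧ v₀ ^ 5 = 1 ∧ (u₀ * v₀) ^ 2 = 1 ∧ u₀ ≠ 1 ∧ v₀ ≠ 1 ∧ u₀ * v₀ ≠ 1 ∧
      Equiv.Perm.sign u₀ = 1 ∧ Equiv.Perm.sign v₀ = 1 ∧ u₀ 5 = 5 ∧ v₀ 5 = 5 := by
    simp only [u₀, v₀]; decide
  obtain ⟨r1, r2, r3, r4, r5, r6, r7, r8, r9, r10⟩ := hrel
  have hlift : ∀ w : Equiv.Perm (Fin 6), Equiv.Perm.sign w = 1 → w 5 = 5 →
      ∃ g : G, ∃ x : A, (x : Equiv.Perm (Sylow 5 G)) = φ g ∧ ψ x = e.permCongrHom w := by
    intro w hw h5
    have hm : e.permCongrHom w ∈ ψ.range := by
      rw [hψrange, Equiv.Perm.mem_alternatingGroup]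
      show Equiv.Perm.sign (e.permCongr w) = 1
      rw [Equiv.Perm.sign_permCongr, hw]
    obtain ⟨x, hx⟩ := hm
    have hxR : x ∈ R := by
      have h1 := congrArg (fun σ => σ ((1 : A) : X)) hx
      change x • ((1 : A) : X) = e.permCongr w ((1 : A) : X) at h1
      rw [Equiv.permCongr_apply, ← he5, Equiv.symm_apply_apply, h5, he5,
        MulAction.Quotient.smul_mk, smul_eq_mul, mul_one, QuotientGroup.eq, mul_one] at h1
      exact inv_mem_iff.mp h1
    obtain ⟨g, hg⟩ := (Subgroup.mem_subgroupOf.mp hxR : (x : Equiv.Perm (Sylow 5 G)) ∈ φ.range)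
    exact ⟨g, x, hg.symm, hx⟩
  obtain ⟨a', x, hxa, hxu⟩ := hlift u₀ r7 r9
  obtain ⟨b', y, hyb, hyv⟩ := hlift v₀ r8 r10
  -- relations hold in the image
  have hmap : ∀ {w : Equiv.Perm (Fin 6)} {t : A}, ψ t = e.permCongrHom w → (w = 1 ↔ t = 1) := by
    intro w t h
    constructor
    · rintro rfl; exact hψinj (by rw [h, map_one, map_one])
    · rintro rfl; exact e.permCongrHom.injective (by rw [← h, map_one, map_one])
  have hx3 : x ^ 3 = 1 := (hmap (w := u₀ ^ 3) (by rw [map_pow, hxu, ← map_pow])).mp r1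
  have hy5 : y ^ 5 = 1 := (hmap (w := v₀ ^ 5) (by rw [map_pow, hyv, ← map_pow])).mp r2
  have hxy2 : (x * y) ^ 2 = 1 :=
    (hmap (w := (u₀ * v₀) ^ 2) (by rw [map_pow, map_mul, hxu, hyv, ← map_mul, ← map_pow])).mp r3
  have hxy1 : x * y ≠ 1 := fun h =>
    r6 ((hmap (w := u₀ * v₀) (by rw [map_mul, hxu, hyv, ← map_mul])).mpr h)
  have hker2 : ∀ g ∈ φ.ker, g ^ 2 = 1 := fun g hg => by
    have h := congrArg Subtype.val (pow_card_eq_one' (x := (⟨g, hg⟩ : φ.ker)))
    rwa [hKcard] at h
  have haker : a' ^ 3 ∈ φ.ker := by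
    rw [MonoidHom.mem_ker, map_pow, ← hxa, ← SubmonoidClass.coe_pow, hx3, OneMemClass.coe_one]
  have hbker : b' ^ 5 ∈ φ.ker := by
    rw [MonoidHom.mem_ker, map_pow, ← hyb, ← SubmonoidClass.coe_pow, hy5, OneMemClass.coe_one]
  set a := a' ^ 4 with hadef
  set b := b' ^ 6 with hbdef
  have ha3 : a ^ 3 = 1 := by
    rw [hadef, ← pow_mul, show 4 * 3 = 3 * 2 * 2 by norm_num, pow_mul, pow_mul, hker2 _ haker,
      one_pow]
  have hb5 : b ^ 5 = 1 := by
    rw [hbdef, ← pow_mul, show 6 * 5 = 5 * 2 * 3 by norm_num, pow_mul, pow_mul, hker2 _ hbker,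
      one_pow]
  have hφa : φ a = x := by
    rw [hadef, map_pow, ← hxa, ← SubmonoidClass.coe_pow, pow_succ, hx3, one_mul]
  have hφb : φ b = y := by
    rw [hbdef, map_pow, ← hyb, ← SubmonoidClass.coe_pow, pow_succ, hy5, one_mul]
  have hz : (a * b) ^ 2 ∈ φ.ker := by
    rw [MonoidHom.mem_ker, map_pow, map_mul, hφa, hφb, ← Subgroup.coe_mul,
      ← SubmonoidClass.coe_pow, hxy2, OneMemClass.coe_one]
  have habK : a * b ∉ φ.ker := by
    intro h
    rw [MonoidHom.mem_ker, map_mul, hφa, hφb, ← Subgroup.coe_mul, OneMemClass.coe_eq_one] at h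
    exact hxy1 h
  set z := (a * b) ^ 2 with hzdef
  obtain ⟨k, hk⟩ : ∃ k : φ.ker, k ≠ 1 :=
    have := Finite.one_lt_card_iff_nontrivial.mp (by rw [hKcard]; norm_num : 1 < Nat.card φ.ker)
    exists_ne 1
  have hKmem : ∀ g ∈ φ.ker, g = 1 ∨ g = (k : G) := by
    intro g hg
    by_contra hcon
    push Not at hcon
    have : Fintype φ.ker := Fintype.ofFinite _
    have h3 : ({1, k, ⟨g, hg⟩} : Finset φ.ker).card = 3 := Finset.card_eq_three.mpr
      ⟨1, k, ⟨g, hg⟩, hk.symm, fun h => hcon.1 (congrArg Subtype.val h).symm,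
        fun h => hcon.2 (congrArg Subtype.val h).symm, rfl⟩
    have := Finset.card_le_univ ({1, k, ⟨g, hg⟩} : Finset φ.ker)
    rw [h3, ← Nat.card_eq_fintype_card, hKcard] at this
    omega
  have hk1 : (k : G) ≠ 1 := fun h => hk (Subtype.ext h)
  have hkc : ∀ g : G, g * k = k * g := by
    intro g
    rcases hKmem _ ((inferInstance : φ.ker.Normal).conj_mem _ k.2 g) with h | h
    · exact absurd (conj_eq_one_iff.mp h) hk1
    · exact mul_inv_eq_iff_eq_mul.mp h
  -- the kernel involution is the only involution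
  have honly : ∀ t : G, t ^ 2 = 1 → t ≠ 1 → t = k := by
    intro t ht ht1
    obtain ⟨P, hP⟩ := (IsPGroup.of_card (p := 2) (n := 1) (by
      rw [Nat.card_zpowers, orderOf_eq_prime ht ht1, pow_one] :
      Nat.card (Subgroup.zpowers t) = 2 ^ 1)).exists_le_sylow
    refine huniq P t k (hP (Subgroup.mem_zpowers t)) ?_ ht (hker2 _ k.2) ht1 hk1
    have hkn : φ.ker ≤ (P : Subgroup G) := by
      obtain ⟨P', hP'⟩ := (IsPGroup.of_card (p := 2) (n := 1)
        (by rw [hKcard, pow_one] : Nat.card φ.ker = 2 ^ 1)).exists_le_sylow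
      obtain ⟨c, rfl⟩ := MulAction.exists_smul_eq G P' P
      intro g hg
      rw [Sylow.coe_subgroup_smul, Subgroup.mem_pointwise_smul_iff_inv_smul_mem]
      have hc := (inferInstance : φ.ker.Normal).conj_mem g hg c⁻¹
      rw [inv_inv] at hc
      have := hP' hc
      simpa [mul_assoc] using this
    exact hkn k.2
  have hzk : z = k := (hKmem z hz).resolve_left fun h1 => by
    by_cases hab1 : a * b = 1
    · exact habK (hab1 ▸ one_mem _)
    · exact habK ((honly _ h1 hab1) ▸ k.2)
  have hgen : Subgroup.closure {a, b} = ⊤ := by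
    set C := Subgroup.closure {a, b}
    have haC : a ∈ C := Subgroup.subset_closure (Set.mem_insert _ _)
    have hbC : b ∈ C := Subgroup.subset_closure (Set.mem_insert_of_mem _ rfl)
    have : Fact (Nat.Prime 3) := ⟨Nat.prime_three⟩
    have h3 : 3 ∣ Nat.card C := by
      have ha1 : a ≠ 1 := fun h => r4 ((hmap hxu).mpr (by
        rw [h, map_one] at hφa; exact Subtype.ext hφa.symm))
      rw [← orderOf_eq_prime ha3 ha1]
      exact Subgroup.orderOf_dvd_natCard _ haC
    have h5 : 5 ∣ Nat.card C := by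
      have hb1 : b ≠ 1 := fun h => r5 ((hmap hyv).mpr (by
        rw [h, map_one] at hφb; exact Subtype.ext hφb.symm))
      rw [← orderOf_eq_prime hb5 hb1]
      exact Subgroup.orderOf_dvd_natCard _ hbC
    have h4 : 4 ∣ Nat.card C := by
      have ho : orderOf (a * b) = 4 := orderOf_eq_prime_pow (p := 2) (n := 1)
        (by rw [pow_one, ← hzdef, hzk]; exact hk1)
        (by rw [show 2 ^ (1 + 1) = 2 * 2 by norm_num, pow_mul, hker2 _ hz])
      exact ho ▸ Subgroup.orderOf_dvd_natCard _ (C.mul_mem haC hbC)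
    have h60 : 60 ∣ Nat.card C :=
      Nat.Coprime.mul_dvd_of_dvd_of_dvd (by norm_num) h4
        (Nat.Coprime.mul_dvd_of_dvd_of_dvd (by norm_num) h3 h5)
    have hprod := C.card_mul_index
    obtain ⟨c, hc⟩ := h60
    rw [hc, h120, mul_assoc] at hprod
    have h2 : c * C.index = 2 := by omega
    have hle : C.index ≤ 2 := Nat.le_of_dvd two_pos (Dvd.intro_left c h2)
    have hne := h2free C
    have h0 := Subgroup.index_ne_zero_of_finite (H := C)
    exact Subgroup.index_eq_one.mp (by omega)
  obtain ⟨e1⟩ := Cfsg.Agent.Recog.Icosahedral.presented_sl_equiv hgen ha3 hb5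
    (hker2 _ hz) (by rw [← hzdef, hzk, hkc]) (by rw [← hzdef, hzk, hkc]) h120.ge
  obtain ⟨e2⟩ := Cfsg.Agent.Recog.Icosahedral.presented_sl_iso
  exact ⟨e1.symm.trans e2⟩

/-- Every non-solvable group of order 120 whose Sylow 2-subgroups are quaternion of order 8 is isomorphic to SL(2,5), and SL(2,5) has the presentation ⟨x, y, z | x³ = y⁵ = z² = 1, z⁻¹xz = x, z⁻¹yz = y, (xy)² = z⟩. -/
theorem result :
    (∀ (G : Type*) [Group G] [Finite G], Nat.card G = 120 → ¬ Group.IsSolvable G →
      (∀ P : Sylow 2 G, Nonempty ((P : Subgroup G) ≃* QuaternionGroup 2)) →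
      Nonempty (G ≃* Matrix.SpecialLinearGroup (Fin 2) (ZMod 5))) ∧
    Nonempty (PresentedGroup ({FreeGroup.of (0 : Fin 3) ^ 3, FreeGroup.of (1 : Fin 3) ^ 5, FreeGroup.of (2 : Fin 3) ^ 2,
        (FreeGroup.of (2 : Fin 3))⁻¹ * FreeGroup.of 0 * FreeGroup.of 2 * (FreeGroup.of (0 : Fin 3))⁻¹,
        (FreeGroup.of (2 : Fin 3))⁻¹ * FreeGroup.of 1 * FreeGroup.of 2 * (FreeGroup.of (1 : Fin 3))⁻¹,
        (FreeGroup.of (0 : Fin 3) * FreeGroup.of 1) ^ 2 * (FreeGroup.of (2 : Fin 3))⁻¹} : Set (FreeGroup (Fin 3)))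
      ≃* Matrix.SpecialLinearGroup (Fin 2) (ZMod 5)) := by
  exact ⟨fun G _ _ => sl_of_quaternion_sylow G, Cfsg.Agent.Recog.Icosahedral.presented_sl_iso⟩

end Cfsg.Agent.S3378
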