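import Cfsg.Statements.S3276
import Cfsg.Agent.Invol.Basic

set_option autoImplicit false
open Cfsg

namespace Cfsg.Agent.S3276

/-- Let x and y be commuting, non-conjugate involutions of a finite group G, and suppose that for every involution u commuting with x, each conjugate of y that commutes with u also commutes with y. Then the normal closure of y is a proper, normal, elementary abelian 2-subgroup of G; and if y is the only involution of that normal closure commuting with x, it has order at most 4. -/
theorem result {G : Type*} [Group G] [Finite G] (x y : G) (hx : orderOf x = 2) (hy : orderOf y = 2)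
    (hxy : Commute x y) (hnc : ¬ IsConj x y)
    (hstar : ∀ u : G, orderOf u = 2 → Commute u x → ∀ g : G, Commute (g * y * g⁻¹) u → Commute (g * y * g⁻¹) y) :
    Subgroup.normalClosure ({y} : Set G) ≠ ⊤ ∧ Cfsg.IsElementaryAbelian 2 (Subgroup.normalClosure ({y} : Set G)) ∧
      ((∀ u ∈ Subgroup.normalClosure ({y} : Set G), orderOf u = 2 → Commute u x → u = y) →
        Nat.card ↥(Subgroup.normalClosure ({y} : Set G)) ≤ 4) := by
  obtain ⟨A, hA⟩ : ∃ A, A = Subgroup.normalClosure ({y} : Set G) := ⟨_, rfl⟩
  rw [← hA]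
  have hAn : A.Normal := hA ▸ Subgroup.normalClosure_normal
  have hcy : ∀ g : G, Commute (g * y * g⁻¹) y := by
    intro g
    have hg : orderOf (g * y * g⁻¹) = 2 := by rw [Invol.orderOf_conj]; exact hy
    have hn : ¬ IsConj x (g * y * g⁻¹) := fun h => hnc (h.trans (Invol.isConj_conj g y).symm)
    obtain ⟨u, hu, hux, huv⟩ := Invol.exists_common_of_not_isConj hx hg hn
    exact hstar u hu hux g huv.symm
  have hcomm : ∀ g h : G, Commute (g * y * g⁻¹) (h * y * h⁻¹) := by
    intro g h
    have h1 := (hcy (h⁻¹ * g)).map (MulAut.conj h)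
    simpa [mul_assoc] using h1
  have hAcl : A = Subgroup.closure (Group.conjugatesOfSet ({y} : Set G)) := hA
  have hgen : ∀ a ∈ Group.conjugatesOfSet ({y} : Set G), ∃ g : G, g * y * g⁻¹ = a := by
    intro a ha
    obtain ⟨b, hb, hba⟩ := Group.mem_conjugatesOfSet_iff.1 ha
    cases hb
    exact isConj_iff.1 hba
  have hab : ∀ a ∈ A, ∀ b ∈ A, a * b = b * a := by
    intro a ha b hb
    rw [hAcl] at ha hb
    induction ha, hb using Subgroup.closure_induction₂ with
    | mem p q hp hq =>
      obtain ⟨g, rfl⟩ := hgen p hp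
      obtain ⟨h, rfl⟩ := hgen q hq
      exact (hcomm g h).eq
    | one_left p hp => simp
    | one_right p hp => simp
    | mul_left p q r _ _ _ h₁ h₂ => exact (Commute.mul_left h₁ h₂ : Commute _ _)
    | mul_right p q r _ _ _ h₁ h₂ => exact (Commute.mul_right h₁ h₂ : Commute _ _)
    | inv_left p q _ _ h => exact (Commute.inv_left h : Commute _ _)
    | inv_right p q _ _ h => exact (Commute.inv_right h : Commute _ _)
  have hsq : ∀ a ∈ A, a ^ 2 = 1 := by
    intro a ha
    have ha' := ha
    rw [hAcl] at ha'
    induction ha' using Subgroup.closure_induction with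
    | mem p hp =>
      obtain ⟨g, rfl⟩ := hgen p hp
      rw [conj_pow, ← hy, pow_orderOf_eq_one]; simp
    | one => simp
    | mul p q hp hq h₁ h₂ =>
      rw [← hAcl] at hp hq
      rw [Commute.mul_pow (hab p hp q hq), h₁ hp, h₂ hq, one_mul]
    | inv p hp h => rw [← hAcl] at hp; rw [inv_pow, h hp, inv_one]
  have hyA : y ∈ A := hA ▸ Subgroup.subset_normalClosure rfl
  refine ⟨?_, ⟨IsMulCommutative.of_setLike_mul_comm hab, hsq⟩, ?_⟩
  · intro htop
    have hc : ∀ a b : G, a * b = b * a := fun a b => hab a (htop ▸ trivial) b (htop ▸ trivial)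
    have hle : A ≤ Subgroup.zpowers y := by
      rw [hAcl, Subgroup.closure_le]
      intro a ha
      obtain ⟨g, rfl⟩ := hgen a ha
      rw [hc g y, mul_inv_cancel_right]
      exact Subgroup.mem_zpowers y
    have hxA : x ∈ Subgroup.zpowers y := hle (htop ▸ trivial)
    obtain ⟨k, hk⟩ := Subgroup.mem_zpowers_iff.1 hxA
    obtain ⟨i, rfl | rfl⟩ : ∃ i : ℤ, k = 2 * i ∨ k = 2 * i + 1 := ⟨k / 2, by omega⟩
    · rw [zpow_mul, zpow_two, Invol.inv_mul_self hy, one_zpow] at hk
      exact Invol.inv_ne_one hx hk.symm
    · rw [zpow_add, zpow_mul, zpow_two, Invol.inv_mul_self hy, one_zpow, one_mul, zpow_one] at hk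
      exact hnc (hk ▸ IsConj.refl _)
  · intro huniq
    have : IsMulCommutative A := IsMulCommutative.of_setLike_mul_comm hab
    have hxx : x * x = 1 := Invol.inv_mul_self hx
    let f : A →* A :=
      { toFun := fun a => ⟨(a : G) * (x * a * x⁻¹), A.mul_mem a.2 (hAn.conj_mem a a.2 x)⟩
        map_one' := by ext; simp
        map_mul' := fun a b => by
          ext
          show (a : G) * b * (x * (a * b) * x⁻¹) = (a * (x * a * x⁻¹)) * (b * (x * b * x⁻¹))
          have : Commute (b : G) (x * a * x⁻¹) := hab b b.2 _ (hAn.conj_mem a a.2 x)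
          rw [conj_mul.symm, mul_assoc (a : G), ← mul_assoc (b : G), this.eq]
          simp only [mul_assoc] }
    have hfix : ∀ a : A, Commute (a : G) x → (a : G) = 1 ∨ (a : G) = y := by
      intro a ha
      by_cases h1 : (a : G) = 1
      · exact Or.inl h1
      · exact Or.inr (huniq a a.2 (orderOf_eq_prime (hsq a a.2) h1) ha)
    let S : Set A := {1, ⟨y, hyA⟩}
    have hS : Nat.card S ≤ 2 := by
      have := Set.ncard_insert_le (1 : A) {⟨y, hyA⟩}
      rw [Set.ncard_singleton] at this
      simpa [S, Nat.card_coe_set_eq] using this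
    have hker : ∀ a : A, a ∈ f.ker → a ∈ S := by
      intro a ha
      have h1 : (a : G) * (x * a * x⁻¹) = 1 := congrArg Subtype.val ha
      have h2 : x * a * x⁻¹ = (a : G) := by
        have h3 := hsq a a.2
        rw [pow_two] at h3
        exact mul_left_cancel (h1.trans h3.symm)
      have hc : Commute (a : G) x := (Invol.commute_iff_conj.2 h2).symm
      rcases hfix a hc with h | h
      · exact Or.inl (Subtype.ext h)
      · exact Or.inr (Subtype.ext h)
    have hran : ∀ a : A, a ∈ f.range → a ∈ S := by
      rintro _ ⟨a, rfl⟩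
      have hc : Commute ((f a : A) : G) x := by
        refine (Invol.commute_iff_conj.2 ?_).symm
        show x * (a * (x * a * x⁻¹)) * x⁻¹ = a * (x * a * x⁻¹)
        conv_lhs => rw [hab a a.2 _ (hAn.conj_mem a a.2 x)]
        simp only [Invol.inv_eq hx, mul_assoc, Invol.mul_self_cancel hx, hxx, mul_one]
      rcases hfix _ hc with h | h
      · exact Or.inl (Subtype.ext h)
      · exact Or.inr (Subtype.ext h)
    rw [← f.ker.index_mul_card, Subgroup.index_ker]
    exact (Nat.mul_le_mul ((Nat.card_mono (Set.toFinite S) hran).trans hS)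
      ((Nat.card_mono (Set.toFinite S) hker).trans hS))

end Cfsg.Agent.S3276
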