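import Cfsg.Statements.S3278
import Cfsg.Agent.FourCentral.Chars
import Mathlib.GroupTheory.SpecificGroups.Alternating

set_option autoImplicit false
open Cfsg

namespace Cfsg.Agent.S3278

/-- Let G be a finite simple group with an involution x such that a Sylow 2-subgroup of C_G(x) is a Klein four-group which is normal in C_G(x). Then G is isomorphic to the alternating group of degree 5 (that is, to PSL(2, 5)). -/
theorem result {G : Type*} [Group G] [Finite G] [IsSimpleGroup G] (x : G) (hx : orderOf x = 2)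
    (S₀ : Subgroup G) (hle : S₀ ≤ Subgroup.centralizer ({x} : Set G)) (hK : IsKleinFour ↥S₀)
    (hodd : ¬ 2 ∣ S₀.relIndex (Subgroup.centralizer ({x} : Set G))) (hn : (S₀.subgroupOf (Subgroup.centralizer ({x} : Set G))).Normal) :
    Nonempty (G ≃* ↥(alternatingGroup (Fin 5))) := by
  classical
  haveI := Fintype.ofFinite G
  obtain ⟨O, hD, N, hNtop, hN, hNodd⟩ := FourCentral.exists_data hx hle hK hodd hn
  have hne : ¬ ∀ a b : G, a * b = b * a := by
    intro hab
    rcases IsSimpleGroup.eq_bot_or_eq_top_of_normal S₀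
      ⟨fun a ha g => by rw [hab g a, mul_inv_cancel_right]; exact ha⟩ with e | e
    · have := hD.cardE; rw [e, Subgroup.card_bot] at this; omega
    · apply hNtop
      refine Subgroup.eq_top_of_card_eq N ?_
      have h4 := hD.cardE
      rw [e, Subgroup.card_top] at h4
      have h1 := N.card_subgroup_dvd_card
      have h2 := Nat.le_of_dvd Nat.card_pos h1
      rw [hN] at h2
      have := Nat.card_pos (α := O)
      omega
  have hlin : ∀ χ : IrrCharacter G, (χ : G → ℂ) 1 = 1 → χ = Char.trivialIrr G := by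
    intro χ h1
    obtain ⟨f, hf⟩ := Char.exists_monoidHom_of_degree_one (Char.isCharacter_of_irr χ.2) h1
    rcases IsSimpleGroup.eq_bot_or_eq_top_of_normal _ f.normal_ker with e | e
    · refine absurd (fun a b => ?_) hne
      exact (f.ker_eq_bot_iff.1 e) (by rw [map_mul, map_mul, mul_comm])
    · refine Subtype.ext (funext fun g => ?_)
      rw [hf g]
      show ((f g : ℂˣ) : ℂ) = 1
      rw [show f g = 1 from MonoidHom.mem_ker.1 (e ▸ Subgroup.mem_top g), Units.val_one]
  obtain ⟨κ, hκ, hlow, hgap⟩ := hD.kappa_bound hlin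
  have hg : Nat.card G = N.index * (12 * Nat.card O) := by
    rw [← hN, N.index_mul_card]
  obtain ⟨n, hndef⟩ : ∃ n, n = N.index := ⟨_, rfl⟩
  rw [← hndef] at hg hNodd
  have hn1 : 2 ≤ n := by
    have h1 : N.index ≠ 1 := fun e => hNtop (Subgroup.index_eq_one.1 e)
    have h2 : N.index ≠ 0 := Subgroup.index_ne_zero_of_finite
    omega
  have hO : (0 : ℚ) < Nat.card O := by exact_mod_cast Nat.card_pos
  have hnq : (0 : ℚ) < n := by exact_mod_cast (show 0 < n by omega)
  have hk : κ * (n : ℚ) = 8 / 3 := by
    rw [hκ, hg]; push_cast; field_simp; norm_num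
  have hn8 : n ≤ 8 := by
    have : (n : ℚ) ≤ 8 := by nlinarith
    exact_mod_cast this
  have hn7 : n ≠ 7 := by
    rintro rfl
    push_cast at hk
    rcases hgap with e | e
    · rw [e] at hk; norm_num at hk
    · nlinarith
  -- `n ∈ {3, 5}`
  let φ : G →* Equiv.Perm (G ⧸ N) := MulAction.toPermHom G (G ⧸ N)
  have hφ : Function.Injective φ := by
    rw [← MonoidHom.ker_eq_bot_iff]
    refine (IsSimpleGroup.eq_bot_or_eq_top_of_normal _ φ.normal_ker).resolve_right fun e => hNtop ?_
    rw [eq_top_iff]
    intro g _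
    have hg1 : φ g = 1 := MonoidHom.mem_ker.1 (e ▸ Subgroup.mem_top g)
    have h2 : g • ((1 : G) : G ⧸ N) = ((1 : G) : G ⧸ N) := by
      have := congrArg (fun σ : Equiv.Perm (G ⧸ N) => σ ((1 : G) : G ⧸ N)) hg1
      simpa [φ] using this
    rw [MulAction.Quotient.smul_mk, smul_eq_mul, mul_one, QuotientGroup.eq] at h2
    simpa using h2
  haveI := Fintype.ofFinite (G ⧸ N)
  have hcard : Fintype.card (G ⧸ N) = n := by
    rw [hndef, ← Nat.card_eq_fintype_card, Subgroup.index]
  have hle' : Nat.card G ≤ n.factorial := by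
    refine (Nat.card_le_card_of_injective φ hφ).trans (le_of_eq ?_)
    rw [Nat.card_perm, Nat.card_eq_fintype_card, hcard]
  have hn5 : n = 5 := by
    rw [hg] at hle'
    have := Nat.card_pos (α := O)
    interval_cases n <;> simp only [Nat.factorial, Nat.succ_eq_add_one] at hle' <;> omega
  subst hn5
  let e5 : (G ⧸ N) ≃ Fin 5 := Fintype.equivFinOfCardEq hcard
  let φ5 : G →* Equiv.Perm (Fin 5) := (e5.permCongrHom.toMonoidHom).comp φ
  have hφ5 : Function.Injective φ5 := e5.permCongrHom.injective.comp hφ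
  have hsign : ∀ g, φ5 g ∈ alternatingGroup (Fin 5) := by
    intro g
    rcases IsSimpleGroup.eq_bot_or_eq_top_of_normal _
      (MonoidHom.normal_ker (Equiv.Perm.sign.comp φ5)) with e | e
    · refine absurd (fun a b => ?_) hne
      exact ((Equiv.Perm.sign.comp φ5).ker_eq_bot_iff.1 e) (by rw [map_mul, map_mul, mul_comm])
    · rw [Equiv.Perm.mem_alternatingGroup]
      have hg' : g ∈ (Equiv.Perm.sign.comp φ5).ker := by rw [e]; exact Subgroup.mem_top g
      exact MonoidHom.mem_ker.1 hg'
  let ψ : G →* alternatingGroup (Fin 5) := φ5.codRestrict _ hsign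
  have hψ : Function.Injective ψ := fun a b e => hφ5 (congrArg Subtype.val e)
  have hA : Nat.card (alternatingGroup (Fin 5)) = 60 := by
    rw [nat_card_alternatingGroup, Nat.card_eq_fintype_card, Fintype.card_fin]
    rfl
  have hge : Nat.card (alternatingGroup (Fin 5)) ≤ Nat.card G := by
    rw [hA, hg]; have := Nat.card_pos (α := O); omega
  have hbij : Function.Bijective ψ := hψ.bijective_of_nat_card_le hge
  exact ⟨MulEquiv.ofBijective ψ hbij⟩

end Cfsg.Agent.S3278
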