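import Cfsg.Statements.S3277
import Cfsg.Agent.S3276
import Cfsg.Agent.S3278
import Cfsg.Agent.Invol.KleinFour
import Mathlib.GroupTheory.Transfer
import Mathlib.GroupTheory.FixedPointFree
-- import your own Cfsg.Agent.* helpers here

set_option autoImplicit false
open Cfsg

namespace Cfsg.Agent.S3277

open Subgroup

section
variable {G : Type*} [Group G] [Finite G] {E : Subgroup G}

/-- A group of odd order normalised by a four group acting without fixed points is trivial. -/
theorem odd_eq_bot (hE : IsKleinFour E) (hC : ∀ e ∈ E, e ≠ 1 → centralizer ({e} : Set G) ≤ E)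
    (K : Subgroup G) (hK : E ≤ normalizer (K : Set G)) (hodd : ¬ 2 ∣ Nat.card K) : K = ⊥ := by
  have hsq : ∀ e ∈ E, e * e = 1 := fun e he => by
    have h : (⟨e, he⟩ : E) * ⟨e, he⟩ = 1 := hE.mul_self _
    exact (congrArg Subtype.val h :)
  have hdisj : ∀ k ∈ K, k ∈ E → k = 1 := by
    intro k hk hkE
    by_contra h1
    exact hodd ((Invol.orderOf_eq_two (hsq k hkE) h1) ▸ orderOf_dvd_natCard K hk)
  have hfix : ∀ e ∈ E, e ≠ 1 → ∀ k ∈ K, e * k * e⁻¹ = k⁻¹ := by
    intro e he he1 k hk
    let f : K →* K :=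
      { toFun := fun a => ⟨e * a * e⁻¹, (mem_normalizer_iff.1 (hK he) a).1 a.2⟩
        map_one' := Subtype.ext (by simp)
        map_mul' := fun a b => Subtype.ext (by simp [mul_assoc]) }
    have hfp : MonoidHom.FixedPointFree f := by
      intro a ha
      have h1 : e * a * e⁻¹ = a := congrArg Subtype.val ha
      refine Subtype.ext (hdisj a a.2 (hC e he he1 ?_))
      exact mem_centralizer_singleton_iff.2 (mul_inv_eq_iff_eq_mul.1 h1).symm
    have hinv : Function.Involutive f := fun a => Subtype.ext (by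
      show e * (e * a * e⁻¹) * e⁻¹ = a
      have := hsq e he
      calc e * (e * a * e⁻¹) * e⁻¹ = (e * e) * a * (e * e)⁻¹ := by group
        _ = a := by rw [this]; simp)
    have h := congrFun (MonoidHom.FixedPointFree.coe_eq_inv_of_involutive hfp hinv) ⟨k, hk⟩
    exact (congrArg Subtype.val h :)
  rw [eq_bot_iff_forall]
  intro k hk
  obtain ⟨a, ha, ha1⟩ : ∃ a ∈ E, a ≠ 1 := by
    by_contra h
    push Not at h
    have h4 : Nat.card E = 4 := hE.card_four
    rw [Subgroup.eq_bot_iff_forall E |>.2 h, card_bot] at h4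
    omega
  obtain ⟨b, hb, hb1, hba⟩ : ∃ b ∈ E, b ≠ 1 ∧ b ≠ a := by
    by_contra h
    push Not at h
    have hle : (E : Set G) ⊆ {1, a} := fun c hc => by
      by_cases hc1 : c = 1
      · exact Or.inl hc1
      · exact Or.inr (h c hc hc1)
    have h4 : Nat.card E = 4 := hE.card_four
    have h2 := (Set.ncard_le_ncard hle).trans (Set.ncard_insert_le _ _)
    rw [Set.ncard_singleton, ← Nat.card_coe_set_eq] at h2
    change Nat.card E ≤ 1 + 1 at h2
    omega
  have hab1 : a * b ≠ 1 := fun e => hba (by
    rw [eq_inv_of_mul_eq_one_right e, inv_eq_of_mul_eq_one_right (hsq a ha)])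
  have h1 : (a * b) * k * (a * b)⁻¹ = k := by
    calc (a * b) * k * (a * b)⁻¹ = a * (b * k * b⁻¹) * a⁻¹ := by group
      _ = k := by rw [hfix b hb hb1 k hk, hfix a ha ha1 _ (K.inv_mem hk), inv_inv]
  exact hdisj k hk (hC _ (E.mul_mem ha hb) hab1
    (mem_centralizer_singleton_iff.2 (mul_inv_eq_iff_eq_mul.1 h1).symm))

end

/-- Let G be a finite group containing an involution whose centralizer is elementary abelian of order 4. If G has no normal 2-complement and no normal elementary abelian 2-subgroup of order 2 or 4, then G is isomorphic to the alternating group of degree 5 (that is, to PSL(2, 5)). -/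
theorem result {G : Type*} [Group G] [Finite G] (x : G) (hx : orderOf x = 2)
    (hC4 : Nat.card ↥(Subgroup.centralizer ({x} : Set G)) = 4) (hCe : ∀ c ∈ Subgroup.centralizer ({x} : Set G), c ^ 2 = 1)
    (hnc : ¬ Cfsg.HasNormalPComplement 2 G)
    (hne : ∀ E : Subgroup G, E.Normal → Cfsg.IsElementaryAbelian 2 E → Nat.card ↥E ≠ 2 ∧ Nat.card ↥E ≠ 4) :
    Nonempty (G ≃* ↥(alternatingGroup (Fin 5))) := by
  classical
  have : Fact (Nat.Prime 2) := ⟨Nat.prime_two⟩
  obtain ⟨E, hEdef⟩ : ∃ E, E = centralizer ({x} : Set G) := ⟨_, rfl⟩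
  rw [← hEdef] at hC4 hCe
  have hsq : ∀ e ∈ E, e * e = 1 := fun e he => by rw [← pow_two]; exact hCe e he
  have hcomm : ∀ a ∈ E, ∀ b ∈ E, a * b = b * a := fun a ha b hb => by
    have h := hsq _ (E.mul_mem ha hb)
    calc a * b = a * (a * b * (a * b)) * b := by rw [h, mul_one]
      _ = (a * a) * (b * a) * (b * b) := by group
      _ = b * a := by rw [hsq a ha, hsq b hb]; group
  have hxE : x ∈ E := hEdef ▸ mem_centralizer_singleton_iff.2 rfl
  have hEp : IsPGroup 2 E := IsPGroup.of_card (n := 2) (by rw [hC4]; norm_num)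
  have hElem : Cfsg.IsElementaryAbelian 2 E :=
    ⟨⟨⟨fun a b => Subtype.ext (hcomm a a.2 b b.2)⟩⟩, hCe⟩
  have hklein : IsKleinFour E := by
    refine ⟨hC4, ?_⟩
    refine ((Nat.prime_def.1 Nat.prime_two).2 _ (Monoid.exponent_dvd_of_forall_pow_eq_one
      fun a => Subtype.ext (hCe a a.2))).resolve_left fun e => ?_
    rw [Monoid.exp_eq_one_iff] at e
    have h1 := Nat.card_of_subsingleton (1 : E)
    omega
  obtain ⟨T, hT⟩ := hEp.exists_le_sylow
  have hCT : ∀ a ∈ (T : Subgroup G), a * x = x * a → a ∈ E := fun a _ h =>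
    hEdef ▸ mem_centralizer_singleton_iff.2 h
  by_cases hTE : (T : Subgroup G) ≤ E
  · -- `E` is a Sylow subgroup
    have hTE' : (T : Subgroup G) = E := le_antisymm hTE hT
    have hKT : IsKleinFour (T : Subgroup G) := hTE' ▸ hklein
    have hall : ∀ a b : G, orderOf a = 2 → orderOf b = 2 → IsConj a b := by
      refine (Invol.klein_dichotomy T hKT).resolve_right fun h => hnc ?_
      exact ⟨T, _, MonoidHom.normal_ker _, MonoidHom.ker_transferSylow_isComplement' T h.1⟩
    have hC : ∀ e ∈ E, e ≠ 1 → centralizer ({e} : Set G) ≤ E := by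
      intro e he he1
      obtain ⟨g, hg⟩ := isConj_iff.1 (hall e x (Invol.orderOf_eq_two (hsq e he) he1) hx)
      have hEle : E ≤ centralizer ({e} : Set G) := fun a ha =>
        mem_centralizer_singleton_iff.2 (hcomm a ha e he)
      refine (Subgroup.eq_of_le_of_card_ge hEle ?_).ge
      refine le_of_le_of_eq (Nat.card_le_card_of_injective
        (fun c : centralizer ({e} : Set G) => (⟨g * c * g⁻¹, hEdef ▸ mem_centralizer_singleton_iff.2
          (by
            rw [← hg]
            calc g * (c : G) * g⁻¹ * (g * e * g⁻¹) = g * ((c : G) * e) * g⁻¹ := by group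
              _ = g * (e * (c : G)) * g⁻¹ := by rw [mem_centralizer_singleton_iff.1 c.2]
              _ = g * e * g⁻¹ * (g * (c : G) * g⁻¹) := by group)⟩ : E))
        fun a b h => Subtype.ext (mul_left_cancel (mul_right_cancel (congrArg Subtype.val h :))))
        rfl
    have hsimple : IsSimpleGroup G := by
      have : Nontrivial G := ⟨⟨x, 1, Invol.inv_ne_one hx⟩⟩
      refine ⟨fun N hN => or_iff_not_imp_left.2 fun hNb => ?_⟩
      have heven : 2 ∣ Nat.card N := by
        by_contra hodd
        exact hNb (odd_eq_bot hklein hC N (by rw [normalizer_eq_top]; exact le_top) hodd)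
      obtain ⟨⟨v, hvN⟩, hv⟩ := exists_prime_orderOf_dvd_card' (G := N) 2 heven
      rw [Subgroup.orderOf_mk] at hv
      have hinvN : ∀ a : G, orderOf a = 2 → a ∈ N := fun a ha => by
        obtain ⟨g, hg⟩ := isConj_iff.1 (hall v a hv ha)
        exact hg ▸ hN.conj_mem v hvN g
      have hEN : E ≤ N := fun a ha => by
        by_cases ha1 : a = 1
        · rw [ha1]; exact N.one_mem
        · exact hinvN a (Invol.orderOf_eq_two (hsq a ha) ha1)
      have hTN : (T : Subgroup G) ≤ N := hTE' ▸ hEN
      let TN : Sylow 2 N := T.subtype hTN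
      have hTNc : (TN : Subgroup N) = (T : Subgroup G).subgroupOf N := rfl
      let eT : (TN : Subgroup N) ≃* (T : Subgroup G) := Subgroup.subgroupOfEquivOfLe hTN
      have hKN : IsKleinFour (TN : Subgroup N) :=
        ⟨by rw [Nat.card_congr eT.toEquiv]; exact hKT.card_four,
          by rw [Monoid.exponent_eq_of_mulEquiv eT]; exact hKT.exponent_two⟩
      rcases Invol.klein_dichotomy TN hKN with hallN | ⟨hN', -⟩
      · -- the normalizer of `E` lies in `N`
        rw [eq_top_iff]
        intro g _
        have hxN := hinvN x hx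
        have hgx : orderOf (⟨g * x * g⁻¹, hN.conj_mem x hxN g⟩ : N) = 2 := by
          rw [Subgroup.orderOf_mk, Invol.orderOf_conj, hx]
        obtain ⟨m, hm⟩ := isConj_iff.1 (hallN ⟨x, hxN⟩ _ (by rw [Subgroup.orderOf_mk, hx]) hgx)
        have hm' : (m : G) * x * (m : G)⁻¹ = g * x * g⁻¹ := congrArg Subtype.val hm
        have h1 : (m : G)⁻¹ * g ∈ E := hEdef ▸ mem_centralizer_singleton_iff.2 (by
          calc (m : G)⁻¹ * g * x = (m : G)⁻¹ * (g * x * g⁻¹) * g := by group
            _ = x * ((m : G)⁻¹ * g) := by rw [← hm']; group)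
        have := N.mul_mem m.2 (hEN h1)
        rwa [mul_inv_cancel_left] at this
      · exfalso
        have hcompl := MonoidHom.ker_transferSylow_isComplement' TN hN'
        obtain ⟨K0, hK0, hK0n⟩ : ∃ K0 : Subgroup N, K0.IsComplement' (TN : Subgroup N) ∧ K0.Normal :=
          ⟨_, hcompl, MonoidHom.normal_ker _⟩
        have hK0odd : ¬ 2 ∣ Nat.card (K0.map N.subtype) := by
          rw [Subgroup.card_subtype, show Nat.card K0 = (TN : Subgroup N).index from hK0.index_eq_card.symm]
          exact Sylow.not_dvd_index TN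
        have hK0b := odd_eq_bot hklein hC (K0.map N.subtype) (fun e he => by
          rw [mem_normalizer_iff]
          intro k
          constructor
          · rintro ⟨a, ha, rfl⟩
            exact ⟨⟨e, hEN he⟩ * a * ⟨e, hEN he⟩⁻¹, hK0n.conj_mem a ha _, rfl⟩
          · rintro ⟨a, ha, hak⟩
            refine ⟨⟨e, hEN he⟩⁻¹ * a * ⟨e, hEN he⟩, by
              simpa using hK0n.conj_mem a ha ⟨e, hEN he⟩⁻¹, ?_⟩
            show e⁻¹ * (a : G) * e = k
            rw [show (a : G) = e * k * e⁻¹ from hak]
            group) hK0odd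
        rw [Subgroup.map_eq_bot_iff_of_injective _ N.subtype_injective] at hK0b
        subst hK0b
        have htop : (TN : Subgroup N) = ⊤ := Subgroup.isComplement'_bot_left.1 hK0
        rw [hTNc, subgroupOf_eq_top] at htop
        have hNE : N = E := le_antisymm (hTE' ▸ htop) hEN
        exact (hne N hN (hNE ▸ hElem)).2 (by rw [hNE]; exact hC4)
    refine S3278.result x hx E (hEdef ▸ le_rfl) hklein ?_ ?_
    · rw [hEdef, Subgroup.relIndex_self]; decide
    · rw [hEdef, Subgroup.subgroupOf_self]; infer_instance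
  · -- a central involution of `T` outside the class of `x`
    exfalso
    have hnt : Nontrivial (T : Subgroup G) := ⟨⟨⟨x, hT hxE⟩, 1, fun e =>
      Invol.inv_ne_one hx (congrArg Subtype.val e :)⟩⟩
    have hcn := T.2.center_nontrivial
    obtain ⟨⟨z', hzc⟩, hz⟩ := exists_prime_orderOf_dvd_card'
      (G := Subgroup.center (T : Subgroup G)) 2
      ((T.2.to_subgroup _).card_eq_or_dvd.resolve_left (Finite.one_lt_card.ne'))
    rw [Subgroup.orderOf_mk, ← Subgroup.orderOf_coe] at hz
    obtain ⟨z, hzT⟩ := z'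
    simp only at hz
    have hzcomm : ∀ a ∈ (T : Subgroup G), a * z = z * a := fun a ha =>
      congrArg Subtype.val (Subgroup.mem_center_iff.1 hzc ⟨a, ha⟩)
    have hzE : z ∈ E := hCT z hzT (hzcomm x (hT hxE)).symm
    have hzx : z ≠ x := fun e => hTE fun a ha => hCT a ha (e ▸ hzcomm a ha)
    have hnconj : ¬ IsConj x z := by
      intro h
      obtain ⟨g, hg⟩ := isConj_iff.1 h.symm
      have h1 : Nat.card (T : Subgroup G) ≤ Nat.card E :=
        Nat.card_le_card_of_injective (fun a : (T : Subgroup G) => (⟨g * a * g⁻¹, hEdef ▸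
          mem_centralizer_singleton_iff.2 (by
            rw [← hg]
            calc g * (a : G) * g⁻¹ * (g * z * g⁻¹) = g * ((a : G) * z) * g⁻¹ := by group
              _ = g * (z * (a : G)) * g⁻¹ := by rw [hzcomm a a.2]
              _ = g * z * g⁻¹ * (g * (a : G) * g⁻¹) := by group)⟩ : E))
          fun a b h => Subtype.ext (mul_left_cancel (mul_right_cancel (congrArg Subtype.val h :)))
      exact hTE (Subgroup.eq_of_le_of_card_ge hT h1).ge
    have hE4 : ∀ a ∈ E, a = 1 ∨ a = x ∨ a = z ∨ a = x * z := by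
      intro a ha
      have hsub : ({1, x, z, x * z} : Finset G) ⊆ (E : Set G).toFinite.toFinset := by
        intro c hc
        simp only [Finset.mem_insert, Finset.mem_singleton] at hc
        rcases hc with rfl | rfl | rfl | rfl <;> simp [E.one_mem, hxE, hzE, E.mul_mem hxE hzE]
      have hx1 := Invol.inv_ne_one hx
      have hz1 := Invol.inv_ne_one hz
      have hxz1 : x * z ≠ 1 := fun e => hzx (by rw [eq_inv_of_mul_eq_one_right e, Invol.inv_eq hx])
      have hcard : ({1, x, z, x * z} : Finset G).card = 4 := by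
        rw [Finset.card_insert_of_notMem (by simp [hx1.symm, hz1.symm, hxz1.symm]),
          Finset.card_insert_of_notMem (by simp [hzx.symm, Ne.symm (fun e => hz1 (mul_eq_left.1 e) : x * z ≠ x)]),
          Finset.card_pair (fun e => hx1 (mul_eq_right.1 e.symm))]
      have heq := Finset.eq_of_subset_of_card_le hsub (by
        rw [hcard, ← Set.ncard_eq_toFinset_card, ← Nat.card_coe_set_eq]; exact hC4.le)
      have : a ∈ ({1, x, z, x * z} : Finset G) := by rw [heq]; simpa using ha
      simpa using this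
    -- `x z` is conjugate to `x`
    obtain ⟨g, hgN, hgE⟩ : ∃ g ∈ (T : Subgroup G), (∀ a ∈ E, g * a * g⁻¹ ∈ E) ∧ g ∉ E := by
      haveI := T.2.isNilpotent
      have hlt : E.subgroupOf (T : Subgroup G) < ⊤ := lt_top_iff_ne_top.2 fun e =>
        hTE (subgroupOf_eq_top.1 e)
      obtain ⟨g, hg, hgE⟩ := SetLike.exists_of_lt
        (Group.normalizerCondition_of_isNilpotent (E.subgroupOf (T : Subgroup G)) hlt)
      refine ⟨g, g.2, fun a ha => ?_, fun h => hgE h⟩
      exact (mem_normalizer_iff.1 hg ⟨a, hT ha⟩).1 ha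
    have hxz : IsConj x (x * z) := by
      refine isConj_iff.2 ⟨g, ?_⟩
      rcases hE4 _ (hgE.1 x hxE) with e | e | e | e
      · exact absurd (conj_eq_one_iff.1 e) (Invol.inv_ne_one hx)
      · exact absurd (hCT g hgN (mul_inv_eq_iff_eq_mul.1 e)) hgE.2
      · exact absurd (isConj_iff.2 ⟨g, e⟩) hnconj
      · exact e
    have hxzc : Commute x z := hcomm x hxE z hzE
    obtain ⟨hA1, hA2, hA3⟩ := S3276.result x z hx hz hxzc hnconj (by
      intro u hu hux a hau
      have huE : u ∈ E := hEdef ▸ mem_centralizer_singleton_iff.2 hux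
      have hyz : ∀ v : G, v ∈ E → v = a * z * a⁻¹ → Commute (a * z * a⁻¹) z := fun v hv e =>
        hcomm _ (e ▸ hv) z hzE
      rcases hE4 u huE with e | e | e | e
      · exact absurd e (Invol.inv_ne_one hu)
      · subst e
        exact hyz _ (hEdef ▸ mem_centralizer_singleton_iff.2 hau) rfl
      · subst e; exact hau
      · obtain ⟨b, hb⟩ := isConj_iff.1 hxz
        subst e
        refine hyz _ ?_ rfl
        -- the centraliser of `x z` is `E`
        have h1 : b⁻¹ * (a * z * a⁻¹) * b ∈ E := hEdef ▸ mem_centralizer_singleton_iff.2 (by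
          have h2 := (Commute.conj_iff b⁻¹).2 hau
          rw [← hb] at h2
          simpa [mul_assoc] using h2.eq)
        have hEb : E.map (MulAut.conj b).toMonoidHom = E := by
          refine (Subgroup.eq_of_le_of_card_ge (H := E) ?_ ?_).symm
          · intro c hc
            refine ⟨b⁻¹ * c * b, hEdef ▸ mem_centralizer_singleton_iff.2 ?_, by simp [mul_assoc]⟩
            have h2 := (Commute.conj_iff b⁻¹).2 (hcomm c hc _ (E.mul_mem hxE hzE) : Commute c (x * z))
            rw [← hb] at h2
            simpa [mul_assoc] using h2.eq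
          · exact (Subgroup.card_map_of_injective (MulAut.conj b).injective).le
        rw [← hEb]
        exact ⟨_, h1, by simp [mul_assoc]⟩)
    obtain ⟨A, hA⟩ : ∃ A, A = normalClosure ({z} : Set G) := ⟨_, rfl⟩
    rw [← hA] at hA1 hA2 hA3
    have hzA : z ∈ A := hA ▸ subset_normalClosure rfl
    have hAn : A.Normal := hA ▸ normalClosure_normal
    have hxA : x ∉ A := by
      intro hxA
      have hAE : A ≤ E := fun a ha => hEdef ▸ mem_centralizer_singleton_iff.2
        (congrArg Subtype.val (hA2.1.is_comm.comm ⟨a, ha⟩ ⟨x, hxA⟩) :)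
      have hEA : E ≤ A := fun a ha => by
        rcases hE4 a ha with rfl | rfl | rfl | rfl
        exacts [A.one_mem, hxA, hzA, A.mul_mem hxA hzA]
      exact (hne A hAn hA2).2 (by rw [le_antisymm hAE hEA]; exact hC4)
    have h4 := hA3 fun u hu hu2 hux => by
      rcases hE4 u (hEdef ▸ mem_centralizer_singleton_iff.2 hux) with e | e | e | e
      · exact absurd e (Invol.inv_ne_one hu2)
      · exact absurd (e ▸ hu) hxA
      · exact e
      · refine absurd ?_ hxA
        have := A.mul_mem hu hzA
        rwa [e, Invol.cancel_mul_self hz] at this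
    obtain ⟨k, hk⟩ := IsPGroup.iff_card.1
      (fun a : A => ⟨1, Subtype.ext (by simpa using hA2.2 a a.2)⟩ : IsPGroup 2 A)
    have h2 := hne A hAn hA2
    have hk0 : k ≠ 0 := fun e => by
      rw [e, pow_zero] at hk
      exact Invol.inv_ne_one hz ((Subgroup.eq_bot_iff_forall A).1 (Subgroup.eq_bot_of_card_eq A hk) z hzA)
    have hk3 : k < 3 := by
      by_contra h
      have h8 : 2 ^ 3 ≤ Nat.card A := hk ▸ Nat.pow_le_pow_right (by norm_num) (by omega)
      omega
    interval_cases k <;> simp_all

end Cfsg.Agent.S3277
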