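import Cfsg.Statements.S3559
import Cfsg.Agent.PrimStruct.Schur
-- import your own Cfsg.Agent.* helpers here

set_option autoImplicit false
open Cfsg

set_option linter.style.haveILetI false

namespace Cfsg.Agent.S3559

/-- Let G act faithfully and transitively on a finite set whose number of points n ≥ 2 is not a prime power, and suppose G has a cyclic subgroup acting regularly (transitively with trivial point stabilizers). Then G is imprimitive or doubly transitive. -/
theorem result {G Ω : Type*} [Group G] [Finite G] [MulAction G Ω] [FaithfulSMul G Ω] [Finite Ω]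
    (htrans : MulAction.IsPretransitive G Ω) (hn : 2 ≤ Nat.card Ω) (hnp : ¬ IsPrimePow (Nat.card Ω))
    (C : Subgroup G) (hcyc : IsCyclic ↥C) (hC : MulAction.IsPretransitive ↥C Ω ∧ ∀ a : Ω, MulAction.stabilizer ↥C a = ⊥) :
    ¬ MulAction.IsPreprimitive G Ω ∨ MulAction.IsMultiplyPretransitive G Ω 2 := by
  classical
  refine Classical.or_iff_not_imp_left.mpr fun h => ?_
  rw [not_not] at h
  haveI := h
  haveI := hcyc
  haveI : IsMulCommutative C := ⟨⟨fun a b => (IsCyclic.commGroup (α := C)).mul_comm a b⟩⟩
  obtain ⟨htr, hst⟩ := hC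
  haveI := htr
  haveI : Nonempty Ω := (Nat.card_pos_iff.mp (by omega : 0 < Nat.card Ω)).1
  obtain ⟨α⟩ := (inferInstance : Nonempty Ω)
  have hbij : Function.Bijective fun c : C => (c : G) • α :=
    PermLib.smul_bijective_of_regular (hst α)
  have hcard : Nat.card C = Nat.card Ω := Nat.card_eq_of_bijective _ hbij
  haveI := Fintype.ofFinite C
  obtain ⟨p, hp, hpd⟩ := Nat.exists_prime_and_dvd (show Nat.card Ω ≠ 1 by omega)
  obtain ⟨q, hq, hqp, hqd⟩ : ∃ q, q.Prime ∧ q ≠ p ∧ q ∣ Nat.card Ω := by
    by_contra hno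
    push Not at hno
    refine hnp ⟨p, (Nat.card Ω).factorization p, hp.prime,
      hp.factorization_pos_of_dvd (by omega) hpd, ?_⟩
    exact (Nat.eq_prime_pow_of_unique_prime_dvd (by omega) fun {r} hr hd =>
      by_contra fun hne => hno r hr hne hd).symm ▸ by rw [Nat.factorization_pow, hp.factorization]; simp
  have huniq : ∀ r : ℕ, r.Prime → Nat.card {c : C // c ^ r = 1} ≤ r := fun r hr => by
    rw [Nat.card_eq_fintype_card, Fintype.card_subtype]
    exact IsCyclic.card_pow_eq_one_le hr.pos
  exact PrimStruct.schur_wielandt hbij hp hq hqp.symm (hcard ▸ hpd) (hcard ▸ hqd) (huniq p hp) (huniq q hq)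

end Cfsg.Agent.S3559
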