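import Cfsg.Statements.S3972
import Cfsg.Agent.PrimStruct.SchurPrimePow
import Cfsg.Agent.Lib.FrobeniusComplement

set_option autoImplicit false
open Cfsg
open scoped Pointwise

namespace Cfsg.Agent.S3972

/-- Let `p` be a prime, `m ≥ 2`, and `G` a transitive but not doubly transitive permutation group on `p ^ m` points containing a permutation of order `p ^ m` (necessarily a full cycle). Then `G` is imprimitive, and the normal closure in `G` of the `p ^ (m - 1)`-th power of that permutation is an intransitive normal subgroup. -/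
theorem result {Ω : Type*} [Fintype Ω] [DecidableEq Ω] (p m : ℕ) (hp : p.Prime) (hm : 2 ≤ m) (hΩ : Fintype.card Ω = p ^ m) (G : Subgroup (Equiv.Perm Ω)) (htr : MulAction.IsPretransitive G Ω) (h2 : ¬ MulAction.IsMultiplyPretransitive G Ω 2) (g : G) (hg : orderOf g = p ^ m) : ¬ MulAction.IsPreprimitive G Ω ∧ ¬ MulAction.IsPretransitive (Subgroup.normalClosure ({g ^ (p ^ (m - 1))} : Set G)) Ω := by
  classical
  have : Fact p.Prime := ⟨hp⟩
  set C := Subgroup.zpowers g with hC
  set z := g ^ (p ^ (m - 1)) with hz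
  have hpm : p ^ (m - 1) * p = p ^ m := by rw [← pow_succ, Nat.sub_add_cancel (by omega)]
  have hz1 : z ≠ 1 := by
    intro h
    have h1 := Nat.le_of_dvd (pow_pos hp.pos _) (hg ▸ orderOf_dvd_of_pow_eq_one h)
    have : p ^ (m - 1) < p ^ m := Nat.pow_lt_pow_right hp.one_lt (by omega)
    omega
  have hzin : ∀ L : Subgroup G, L ≤ C → L ≠ ⊥ → z ∈ L := by
    intro L hL hne
    obtain ⟨⟨l, hl⟩, hl1⟩ := Subgroup.ne_bot_iff_exists_ne_one.mp hne
    obtain ⟨i, hi⟩ := Subgroup.mem_zpowers_iff.mp (hL hl)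
    have hsub : Subgroup.zpowers l ≤ C := hi ▸ Subgroup.zpowers_le.mpr (Subgroup.zpow_mem _ (Subgroup.mem_zpowers g) i)
    obtain ⟨k, hk, hlk⟩ := (Nat.dvd_prime_pow hp).mp (hg ▸ (Nat.card_zpowers g ▸
      Nat.card_zpowers l ▸ Subgroup.card_dvd_of_le hsub : orderOf l ∣ orderOf g))
    have hk0 : k ≠ 0 := fun e => hl1 (Subtype.ext (orderOf_eq_one_iff.mp (by rw [hlk, e, pow_zero])))
    -- `z` lies in `⟨l⟩` because both sit in the cyclic group `C`
    have hle : Subgroup.zpowers z ≤ Subgroup.zpowers l := by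
      have hlast : Subgroup.zpowers l = Subgroup.zpowers (g ^ (p ^ (m - k))) := by
        have hcyc : IsCyclic C := inferInstance
        have ho : orderOf (g ^ (p ^ (m - k))) = p ^ k := by
          rw [orderOf_pow, hg, Nat.gcd_eq_right (pow_dvd_pow p (Nat.sub_le m k)), Nat.pow_div (Nat.sub_le m k) hp.pos,
            Nat.sub_sub_self hk]
        have hsub' : Subgroup.zpowers (g ^ (p ^ (m - k))) ≤ C :=
          Subgroup.zpowers_le.mpr (Subgroup.pow_mem _ (Subgroup.mem_zpowers g) _)
        have e : (Subgroup.zpowers l).subgroupOf C = (Subgroup.zpowers (g ^ (p ^ (m - k)))).subgroupOf C := by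
          apply Cfsg.Agent.FrobeniusCompl.eq_of_card_eq
          rw [Nat.card_congr (Subgroup.subgroupOfEquivOfLe hsub).toEquiv,
            Nat.card_congr (Subgroup.subgroupOfEquivOfLe hsub').toEquiv, Nat.card_zpowers, Nat.card_zpowers, hlk, ho]
        rwa [Subgroup.subgroupOf_inj, inf_eq_left.mpr hsub, inf_eq_left.mpr hsub'] at e
      rw [hlast, Subgroup.zpowers_le]
      refine ⟨(p ^ (k - 1) : ℕ), ?_⟩
      rw [hz]
      show (g ^ p ^ (m - k)) ^ ((p ^ (k - 1) : ℕ) : ℤ) = g ^ p ^ (m - 1)
      rw [zpow_natCast, ← pow_mul, ← pow_add, show m - k + (k - 1) = m - 1 by omega]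
    exact (Subgroup.zpowers_le.mpr hl) (hle (Subgroup.mem_zpowers z))
  -- a regular orbit
  obtain ⟨α, hα⟩ : ∃ α : Ω, z • α ≠ α := by
    by_contra h
    push Not at h
    exact hz1 (Subtype.ext (Equiv.ext fun x => h x))
  have hbij : Function.Bijective fun c : C => (c : G) • α := by
    have hinj : Function.Injective fun c : C => (c : G) • α := by
      intro a b hab
      by_contra hne
      apply hα
      have hL : C ⊓ MulAction.stabilizer G α ≠ ⊥ := by
        intro h
        apply hne
        have hmem : (b : G)⁻¹ * a ∈ C ⊓ MulAction.stabilizer G α :=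
          ⟨C.mul_mem (C.inv_mem b.2) a.2, by
            show ((b : G)⁻¹ * a) • α = α
            rw [mul_smul, inv_smul_eq_iff]; exact hab⟩
        rw [h, Subgroup.mem_bot, inv_mul_eq_one] at hmem
        exact (Subtype.ext hmem).symm
      exact (hzin _ inf_le_left hL).2
    have : Fintype C := Fintype.ofFinite _
    rw [Fintype.bijective_iff_injective_and_card]
    refine ⟨hinj, ?_⟩
    rw [← Nat.card_eq_fintype_card, Nat.card_zpowers, hg, hΩ]
  have hCcard : Nat.card C = p ^ m := by rw [Nat.card_zpowers, hg]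
  have hnp : ¬ MulAction.IsPreprimitive G Ω := fun hpr =>
    h2 (Cfsg.Agent.PrimStruct.schur_prime_pow hbij hp hm hCcard)
  refine ⟨hnp, fun hN => ?_⟩
  obtain ⟨B, hB, hBne⟩ : ∃ B : Set Ω, MulAction.IsBlock G B ∧ ¬ MulAction.IsTrivialBlock B := by
    by_contra h
    push Not at h
    exact hnp { isTrivialBlock_of_isBlock := fun {B} hB => h B hB }
  obtain ⟨hss, hBu⟩ := not_or.mp hBne
  rw [Set.not_subsingleton_iff] at hss
  obtain ⟨x, hx, y, hy, hxy⟩ := hss
  have hbijx : ∀ u v : Ω, ∃ c : C, (c : G) • u = v := by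
    intro u v
    obtain ⟨a, rfl⟩ := hbij.2 u
    obtain ⟨b, rfl⟩ := hbij.2 v
    refine ⟨b * a⁻¹, ?_⟩
    show ((b * a⁻¹ : C) : G) • (a : G) • α = (b : G) • α
    rw [← mul_smul]; congr 1; simp
  have hzB : z • B = B := by
    obtain ⟨c, hc⟩ := hbijx x y
    have hL : C ⊓ MulAction.stabilizer G B ≠ ⊥ := by
      intro h
      have hmem : (c : G) ∈ C ⊓ MulAction.stabilizer G B :=
        ⟨c.2, hB.smul_eq_of_mem hx (hc ▸ hy)⟩
      rw [h, Subgroup.mem_bot] at hmem
      exact hxy (by rw [← hc, hmem, one_smul])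
    exact (hzin _ inf_le_left hL).2
  have hzall : ∀ h : G, z • (h • B) = h • B := by
    intro h
    obtain ⟨c, hc⟩ := hbijx x (h • x)
    have hcB : (c : G) • B = h • B := by
      by_contra hne
      have hd : Disjoint ((c : G) • B) (h • B) := (MulAction.isBlock_iff_smul_eq_smul_or_disjoint.mp hB _ _).resolve_left hne
      exact Set.disjoint_left.mp hd (Set.smul_mem_smul_set hx) (hc ▸ Set.smul_mem_smul_set hx)
    rw [← hcB, ← mul_smul]
    have : z * (c : G) = (c : G) * z := by
      obtain ⟨i, hi⟩ := Subgroup.mem_zpowers_iff.mp c.2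
      rw [← hi, hz]
      exact ((Commute.self_pow g _).zpow_left i).symm.eq
    rw [this, mul_smul, hzB]
  have hker : ∀ n ∈ Subgroup.normalClosure ({z} : Set G), ∀ h : G, n • (h • B) = h • B := by
    let K : Subgroup G :=
      { carrier := {n | ∀ h : G, n • (h • B) = h • B}
        one_mem' := fun h => one_smul _ _
        mul_mem' := fun {a b} ha hb h => by rw [mul_smul, hb h, ha h]
        inv_mem' := fun {a} ha h => by rw [inv_smul_eq_iff, ha h] }
    have hKn : K.Normal := ⟨fun n hn g h => by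
      show (g * n * g⁻¹) • (h • B) = h • B
      rw [mul_smul, mul_smul, ← mul_smul g⁻¹ h, hn (g⁻¹ * h), ← mul_smul, mul_inv_cancel_left]⟩
    exact fun n hn => Subgroup.normalClosure_le_normal (Set.singleton_subset_iff.mpr (show z ∈ K from hzall)) hn
  apply hBu
  ext w
  simp only [Set.mem_univ, iff_true]
  obtain ⟨⟨n, hn⟩, hnw⟩ := hN.exists_smul_eq x w
  have h1 := hker n hn 1
  rw [one_smul] at h1
  rw [← h1, ← hnw]
  exact Set.smul_mem_smul_set hx

end Cfsg.Agent.S3972
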