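import Cfsg.Statements.S4142
import Cfsg.Agent.FGSev.PElem
-- import your own Cfsg.Agent.* helpers here

set_option autoImplicit false
open Cfsg

namespace Cfsg.Agent.S4142

/-- Let G be a finite group and N a normal subgroup. Then the conjugacy class of every element g outside N is a union of cosets of N (gn is conjugate to g for all n ∈ N) if and only if for every g outside N the centralizer of g in G has the same order as the centralizer of gN in G/N. -/
theorem result {G : Type*} [Group G] [Finite G] (N : Subgroup G) [N.Normal] :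
    (∀ g : G, g ∉ N → ∀ n ∈ N, ∃ x : G, x * g * x⁻¹ = g * n) ↔
      ∀ g : G, g ∉ N → Nat.card (Subgroup.centralizer ({g} : Set G)) =
        Nat.card (Subgroup.centralizer ({(QuotientGroup.mk g : G ⧸ N)} : Set (G ⧸ N))) := by
  classical
  suffices key : ∀ g : G, (∀ n ∈ N, ∃ x : G, x * g * x⁻¹ = g * n) ↔
      Nat.card (Subgroup.centralizer ({g} : Set G)) =
        Nat.card (Subgroup.centralizer ({(QuotientGroup.mk g : G ⧸ N)} : Set (G ⧸ N))) by
    exact ⟨fun h g hg => (key g).mp (h g hg), fun h g hg => (key g).mpr (h g hg)⟩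
  intro g
  set C := Subgroup.centralizer ({g} : Set G) with hC
  set L := (Subgroup.centralizer ({(QuotientGroup.mk g : G ⧸ N)} : Set (G ⧸ N))).comap
    (QuotientGroup.mk' N) with hL
  have hmemL : ∀ x : G, x ∈ L ↔ g⁻¹ * (x * g * x⁻¹) ∈ N := by
    intro x
    rw [hL, Subgroup.mem_comap, Subgroup.mem_centralizer_singleton_iff, QuotientGroup.mk'_apply,
      ← QuotientGroup.mk_mul, ← QuotientGroup.mk_mul, QuotientGroup.eq]
    constructor
    · intro h
      have := N.inv_mem ((inferInstance : N.Normal).conj_mem _ h x)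
      simpa [mul_assoc] using this
    · intro h
      have := N.inv_mem ((inferInstance : N.Normal).conj_mem _ h x⁻¹)
      simpa [mul_assoc] using this
  have hCL : C ≤ L := by
    intro x hx
    rw [hmemL, Subgroup.mem_centralizer_singleton_iff.mp hx]
    simp
  have hinf : Nat.card ↥(L ⊓ C) = Nat.card C := by rw [inf_eq_right.mpr hCL]
  have hcardL : Nat.card L = Nat.card (Subgroup.centralizer ({(QuotientGroup.mk g : G ⧸ N)} :
      Set (G ⧸ N))) * Nat.card N := by
    rw [Subgroup.card_eq_card_quotient_mul_card_subgroup (N.subgroupOf L)]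
    have hNL : N ≤ L := by
      intro n hn
      rw [hmemL]
      have := N.mul_mem ((inferInstance : N.Normal).conj_mem n hn g⁻¹) (N.inv_mem hn)
      simpa [mul_assoc] using this
    rw [Nat.card_congr (Subgroup.subgroupOfEquivOfLe hNL).toEquiv]
    congr 1
    let φ : L →* Subgroup.centralizer ({(QuotientGroup.mk g : G ⧸ N)} : Set (G ⧸ N)) :=
      ((QuotientGroup.mk' N).comp L.subtype).codRestrict _ (fun x => x.2)
    have hφ : Function.Surjective φ := by
      rintro ⟨y, hy⟩
      obtain ⟨x, rfl⟩ := QuotientGroup.mk'_surjective N y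
      exact ⟨⟨x, hy⟩, rfl⟩
    have hker : φ.ker = N.subgroupOf L := by
      ext x
      rw [MonoidHom.mem_ker, Subgroup.mem_subgroupOf, ← QuotientGroup.eq_one_iff (N := N)]
      exact Subtype.ext_iff
    rw [← hker]
    exact Nat.card_congr (QuotientGroup.quotientKerEquivOfSurjective φ hφ).toEquiv
  have horb := Cfsg.Agent.FGSev.card_conj_mul_card_centralizer L g
  rw [← hC, hinf, hcardL] at horb
  set O := {y : G // ∃ s ∈ L, y = s * g * s⁻¹} with hO
  let f : O → N := fun y => ⟨g⁻¹ * y, by
    obtain ⟨s, hs, hy⟩ := y.2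
    rw [hy]; exact (hmemL s).mp hs⟩
  have hf : Function.Injective f := fun a b h =>
    Subtype.ext (mul_left_cancel (congrArg Subtype.val h))
  have hN : (∀ n ∈ N, ∃ x : G, x * g * x⁻¹ = g * n) ↔ Function.Surjective f := by
    constructor
    · intro h n
      obtain ⟨x, hx⟩ := h n n.2
      refine ⟨⟨x * g * x⁻¹, x, ?_, rfl⟩, ?_⟩
      · rw [hmemL, hx]; simp
      · apply Subtype.ext
        show g⁻¹ * (x * g * x⁻¹) = n
        rw [hx]; simp
    · intro h n hn
      obtain ⟨⟨y, s, _, hy⟩, hyn⟩ := h ⟨n, hn⟩
      refine ⟨s, ?_⟩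
      have : g⁻¹ * y = n := congrArg Subtype.val hyn
      rw [← hy, ← this]; simp
  have hcardN : 0 < Nat.card N := Nat.card_pos
  rw [hN]
  constructor
  · intro h
    rw [Nat.card_congr (Equiv.ofBijective f ⟨hf, h⟩), mul_comm] at horb
    exact Nat.eq_of_mul_eq_mul_right hcardN horb
  · intro h
    rw [← h, mul_comm] at horb
    have hON : Nat.card O = Nat.card N := Nat.eq_of_mul_eq_mul_left Nat.card_pos horb
    exact ((Nat.bijective_iff_injective_and_card f).mpr ⟨hf, hON⟩).surjective

end Cfsg.Agent.S4142
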