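import Cfsg.Agent.Char.GlaubermanSolv

set_option autoImplicit false
open Cfsg

namespace Cfsg.Agent.S4445

/-- Inside a finite group Γ let the solvable subgroup S normalise G with the orders of G and S coprime. Then the number of S-invariant irreducible characters of G (χ(s g s⁻¹) = χ(g) for all s ∈ S, g ∈ G) equals the number of conjugacy classes of G mapped to themselves by conjugation by every element of S. -/
theorem result {Γ : Type*} [Group Γ] [Fintype Γ] (G S : Subgroup Γ) [Fintype G] (hnorm : ∀ s ∈ S, ∀ g ∈ G, s * g * s⁻¹ ∈ G) (hcop : (Nat.card G).Coprime (Nat.card S)) (hsolv : Group.IsSolvable S) : Nat.card {χ : Cfsg.IrrCharacter G // (∀ s ∈ S, ∀ g g' : G, (g' : Γ) = s * g * s⁻¹ → (χ : G → ℂ) g' = (χ : G → ℂ) g)} = Nat.card {K : ConjClasses G // ∀ s ∈ S, ∀ g g' : G, (g' : Γ) = s * g * s⁻¹ → ConjClasses.mk g = K → ConjClasses.mk g' = K} := by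
  classical
  let φ := Cfsg.Agent.Glauberman.conjHom G S hnorm
  haveI : Group.IsSolvable φ.range := by
    haveI := hsolv
    exact Group.isSolvable_of_surjective φ.rangeRestrict_surjective
  have hc : (Nat.card G).Coprime (Nat.card φ.range) :=
    hcop.coprime_dvd_right (Subgroup.card_range_dvd φ)
  have key := Cfsg.Agent.Glauberman.card_inv_irr_eq φ.range this hc
  refine (Eq.trans ?_ key).trans ?_
  · refine Nat.card_congr (Equiv.subtypeEquivRight fun χ => ?_)
    constructor
    · rintro h _ ⟨s, rfl⟩ g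
      exact h s s.2 g _ rfl
    · intro h s hs g g' hg'
      have : g' = φ ⟨s, hs⟩ g := Subtype.ext hg'
      rw [this]
      exact h _ ⟨⟨s, hs⟩, rfl⟩ g
  · refine Nat.card_congr (Equiv.subtypeEquivRight fun K => ?_)
    constructor
    · intro h s hs g g' hg' hK
      have : g' = φ ⟨s, hs⟩ g := Subtype.ext hg'
      rw [this]
      exact h _ ⟨⟨s, hs⟩, rfl⟩ g hK
    · rintro h _ ⟨s, rfl⟩ g hK
      exact h s s.2 g _ rfl hK

end Cfsg.Agent.S4445
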