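import Cfsg.Statements.S0111
import Mathlib.GroupTheory.Perm.Cycle.Type
import Mathlib.GroupTheory.Sylow

set_option autoImplicit false
open Cfsg

namespace Cfsg.Agent.S0111

/-- The Thompson transfer lemma states that an involution of a Sylow 2-subgroup P lying outside a subgroup Q of index 2 in P either lies outside some normal subgroup of index 2 in G or is conjugate to an element of Q. -/
theorem result {G : Type*} [Group G] [Finite G] (P : Sylow 2 G) (Q : Subgroup G) (hQP : Q ≤ (P : Subgroup G)) (hQi : Q.relIndex (P : Subgroup G) = 2) (u : G) (hu : orderOf u = 2) (huP : u ∈ (P : Subgroup G)) (huQ : u ∉ Q) : (∃ M : Subgroup G, M.Normal ∧ M.index = 2 ∧ u ∉ M) ∨ ∃ g : G, g * u * g⁻¹ ∈ Q := by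
  classical
  by_cases hconj : ∃ g : G, g * u * g⁻¹ ∈ Q
  · exact Or.inr hconj
  left
  letI := Fintype.ofFinite (G ⧸ Q)
  set σ := MulAction.toPermHom G (G ⧸ Q) u
  have hfix : ∀ q : G ⧸ Q, σ q ≠ q := by
    intro q h
    obtain ⟨g, rfl⟩ := Quotient.mk''_surjective q
    apply hconj
    refine ⟨g⁻¹, ?_⟩
    have h' : g⁻¹ * (u * g) ∈ Q := QuotientGroup.eq.mp h.symm
    simpa [mul_assoc] using h'
  have hσo : orderOf σ ∣ 2 := hu ▸ orderOf_map_dvd _ u
  have hall : ∀ n ∈ σ.cycleType, n = 2 := fun n hn =>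
    le_antisymm (Nat.le_of_dvd two_pos ((Equiv.Perm.dvd_of_mem_cycleType hn).trans hσo))
      (Equiv.Perm.two_le_of_mem_cycleType hn)
  have hsum : σ.cycleType.sum = 2 * σ.cycleType.card := by
    rw [Multiset.eq_replicate_of_mem hall, Multiset.sum_replicate, Multiset.card_replicate]
    simp [mul_comm]
  have hsupp : σ.cycleType.sum = Q.index := by
    rw [Equiv.Perm.sum_cycleType, Subgroup.index_eq_card, Nat.card_eq_fintype_card,
      ← Finset.card_univ, Finset.card_eq_of_equiv]
    exact (Equiv.subtypeEquivRight fun q => by simp [Equiv.Perm.mem_support, hfix q])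
  have hidx : Q.index = 2 * (P : Subgroup G).index := by
    rw [← Subgroup.relIndex_mul_index hQP, hQi]
  have hodd : Odd σ.cycleType.card := by
    rw [hsum, hidx] at hsupp
    rw [show σ.cycleType.card = (P : Subgroup G).index by omega, Nat.odd_iff]
    have := Sylow.not_dvd_index P
    omega
  have hsign : Equiv.Perm.sign σ = -1 := by
    rw [Equiv.Perm.sign_of_cycleType, hsum]
    exact (Even.add_odd (even_two_mul _) hodd).neg_one_pow
  let f : G →* ℤˣ := Equiv.Perm.sign.comp (MulAction.toPermHom G (G ⧸ Q))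
  have hfu : f u = -1 := hsign
  refine ⟨f.ker, inferInstance, ?_, fun hmem => by simp [MonoidHom.mem_ker, hfu] at hmem⟩
  rw [Subgroup.index_ker, MonoidHom.range_eq_top.mpr, Subgroup.card_top, Nat.card_eq_fintype_card,
    Fintype.card_units_int]
  intro s
  rcases Int.units_eq_one_or s with rfl | rfl
  · exact ⟨1, map_one f⟩
  · exact ⟨u, hfu⟩

end Cfsg.Agent.S0111
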