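import Cfsg.Statements.S0662
import Cfsg.Agent.H4.MaxClass

set_option autoImplicit false
open Cfsg
open scoped commutatorElement

namespace Cfsg.Agent.S0662

theorem coatom_of_index {G : Type*} [Group G] [Finite G] {p : ℕ} [Fact p.Prime] {C : Subgroup G}
    (h : C.index = p) : IsCoatom C := by
  have hp : p.Prime := Fact.out
  refine ⟨fun ht => hp.ne_one (by rw [← h, ht, Subgroup.index_top]), fun K hK => ?_⟩
  have hd : K.index ∣ p := h ▸ Subgroup.index_dvd_of_le hK.le
  rcases hp.eq_one_or_self_of_dvd _ hd with h1 | h1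
  · exact Subgroup.index_eq_one.1 h1
  · refine absurd (Subgroup.eq_of_le_of_card_ge hK.le ?_) hK.ne
    have := C.card_mul_index.trans K.card_mul_index.symm
    rw [h, h1] at this
    exact (Nat.eq_of_mul_eq_mul_right hp.pos this).ge

theorem count_lines {Q : Type*} [Group Q] [Finite Q] {p : ℕ} [hp : Fact p.Prime]
    (hQ : Nat.card Q = p ^ 2) (hexp : ∀ x : Q, x ≠ 1 → orderOf x = p) :
    Nat.card {M : Subgroup Q // Nat.card M = p} = p + 1 := by
  classical
  haveI : Fintype {M : Subgroup Q // Nat.card M = p} := Fintype.ofFinite _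
  have hline : ∀ (M : {M : Subgroup Q // Nat.card M = p}) (x : Q), x ≠ 1 → x ∈ M.1 →
      M.1 = Subgroup.zpowers x := fun M x hx hxM =>
    (Subgroup.eq_of_le_of_card_ge (Subgroup.zpowers_le.2 hxM)
      (by rw [Nat.card_zpowers, hexp x hx, M.2])).symm
  let e : (Σ M : {M : Subgroup Q // Nat.card M = p}, {x : M.1 // x ≠ 1}) ≃ {x : Q // x ≠ 1} :=
    { toFun := fun y => ⟨y.2.1.1, fun h => y.2.2 (Subtype.ext h)⟩
      invFun := fun x => ⟨⟨Subgroup.zpowers x.1, by rw [Nat.card_zpowers, hexp _ x.2]⟩,
        ⟨⟨x.1, Subgroup.mem_zpowers _⟩, fun h => x.2 (congrArg Subtype.val h)⟩⟩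
      left_inv := by
        rintro ⟨⟨M, hM⟩, ⟨⟨x, hxM⟩, hx⟩⟩
        have := hline ⟨M, hM⟩ x (fun h => hx (Subtype.ext h)) hxM
        subst this
        rfl
      right_inv := fun x => rfl }
  have hne : ∀ (X : Type _) [Finite X] (x₀ : X), Nat.card {x : X // x ≠ x₀} = Nat.card X - 1 := by
    intro X _ x₀
    have h := Nat.card_congr (Equiv.optionSubtypeNe x₀)
    rw [Finite.card_option] at h
    omega
  have h := Nat.card_congr e
  rw [Nat.card_sigma, hne, hQ] at h
  have hs : ∀ M : {M : Subgroup Q // Nat.card M = p}, Nat.card M.1 - 1 = p - 1 := fun M => by rw [M.2]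
  simp only [hne, hs, Finset.sum_const,
    Finset.card_univ, smul_eq_mul, ← Nat.card_eq_fintype_card] at h
  have hp1 := hp.1.one_lt
  obtain ⟨q, rfl⟩ : ∃ q, p = q + 1 := ⟨p - 1, by omega⟩
  have h2 : (q + 1) ^ 2 - 1 = (q + 2) * q := by
    rw [show (q + 1) ^ 2 = (q + 2) * q + 1 by ring]; omega
  rw [h2, Nat.add_sub_cancel] at h
  exact Nat.eq_of_mul_eq_mul_right (by omega) h

/-- In a p-group of maximal class of order at least p³ the normal subgroups of index at least p² are exactly the terms of the lower central series, and there are exactly p + 1 normal subgroups of index p. -/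
theorem result {G : Type*} [Group G] [Finite G] {p : ℕ} [Fact p.Prime] (n : ℕ) (hG : Nat.card G = p ^ n) (hcl : Group.nilpotencyClass G = n - 1) (hn : 3 ≤ n) : (∀ (N : Subgroup G) [N.Normal] (r : ℕ), 2 ≤ r → N.index = p ^ r → N = (⊤ : Subgroup G).lowerCentralSeries (r - 1)) ∧ Nat.card {N : Subgroup G // N.Normal ∧ N.index = p} = p + 1 := by
  have hp : p.Prime := Fact.out
  have hP : IsPGroup p G := IsPGroup.of_card hG
  haveI := hP.isNilpotent
  set L : ℕ → Subgroup G := (⊤ : Subgroup G).lowerCentralSeries with hL
  have hLsucc : ∀ i, L (i + 1) = ⁅L i, (⊤ : Subgroup G)⁆ := fun i => rfl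
  have hLne : ∀ i, i + 2 ≤ n → L i ≠ ⊥ := by
    intro i hi h
    have h1 := Subgroup.lowerCentralSeries_eq_bot_iff_nilpotencyClass_le.1 h
    omega
  have hLn : L (n - 1) = ⊥ := Subgroup.lowerCentralSeries_eq_bot_iff_nilpotencyClass_le.2 hcl.le
  -- orders of the terms
  have hlow : ∀ j, j + 1 ≤ n → p ^ j ≤ Nat.card (L (n - 1 - j)) := by
    intro j
    induction j with
    | zero => intro _; rw [Nat.sub_zero, hLn, Subgroup.card_bot, pow_zero]
    | succ j ih =>
      intro hj
      have h1 : n - 1 - j = (n - 1 - (j + 1)) + 1 := by omega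
      have hne := hLne (n - 1 - (j + 1)) (by omega)
      have hlt := Cfsg.Agent.PGroup.commutator_top_lt hP hne
      rw [← hLsucc, ← h1] at hlt
      obtain ⟨a, ha⟩ := IsPGroup.iff_card.1 (hP.to_subgroup (L (n - 1 - j)))
      obtain ⟨b, hb⟩ := IsPGroup.iff_card.1 (hP.to_subgroup (L (n - 1 - (j + 1))))
      have h2 := ih (by omega)
      rw [ha] at h2
      rw [hb]
      have hab : a < b := by
        rw [← Nat.pow_lt_pow_iff_right hp.one_lt, ← ha, ← hb]
        exact lt_of_le_of_ne (Subgroup.card_le_of_le hlt.le)
          fun h' => hlt.ne (Subgroup.eq_of_le_of_card_ge hlt.le h'.ge)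
      have := (Nat.pow_le_pow_iff_right hp.one_lt).1 h2
      exact Nat.pow_le_pow_right hp.pos (by omega)
  have hidx : ∀ i, 1 ≤ i → i ≤ n - 1 → (L i).index = p ^ (i + 1) := by
    intro i h1 h2
    have h3 := hlow (n - 1 - i) (by omega)
    rw [show n - 1 - (n - 1 - i) = i by omega] at h3
    have hcomm : Nat.card (commutator G) = p ^ (n - 2) := by
      have h4 := (commutator G).card_mul_index
      rw [Cfsg.Agent.H4.index_commutator_eq_sq hn hG hcl, hG, show p ^ n = p ^ (n - 2) * p ^ 2 by
        rw [← pow_add, show n - 2 + 2 = n by omega]] at h4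
      exact Nat.eq_of_mul_eq_mul_right (pow_pos hp.pos 2) h4
    have h5 : Nat.card (L i) ≤ p ^ (n - 1 - i) := by
      obtain ⟨k, rfl⟩ : ∃ k, i = k + 1 := ⟨i - 1, by omega⟩
      rcases Cfsg.Agent.H4.commutator_card_mul_le hP k with h | h
      · rw [show L (k + 1) = ⊥ from h, Subgroup.card_bot]
        exact Nat.one_le_pow _ _ hp.pos
      · rw [hcomm, show n - 2 = (n - 1 - (k + 1)) + k by omega, pow_add] at h
        exact Nat.le_of_mul_le_mul_right h (pow_pos hp.pos k)
    have h6 := (L i).card_mul_index
    rw [le_antisymm h5 h3, hG, show p ^ n = p ^ (n - 1 - i) * p ^ (i + 1) by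
      rw [← pow_add, show n - 1 - i + (i + 1) = n by omega]] at h6
    exact Nat.eq_of_mul_eq_mul_left (pow_pos hp.pos _) h6
  have hL1 : L 1 = commutator G := Subgroup.top_lowerCentralSeries_one
  constructor
  · intro N hNn r hr hNi
    have hrn : r ≤ n := (Nat.pow_dvd_pow_iff_le_right hp.one_lt).1 (hNi ▸ hG ▸ N.index_dvd_card)
    -- if two consecutive terms agree modulo `N` then they lie in `N`
    have hstab : ∀ i, L i ≤ N ⊔ L (i + 1) → L i ≤ N := by
      intro i hi
      have hall : ∀ k, i ≤ k → L k ≤ N ⊔ L (k + 1) := by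
        intro k hk
        induction k, hk using Nat.le_induction with
        | base => exact hi
        | succ k _ ih =>
          rw [hLsucc k, Subgroup.commutator_le]
          intro x hx g hg
          obtain ⟨a, ha, b, hb, rfl⟩ := Subgroup.mem_sup_of_normal_left.1 (ih hx)
          have e : ⁅a * b, g⁆ = a * ⁅b, g⁆ * a⁻¹ * ⁅a, g⁆ := by
            simp only [commutatorElement_def]; group
          rw [e]
          have hb' : ⁅b, g⁆ ∈ L (k + 1 + 1) := Subgroup.commutator_mem_commutator hb hg
          have ha' : ⁅a, g⁆ ∈ N := by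
            rw [commutatorElement_def, show a * g * a⁻¹ * g⁻¹ = a * (g * a⁻¹ * g⁻¹) by group]
            exact mul_mem ha (hNn.conj_mem _ (inv_mem ha) g)
          exact mul_mem (mul_mem (mul_mem (Subgroup.mem_sup_left ha) (Subgroup.mem_sup_right hb'))
            (Subgroup.mem_sup_left (inv_mem ha))) (Subgroup.mem_sup_left ha')
      have : ∀ k, i ≤ k → L i ≤ N ⊔ L k := by
        intro k hk
        induction k, hk using Nat.le_induction with
        | base => exact le_sup_right
        | succ k hk ih => exact ih.trans (sup_le le_sup_left (hall k hk))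
      have h2 := this (max i (n - 1)) (le_max_left _ _)
      rwa [show L (max i (n - 1)) = ⊥ from le_bot_iff.1 (hLn ▸
        Subgroup.lowerCentralSeries_antitone _ (le_max_right i (n - 1))), sup_bot_eq] at h2
    have hbig : ∀ i, 1 ≤ i → L i ≤ N ∨ p ^ (i + 1) ∣ (N ⊔ L i).index := by
      intro i hi
      induction i, hi using Nat.le_induction with
      | base =>
        by_contra hcon
        push Not at hcon
        obtain ⟨h1, h2⟩ := hcon
        obtain ⟨j, hj⟩ := hP.index (N ⊔ L 1)
        have hj1 : j ≤ 1 := by
          by_contra hj2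
          exact h2 (hj ▸ pow_dvd_pow p (by omega))
        set M := N ⊔ L 1 with hM
        have hMn : M.Normal := Subgroup.sup_normal N (L 1)
        refine h1 (hstab 1 ?_)
        show ⁅(⊤ : Subgroup G), ⊤⁆ ≤ _
        set K := N ⊔ L (1 + 1)
        have hKn : K.Normal := Subgroup.sup_normal N (L (1 + 1))
        set f := QuotientGroup.mk' K
        have hMc : M.map f ≤ Subgroup.center (G ⧸ K) := by
          rintro _ ⟨m, hm, rfl⟩
          refine Subgroup.mem_center_iff.2 fun g => ?_
          obtain ⟨g, rfl⟩ := QuotientGroup.mk'_surjective K g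
          rw [← map_mul, ← map_mul]
          refine QuotientGroup.eq.2 ?_
          obtain ⟨a, ha, b, hb, rfl⟩ := Subgroup.mem_sup_of_normal_left.1 hm
          rw [show (g * (a * b))⁻¹ * (a * b * g) =
            (b⁻¹ * (a⁻¹ * (g⁻¹ * a * g)) * b) * ⁅b⁻¹, g⁻¹⁆ by
              simp only [commutatorElement_def]; group]
          exact mul_mem (Subgroup.mem_sup_left (hNn.conj_mem' _
            (mul_mem (inv_mem ha) (hNn.conj_mem' a ha g)) b))
            (Subgroup.mem_sup_right (Subgroup.commutator_mem_commutator (inv_mem hb) (Subgroup.mem_top _)))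
        have hcom : ∀ u v : G ⧸ K, u * v = v * u := by
          have hcy : IsCyclic ((G ⧸ K) ⧸ Subgroup.center (G ⧸ K)) := by
            obtain ⟨x, hx⟩ : ∃ x : G, M ⊔ Subgroup.zpowers x = ⊤ := by
              rcases eq_or_ne M ⊤ with ht | ht
              · exact ⟨1, by simp [ht]⟩
              obtain ⟨x, -, hx⟩ := SetLike.exists_of_lt (lt_top_iff_ne_top.2 ht)
              refine ⟨x, Subgroup.index_eq_one.1 ?_⟩
              have hd : (M ⊔ Subgroup.zpowers x).index ∣ p := by
                refine (Subgroup.index_dvd_of_le le_sup_left).trans ?_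
                rw [hj]
                exact (pow_dvd_pow p hj1).trans (pow_one p).dvd
              refine (hp.eq_one_or_self_of_dvd _ hd).resolve_right fun h => hx ?_
              have h3 : Nat.card ↥(M ⊔ Subgroup.zpowers x) ≤ Nat.card M := by
                have h4 := (M ⊔ Subgroup.zpowers x).card_mul_index.trans M.card_mul_index.symm
                rw [h, hj] at h4
                have h5 : p ^ j ≤ p := (Nat.pow_le_pow_right hp.pos hj1).trans (pow_one p).le
                exact Nat.le_of_mul_le_mul_right (h4.le.trans (Nat.mul_le_mul_left _ h5)) hp.pos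
              exact (Subgroup.eq_of_le_of_card_ge le_sup_left h3).symm ▸
                Subgroup.mem_sup_right (Subgroup.mem_zpowers x)
            refine isCyclic_iff_exists_zpowers_eq_top.2
              ⟨QuotientGroup.mk' _ (f x), top_le_iff.1 fun z _ => ?_⟩
            obtain ⟨z, rfl⟩ := QuotientGroup.mk'_surjective _ z
            obtain ⟨g, rfl⟩ := QuotientGroup.mk'_surjective K z
            obtain ⟨m, hm, w, hw, rfl⟩ := Subgroup.mem_sup_of_normal_left.1
              (show g ∈ M ⊔ Subgroup.zpowers x from hx ▸ Subgroup.mem_top g)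
            obtain ⟨k, rfl⟩ := Subgroup.mem_zpowers_iff.1 hw
            refine Subgroup.mem_zpowers_iff.2 ⟨k, ?_⟩
            rw [map_mul f, map_mul, map_zpow f, map_zpow,
              show QuotientGroup.mk' (Subgroup.center (G ⧸ K)) (f m) = 1 from
                (QuotientGroup.eq_one_iff _).2 (hMc ⟨m, hm, rfl⟩), one_mul]
          intro u v
          exact commutative_of_cyclic_center_quotient (QuotientGroup.mk' (Subgroup.center (G ⧸ K)))
            (by simp) u v
        rw [Subgroup.commutator_le]
        intro g _ h _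
        rw [← QuotientGroup.eq_one_iff, ← QuotientGroup.mk'_apply K, map_commutatorElement,
          commutatorElement_eq_one_iff_mul_comm]
        exact hcom _ _
      | succ i hi ih =>
        rcases ih with h | h
        · exact Or.inl ((Subgroup.lowerCentralSeries_antitone _ i.le_succ).trans h)
        by_cases hle : L i ≤ N ⊔ L (i + 1)
        · exact Or.inl ((Subgroup.lowerCentralSeries_antitone _ i.le_succ).trans (hstab i hle))
        refine Or.inr ?_
        have hle' : N ⊔ L (i + 1) ≤ N ⊔ L i :=
          sup_le_sup_left (Subgroup.lowerCentralSeries_antitone _ i.le_succ) _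
        rw [← Subgroup.relIndex_mul_index hle', pow_succ, mul_comm]
        refine Nat.mul_dvd_mul ?_ h
        obtain ⟨c, hc⟩ := hP.index (N ⊔ L (i + 1))
        obtain ⟨d, -, hd'⟩ := (Nat.dvd_prime_pow hp).1
          (hc ▸ Dvd.intro _ (Subgroup.relIndex_mul_index hle') : (N ⊔ L (i + 1)).relIndex (N ⊔ L i) ∣ p ^ c)
        rw [hd']
        refine dvd_pow_self p fun h0 => hle ?_
        rw [h0, pow_zero] at hd'
        exact le_sup_right.trans (Subgroup.relIndex_eq_one.1 hd')
    have hle : L (r - 1) ≤ N := by
      rcases hbig (r - 1) (by omega) with h | h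
      · exact h
      have h1 : (N ⊔ L (r - 1)).index ∣ N.index := Subgroup.index_dvd_of_le le_sup_left
      rw [show r - 1 + 1 = r by omega, ← hNi] at h
      have h2 := Nat.dvd_antisymm h1 h
      have h3 : Nat.card ↥(N ⊔ L (r - 1)) = Nat.card N := by
        have h4 := (N ⊔ L (r - 1)).card_mul_index.trans N.card_mul_index.symm
        rw [h2] at h4
        exact Nat.eq_of_mul_eq_mul_right (Nat.pos_of_ne_zero Subgroup.index_ne_zero_of_finite) h4
      exact (Subgroup.eq_of_le_of_card_ge le_sup_left h3.le).symm ▸ le_sup_right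
    refine (Subgroup.eq_of_le_of_card_ge hle ?_).symm
    have h4 := N.card_mul_index.trans (L (r - 1)).card_mul_index.symm
    rw [hidx (r - 1) (by omega) (by omega), show r - 1 + 1 = r by omega, hNi] at h4
    exact (Nat.eq_of_mul_eq_mul_right (pow_pos hp.pos r) h4).le
  · set f := QuotientGroup.mk' (commutator G)
    have hQ : Nat.card (G ⧸ commutator G) = p ^ 2 := Cfsg.Agent.H4.index_commutator_eq_sq hn hG hcl
    have hQc := IsPGroup.commutative_of_card_eq_prime_sq hQ
    have hle : ∀ N : Subgroup G, N.Normal → N.index = p → commutator G ≤ N := by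
      intro N hN hNi
      exact (Cfsg.Agent.PGroup.commutator_le_frattini hP).trans (frattini_le_coatom
        (coatom_of_index hNi))
    let e : {N : Subgroup G // N.Normal ∧ N.index = p} ≃
        {M : Subgroup (G ⧸ commutator G) // Nat.card M = p} :=
      { toFun := fun N => ⟨N.1.map f, by
          have h := (N.1.map f).card_mul_index
          rw [Subgroup.index_map_eq _ (QuotientGroup.mk'_surjective _)
            (by rw [QuotientGroup.ker_mk']; exact hle _ N.2.1 N.2.2), N.2.2, hQ, pow_two] at h
          exact Nat.eq_of_mul_eq_mul_right hp.pos h⟩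
        invFun := fun M => ⟨M.1.comap f,
          Cfsg.Agent.PGroup.normal_of_commutator_le (by
            refine le_trans ?_ (Subgroup.ker_le_comap f M.1)
            rw [QuotientGroup.ker_mk']), by
          rw [Subgroup.index_comap_of_surjective _ (QuotientGroup.mk'_surjective _)]
          have h := M.1.card_mul_index
          rw [M.2, hQ, pow_two] at h
          exact Nat.eq_of_mul_eq_mul_left hp.pos h⟩
        left_inv := fun N => Subtype.ext (by
          simp only
          rw [Subgroup.comap_map_eq, QuotientGroup.ker_mk', sup_eq_left.2 (hle _ N.2.1 N.2.2)])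
        right_inv := fun M => Subtype.ext
          (Subgroup.map_comap_eq_self_of_surjective (QuotientGroup.mk'_surjective _) M.1) }
    rw [Nat.card_congr e]
    refine count_lines hQ fun x hx => ?_
    obtain ⟨g, rfl⟩ := QuotientGroup.mk'_surjective _ x
    refine orderOf_eq_prime ?_ hx
    -- the quotient has exponent `p` because it is not cyclic
    by_contra hpx
    apply (show ¬ IsCyclic (G ⧸ commutator G) from fun hcy => ?_)
    · exact isCyclic_of_orderOf_eq_card (f g) (by
        have hd := orderOf_dvd_natCard (f g)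
        rw [hQ] at hd ⊢
        obtain ⟨i, hi2, hi⟩ := (Nat.dvd_prime_pow hp).1 hd
        have : i = 2 := by
          by_contra hne
          apply hpx
          rw [← orderOf_dvd_iff_pow_eq_one, hi]
          exact (pow_dvd_pow p (show i ≤ 1 by omega)).trans (pow_one p).dvd
        rw [hi, this])
    · -- cyclic commutator quotient forces a trivial commutator subgroup
      have h2 : IsCyclic G := by
        obtain ⟨x, hx⟩ := isCyclic_iff_exists_zpowers_eq_top.1 hcy
        obtain ⟨x, rfl⟩ := QuotientGroup.mk'_surjective _ x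
        have htop : Subgroup.zpowers x ⊔ frattini G = ⊤ := by
          refine top_le_iff.1 (le_trans ?_ (sup_le_sup_left (Cfsg.Agent.PGroup.commutator_le_frattini hP) _))
          rw [← QuotientGroup.ker_mk' (commutator G), ← Subgroup.comap_map_eq, MonoidHom.map_zpowers,
            hx, Subgroup.comap_top]
        exact isCyclic_iff_exists_zpowers_eq_top.2 ⟨x, Cfsg.Agent.PGroup.eq_top_of_sup_frattini htop⟩
      have hbot : commutator G = ⊥ := by
        rw [commutator_eq_bot_iff_center_eq_top, eq_top_iff]
        exact fun x _ => Subgroup.mem_center_iff.mpr fun y => h2.isMulCommutative.is_comm.comm y x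
      exact hLne 1 (by omega) (hL1.trans hbot)

end Cfsg.Agent.S0662
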