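import Cfsg.Statements.S0276
import Cfsg.Agent.Linear.Orders
import Cfsg.Agent.Linear.GLTwo
import Cfsg.Agent.Linear.Torus
-- import your own Cfsg.Agent.* helpers here

set_option autoImplicit false
open Cfsg

namespace Cfsg.Agent.S0276

open Cfsg.Agent

/-- For q = 3 or 5 mod 8 the Sylow 2-subgroups of PSL_2(q) are elementary abelian of order 4. -/
theorem result {F : Type*} [Field F] [Fintype F] {q : ℕ} (hF : Fintype.card F = q) (hq : q % 8 = 3 ∨ q % 8 = 5) (P : Sylow 2 (Matrix.ProjectiveSpecialLinearGroup (Fin 2) F)) : IsKleinFour (P : Subgroup (Matrix.ProjectiveSpecialLinearGroup (Fin 2) F)) := by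
  classical
  subst hF
  haveI : Fact (Nat.Prime 2) := ⟨Nat.prime_two⟩
  have hodd : Odd (Fintype.card F) := Nat.odd_iff.2 (by omega)
  have h2 : (2 : F) ≠ 0 := Linear.two_ne_zero_of_odd_card hodd
  -- the order of the Sylow subgroups of `SL₂`
  obtain ⟨Q⟩ := (inferInstance : Nonempty (Sylow 2 (Matrix.SpecialLinearGroup (Fin 2) F)))
  obtain ⟨k, hk, ⟨eQ⟩⟩ := Linear.sylow_two_SL_two_quaternion hodd Q
  have hQcard : Nat.card Q = 4 * 2 ^ k := by
    rw [Nat.card_congr eQ.toEquiv, Nat.card_eq_fintype_card, QuaternionGroup.card]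
  set q := Fintype.card F with hq
  have hfac : ∃ r, Odd r ∧ q * (q - 1) * (q + 1) = 2 ^ 3 * r := by
    rcases hq8 : q % 8 == 3 with _ | _
    · obtain ⟨t, ht⟩ : ∃ t, q = 8 * t + 5 := ⟨q / 8, by simp at hq8; omega⟩
      refine ⟨(8 * t + 5) * (2 * t + 1) * (4 * t + 3), ?_, ?_⟩
      · exact ((Odd.mul ⟨4 * t + 2, by ring⟩ ⟨t, rfl⟩).mul ⟨2 * t + 1, by ring⟩)
      · rw [ht, show 8 * t + 5 - 1 = 8 * t + 4 by omega]; ring
    · obtain ⟨t, ht⟩ : ∃ t, q = 8 * t + 3 := ⟨q / 8, by simp at hq8; omega⟩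
      refine ⟨(8 * t + 3) * (4 * t + 1) * (2 * t + 1), ?_, ?_⟩
      · exact ((Odd.mul ⟨4 * t + 1, by ring⟩ ⟨2 * t, by ring⟩).mul ⟨t, rfl⟩)
      · rw [ht, show 8 * t + 3 - 1 = 8 * t + 2 by omega]; ring
  obtain ⟨r, hr, hfac⟩ := hfac
  have hr0 : r ≠ 0 := by rintro rfl; simp at hr
  have hv : (2 ^ 3 * r).factorization 2 = 3 := by
    rw [Nat.factorization_mul (by norm_num) hr0, Finsupp.add_apply,
      Nat.Prime.factorization_pow Nat.prime_two, Finsupp.single_eq_same,
      Nat.factorization_eq_zero_of_not_dvd (by rw [← even_iff_two_dvd, Nat.not_even_iff_odd]; exact hr)]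
  have hk1 : k = 1 := by
    have := Q.card_eq_multiplicity
    rw [hQcard, Linear.card_SL_two, hfac, hv] at this
    rcases Nat.lt_or_ge k 2 with h | h
    · omega
    · have : 2 ^ 2 ≤ 2 ^ k := Nat.pow_le_pow_right two_pos h
      omega
  subst hk1
  have hcenter : Nat.card (Subgroup.center (Matrix.SpecialLinearGroup (Fin 2) F)) = 2 := by
    rw [Linear.card_center_SL, Fintype.card_fin, Linear.gcd_two_of_odd hodd]
  have hPcard : Nat.card P = 4 := by
    have h := Linear.card_PSL_two_mul (F := F)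
    rw [Linear.gcd_two_of_odd hodd, hfac] at h
    have e : Nat.card (Matrix.ProjectiveSpecialLinearGroup (Fin 2) F) = 2 ^ 2 * r := by omega
    rw [P.card_eq_multiplicity, e, Nat.factorization_mul (by norm_num) hr0, Finsupp.add_apply,
      Nat.Prime.factorization_pow Nat.prime_two, Finsupp.single_eq_same,
      Nat.factorization_eq_zero_of_not_dvd (by rw [← even_iff_two_dvd, Nat.not_even_iff_odd]; exact hr)]
    norm_num
  have hsq : ∀ x : (P : Subgroup (Matrix.ProjectiveSpecialLinearGroup (Fin 2) F)), x ^ 2 = 1 := by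
    have hπ : Function.Surjective
        (QuotientGroup.mk' (Subgroup.center (Matrix.SpecialLinearGroup (Fin 2) F))) :=
      QuotientGroup.mk'_surjective _
    obtain ⟨S, hS⟩ := Sylow.mapSurjective_surjective hπ 2 P
    subst hS
    intro x
    have hx : (x : Matrix.ProjectiveSpecialLinearGroup (Fin 2) F) ∈
        (S : Subgroup (Matrix.SpecialLinearGroup (Fin 2) F)).map
          (QuotientGroup.mk' (Subgroup.center (Matrix.SpecialLinearGroup (Fin 2) F))) := x.2
    obtain ⟨y, hy, hyx⟩ := hx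
    have hy4 : y ^ 4 = 1 := by
      have h := Monoid.pow_exponent_eq_one ((S.equiv Q).trans eQ ⟨y, hy⟩)
      rw [QuaternionGroup.exponent, show 2 * lcm (2 ^ 1) 2 = 4 from rfl, ← map_pow,
        MulEquiv.map_eq_one_iff] at h
      exact congrArg Subtype.val h
    have hyc : y ^ 2 ∈ Subgroup.center (Matrix.SpecialLinearGroup (Fin 2) F) := by
      by_cases h1 : y ^ 2 = 1
      · rw [h1]; exact one_mem _
      · have e := Linear.eq_neg_one_of_mul_self h2 h1 (by rw [← pow_add]; exact hy4)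
        rw [Subgroup.mem_center_iff]
        intro g
        apply Subtype.ext
        simp only [Matrix.SpecialLinearGroup.coe_mul, e]
        simp
    apply Subtype.ext
    rw [SubgroupClass.coe_pow, ← hyx, ← map_pow, OneMemClass.coe_one]
    exact (QuotientGroup.eq_one_iff _).2 hyc
  refine ⟨hPcard, Nat.dvd_antisymm (Monoid.exponent_dvd_of_forall_pow_eq_one hsq) ?_⟩
  have : Nontrivial (P : Subgroup (Matrix.ProjectiveSpecialLinearGroup (Fin 2) F)) :=
    Finite.one_lt_card_iff_nontrivial.1 (by rw [hPcard]; norm_num)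
  obtain ⟨x, hx⟩ := exists_ne (1 : (P : Subgroup (Matrix.ProjectiveSpecialLinearGroup (Fin 2) F)))
  have h := Monoid.order_dvd_exponent x
  rwa [orderOf_eq_prime (hsq x) hx] at h

end Cfsg.Agent.S0276
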