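import Cfsg.Statements.S0519
import Cfsg.Agent.S0126
import Cfsg.Agent.TwoGroups.Classification
import Cfsg.Agent.PGroup.Basic
import Cfsg.Agent.Invol.FourGroup

set_option autoImplicit false
open Cfsg

namespace Cfsg.Agent.S0519

open Subgroup

variable {P : Type*} [Group P]

theorem klein_not_cyclic {A : Subgroup P} (h4 : Nat.card A = 4) (h2 : ∀ a ∈ A, a ^ 2 = 1) :
    ¬ IsCyclic A := fun h => by
  obtain ⟨g, hg⟩ := h.exists_generator
  have h1 : orderOf g = 4 := by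
    rw [← h4]; exact orderOf_eq_card_of_forall_mem_zpowers hg
  have : orderOf g ∣ 2 := orderOf_dvd_of_pow_eq_one (Subtype.ext (h2 g.1 g.2))
  rw [h1] at this
  norm_num at this

theorem comm_of_sq {A : Subgroup P} (h2 : ∀ a ∈ A, a ^ 2 = 1) : IsMulCommutative A :=
  ⟨⟨fun a b => Subtype.ext (by
    have ha := h2 a.1 a.2
    have hb := h2 b.1 b.2
    have hab := h2 (a.1 * b.1) (A.mul_mem a.2 b.2)
    rw [pow_two] at ha hb hab
    show a.1 * b.1 = b.1 * a.1
    rw [eq_inv_of_mul_eq_one_left hab, mul_inv_rev, ← eq_inv_of_mul_eq_one_left ha,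
      ← eq_inv_of_mul_eq_one_left hb])⟩⟩

/-- If an involution `x` acts on the normal cyclic subgroup `⟨a⟩` as the power `1 + 2^(m-1)` and
`⟨a, x⟩` is normal, then there is a normal four-group. -/
theorem exists_normal_four [Finite P] {a x : P} {m : ℕ} (hm : 3 ≤ m) (ha : orderOf a = 2 ^ m)
    (hnorm : ∀ g : P, ∃ r : ℤ, g * a * g⁻¹ = a ^ r)
    (hxa : x ∉ zpowers a) (hx : x * x = 1) (hconj : x * a * x⁻¹ = a ^ (1 + 2 ^ (m - 1) : ℤ))
    (hN : ∀ g : P, ∃ i : ℤ, g * x * g⁻¹ = a ^ i * x) :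
    ∃ A : Subgroup P, A.Normal ∧ IsMulCommutative A ∧ ¬ IsCyclic A := by
  have h2m : (2 : ℤ) ^ (m - 1) * 2 = 2 ^ m := by rw [← pow_succ]; congr 1; omega
  have hpow : ∀ i : ℤ, a ^ i = 1 ↔ (2 : ℤ) ^ m ∣ i := fun i => by
    rw [← orderOf_dvd_iff_zpow_eq_one, ha]; norm_num
  have hxinv : x⁻¹ = x := inv_eq_of_mul_eq_one_right hx
  have hci : ∀ i : ℤ, x * a ^ i = a ^ ((1 + 2 ^ (m - 1)) * i) * x := fun i => by
    have h : x * a ^ i * x⁻¹ = a ^ ((1 + 2 ^ (m - 1)) * i) := by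
      rw [← conj_zpow, hconj, ← zpow_mul]
    rw [← h, inv_mul_cancel_right]
  set z : P := a ^ ((2 : ℤ) ^ (m - 1)) with hz
  have hz1 : z ≠ 1 := fun h => by
    obtain ⟨c, hc⟩ := (hpow _).1 h
    rw [← h2m, mul_assoc] at hc
    have : (1 : ℤ) = 2 * c := mul_left_cancel₀ (pow_ne_zero _ two_ne_zero) ((mul_one _).trans hc)
    omega
  have hzz : z * z = 1 := by
    rw [hz, ← zpow_add, hpow, ← mul_two, h2m]
  have hzord : orderOf z = 2 := orderOf_eq_prime (by rw [pow_two, hzz]) hz1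
  have hxord : orderOf x = 2 :=
    orderOf_eq_prime (by rw [pow_two, hx]) fun h => hxa (h ▸ one_mem _)
  have hne : x ≠ z := fun h => hxa (h ▸ zpow_mem (mem_zpowers a) _)
  have hzc : ∀ g : P, g * z * g⁻¹ = z := by
    intro g
    obtain ⟨r, hr⟩ := hnorm g
    have h1 : g * z * g⁻¹ = a ^ (r * 2 ^ (m - 1)) := by rw [hz, ← conj_zpow, hr, ← zpow_mul]
    rcases Int.even_or_odd r with ⟨c, rfl⟩ | ⟨c, rfl⟩
    · exfalso
      apply hz1
      have h0 : g * z * g⁻¹ = 1 := h1.trans ((hpow _).2 ⟨c, by rw [← h2m]; ring⟩)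
      exact conj_eq_one_iff.1 h0
    · rw [h1, hz, show (2 * c + 1) * (2 : ℤ) ^ (m - 1) = 2 ^ (m - 1) + c * 2 ^ m by rw [← h2m]; ring,
        zpow_add, (hpow _).2 (dvd_mul_left _ _), mul_one]
  have hcom : Commute z x := by
    have := hzc x
    rw [mul_inv_eq_iff_eq_mul] at this
    exact this.symm
  obtain ⟨h4, h2⟩ := Invol.fourGroup_props z x hzord hxord hne hcom
  refine ⟨_, Invol.fourGroup_normal z x hzord hxord hcom hzc ?_, comm_of_sq h2, klein_not_cyclic h4 h2⟩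
  intro g
  obtain ⟨i, hi⟩ := hN g
  have hsq : a ^ i * x * (a ^ i * x) = 1 := by
    rw [← hi, conj_mul, hx, mul_one, mul_inv_cancel]
  have hexp : (2 : ℤ) ^ m ∣ i + (1 + 2 ^ (m - 1)) * i := by
    rw [← hpow, zpow_add]
    calc a ^ i * a ^ ((1 + 2 ^ (m - 1)) * i) = a ^ i * (x * a ^ i) * x := by
          rw [hci]; simp only [mul_assoc, hx, mul_one]
      _ = 1 := by rw [← hsq]; simp only [mul_assoc]
  have hdiv : (2 : ℤ) ^ (m - 1) ∣ i := by
    have e : i + (1 + 2 ^ (m - 1)) * i = 2 * ((1 + 2 ^ (m - 2)) * i) := by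
      rw [show (2 : ℤ) ^ (m - 1) = 2 * 2 ^ (m - 2) by rw [← pow_succ']; congr 1; omega]
      ring
    rw [e, ← h2m, mul_comm ((2 : ℤ) ^ (m - 1)) 2] at hexp
    have h3 := (mul_dvd_mul_iff_left (two_ne_zero (α := ℤ))).1 hexp
    refine (IsCoprime.dvd_of_dvd_mul_left (IsCoprime.pow_left ?_) h3)
    refine ⟨-2 ^ (m - 3), 1, ?_⟩
    rw [show (2 : ℤ) ^ (m - 2) = 2 * 2 ^ (m - 3) by rw [← pow_succ']; congr 1; omega]
    ring
  obtain ⟨c, hc⟩ := hdiv
  rcases Int.even_or_odd c with ⟨d, rfl⟩ | ⟨d, rfl⟩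
  · left
    rw [hi, (hpow i).2 ⟨d, by rw [hc, ← h2m]; ring⟩, one_mul]
  · right
    rw [hi, hz, hc, show (2 : ℤ) ^ (m - 1) * (2 * d + 1) = 2 ^ (m - 1) + d * 2 ^ m by rw [← h2m]; ring,
      zpow_add, (hpow _).2 (dvd_mul_left _ _), mul_one]

theorem dihedral_four_normal : ∃ A : Subgroup (DihedralGroup 4),
    A.Normal ∧ IsMulCommutative A ∧ ¬ IsCyclic A := by
  let A : Subgroup (DihedralGroup 4) :=
    { carrier := {x | x = 1 ∨ x = DihedralGroup.r 2 ∨ x = DihedralGroup.sr 0 ∨ x = DihedralGroup.sr 2}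
      one_mem' := Or.inl rfl
      mul_mem' := by
        rintro a b (rfl | rfl | rfl | rfl) (rfl | rfl | rfl | rfl) <;> simp <;> decide
      inv_mem' := by
        rintro a (rfl | rfl | rfl | rfl) <;> simp <;> decide }
  refine ⟨A, ⟨?_⟩, comm_of_sq ?_, klein_not_cyclic ?_ ?_⟩
  · intro a ha g
    have key : ∀ g a : DihedralGroup 4, (a = 1 ∨ a = .r 2 ∨ a = .sr 0 ∨ a = .sr 2) →
        (g * a * g⁻¹ = 1 ∨ g * a * g⁻¹ = .r 2 ∨ g * a * g⁻¹ = .sr 0 ∨ g * a * g⁻¹ = .sr 2) := by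
      decide
    exact key g a ha
  · rintro a (rfl | rfl | rfl | rfl) <;> decide
  · show Nat.card ({x | x = 1 ∨ x = DihedralGroup.r 2 ∨ x = DihedralGroup.sr 0 ∨
      x = DihedralGroup.sr 2} : Set (DihedralGroup 4)) = 4
    rw [Nat.card_eq_fintype_card]
    decide
  · rintro a (rfl | rfl | rfl | rfl) <;> decide

/-- Finite p-group without normal non-cyclic abelian subgroup, with a non-cyclic abelian subgroup. -/
theorem result {P : Type*} [Group P] [Finite P] (p : ℕ) [Fact p.Prime]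
    (hP : IsPGroup p P) (hn : ∀ A : Subgroup P, A.Normal → IsMulCommutative A → IsCyclic A)
    (hm : ∃ B : Subgroup P, IsMulCommutative B ∧ ¬ IsCyclic B) :
    p = 2 ∧ ((∃ n : ℕ, Nonempty (P ≃* QuaternionGroup n)) ∨ (∃ n : ℕ, 8 ≤ n ∧ Nonempty (P ≃* DihedralGroup n)) ∨
      Cfsg.IsQuasiDihedral P) := by
  classical
  obtain ⟨B, hBc, hB⟩ := hm
  have hnc : ¬ IsCyclic P := fun h => hB (Subgroup.isCyclic B)
  by_cases hp : p = 2
  swap
  · obtain ⟨A, hA, ⟨hAc, hAp⟩, hcard⟩ := S0126.result hp hP hnc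
    exfalso
    obtain ⟨g, hg⟩ := (hn A hA hAc).exists_generator
    have h1 : orderOf g = p ^ 2 := by rw [← hcard]; exact orderOf_eq_card_of_forall_mem_zpowers hg
    have h2 : orderOf g ∣ p := orderOf_dvd_of_pow_eq_one (Subtype.ext (hAp g.1 g.2))
    rw [h1] at h2
    have h3 := Nat.le_of_dvd (Fact.out : p.Prime).pos h2
    have := (Fact.out : p.Prime).two_le
    nlinarith
  subst hp
  refine ⟨rfl, ?_⟩
  have : IsMulCommutative (⊥ : Subgroup P) := ⟨⟨fun a b => Subsingleton.elim _ _⟩⟩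
  obtain ⟨A, hA, hAc, -, hCA⟩ := PGroup.exists_self_centralizing_normal_abelian hP this
  have hcyc := hn A hA hAc
  obtain ⟨a, rfl⟩ : ∃ a : P, zpowers a = A := by
    obtain ⟨g, hg⟩ := hcyc.exists_generator
    refine ⟨g, le_antisymm (zpowers_le.2 g.2) fun x hx => ?_⟩
    obtain ⟨i, hi⟩ := mem_zpowers_iff.1 (hg ⟨x, hx⟩)
    exact ⟨i, congrArg Subtype.val hi⟩
  obtain ⟨m, hm⟩ : ∃ m, orderOf a = 2 ^ m := IsPGroup.iff_orderOf.1 hP a
  have hnorm : ∀ g : P, ∃ r : ℤ, g * a * g⁻¹ = a ^ r := fun g => by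
    obtain ⟨r, hr⟩ := mem_zpowers_iff.1 (hA.conj_mem a (mem_zpowers a) g)
    exact ⟨r, hr.symm⟩
  have hcent : ∀ g : P, g * a * g⁻¹ = a → g ∈ zpowers a := fun g hg => by
    rw [← hCA, mem_centralizer_iff]
    rintro _ ⟨i, rfl⟩
    have : Commute g a := mul_inv_eq_iff_eq_mul.1 hg
    exact (this.zpow_right i).eq.symm
  have hna : ∃ x y : P, x * y ≠ y * x := by
    by_contra h
    push Not at h
    have htop : IsMulCommutative (⊤ : Subgroup P) := ⟨⟨fun u v => Subtype.ext (h u.1 v.1)⟩⟩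
    have := hn ⊤ inferInstance htop
    exact hnc (isCyclic_of_surjective (⊤ : Subgroup P).subtype fun x => ⟨⟨x, mem_top x⟩, rfl⟩)
  have hpow : ∀ i : ℤ, a ^ i = 1 ↔ (2 : ℤ) ^ m ∣ i := fun i => by
    rw [← orderOf_dvd_iff_zpow_eq_one, hm]; norm_num
  have heq : ∀ i j : ℤ, a ^ i = a ^ j ↔ (2 : ℤ) ^ m ∣ i - j := fun i j => by
    rw [TwoGroups.zpow_eq_zpow_iff, hm]; norm_num
  have hm1 : 1 ≤ m := by
    by_contra h
    have h0 : m = 0 := by omega
    rw [h0, pow_zero, orderOf_eq_one_iff] at hm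
    apply hnc
    have : Subsingleton P := ⟨fun u v => by
      have hu : ∀ u : P, u = 1 := fun u => by
        have := hcent u (by rw [hm, mul_one, mul_inv_cancel])
        rwa [hm, zpowers_one_eq_bot, mem_bot] at this
      rw [hu u, hu v]⟩
    exact isCyclic_of_subsingleton
  have hrodd : ∀ (g : P) (r : ℤ), g * a * g⁻¹ = a ^ r → Odd r := by
    intro g r hr
    by_contra h
    obtain ⟨c, rfl⟩ := Int.not_odd_iff_even.1 h
    have hpre : (2 : ℤ) ^ (m - 1) * 2 = 2 ^ m := by rw [← pow_succ]; congr 1; omega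
    have h1 : g * a ^ ((2 : ℤ) ^ (m - 1)) * g⁻¹ = 1 := by
      rw [← conj_zpow, hr, ← zpow_mul, hpow, ← hpre]
      exact ⟨c, by ring⟩
    obtain ⟨d, hd⟩ := (hpow _).1 (conj_eq_one_iff.1 h1)
    rw [← hpre, mul_assoc] at hd
    have : (1 : ℤ) = 2 * d := mul_left_cancel₀ (pow_ne_zero _ two_ne_zero) ((mul_one _).trans hd)
    omega
  have hcomp : ∀ (g h : P) (r s : ℤ), g * a * g⁻¹ = a ^ r → h * a * h⁻¹ = a ^ s →
      g * h * a * (g * h)⁻¹ = a ^ (r * s) := by
    intro g h r s hr hs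
    calc g * h * a * (g * h)⁻¹ = g * (h * a * h⁻¹) * g⁻¹ := by group
      _ = a ^ (r * s) := by rw [hs, ← conj_zpow, hr, ← zpow_mul]
  -- nothing outside `⟨a⟩` acts as a power congruent to 1 modulo 4
  have hkey : ∀ (n : ℕ) (g : P) (r : ℤ), orderOf g = n → g * a * g⁻¹ = a ^ r → (4 : ℤ) ∣ r - 1 →
      g ∈ zpowers a := by
    intro n
    induction n using Nat.strong_induction_on with
    | _ n ih =>
      intro g r hgn hr h4
      by_contra hg
      have hg1 : g ≠ 1 := fun h => hg (h ▸ one_mem _)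
      have hm3 : 3 ≤ m := by
        by_contra h
        apply hg
        refine hcent g ?_
        rw [hr]
        calc a ^ r = a ^ (1 : ℤ) := (heq r 1).2 ((pow_dvd_pow 2 (show m ≤ 2 by omega)).trans h4)
          _ = a := zpow_one a
      have hlt : orderOf (g * g) < n := by
        obtain ⟨e, he⟩ := IsPGroup.iff_orderOf.1 hP g
        rcases e with _ | e
        · rw [pow_zero, orderOf_eq_one_iff] at he
          exact absurd he hg1
        · rw [← pow_two, orderOf_pow' g two_ne_zero, ← hgn, he,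
            Nat.gcd_eq_right (dvd_pow_self 2 (Nat.succ_ne_zero e))]
          exact Nat.div_lt_self (by positivity) one_lt_two
      have hr2 := hcomp g g r r hr hr
      have hgg := ih _ hlt (g * g) (r * r) rfl hr2 (by
        obtain ⟨c, hc⟩ := h4
        exact ⟨c * (r + 1), by linear_combination (r + 1) * hc⟩)
      obtain ⟨k, hk⟩ := mem_zpowers_iff.1 hgg
      obtain ⟨c, hc⟩ := h4
      -- `r ≡ 1 + 2^(m-1)`
      have h2m : (2 : ℤ) ^ (m - 1) * 2 = 2 ^ m := by rw [← pow_succ]; congr 1; omega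
      have hsq1 : (2 : ℤ) ^ m ∣ r * r - 1 := by
        rw [← heq, ← hr2, ← hk, zpow_one]
        group
      have hhalf : (2 : ℤ) ^ (m - 1) ∣ r - 1 := by
        have e : r * r - 1 = 2 * ((r - 1) * (1 + 2 * c)) := by linear_combination (r - 1) * hc
        rw [e, ← h2m, mul_comm _ (2 : ℤ), mul_dvd_mul_iff_left (two_ne_zero (α := ℤ))] at hsq1
        exact (IsCoprime.pow_left ⟨-c, 1, by ring⟩).dvd_of_dvd_mul_right hsq1
      have hr' : g * a * g⁻¹ = a ^ (1 + 2 ^ (m - 1) : ℤ) := by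
        obtain ⟨d, hd⟩ := hhalf
        rcases Int.even_or_odd d with ⟨f, rfl⟩ | ⟨f, rfl⟩
        · exfalso
          apply hg
          refine hcent g ?_
          rw [hr]
          calc a ^ r = a ^ (1 : ℤ) := (heq r 1).2 ⟨f, by rw [hd, ← h2m]; ring⟩
            _ = a := zpow_one a
        · rw [hr, heq]
          exact ⟨f, by rw [← h2m]; linear_combination hd⟩
      -- `k` is even
      have hkev : Even k := by
        have h1 : g * a ^ k * g⁻¹ = a ^ k := by rw [hk]; group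
        have h5 : (2 : ℤ) ^ m ∣ (1 + 2 ^ (m - 1)) * k - k := by
          rw [← heq, zpow_mul, ← hr', conj_zpow, h1]
        obtain ⟨d, hd⟩ := h5
        rw [← h2m] at hd
        exact ⟨d, mul_left_cancel₀ (pow_ne_zero (m - 1) (two_ne_zero (α := ℤ)))
          (by linear_combination hd)⟩
      obtain ⟨k', rfl⟩ := hkev
      -- choose an involution in the coset
      obtain ⟨u, v, huv⟩ : IsCoprime (1 + 2 ^ (m - 2) : ℤ) (2 ^ (m - 1)) := by
        refine IsCoprime.pow_right ⟨1, -2 ^ (m - 3), ?_⟩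
        rw [show (2 : ℤ) ^ (m - 2) = 2 * 2 ^ (m - 3) by rw [← pow_succ']; congr 1; omega]
        ring
      set j : ℤ := -(u * k') with hj
      set x : P := a ^ j * g with hx
      have hxa : x ∉ zpowers a := fun h => hg (by
        have := mul_mem (inv_mem (zpow_mem (mem_zpowers a) j)) h
        rwa [hx, inv_mul_cancel_left] at this)
      have hxx : x * x = 1 := by
        have e1 : g * a ^ j = a ^ ((1 + 2 ^ (m - 1)) * j) * g := by
          rw [zpow_mul, ← hr', conj_zpow, inv_mul_cancel_right]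
        calc x * x = a ^ j * (g * a ^ j) * g := by rw [hx]; simp only [mul_assoc]
          _ = a ^ j * a ^ ((1 + 2 ^ (m - 1)) * j) * (g * g) := by rw [e1]; simp only [mul_assoc]
          _ = 1 := by
            rw [← hk, ← zpow_add, ← zpow_add, hpow, hj,
              show (2 : ℤ) ^ (m - 1) = 2 * 2 ^ (m - 2) by rw [← pow_succ']; congr 1; omega]
            refine ⟨v * k', ?_⟩
            rw [← h2m, show (2 : ℤ) ^ (m - 1) = 2 * 2 ^ (m - 2) by rw [← pow_succ']; congr 1; omega]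
            rw [show (2 : ℤ) ^ (m - 1) = 2 * 2 ^ (m - 2) by rw [← pow_succ']; congr 1; omega] at huv
            linear_combination (-2 * k') * huv
      have hxr : x * a * x⁻¹ = a ^ (1 + 2 ^ (m - 1) : ℤ) := by
        rw [hx, show a ^ j * g * a * (a ^ j * g)⁻¹ = a ^ j * (g * a * g⁻¹) * (a ^ j)⁻¹ by group, hr']
        group
      obtain ⟨C, hC1, hC2, hC3⟩ := exists_normal_four hm3 hm hnorm hxa hxx hxr fun h => by
        obtain ⟨s, hs⟩ := hnorm h
        obtain ⟨t, ht⟩ := hnorm h⁻¹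
        have hst : a ^ (s * t) = a := by
          have := hcomp h h⁻¹ s t hs ht
          simpa using this.symm
        have h1 : (h * x * h⁻¹) * a * (h * x * h⁻¹)⁻¹ = a ^ (1 + 2 ^ (m - 1) : ℤ) := by
          have h3 := hcomp (h * x) h⁻¹ (s * (1 + 2 ^ (m - 1))) t (hcomp h x s _ hs hxr) ht
          rw [h3, show s * (1 + 2 ^ (m - 1)) * t = (s * t) * (1 + 2 ^ (m - 1) : ℤ) by ring, zpow_mul, hst]
        have h2 : h * x * h⁻¹ * x⁻¹ ∈ zpowers a := by
          refine hcent _ ?_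
          have hxi : x⁻¹ * a * x⁻¹⁻¹ = a ^ (1 + 2 ^ (m - 1) : ℤ) := by
            rw [show x⁻¹ = x from inv_eq_of_mul_eq_one_right hxx]; exact hxr
          rw [hcomp _ _ _ _ h1 hxi, zpow_mul, ← hxr, conj_zpow, ← hxr]
          calc x * (x * a * x⁻¹) * x⁻¹ = (x * x) * a * (x * x)⁻¹ := by group
            _ = a := by rw [hxx, one_mul, inv_one, mul_one]
        obtain ⟨i, hi⟩ := mem_zpowers_iff.1 h2
        exact ⟨i, by rw [hi, inv_mul_cancel_right]⟩
      exact hC3 (hn C hC1 hC2)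
  -- so the index is two
  obtain ⟨b, hb⟩ : ∃ b : P, b ∉ zpowers a := by
    by_contra h
    push Not at h
    exact hnc (isCyclic_iff_exists_zpowers_eq_top.2 ⟨a, eq_top_iff.2 fun x _ => h x⟩)
  have hidx : (zpowers a).index = 2 := by
    rw [index_eq_two_iff]
    refine ⟨b, fun g => ?_⟩
    by_cases hg : g ∈ zpowers a
    · refine Or.inr ⟨hg, fun h => hb ?_⟩
      have := mul_mem (inv_mem hg) h
      rwa [inv_mul_cancel_left] at this
    · refine Or.inl ⟨?_, hg⟩
      obtain ⟨r, hr⟩ := hnorm g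
      obtain ⟨s, hs⟩ := hnorm b
      refine hkey _ (g * b) (r * s) rfl (hcomp g b r s hr hs) ?_
      have key : ∀ (y : P) (w : ℤ), y * a * y⁻¹ = a ^ w → y ∉ zpowers a → (4 : ℤ) ∣ w + 1 := by
        intro y w hw hy
        obtain ⟨c, rfl⟩ := hrodd y w hw
        rcases Int.even_or_odd c with ⟨d, rfl⟩ | ⟨d, rfl⟩
        · exact absurd (hkey _ y _ rfl hw ⟨d, by ring⟩) hy
        · exact ⟨d + 1, by ring⟩
      obtain ⟨c, hc⟩ := key g r hr hg
      obtain ⟨d, hd⟩ := key b s hs hb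
      exact ⟨4 * c * d - c - d, by linear_combination s * hc + (4 * c - 1) * hd⟩
  have hcard : Nat.card P = 2 ^ (m + 1) := by
    rw [← (zpowers a).card_mul_index, hidx, Nat.card_zpowers, hm, pow_succ]
  rcases TwoGroups.equiv_of_cyclic_index_two hcard hm hna with h | h | h | ⟨hm3, x, hxa, hxx, hx⟩
  · refine Or.inr (Or.inl ⟨2 ^ m, ?_, h⟩)
    by_contra hlt
    have hm2 : m ≤ 2 := by
      by_contra hge
      exact hlt (le_trans (le_of_eq (by norm_num)) (Nat.pow_le_pow_right two_pos (show 3 ≤ m by omega)))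
    obtain ⟨e⟩ := h
    interval_cases m
    · -- order four groups are commutative
      obtain ⟨x, y, hxy⟩ := hna
      apply hxy
      refine e.injective ?_
      rw [map_mul, map_mul]
      have key : ∀ u v : DihedralGroup (2 ^ 1), u * v = v * u := by decide
      exact key _ _
    · obtain ⟨C, hC1, hC2, hC3⟩ := dihedral_four_normal
      have e' : P ≃* DihedralGroup 4 := e
      have hc : IsCyclic (C.map e'.symm.toMonoidHom) := hn _ (hC1.map _ e'.symm.surjective) (by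
        refine ⟨⟨fun u v => ?_⟩⟩
        obtain ⟨_, x, hx, rfl⟩ := u
        obtain ⟨_, y, hy, rfl⟩ := v
        refine Subtype.ext ?_
        show e'.symm x * e'.symm y = e'.symm y * e'.symm x
        rw [← map_mul, ← map_mul]
        exact congrArg e'.symm (congrArg Subtype.val (hC2.is_comm.comm ⟨x, hx⟩ ⟨y, hy⟩)))
      exact hC3 ((e'.symm.subgroupMap C).isCyclic.2 hc)
  · exact Or.inl ⟨_, h⟩
  · exact Or.inr (Or.inr h)
  · exfalso
    have hx' : x * a * x⁻¹ = a ^ (1 + 2 ^ (m - 1) : ℤ) := by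
      rw [hx, ← zpow_natCast]
      push_cast
      rfl
    refine hxa (hkey _ x _ rfl hx' ⟨2 ^ (m - 3), ?_⟩)
    rw [show (4 : ℤ) = 2 ^ 2 by norm_num, ← pow_add]
    have : 2 + (m - 3) = m - 1 := by omega
    rw [this]; ring

end Cfsg.Agent.S0519
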