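import Cfsg.Statements.S2251
import Cfsg.Agent.Suzuki.Maximal

set_option autoImplicit false
open Cfsg

namespace Cfsg.Agent.S2251

/-- The subgroups of the Suzuki group: with q = 2^(2m+1), m ≥ 1, r = 2^m and the group realised as the stabiliser in SL₄ of the Suzuki–Tits ovoid, every proper subgroup is contained in the normalizer of a Sylow 2-subgroup, or in the normalizer of a cyclic subgroup of order q − 1, q + 2r + 1 or q − 2r + 1, or in a subgroup isomorphic to a smaller Suzuki group Sz(s) with s = 2^(2k+1) ≥ 8 and 2k+1 a proper divisor of 2m+1. -/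
theorem result {F : Type*} [Field F] [Fintype F] {m : ℕ} (hm : 1 ≤ m) (hF : Fintype.card F = 2 ^ (2 * m + 1)) (M : Subgroup ↥(Cfsg.Sz F m)) (hM : M ≠ ⊤) :
    (∃ P : Sylow 2 ↥(Cfsg.Sz F m), M ≤ Subgroup.normalizer ((P : Subgroup ↥(Cfsg.Sz F m)) : Set ↥(Cfsg.Sz F m))) ∨
    (∃ U : Subgroup ↥(Cfsg.Sz F m), IsCyclic ↥U ∧ Nat.card ↥U ∈ ({2 ^ (2 * m + 1) - 1, 2 ^ (2 * m + 1) + 2 ^ (m + 1) + 1, 2 ^ (2 * m + 1) - 2 ^ (m + 1) + 1} : Set ℕ) ∧
      M ≤ Subgroup.normalizer (U : Set ↥(Cfsg.Sz F m))) ∨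
    (∃ (K : Type) (_ : Field K) (_ : Fintype K) (k : ℕ), 1 ≤ k ∧ k < m ∧ Fintype.card K = 2 ^ (2 * k + 1) ∧ 2 * k + 1 ∣ 2 * m + 1 ∧
      ∃ S : Subgroup ↥(Cfsg.Sz F m), Nonempty (↥S ≃* ↥(Cfsg.Sz K k)) ∧ M ≤ S) := by
  haveI : Cfsg.Agent.Suzuki.SuzukiField F m := ⟨hm, hF⟩
  haveI : Fact (Nat.Prime 2) := ⟨Nat.prime_two⟩
  rcases Cfsg.Agent.Suzuki.subgroup_cases M with
    ⟨U, ⟨P, rfl⟩ | hU, hle⟩ | ⟨g, K, ⟨s, hs, hs0, hs1⟩, hMe⟩
  · exact Or.inl ⟨P, hle⟩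
  · exact Or.inr (Or.inl ⟨U, hU.1, hU.2, hle⟩)
  refine Or.inr (Or.inr ?_)
  obtain ⟨k, hk, hdvd⟩ := Cfsg.Agent.Suzuki.subfield_card (m := m) K
  have hk1 : 1 ≤ k := by
    by_contra h0
    obtain rfl : k = 0 := by omega
    classical
    haveI : Fintype K := Fintype.ofFinite K
    rw [Nat.card_eq_fintype_card] at hk
    have h3 := Finset.card_le_univ ({0, 1, ⟨s, hs⟩} : Finset K)
    rw [Finset.card_insert_of_notMem (by simp [Subtype.ext_iff, hs0.symm]),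
      Finset.card_pair (by simp [Subtype.ext_iff, hs1.symm]), hk] at h3
    omega
  have hkm : k < m := by
    refine lt_of_le_of_ne ?_ ?_
    · have := Nat.le_of_dvd (Nat.succ_pos _) hdvd
      omega
    · rintro rfl
      refine hM (hMe.trans ?_)
      rw [Cfsg.Agent.Suzuki.eq_top_of_subfield_card (hk.trans hF.symm),
        Cfsg.Agent.Suzuki.genSz_top,
        Subgroup.map_top_of_surjective _ (MulAut.conj g).surjective]
  letI : Fintype (GaloisField 2 (2 * k + 1)) := Fintype.ofFinite _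
  have hc : Fintype.card (GaloisField 2 (2 * k + 1)) = 2 ^ (2 * k + 1) := by
    rw [← Nat.card_eq_fintype_card, GaloisField.card 2 _ (by omega)]
  haveI : Cfsg.Agent.Suzuki.SuzukiField (GaloisField 2 (2 * k + 1)) k := ⟨hk1, hc⟩
  obtain ⟨e⟩ := Cfsg.Agent.Suzuki.genSz_equiv (F := F) (m := m)
    (K' := GaloisField 2 (2 * k + 1)) hdvd K hk
  refine ⟨GaloisField 2 (2 * k + 1), inferInstance, inferInstance, k, hk1, hkm, hc, hdvd,
    (Cfsg.Agent.Suzuki.genSz F m K).map (MulAut.conj g).toMonoidHom, ⟨?_⟩, hMe.le⟩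
  exact ((Cfsg.Agent.Suzuki.genSz F m K).equivMapOfInjective _ (MulAut.conj g).injective).symm.trans e

end Cfsg.Agent.S2251
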