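import Cfsg.Statements.S5892
import Cfsg.Agent.MaxSub.Dickson.Platonic
import Cfsg.Agent.MaxSub.Dickson.SmallPairs
import Cfsg.Agent.MaxSub.Dickson.SmallOrder
import Cfsg.Agent.PSLTwoSub.Platonic
import Mathlib.RingTheory.Norm.Basic

set_option autoImplicit false
open Cfsg Cfsg.Agent.MaxSub.Dickson MulAction
open scoped MatrixGroups OnePoint

namespace Cfsg.Agent.S5892

variable {F : Type*} [Field F] [Fintype F] [DecidableEq F]

theorem card_inf_lsub (hodd : Odd (Fintype.card F)) {H : Subgroup PGL(2, F)} (hH : ¬ H ≤ lsub F) :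
    2 * Nat.card (H ⊓ lsub F : Subgroup PGL(2, F)) = Nat.card H := by
  have : (lsub F).Normal := lsub_normal
  have h2 : (lsub F).relIndex H = 2 := by
    have h := Subgroup.relIndex_dvd_index_of_normal (lsub F) H
    rw [lsub_index_two hodd] at h
    rcases (Nat.dvd_prime Nat.prime_two).1 h with h' | h'
    · exact absurd (Subgroup.relIndex_eq_one.1 h') hH
    · exact h'
  have := Subgroup.card_mul_index ((lsub F).subgroupOf H)
  rw [show ((lsub F).subgroupOf H).index = 2 from h2, ← Subgroup.inf_subgroupOf_left,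
    Nat.card_congr (Subgroup.subgroupOfEquivOfLe inf_le_left).toEquiv] at this
  rw [mul_comm]; exact this

/-- In odd degree a non-square of the subfield stays a non-square. -/
theorem subPGL_not_le_lsub (hodd : Odd (Fintype.card F)) {F₁ : Subfield F} {r : ℕ} (hr : Odd r)
    (hc : Fintype.card F = Nat.card F₁ ^ r) : ¬ (subPGL F₁).range ≤ lsub F := by
  classical
  have : Fintype F₁ := Fintype.ofFinite _
  have hoa : Odd (Fintype.card F₁) := by
    have h := hc ▸ hodd
    rw [Nat.card_eq_fintype_card] at h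
    exact (Nat.odd_pow_iff (by rintro rfl; simp at hr)).1 h
  obtain ⟨c, hcn⟩ := FiniteField.exists_nonsquare (F := F₁) (fun h2 => by
    have := FiniteField.even_card_iff_char_two.1 h2
    rw [Nat.odd_iff] at hoa; omega)
  have hc0 : c ≠ 0 := fun e => hcn (e ▸ IsSquare.zero)
  intro hle
  have hm := hle ⟨aff (Units.mk0 c hc0) 0, rfl⟩
  rw [subPGL, aff, Matrix.ProjGenLinGroup.map_mk, mk_mem_lsub_iff] at hm
  have hsq : IsSquare (c : F) := by
    simpa [Matrix.GeneralLinearGroup.mkOfDetNeZero, Matrix.det_fin_two] using hm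
  obtain ⟨x, hx'⟩ := hsq
  have hx : algebraMap F₁ F c = x * x := hx'
  have hn := congrArg (Algebra.norm F₁) hx
  rw [Algebra.norm_algebraMap, map_mul] at hn
  have hfr : Module.finrank F₁ F = r := by
    have h1 : Nat.card F = Nat.card F₁ ^ Module.finrank F₁ F := Module.natCard_eq_pow_finrank
    rw [Nat.card_eq_fintype_card (α := F), hc] at h1
    exact (Nat.pow_right_injective (Finite.one_lt_card (α := F₁)) h1).symm
  rw [hfr] at hn
  obtain ⟨j, rfl⟩ := hr
  refine hcn ⟨Algebra.norm F₁ x / c ^ j, ?_⟩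
  field_simp
  linear_combination hn

omit [DecidableEq F] in
theorem exists_sqrt_five (h : 5 ∣ Fintype.card F * (Fintype.card F - 1) * (Fintype.card F + 1)) :
    ∃ s : F, s * s = 5 := by
  obtain ⟨t, ht⟩ := PSLTwoSub.exists_trace_root (F := F) (by rw [Linear.card_SL_two]; exact h)
  exact ⟨2 * t + 1, by linear_combination 4 * ht⟩

/-- Let F be a finite field of odd order q ≥ 5 and characteristic p, and let M be a maximal subgroup of PSL₂(F). Then one of the following holds: |M| = q(q − 1)/2 (the stabiliser of a point of the projective line); q ≥ 13 and M is dihedral of order q − 1; q ∉ {7, 9} and M is dihedral of order q + 1; q = q₀² and M ≅ PGL₂(F₀) with |F₀| = q₀; q = q₀^r for an odd prime r and M ≅ PSL₂(F₀) with |F₀| = q₀; q ≡ ±1 (mod 10) with q = p or q = p², p ≡ ±3 (mod 10), and M ≅ A₅; q = p ≡ ±3 (mod 8), q ≢ ±1 (mod 10), and M ≅ A₄; or q = p ≡ ±1 (mod 8) and M ≅ S₄. -/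
theorem result {F : Type*} [Field F] [Fintype F] (p : ℕ)
    [Fact p.Prime] [CharP F p] (hodd : Odd (Fintype.card F)) (h5 : 5 ≤ Fintype.card F)
    (M : Subgroup (Matrix.ProjectiveSpecialLinearGroup (Fin 2) F)) (hM : IsCoatom M) :
    2 * Nat.card M = Fintype.card F * (Fintype.card F - 1) ∨
    (13 ≤ Fintype.card F ∧ (∃ k : ℕ, 2 * k = Fintype.card F - 1 ∧ Nonempty (M ≃* DihedralGroup k))) ∨
    (Fintype.card F ≠ 7 ∧ Fintype.card F ≠ 9 ∧ (∃ k : ℕ, 2 * k = Fintype.card F + 1 ∧ Nonempty (M ≃* DihedralGroup k))) ∨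
    (∃ (F₀ : Type) (_ : Field F₀) (_ : Fintype F₀), Fintype.card F = Fintype.card F₀ ^ 2 ∧
        Nonempty (M ≃* Matrix.ProjGenLinGroup (Fin 2) F₀)) ∨
    (∃ (F₀ : Type) (_ : Field F₀) (_ : Fintype F₀) (r : ℕ), r.Prime ∧ Odd r ∧ Fintype.card F = Fintype.card F₀ ^ r ∧
        Nonempty (M ≃* Matrix.ProjectiveSpecialLinearGroup (Fin 2) F₀)) ∨
    ((Fintype.card F % 10 = 1 ∨ Fintype.card F % 10 = 9) ∧
        (Fintype.card F = p ∨ (Fintype.card F = p ^ 2 ∧ (p % 10 = 3 ∨ p % 10 = 7))) ∧
        Nonempty (M ≃* alternatingGroup (Fin 5))) ∨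
    (Fintype.card F = p ∧ (p % 8 = 3 ∨ p % 8 = 5) ∧ ¬ (p % 10 = 1 ∨ p % 10 = 9) ∧
        Nonempty (M ≃* alternatingGroup (Fin 4))) ∨
    (Fintype.card F = p ∧ (p % 8 = 1 ∨ p % 8 = 7) ∧ Nonempty (M ≃* Equiv.Perm (Fin 4))) := by
  classical
  obtain ⟨f, hp, hq⟩ := FiniteField.card F p
  have h2 := two_ne_zero_of_odd hodd
  have h4 : 4 ≤ Fintype.card F := by omega
  have hqodd := Nat.odd_iff.1 hodd
  have hp2 : p ≠ 2 := fun e => by
    rw [e] at hq
    rw [hq, Nat.pow_mod] at hqodd
    simp [f.ne_zero] at hqodd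
  set π := (Matrix.ProjectiveSpecialLinearGroup.toPGL (n := Fin 2) (R := F))
  have hπ : Function.Injective π := Matrix.ProjectiveSpecialLinearGroup.toPGL_injective
  set M' := M.map π with hM'
  have hL : M' ≤ lsub F := (Subgroup.map_le_range _ _).trans range_toPGL_eq.le
  let eM : M ≃* M' := M.equivMapOfInjective π hπ
  have hne : M' ≠ lsub F := fun e => hM.1 (Subgroup.map_injective hπ (by
    rw [← hM', e, ← range_toPGL_eq, MonoidHom.range_eq_map]))
  have hmax : ∀ N, M' ≤ N → N ≤ lsub F → N ≠ lsub F → M' = N := by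
    intro N h1 h2' h3
    rcases hM.le_iff.1 (Subgroup.map_le_iff_le_comap.1 h1) with h | h
    · refine absurd (le_antisymm h2' ?_) h3
      rw [← range_toPGL_eq]
      rintro _ ⟨x, rfl⟩
      have : x ∈ N.comap π := h ▸ Subgroup.mem_top x
      exact this
    · rw [hM', ← h, Subgroup.map_comap_eq_self (h2'.trans range_toPGL_eq.ge)]
  have hcL : 2 * Nat.card (lsub F) =
      Fintype.card F * (Fintype.card F - 1) * (Fintype.card F + 1) := by
    have h := card_lsub_mul (F := F)
    rwa [Nat.gcd_eq_left (show 2 ∣ Fintype.card F - 1 by omega)] at h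
  have hL60 : 60 ≤ Nat.card (lsub F) := by
    have h6 : 5 * 4 * 6 ≤ Fintype.card F * (Fintype.card F - 1) * (Fintype.card F + 1) :=
      Nat.mul_le_mul (Nat.mul_le_mul h5 (by omega)) (by omega)
    omega
  -- conjugates of subgroups of `L` lie in `L`
  have hconjL : ∀ {H : Subgroup PGL(2, F)} (g : PGL(2, F)), H ≤ lsub F →
      H.map (MulAut.conj g).toMonoidHom ≤ lsub F := fun g hH =>
    (Subgroup.map_mono hH).trans (map_conj_lsub g).le
  have hback : ∀ {H : Subgroup PGL(2, F)} {g : PGL(2, F)},
      M'.map (MulAut.conj g⁻¹).toMonoidHom ≤ H → M' ≤ H.map (MulAut.conj g).toMonoidHom :=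
    fun {H g} h z hz => ⟨g⁻¹ * z * g, h ⟨z, hz, by simp⟩, by simp [mul_assoc]⟩
  have hto : ∀ {H : Subgroup PGL(2, F)} {g : PGL(2, F)}, M' = H.map (MulAut.conj g).toMonoidHom →
      M'.map (MulAut.conj g⁻¹).toMonoidHom = H := by
    intro H g e
    rw [e, Subgroup.map_map]
    ext z
    simp [mul_assoc]
  have hcard : ∀ {H : Subgroup PGL(2, F)} {g : PGL(2, F)},
      M'.map (MulAut.conj g⁻¹).toMonoidHom = H → Nat.card M' = Nat.card H := fun {H g} e =>
    e ▸ Nat.card_congr (M'.equivMapOfInjective _ (MulAut.conj g⁻¹).injective).toEquiv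
  have hoddsub : ∀ F₁ : Subfield F, Nat.gcd 2 (Nat.card F₁ - 1) = 2 := by
    intro F₁
    obtain ⟨r, hr1, hr⟩ := card_subfield_pow F₁
    have : Odd (Nat.card F₁) := (Nat.odd_pow_iff (by omega)).1 (hr ▸ hodd)
    rw [Nat.odd_iff] at this
    exact Nat.gcd_eq_left (by omega)
  have pslcase : ∀ (F₀ : Subfield F) (g : PGL(2, F)), F₀ ≠ ⊤ →
      M'.map (MulAut.conj g⁻¹).toMonoidHom = (subPSL F₀).range →
      ∃ (E : Type) (_ : Field E) (_ : Fintype E) (r : ℕ), r.Prime ∧ Odd r ∧
        Fintype.card F = Fintype.card E ^ r ∧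
        Nonempty (M ≃* Matrix.ProjectiveSpecialLinearGroup (Fin 2) E) := by
    intro F₀ g hne₀ he
    obtain ⟨F₁, r, hr, hle, hc⟩ := exists_prime_index_subfield hne₀
    have hpr := not_lsub_le_subPGL h4 hr.two_le hc g
    have e1 := hmax _ (hback (he.le.trans (subPSL_mono hle))) (hconjL g (subPSL_le_lsub F₁))
      (fun e => hpr (e.ge.trans (Subgroup.map_mono (subPSL_le_subPGL F₁))))
    have c0 := card_subPSL_range F₀
    have c1 := card_subPSL_range F₁
    rw [hoddsub] at c0 c1
    rw [← hcard he] at c0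
    rw [← hcard (hto e1)] at c1
    have hab : Nat.card F₀ = Nat.card F₁ := subfield_card_inj (c0.symm.trans c1)
    have hrodd : Odd r := by
      by_contra hev
      rw [Nat.not_odd_iff_even] at hev
      have e2 := hmax _ (hback (he.le.trans ((subPSL_mono hle).trans (subPSL_le_subPGL F₁))))
        (hconjL g (subPGL_le_lsub_of_even hev hodd hc)) (fun e => hpr e.ge)
      have c2 := hcard (hto e2)
      rw [card_subPGL_range] at c2
      have := Nat.card_pos (α := M')
      omega
    obtain ⟨E, hE1, hE2, hEc, -, ⟨e1'⟩⟩ := exists_small_model F₀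
    exact ⟨E, hE1, hE2, r, hr, hrodd, by rw [hEc, hab]; exact hc,
      ⟨eM.trans ((M'.equivMapOfInjective _ (MulAut.conj g⁻¹).injective).trans
        ((MulEquiv.subgroupCongr he).trans ((MonoidHom.ofInjective (subPSL_injective F₀)).symm.trans e1')))⟩⟩
  have pglcase : ∀ (F₀ : Subfield F) (g : PGL(2, F)), F₀ ≠ ⊤ →
      M'.map (MulAut.conj g⁻¹).toMonoidHom = (subPGL F₀).range →
      ∃ (E : Type) (_ : Field E) (_ : Fintype E), Fintype.card F = Fintype.card E ^ 2 ∧
        Nonempty (M ≃* PGL(2, E)) := by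
    intro F₀ g hne₀ he
    have hF₀L : (subPGL F₀).range ≤ lsub F := he ▸ hconjL _ hL
    obtain ⟨F₁, r, hr, hle, hc⟩ := exists_prime_index_subfield hne₀
    have hpr := not_lsub_le_subPGL h4 hr.two_le hc g
    have e1 := hmax _ (le_inf (hback (he.le.trans (subPGL_mono hle))) hL) inf_le_right
      (fun e => hpr (e.ge.trans inf_le_left))
    have hab : Nat.card F₀ = Nat.card F₁ ∧ r = 2 := by
      rcases hr.eq_two_or_odd' with rfl | hrodd
      · refine ⟨?_, rfl⟩
        rw [inf_eq_left.2 (hconjL g (subPGL_le_lsub_of_even even_two hodd hc))] at e1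
        exact subfield_card_inj (by rw [← card_subPGL_range, ← card_subPGL_range, ← hcard he, ← hcard (hto e1)])
      · exfalso
        have hF₁ := subPGL_not_le_lsub hodd hrodd hc
        have hsub : (subPSL F₁).range ≤ (subPGL F₀).range := by
          rw [← he, e1]
          intro z hz
          exact ⟨g * z * g⁻¹, ⟨⟨z, subPSL_le_subPGL F₁ hz, rfl⟩,
            hconjL g (subPSL_le_lsub F₁) ⟨z, hz, rfl⟩⟩, by simp [mul_assoc]⟩
        have c1 := card_subPSL_range F₁
        rw [hoddsub] at c1
        have c2 := Subgroup.card_le_of_le hsub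
        rw [card_subPGL_range] at c2
        obtain ⟨r₀, hr₀, hc₀⟩ := card_subfield_pow F₀
        obtain ⟨i, -, hi⟩ := (Nat.dvd_prime_pow hp).1
          (hq ▸ hc₀ ▸ dvd_pow_self (Nat.card F₀) (show r₀ ≠ 0 by omega) : Nat.card F₀ ∣ p ^ (f : ℕ))
        obtain ⟨j, -, hj⟩ := (Nat.dvd_prime_pow hp).1
          (hq ▸ hc ▸ dvd_pow_self (Nat.card F₁) hr.ne_zero : Nat.card F₁ ∣ p ^ (f : ℕ))
        have hle01 : Nat.card F₀ ≤ Nat.card F₁ :=
          Nat.card_le_card_of_injective _ (Subfield.inclusion hle).injective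
        rcases hle01.eq_or_lt with h01 | h01
        · have : F₀ = F₁ := SetLike.coe_injective (Set.eq_of_subset_of_ncard_le hle (by
            rw [← Nat.card_coe_set_eq, ← Nat.card_coe_set_eq, SetLike.coe_sort_coe,
              SetLike.coe_sort_coe]
            omega))
          exact hF₁ (this ▸ hF₀L)
        · have hij : i < j := by
            rw [hi, hj] at h01
            exact (Nat.pow_lt_pow_iff_right hp.one_lt).1 h01
          have h3a : 3 * Nat.card F₀ ≤ Nat.card F₁ := by
            rw [hi, hj]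
            calc 3 * p ^ i ≤ p * p ^ i := Nat.mul_le_mul_right _ (by
                  have := hp.two_le; omega)
              _ = p ^ (i + 1) := by rw [pow_succ']
              _ ≤ p ^ j := Nat.pow_le_pow_right hp.pos hij
          have ha : 2 ≤ Nat.card F₀ := Finite.one_lt_card
          have h6 : 3 * Nat.card F₀ * (Nat.card F₀ - 1) * (Nat.card F₀ + 1)
              ≤ Nat.card F₁ * (Nat.card F₁ - 1) * (Nat.card F₁ + 1) :=
            Nat.mul_le_mul (Nat.mul_le_mul h3a (by omega)) (by omega)
          have h7 : 0 < Nat.card F₀ * (Nat.card F₀ - 1) * (Nat.card F₀ + 1) :=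
            Nat.mul_pos (Nat.mul_pos (by omega) (by omega)) (by omega)
          rw [mul_assoc 3, mul_assoc 3] at h6
          omega
    obtain ⟨E, hE1, hE2, hEc, ⟨e1'⟩, -⟩ := exists_small_model F₀
    exact ⟨E, hE1, hE2, by rw [hEc, hab.1, hc, hab.2],
      ⟨eM.trans ((M'.equivMapOfInjective _ (MulAut.conj g⁻¹).injective).trans
        ((MulEquiv.subgroupCongr he).trans ((MonoidHom.ofInjective (subPGL_injective F₀)).symm.trans e1')))⟩⟩
  -- a small overgroup of a dihedral subgroup
  have small : ∀ N : Subgroup PGL(2, F), M' ≤ N → N ≤ lsub F → Nat.card N < Nat.card (lsub F) →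
      Nat.card M' < Nat.card N → False := fun N h1 h2' h3 h4' => by
    rw [← hmax N h1 h2' (fun e => h3.ne (by rw [e]))] at h4'
    exact lt_irrefl _ h4'
  have hbot : (⊥ : Subfield F) = ⊤ → Fintype.card F = p := fun htop => by
    rw [← Subfield.card_bot F p, (subfield_eq_top_iff _).1 htop]
  have hbot' : (⊥ : Subfield F) ≠ ⊤ → ∀ g, ¬ lsub F ≤ (subPGL (⊥ : Subfield F)).range.map
      (MulAut.conj g).toMonoidHom := fun htop g => by
    obtain ⟨r, -, hr⟩ := card_subfield_pow (⊥ : Subfield F)
    have hr2 : 2 ≤ r := by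
      by_contra hh
      rcases (show r = 0 ∨ r = 1 by omega) with rfl | rfl
      · rw [pow_zero] at hr; omega
      · rw [pow_one] at hr; exact htop ((subfield_eq_top_iff _).2 hr.symm)
    exact not_lsub_le_subPGL h4 hr2 hr g
  rcases classifyF (K := AlgebraicClosure F) (p := p) M' with
    ⟨a, b, m, -, -, hm, hle, -⟩ | ⟨a, b, m, n, hm, hle, -, -, -, -, -⟩ | ⟨x, hfix, -⟩ |
    ⟨-, hc12, ⟨e⟩⟩ | ⟨-, hc24, ⟨e⟩⟩ | ⟨-, hc60, ⟨e⟩⟩ | ⟨F₀, g, hF₀4, he⟩ | ⟨F₀, g, hF₀4, -, he⟩
  · exfalso
    obtain ⟨k, hk, hTc, hPc, -⟩ := hm.stab_lsub hodd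
    have heq := hmax _ (le_inf (hle.trans tor_le_pairStab) hL) inf_le_right
      (fun e => hm.not_lsub_le h4 (e.ge.trans inf_le_left))
    have hc := Subgroup.card_le_of_le (le_inf hle hL)
    rw [hTc, heq, hPc] at hc
    have : 0 < k := hTc ▸ Nat.card_pos
    omega
  · obtain ⟨k, hk, hTc, hPc, ⟨iso⟩⟩ := hm.stab_lsub hodd
    have heq := hmax _ (le_inf hle hL) inf_le_right
      (fun e => hm.not_lsub_le h4 (e.ge.trans inf_le_left))
    have hiso : Nonempty (M ≃* DihedralGroup k) := ⟨eM.trans ((MulEquiv.subgroupCongr heq).trans iso)⟩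
    set P : Subgroup PGL(2, F) := pairStab a b ⊓ lsub F with hP
    have hab := hm.1
    have torus : ∀ (r : ℕ) (h : ℕ), r.Prime → k = r → ¬ r ^ 2 ∣ Nat.card (lsub F) →
        (r, h, 2 * k) = (3, 24, 6) ∨ (r, h, 2 * k) = (5, 60, 10) → h < Nat.card (lsub F) →
        (∃ H₀ : Subgroup (Matrix.ProjectiveSpecialLinearGroup (Fin 2) F), Nat.card H₀ = h) → False := by
      rintro r h hr hkr hnd hcases hlt ⟨H₀, hH₀⟩
      haveI := Fact.mk hr
      have hCne : (tor (F := F) a b ⊓ lsub F : Subgroup PGL(2, F)) ≠ ⊥ := fun e => by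
        rw [e, Subgroup.card_bot] at hTc
        exact hr.one_lt.ne (hTc.trans hkr)
      have hrh : r ^ 1 ∣ Nat.card H₀ := by
        rw [hH₀, pow_one]
        rcases hcases with h' | h' <;> simp only [Prod.mk.injEq] at h' <;> obtain ⟨rfl, rfl, -⟩ := h' <;>
          norm_num
      obtain ⟨N, hN1, hN2, hN3⟩ := exists_overgroup (n := 1) (inf_le_inf_right _ tor_le_pairStab)
        (inf_le_right : P ≤ lsub F) (by rw [pow_one, hTc, hkr]) hnd
        (fun g hg hn => ⟨normalizer_le_pairStab hab inf_le_left hCne hn, hg⟩) H₀ hrh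
        (fun S => by rw [hPc]; exact card_sylow_normalizer_ge hH₀ hcases S)
      refine small N (heq ▸ hN1) hN2 (by omega) ?_
      rw [heq, hPc, hN3, hH₀]
      rcases hcases with h' | h' <;> simp only [Prod.mk.injEq] at h' <;> obtain ⟨-, rfl, h''⟩ := h' <;>
        omega
    have exA5 : 5 ∣ Fintype.card F * (Fintype.card F - 1) * (Fintype.card F + 1) →
        ∃ H₀ : Subgroup (Matrix.ProjectiveSpecialLinearGroup (Fin 2) F), Nat.card H₀ = 60 := by
      intro hd
      obtain ⟨H₀, ⟨eH⟩⟩ := PSLTwoSub.exists_alt_five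
        (PSLTwoSub.exists_trace_root (F := F) (by rw [Linear.card_SL_two]; exact hd))
      refine ⟨H₀, ?_⟩
      rw [Nat.card_congr eH.toEquiv, nat_card_alternatingGroup]
      simp [Nat.factorial]
    have exS4 : Fintype.card F = 7 →
        ∃ H₀ : Subgroup (Matrix.ProjectiveSpecialLinearGroup (Fin 2) F), Nat.card H₀ = 24 := by
      intro h7
      obtain ⟨e', he'⟩ := (FiniteField.isSquare_two_iff (F := F)).2 (by omega)
      obtain ⟨H₀, ⟨eH⟩⟩ := PSLTwoSub.exists_sym_four h2 e' (by rw [he']; ring)
      refine ⟨H₀, ?_⟩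
      rw [Nat.card_congr eH.toEquiv, Nat.card_perm, Nat.card_fin]
      rfl
    obtain ⟨-, ⟨sa, sb, rfl⟩ | ⟨-, -, rfl⟩⟩ := id hm
    · refine Or.inr (Or.inl ⟨?_, k, hk, hiso⟩)
      by_contra h13
      rcases (show Fintype.card F = 5 ∨ Fintype.card F = 7 ∨ Fintype.card F = 9 ∨ Fintype.card F = 11
        by omega) with hq' | hq' | hq' | hq'
      rotate_left
      · exact torus 3 24 Nat.prime_three (by omega) (fun hd => by
          have : Nat.card (lsub F) = 168 := by rw [hq'] at hcL; omega
          rw [this] at hd; norm_num at hd) (Or.inl (by congr 2; omega))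
          (by rw [hq'] at hcL; omega) (exS4 hq')
      rotate_left
      · exact torus 5 60 Nat.prime_five (by omega) (fun hd => by
          have : Nat.card (lsub F) = 660 := by rw [hq'] at hcL; omega
          rw [this] at hd; norm_num at hd) (Or.inr (by congr 2; omega))
          (by rw [hq'] at hcL; omega) (exA5 (by rw [hq']; norm_num))
      all_goals
        obtain ⟨x, rfl⟩ := sig_eq_self_iff.1 sa
        obtain ⟨y, rfl⟩ := sig_eq_self_iff.1 sb
        have hxy : x ≠ y := fun e => hab (by rw [e])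
        have hi1 : IsSquare (-1 : F) := FiniteField.isSquare_neg_one_iff.2 (by omega)
        obtain ⟨i, hi⟩ := id hi1
        obtain ⟨N, t, hSN, hLN, htN, htS, htL⟩ := split_pair_supergroup (K := AlgebraicClosure F) h2
          hi.symm hxy P inf_le_left (fun h _ _ u hu => by
            have hsq : IsSquare (u : F) := by
              rcases hu with hu | hu <;>
                have hu' := lsub_normal.conj_mem _ (inf_le_right (a := pairStab (pt₀ _ x) (pt₀ _ y)) hu) h⁻¹
              · rw [show h⁻¹ * (h * aff u 0 * h⁻¹) * h⁻¹⁻¹ = aff u 0 by group] at hu'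
                exact (aff_mem_lsub_iff u 0).1 hu'
              · rw [show h⁻¹ * (h * (aff u 0 * recipP) * h⁻¹) * h⁻¹⁻¹ = aff u 0 * recipP by group,
                  mul_mem_lsub_iff hodd] at hu'
                exact (aff_mem_lsub_iff u 0).1 (hu'.2 (mem_lsub_recipP hi1))
            obtain ⟨w, hw⟩ := hsq
            have hw0 : w ≠ 0 := fun e => u.ne_zero (by rw [hw, e, mul_zero])
            refine Units.ext ?_
            have h' := FiniteField.pow_card_sub_one_eq_one w hw0
            rw [hq'] at h'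
            push_cast
            rw [hw]
            first
              | linear_combination h'
              | linear_combination (w ^ 4 + 1) * h')
        have htsq : t ∈ lsub F := htL (by
          have hcast := FiniteField.cast_card_eq_zero F
          rw [hq'] at hcast
          push_cast at hcast
          have hne2 : -(2 * i) ≠ 0 := neg_ne_zero.2 (mul_ne_zero h2 (fun e => by
            rw [e, mul_zero] at hi; exact one_ne_zero (neg_eq_zero.1 hi)))
          rw [FiniteField.isSquare_iff (fun hc2 => by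
            have := FiniteField.even_card_iff_char_two.1 hc2
            omega) hne2, hq']
          first
            | (show (-(2 * i)) ^ 2 = 1
               linear_combination -4 * hi - hcast)
            | (show (-(2 * i)) ^ 4 = 1
               have h3 : (3 : F) = 0 := by
                have : (3 : F) * 3 = 0 := by linear_combination hcast
                rcases mul_eq_zero.1 this with h | h <;> exact h
               linear_combination -16 * (i * i - 1) * hi + 5 * h3))
        have hN := hmax (N ⊓ lsub F) (le_inf (heq ▸ hSN) hL) inf_le_right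
          (fun e => hLN (e.ge.trans inf_le_left))
        have : t ∈ M' := hN.symm ▸ (⟨htN, htsq⟩ : t ∈ N ⊓ lsub F)
        rw [heq] at this
        exact htS this.1
    · refine Or.inr (Or.inr (Or.inl ⟨fun hq' => ?_, fun hq' => ?_, k, hk, hiso⟩))
      · haveI := Fact.mk Nat.prime_two
        obtain ⟨H₀, hH₀⟩ := exS4 hq'
        have hcard168 : Nat.card (lsub F) = 168 := by rw [hq'] at hcL; omega
        obtain ⟨ψ, S, hψ, hψL, hS⟩ := exists_embedding_sylow (r := 2) (n := 3)
          (inf_le_right : P ≤ lsub F) (by rw [hPc]; omega) (by rw [hcard168]; norm_num) H₀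
          (by rw [hH₀]; norm_num)
        have hc' : Nat.card ψ.range = 24 :=
          (Nat.card_congr (MonoidHom.ofInjective hψ).toEquiv).symm.trans hH₀
        refine small ψ.range (by rw [heq, hP, ← hS]; exact Subgroup.map_le_range _ _) hψL (by omega) ?_
        rw [heq, hPc]
        omega
      · exact torus 5 60 Nat.prime_five (by omega) (fun hd => by
          have : Nat.card (lsub F) = 360 := by rw [hq'] at hcL; omega
          rw [this] at hd; norm_num at hd) (Or.inr (by congr 2; omega))
          (by rw [hq'] at hcL; omega) (exA5 (by rw [hq']; norm_num))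
  · left
    have hne' : stabilizer PGL(2, F) x ⊓ lsub F ≠ lsub F := fun e =>
      not_lsub_le_stab h4 x (e.ge.trans inf_le_left)
    have heq := hmax _ (le_inf hfix hL) inf_le_right hne'
    rw [Nat.card_congr eM.toEquiv, heq, card_inf_lsub hodd, card_stab]
    intro hle
    obtain ⟨h, rfl⟩ := exists_move x
    obtain ⟨c, hc⟩ := FiniteField.exists_nonsquare (F := F) (fun hc2 => by
      have := FiniteField.even_card_iff_char_two.1 hc2
      omega)
    have hc0 : c ≠ 0 := fun e => hc (e ▸ IsSquare.zero)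
    have hm := hle (x := h * aff (Units.mk0 c hc0) 0 * h⁻¹) (by
      rw [mem_stabilizer_iff, mul_smul, mul_smul, inv_smul_smul, aff_infty])
    have hm' := lsub_normal.conj_mem _ hm h⁻¹
    rw [show h⁻¹ * (h * aff (Units.mk0 c hc0) 0 * h⁻¹) * h⁻¹⁻¹ = aff (Units.mk0 c hc0) 0 by group,
      aff_mem_lsub_iff] at hm'
    exact hc hm'
  · have hns : ¬ IsSquare (2 : F) := fun hs => by
      obtain ⟨N, hlt, hN, hN24⟩ := alt_four_le_sym_four hodd hs hL e
      have := hmax N hlt.le hN (fun e' => by rw [e'] at hN24; omega)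
      exact hlt.ne this
    have h8 : Fintype.card F % 8 = 3 ∨ Fintype.card F % 8 = 5 := by
      by_contra hh
      push Not at hh
      exact hns (FiniteField.isSquare_two_iff.2 hh)
    by_cases htop : (⊥ : Subfield F) = ⊤
    · have hqp := hbot htop
      refine Or.inr (Or.inr (Or.inr (Or.inr (Or.inr (Or.inr (Or.inl ⟨hqp, hqp ▸ h8, ?_, ⟨eM.trans e⟩⟩))))))
      intro h10
      rw [← hqp] at h10
      have hd : 5 ∣ Fintype.card F * (Fintype.card F - 1) * (Fintype.card F + 1) := by
        rcases h10 with h10 | h10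
        · exact dvd_mul_of_dvd_left (dvd_mul_of_dvd_right (by omega) _) _
        · exact dvd_mul_of_dvd_right (by omega) _
      obtain ⟨s, hs⟩ := exists_sqrt_five hd
      obtain ⟨N, hN1, hN2, ⟨eN⟩⟩ := alt_four_le_alt_five hodd hs hL e
      have hN60 : Nat.card N = 60 := by
        rw [Nat.card_congr eN.toEquiv, nat_card_alternatingGroup]; simp [Nat.factorial]
      refine small N hN1 hN2 ?_ (by omega)
      have h11 : 11 * 10 * 12 ≤ Fintype.card F * (Fintype.card F - 1) * (Fintype.card F + 1) := by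
        have : 11 ≤ Fintype.card F := by
          by_contra hlt
          have hpr : (Fintype.card F).Prime := hqp ▸ hp
          rcases (show Fintype.card F = 9 by omega) with h9
          rw [h9] at hpr
          norm_num at hpr
        exact Nat.mul_le_mul (Nat.mul_le_mul this (by omega)) (by omega)
      omega
    · obtain ⟨g, hg⟩ := alt_four_descend hodd hL e
      have e1 := hmax _ (hback hg) (hconjL g (subPSL_le_lsub _))
        (fun e' => hbot' htop g (e'.ge.trans (Subgroup.map_mono (subPSL_le_subPGL _))))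
      exact Or.inr (Or.inr (Or.inr (Or.inr (Or.inl (pslcase ⊥ g htop (hto e1))))))
  · obtain ⟨hiff, g, hg⟩ := sym_four_data hodd e
    have h8 := FiniteField.isSquare_two_iff.1 (hiff.1 hL)
    by_cases htop : (⊥ : Subfield F) = ⊤
    · have hqp := hbot htop
      exact Or.inr (Or.inr (Or.inr (Or.inr (Or.inr (Or.inr (Or.inr
        ⟨hqp, by omega, ⟨eM.trans e⟩⟩))))))
    · have e1 := hmax _ (le_inf (hback hg) hL) inf_le_right
        (fun e' => hbot' htop g (e'.ge.trans inf_le_left))
      by_cases hgl : (subPGL (⊥ : Subfield F)).range ≤ lsub F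
      · rw [inf_eq_left.2 (hconjL g hgl)] at e1
        exact Or.inr (Or.inr (Or.inr (Or.inl (pglcase ⊥ g htop (hto e1)))))
      · exfalso
        have hc := card_inf_lsub hodd (H := (subPGL (⊥ : Subfield F)).range.map (MulAut.conj g).toMonoidHom)
          (fun hle' => hgl fun z hz => by
            have := lsub_normal.conj_mem _ (hle' ⟨z, hz, rfl⟩) g⁻¹
            simpa [mul_assoc] using this)
        rw [← Nat.card_congr ((subPGL (⊥ : Subfield F)).range.equivMapOfInjective _
          (MulAut.conj g).injective).toEquiv, card_subPGL_range, Subfield.card_bot F p, ← e1, hc24] at hc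
        rcases (show p = 3 ∨ 5 ≤ p by
          have := hp.two_le
          have : p ≠ 4 := fun e' => by rw [e'] at hp; norm_num at hp
          omega) with rfl | hp5
        · norm_num at hc
        · have : 5 * 4 * 6 ≤ p * (p - 1) * (p + 1) :=
            Nat.mul_le_mul (Nat.mul_le_mul hp5 (by omega)) (by omega)
          omega
  · obtain ⟨s, hs, hF⟩ := alt_five_descend hodd hL e
    have h7 : 7 ≤ Fintype.card F := by
      by_contra hlt
      rw [show Fintype.card F = 5 by omega] at hcL
      exact hne (Subgroup.eq_of_le_of_card_ge hL (by omega))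
    have hd5 : 5 ∣ Fintype.card F * (Fintype.card F - 1) * (Fintype.card F + 1) := by
      rw [← hcL]
      exact dvd_mul_of_dvd_right ((show 5 ∣ Nat.card M' by rw [hc60]; norm_num).trans
        (Subgroup.card_dvd_of_le hL)) _
    have sub60 : ∀ (F₁ : Subfield F), s ∈ F₁ → F₁ ≠ ⊤ →
        ∃ g, M'.map (MulAut.conj g⁻¹).toMonoidHom = (subPSL F₁).range := by
      intro F₁ hs₁ hne₁
      obtain ⟨g, hg⟩ := hF F₁ hs₁
      obtain ⟨r, -, hr⟩ := card_subfield_pow F₁
      have hr2 : 2 ≤ r := by
        by_contra hh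
        rcases (show r = 0 ∨ r = 1 by omega) with rfl | rfl
        · rw [pow_zero] at hr; omega
        · rw [pow_one] at hr; exact hne₁ ((subfield_eq_top_iff _).2 hr.symm)
      exact ⟨g, hto (hmax _ (hback hg) (hconjL g (subPSL_le_lsub _))
        (fun e' => not_lsub_le_subPGL h4 hr2 hr g (e'.ge.trans (Subgroup.map_mono (subPSL_le_subPGL _)))))⟩
    by_cases hs0 : s ∈ (⊥ : Subfield F)
    · by_cases htop : (⊥ : Subfield F) = ⊤
      · have hqp := hbot htop
        have hpr : (Fintype.card F).Prime := hqp ▸ hp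
        refine Or.inr (Or.inr (Or.inr (Or.inr (Or.inr (Or.inl ⟨?_, Or.inl hqp, ⟨eM.trans e⟩⟩)))))
        rcases (Nat.prime_five.dvd_mul.1 hd5) with h' | h'
        · rcases (Nat.prime_five.dvd_mul.1 h') with h'' | h''
          · rcases (Nat.dvd_prime hpr).1 h'' with h1 | h1 <;> omega
          · omega
        · omega
      · obtain ⟨g, hg⟩ := sub60 ⊥ hs0 htop
        exact Or.inr (Or.inr (Or.inr (Or.inr (Or.inl (pslcase ⊥ g htop hg)))))
    · have hp5 : p ≠ 5 := by
        rintro rfl
        have h50 : (5 : F) = 0 := by simpa using CharP.cast_eq_zero F 5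
        rw [h50, mul_self_eq_zero] at hs
        exact hs0 (hs ▸ zero_mem _)
      have hp10 : p % 10 = 3 ∨ p % 10 = 7 := by
        have hp_odd := hp.eq_two_or_odd.resolve_left hp2
        by_contra hh
        have hd : 5 ∣ p * (p - 1) * (p + 1) := by
          rcases (show p % 10 = 1 ∨ p % 10 = 5 ∨ p % 10 = 9 by omega) with h | h | h
          · exact dvd_mul_of_dvd_left (dvd_mul_of_dvd_right (by omega) _) _
          · exact dvd_mul_of_dvd_left (dvd_mul_of_dvd_left (by omega) _) _
          · exact dvd_mul_of_dvd_right (by omega) _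
        have : Fintype (⊥ : Subfield F) := Fintype.ofFinite _
        have hcb : Fintype.card (⊥ : Subfield F) = p := by
          rw [← Nat.card_eq_fintype_card, Subfield.card_bot F p]
        obtain ⟨s₀, hs₀⟩ := exists_sqrt_five (F := (⊥ : Subfield F)) (by rw [hcb]; exact hd)
        have hs₀' : (s₀ : F) * s₀ = 5 := by
          have := congrArg (⊥ : Subfield F).subtype hs₀
          rwa [map_mul, map_ofNat] at this
        rcases mul_self_eq_mul_self_iff.1 (hs.trans hs₀'.symm) with h | h
        · exact hs0 (h ▸ s₀.2)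
        · exact hs0 (h ▸ neg_mem s₀.2)
      obtain ⟨F₁, hs₁, hc₁⟩ := exists_small_subfield p hs
      by_cases htop : F₁ = ⊤
      · subst htop
        rw [(subfield_eq_top_iff _).1 rfl, hq] at hc₁
        have hf : (f : ℕ) = 2 := by
          have hf2 := (Nat.pow_le_pow_iff_right hp.one_lt).1 hc₁
          have hf1 : (f : ℕ) ≠ 1 := fun h1 => hs0 (by
            have : (⊥ : Subfield F) = ⊤ := (subfield_eq_top_iff _).2 (by
              rw [Subfield.card_bot F p, hq, h1, pow_one])
            rw [this]; trivial)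
          have := f.pos
          omega
        refine Or.inr (Or.inr (Or.inr (Or.inr (Or.inr (Or.inl
          ⟨?_, Or.inr ⟨by rw [hq, hf], hp10⟩, ⟨eM.trans e⟩⟩)))))
        rw [hq, hf, Nat.pow_mod]
        rcases hp10 with h | h <;> rw [h] <;> norm_num
      · exfalso
        obtain ⟨g, hg⟩ := sub60 F₁ hs₁ htop
        have c1 := card_subPSL_range F₁
        rw [hoddsub, ← hcard hg, hc60] at c1
        obtain ⟨r, hr1, hr⟩ := card_subfield_pow F₁
        have hdp : Nat.card F₁ ∣ p ^ (f : ℕ) := hq ▸ hr ▸ dvd_pow_self _ (by omega)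
        obtain ⟨i, -, hi⟩ := (Nat.dvd_prime_pow hp).1 hdp
        have ha5 : Nat.card F₁ = 5 := by
          have ha2 : 2 ≤ Nat.card F₁ := Finite.one_lt_card
          generalize Nat.card F₁ = a at c1 ha2
          rcases Nat.lt_or_ge a 6 with hlt | hge
          · interval_cases a <;> omega
          · have : 6 * 5 * 7 ≤ a * (a - 1) * (a + 1) :=
              Nat.mul_le_mul (Nat.mul_le_mul hge (by omega)) (by omega)
            omega
        rw [ha5] at hi
        exact hp5 (((Nat.prime_dvd_prime_iff_eq hp Nat.prime_five).1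
          (hi ▸ dvd_pow_self p (by rintro rfl; simp at hi))))
  · refine Or.inr (Or.inr (Or.inr (Or.inl (pglcase F₀ g (fun h0 => ?_) he))))
    have h := Subgroup.card_le_of_le hL
    rw [hcard he, card_subPGL_range, (subfield_eq_top_iff F₀).1 h0] at h
    omega
  · refine Or.inr (Or.inr (Or.inr (Or.inr (Or.inl (pslcase F₀ g (fun h0 => hne ?_) he)))))
    refine Subgroup.eq_of_le_of_card_ge hL ?_
    have c := card_subPSL_range F₀
    rw [hoddsub, (subfield_eq_top_iff F₀).1 h0, ← hcL, ← hcard he] at c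
    omega

end Cfsg.Agent.S5892
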