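import Cfsg.Statements.S5893
import Cfsg.Agent.MaxSub.Dickson.Maximal

set_option autoImplicit false
open Cfsg Cfsg.Agent.MaxSub.Dickson
open scoped MatrixGroups

namespace Cfsg.Agent.S5893

/-- Let F be a finite field of even order q ≥ 4 and let M be a maximal subgroup of PSL₂(F) (= SL₂(F) = PGL₂(F)). Then one of the following holds: |M| = q(q − 1) (the stabiliser of a point of the projective line, elementary abelian of order q extended by a cyclic group of order q − 1); M is dihedral of order 2(q − 1); M is dihedral of order 2(q + 1); or q = q₀^r for a prime r with q₀ ≠ 2 and M ≅ PSL₂(F₀) with |F₀| = q₀. -/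
theorem result {F : Type*} [Field F] [Fintype F]
    (heven : Even (Fintype.card F)) (h4 : 4 ≤ Fintype.card F) (M : Subgroup (Matrix.ProjectiveSpecialLinearGroup (Fin 2) F)) (hM : IsCoatom M) :
    Nat.card M = Fintype.card F * (Fintype.card F - 1) ∨
    Nonempty (M ≃* DihedralGroup (Fintype.card F - 1)) ∨
    Nonempty (M ≃* DihedralGroup (Fintype.card F + 1)) ∨
    (∃ (F₀ : Type) (_ : Field F₀) (_ : Fintype F₀) (r : ℕ), r.Prime ∧ Fintype.card F₀ ≠ 2 ∧
        Fintype.card F = Fintype.card F₀ ^ r ∧ Nonempty (M ≃* Matrix.ProjectiveSpecialLinearGroup (Fin 2) F₀)) := by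
  classical
  have : Fact (Nat.Prime 2) := ⟨Nat.prime_two⟩
  have : CharP F 2 := by
    have h := FiniteField.even_card_iff_char_two.2 (Nat.even_iff.1 heven)
    exact ringChar.eq_iff.1 h
  let φ : Matrix.ProjectiveSpecialLinearGroup (Fin 2) F ≃* PGL(2, F) :=
    pslEquiv.trans ((MulEquiv.subgroupCongr (lsub_eq_top heven)).trans Subgroup.topEquiv)
  set M' := M.map φ.toMonoidHom with hM'
  have hM'c : IsCoatom M' := (MulEquiv.mapSubgroup φ).isCoatom_iff M |>.2 hM
  have e : M ≃* M' := φ.subgroupMap M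
  have hmax : ∀ N, M' ≤ N → ¬ lsub F ≤ N → M' = N := fun N hle hne =>
    (hM'c.le_iff.1 hle).elim (fun h => absurd (h ▸ le_top) hne) Eq.symm
  rcases classifyF (K := AlgebraicClosure F) (p := 2) M' with
    ⟨a, b, m, -, -, hm, hle, hdvd⟩ | ⟨a, b, m, n, hm, hle, -, -, -, -, -⟩ | ⟨x, hfix, -⟩ |
    ⟨hp, -, -⟩ | ⟨hp, -, -⟩ | ⟨hp, -, -⟩ | ⟨F₀, h, h04, he⟩ | ⟨F₀, h, h04, hodd, -⟩
  · exfalso
    have heq := hmax _ (hle.trans tor_le_pairStab) (hm.not_lsub_le h4)
    rw [heq, hm.stab.1] at hdvd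
    have hpos : 0 < m := by
      obtain ⟨-, ⟨-, -, rfl⟩ | ⟨-, -, rfl⟩⟩ := hm <;> omega
    have := Nat.le_of_dvd hpos hdvd
    omega
  · have heq := hmax _ hle (hm.not_lsub_le h4)
    obtain ⟨hc, ⟨iso⟩⟩ := hm.stab
    obtain ⟨-, ⟨-, -, rfl⟩ | ⟨-, -, rfl⟩⟩ := hm
    · exact Or.inr (Or.inl ⟨e.trans ((MulEquiv.subgroupCongr heq).trans iso)⟩)
    · exact Or.inr (Or.inr (Or.inl ⟨e.trans ((MulEquiv.subgroupCongr heq).trans iso)⟩))
  · left
    have heq := hmax (MulAction.stabilizer PGL(2, F) x) hfix (not_lsub_le_stab h4 x)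
    rw [Nat.card_congr e.toEquiv, heq, card_stab]
  · exact absurd rfl hp
  · exact absurd rfl hp
  · exact absurd rfl hp
  · right; right; right
    have hne : F₀ ≠ ⊤ := by
      intro h0
      apply hM'c.1
      refine Subgroup.eq_top_of_card_eq _ ?_
      rw [Nat.card_congr (M'.equivMapOfInjective (MulAut.conj h⁻¹).toMonoidHom (MulAut.conj h⁻¹).injective).toEquiv, he,
        card_subPGL_range, card_pgl, (subfield_eq_top_iff F₀).1 h0]
    obtain ⟨r, hr, hc⟩ := subfield_of_maximal hmax h4 hne he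
    obtain ⟨E, hE1, hE2, hEc, ⟨e1⟩, -⟩ := exists_small_model F₀
    refine ⟨E, hE1, hE2, r, hr, by omega, by rw [hEc]; exact hc, ?_⟩
    have hEeven : Even (Fintype.card E) := by
      rw [hEc]
      have h2 : Even (Nat.card F₀ ^ r) := hc ▸ heven
      exact (Nat.even_pow.1 h2).1
    have e2 : Matrix.ProjectiveSpecialLinearGroup (Fin 2) E ≃* PGL(2, E) :=
      pslEquiv.trans ((MulEquiv.subgroupCongr (lsub_eq_top hEeven)).trans Subgroup.topEquiv)
    exact ⟨e.trans ((M'.equivMapOfInjective (MulAut.conj h⁻¹).toMonoidHom (MulAut.conj h⁻¹).injective).trans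
      ((MulEquiv.subgroupCongr he).trans ((MonoidHom.ofInjective (subPGL_injective F₀)).symm.trans
        (e1.trans e2.symm))))⟩
  · exfalso
    obtain ⟨r, -, hc⟩ := card_subfield_pow F₀
    have h1 : Odd (Fintype.card F) := hc ▸ hodd.pow
    exact (Nat.not_even_iff_odd.2 h1) heven

end Cfsg.Agent.S5893
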