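import Cfsg.Statements.S0904
import Cfsg.Agent.Block.PaqbR

set_option autoImplicit false
open Cfsg

namespace Cfsg.Agent.S0904

/-- Let G be a finite simple group of order p ^ a * q ^ b * r with p, q, r distinct primes. Then every Sylow r-subgroup S of G satisfies C_G(S) = S. -/
theorem result {G : Type*} [Group G] [Finite G] [IsSimpleGroup G] (p q r a b : ℕ) (hp : p.Prime) (hq : q.Prime) [Fact r.Prime] (hpq : p ≠ q) (hpr : p ≠ r) (hqr : q ≠ r) (hcard : Nat.card G = p ^ a * q ^ b * r) (S : Sylow r G) : Subgroup.centralizer (S : Set G) = (S : Subgroup G) := by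
  haveI := Fintype.ofFinite G
  have hr := (Fact.out : r.Prime)
  have hS : Nat.card (S : Subgroup G) = r := by
    rw [S.card_eq_multiplicity, hcard,
      Nat.factorization_mul (mul_ne_zero (pow_ne_zero _ hp.ne_zero) (pow_ne_zero _ hq.ne_zero))
        hr.ne_zero,
      Nat.factorization_mul (pow_ne_zero _ hp.ne_zero) (pow_ne_zero _ hq.ne_zero),
      Nat.factorization_pow, Nat.factorization_pow, hp.factorization, hq.factorization,
      hr.factorization]
    simp [Finsupp.single_eq_of_ne hpr.symm, Finsupp.single_eq_of_ne hqr.symm]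
  by_cases hna : ∃ u v : G, u * v ≠ v * u
  · obtain ⟨s, hs⟩ := (isCyclic_of_prime_card hS).exists_generator
    refine le_antisymm ?_ fun u hu w hw => ?_
    swap
    · obtain ⟨i, hi⟩ := Subgroup.mem_zpowers_iff.1 (hs ⟨u, hu⟩)
      obtain ⟨j, hj⟩ := Subgroup.mem_zpowers_iff.1 (hs ⟨w, hw⟩)
      have : (⟨w, hw⟩ : (S : Subgroup G)) * ⟨u, hu⟩ = ⟨u, hu⟩ * ⟨w, hw⟩ := by
        rw [← hi, ← hj, ← zpow_add, ← zpow_add, add_comm]
      exact congrArg Subtype.val this
    have hos : orderOf (s : G) = r := by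
      rw [Subgroup.orderOf_coe, orderOf_eq_card_of_forall_mem_zpowers hs, hS]
    set C := Subgroup.centralizer (S : Set G)
    have hSC : (S : Subgroup G) ≤ C := fun u hu w hw => by
      obtain ⟨i, hi⟩ := Subgroup.mem_zpowers_iff.1 (hs ⟨u, hu⟩)
      obtain ⟨j, hj⟩ := Subgroup.mem_zpowers_iff.1 (hs ⟨w, hw⟩)
      have : (⟨w, hw⟩ : (S : Subgroup G)) * ⟨u, hu⟩ = ⟨u, hu⟩ * ⟨w, hw⟩ := by
        rw [← hi, ← hj, ← zpow_add, ← zpow_add, add_comm]
      exact congrArg Subtype.val this
    by_contra hle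
    have hdvd : r ∣ Nat.card C := hS ▸ Subgroup.card_dvd_of_le hSC
    obtain ⟨c, hc⟩ := hdvd
    have hc1 : c ≠ 1 := fun h => hle (Subgroup.eq_of_le_of_card_ge hSC
      (by rw [hS, hc, h, mul_one])).ge
    obtain ⟨l, hl, hlc⟩ := Nat.exists_prime_and_dvd hc1
    have hlG : c ∣ p ^ a * q ^ b := by
      have h1 := Subgroup.card_subgroup_dvd_card C
      rw [hc, hcard, mul_comm r c] at h1
      exact Nat.dvd_of_mul_dvd_mul_right hr.pos h1
    haveI : Fact l.Prime := ⟨hl⟩
    obtain ⟨y, hy⟩ := exists_prime_orderOf_dvd_card' (G := C) l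
      (hlc.trans (hc ▸ Dvd.intro_left r rfl))
    have hyo : orderOf (y : G) = l := by rw [Subgroup.orderOf_coe, hy]
    have hcomm : Commute (s : G) (y : G) := y.2 (s : G) s.2
    rcases hl.dvd_mul.1 (hlc.trans hlG) with h | h
    · obtain rfl := (Nat.prime_dvd_prime_iff_eq hl hp).1 (hl.dvd_of_dvd_pow h)
      exact Agent.Block.paqbr_no_rp_element hp hq hr hqr hna hcard hpq hcomm hos hyo hpr
    · obtain rfl := (Nat.prime_dvd_prime_iff_eq hl hq).1 (hl.dvd_of_dvd_pow h)
      exact Agent.Block.paqbr_no_rp_element (a := b) (b := a) hq hp hr hpr hna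
        (by rw [hcard]; ring) hpq.symm hcomm hos hyo hqr
  · have hprime : (Nat.card G).Prime :=
      Agent.Char.simple_commutative_prime_card (fun u v => by
        by_contra h; exact hna ⟨u, v, h⟩)
    have hrG : Nat.card G = r :=
      ((Nat.prime_dvd_prime_iff_eq hr hprime).1 (hcard ▸ Dvd.intro_left _ rfl)).symm
    have htop := Subgroup.eq_top_of_card_eq (S : Subgroup G) (hS.trans hrG.symm)
    refine le_antisymm (fun u _ => htop ▸ Subgroup.mem_top u) fun u _ w _ => ?_
    by_contra h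
    exact hna ⟨w, u, h⟩

end Cfsg.Agent.S0904
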