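import Cfsg.Statements.S2069
import Cfsg.Agent.LargeOut.Co1Rigid
import Cfsg.Agent.LargeOut.Co1Gen

set_option autoImplicit false
open Cfsg

namespace Cfsg.Agent.S2069

/-- The outer automorphism group of the Conway group Co₁ (the automorphism group of the rank-24 lattice modulo its centre) is trivial: every automorphism is inner. -/
theorem result : Nat.card (Cfsg.Out Cfsg.Spor.Co1) = 1 := by
  have : Finite ↥Cfsg.Co0 := Leech.finite_Co0
  have : Finite Cfsg.Spor.Co1 := Finite.of_surjective _ (QuotientGroup.mk'_surjective (Subgroup.center ↥Cfsg.Co0))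
  obtain ⟨m, ⟨hC, hQ⟩, hne, hgen⟩ := LargeOut.exists_generating
  exact LargeOut.card_out_eq_one LargeOut.co1_data hC hQ hne hgen

end Cfsg.Agent.S2069
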