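import Cfsg.Statements.S0813
import Cfsg.Agent.AutPSL.Main
import Cfsg.Agent.AutPSL.Kernel
import Cfsg.Agent.FieldMaps.Additive

set_option autoImplicit false
open Cfsg
open Cfsg.Agent.AutPSL

namespace Cfsg.Agent.S0813

/-- |Aut(PSL_n(q))|, q = p^f: for n ≥ 3 it is 2 f |PGL_n(q)|, and for n = 2 (q ≥ 4) it is f |PGL_2(q)|. -/
theorem result {F : Type*} [Field F] [Fintype F] (p f : ℕ) [Fact p.Prime] (hf : 1 ≤ f) (hF : Fintype.card F = p ^ f) (n : ℕ) (hn : 2 ≤ n) (h2 : n = 2 → 4 ≤ p ^ f) : Nat.card (MulAut (Matrix.ProjectiveSpecialLinearGroup (Fin n) F)) = (if n = 2 then 1 else 2) * f * Nat.card (Matrix.ProjGenLinGroup (Fin n) F) := by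
  classical
  have hσ : Nat.card (F ≃+* F) = f := by
    have : CharP F p := charP_of_card_eq_prime_pow hF
    obtain ⟨k, hk, hk'⟩ := FieldMaps.card_aut (F := F) p
    rw [Nat.card_eq_fintype_card, hk']
    exact Nat.pow_right_injective (Fact.out : p.Prime).two_le (hk.symm.trans hF)
  let r : Matrix.ProjGenLinGroup (Fin n) F → MulAut (Matrix.ProjectiveSpecialLinearGroup (Fin n) F) :=
    fun a => (pglEquiv hn a : MulAut (Matrix.ProjectiveSpecialLinearGroup (Fin n) F))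
  have hr : ∀ g : Matrix.GeneralLinearGroup (Fin n) F, r (Matrix.ProjGenLinGroup.mk g) = conjAut g :=
    pglEquiv_mk hn
  have hinj1 : ∀ a b (s s' : F ≃+* F), r a * fieldAut s = r b * fieldAut s' → a = b ∧ s = s' := by
    intro a b s s' h
    obtain ⟨g, rfl⟩ := Matrix.ProjGenLinGroup.mk_surjective a
    obtain ⟨g', rfl⟩ := Matrix.ProjGenLinGroup.mk_surjective b
    rw [hr, hr] at h
    obtain ⟨h1, h3⟩ := conj_field_inj hn h
    exact ⟨(Matrix.ProjGenLinGroup.mk_eq_mk_iff'.2 ⟨_, h3, mul_inv_cancel_left g' g⟩).symm, h1⟩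
  by_cases hn2 : n = 2
  · subst hn2
    rw [if_pos rfl, one_mul, mul_comm, ← hσ, ← Nat.card_prod]
    refine Nat.card_congr (Equiv.ofBijective (fun x : Matrix.ProjGenLinGroup (Fin 2) F × (F ≃+* F) =>
      r x.1 * fieldAut x.2) ⟨fun x y h => Prod.ext (hinj1 _ _ _ _ h).1 (hinj1 _ _ _ _ h).2, fun β => ?_⟩).symm
    obtain ⟨g, s, h⟩ := exists_decomp_two β
    exact ⟨(Matrix.ProjGenLinGroup.mk g, s), by simp [h, hr]⟩
  · have hn3 : 3 ≤ n := by omega
    rw [if_neg hn2, show 2 * f * Nat.card (Matrix.ProjGenLinGroup (Fin n) F) =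
      (Nat.card (Matrix.ProjGenLinGroup (Fin n) F) * f) * 2 by ring, ← hσ, ← Nat.card_prod,
      show (2 : ℕ) = Nat.card Bool by simp, ← Nat.card_prod]
    refine Nat.card_congr (Equiv.ofBijective (fun x : (Matrix.ProjGenLinGroup (Fin n) F × (F ≃+* F)) × Bool =>
      r x.1.1 * fieldAut x.1.2 * bif x.2 then invTAut else 1) ⟨?_, fun β => ?_⟩).symm
    · have hcross : ∀ a b (s s' : F ≃+* F), r a * fieldAut s * invTAut ≠ r b * fieldAut s' := by
        intro a b s s' h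
        obtain ⟨g, rfl⟩ := Matrix.ProjGenLinGroup.mk_surjective a
        obtain ⟨g', rfl⟩ := Matrix.ProjGenLinGroup.mk_surjective b
        rw [hr, hr] at h
        refine invTAut_ne hn3 (Matrix.GeneralLinearGroup.map (s⁻¹ : F ≃+* F).toRingHom (g⁻¹ * g')) (s⁻¹ * s') ?_
        rw [map_mul fieldAut, ← mul_assoc, ← fieldAut_mul_conjAut, map_mul conjAut, map_inv conjAut,
          map_inv fieldAut]
        simp only [mul_assoc, eq_inv_mul_iff_mul_eq]
        simpa only [mul_assoc] using h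
      rintro ⟨⟨a, s⟩, x⟩ ⟨⟨b, s'⟩, y⟩ h
      cases x <;> cases y <;> simp only [cond_true, cond_false, mul_one, mul_left_inj] at h
      · obtain ⟨rfl, rfl⟩ := hinj1 _ _ _ _ h; rfl
      · exact absurd h.symm (hcross _ _ _ _)
      · exact absurd h (hcross _ _ _ _)
      · obtain ⟨rfl, rfl⟩ := hinj1 _ _ _ _ h; rfl
    · obtain ⟨g, s, h | h⟩ := exists_decomp hn β
      · exact ⟨((Matrix.ProjGenLinGroup.mk g, s), false), by simp [h, hr]⟩
      · exact ⟨((Matrix.ProjGenLinGroup.mk g, s), true), by simp [h, hr]⟩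

end Cfsg.Agent.S0813
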