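import Cfsg.Statements.S0201
import Cfsg.Agent.Invol.RankOne

set_option autoImplicit false
open Cfsg

namespace Cfsg.Agent.S0201

theorem q8_center : (∀ x : QuaternionGroup 2, (∀ y, x * y = y * x) → x = 1 ∨ x = QuaternionGroup.a 2) ∧
    (∀ x y : QuaternionGroup 2, x * x = 1 → y * y = 1 → x ≠ 1 → y ≠ 1 → x = y) := by
  refine ⟨?_, ?_⟩ <;> decide

/-- Brauer–Suzuki Theorem: if a Sylow 2-subgroup of a finite group is generalized quaternion (of order at least 8) and the group has no nontrivial normal subgroup of odd order, then its centre has order 2. -/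
theorem result {G : Type*} [Group G] [Finite G] (S : Sylow 2 G) (n : ℕ) (e : (S : Subgroup G) ≃* QuaternionGroup (2 ^ (n + 1))) (hO : ∀ N : Subgroup G, N.Normal → Odd (Nat.card N) → N = ⊥) : Nat.card (Subgroup.center G) = 2 := by
  rcases n with _ | m
  swap
  · exact S0847.result S m e hO
  classical
  have : Fact (Nat.Prime 2) := ⟨Nat.prime_two⟩
  have e' : (S : Subgroup G) ≃* QuaternionGroup 2 := e
  have hS8 : Nat.card (S : Subgroup G) = 8 := by
    rw [Nat.card_congr e'.toEquiv, Nat.card_eq_fintype_card, QuaternionGroup.card]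
  have hcore : pPrimeCore 2 G = ⊥ :=
    hO _ inferInstance (Nat.odd_iff.2 (Nat.two_dvd_ne_zero.1 Cores.not_dvd_card_pPrimeCore))
  have h16 : ¬ 16 ∣ Nat.card G := fun h => by
    have := S.pow_dvd_card_of_pow_dvd_card (n := 4) (by simpa using h)
    rw [hS8] at this
    norm_num at this
  have heven : Even (Nat.card G) := even_iff_two_dvd.2
    ((show 2 ∣ 8 by norm_num).trans (hS8 ▸ (S : Subgroup G).card_subgroup_dvd_card))
  obtain ⟨z, hz, hzc⟩ := Invol.rankOne_small G h16 hcore heven (fun a b ha hb hab => by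
    obtain ⟨T, haT, hbT⟩ := Invol.exists_sylow_of_commute ha hb hab
    obtain ⟨c, hc⟩ := MulAction.exists_smul_eq G T S
    have hmem : ∀ x ∈ T, c * x * c⁻¹ ∈ (S : Subgroup G) := fun x hx => by
      rw [← hc]; exact ⟨x, hx, rfl⟩
    have hsq : ∀ x : G, ∀ hx : c * x * c⁻¹ ∈ (S : Subgroup G), orderOf x = 2 →
        e' ⟨_, hx⟩ * e' ⟨_, hx⟩ = 1 ∧ e' ⟨_, hx⟩ ≠ 1 := fun x hx ho => by
      refine ⟨?_, fun h1 => ?_⟩
      · rw [← map_mul, ← map_one e']
        congr 1
        exact Subtype.ext (Invol.inv_mul_self (by rw [Invol.orderOf_conj, ho] : orderOf (c * x * c⁻¹) = 2))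
      · rw [← map_one e'] at h1
        exact Invol.inv_ne_one ho (by simpa using congrArg Subtype.val (e'.injective h1))
    obtain ⟨h1, h1'⟩ := hsq a (hmem a haT) ha
    obtain ⟨h2, h2'⟩ := hsq b (hmem b hbT) hb
    simpa using congrArg Subtype.val (e'.injective (q8_center.2 _ _ h1 h2 h1' h2')))
  -- the centre is a 2-group
  have hZS : Subgroup.center G ≤ (S : Subgroup G) := by
    have hp : IsPGroup 2 (Subgroup.center G) := fun w => by
      obtain ⟨k, r, hr, hw⟩ := Nat.exists_eq_two_pow_mul_odd (orderOf_pos w).ne'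
      refine ⟨k, ?_⟩
      set v := ((w : G)) ^ 2 ^ k with hv
      have hvc : v ∈ Subgroup.center G := pow_mem w.2 _
      have hn : (Subgroup.zpowers v).Normal := ⟨fun a ha g => by
        rw [Subgroup.mem_center_iff.1 (Subgroup.zpowers_le.2 hvc ha) g, mul_inv_cancel_right]; exact ha⟩
      have h1 := hO _ hn (by
        rw [Nat.card_zpowers]
        exact hr.of_dvd_nat (orderOf_dvd_of_pow_eq_one (by
          rw [hv, ← pow_mul, ← hw, ← Subgroup.orderOf_coe w, pow_orderOf_eq_one])))
      apply Subtype.ext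
      push_cast
      simpa [h1] using Subgroup.mem_zpowers v
    obtain ⟨T, hT⟩ := hp.exists_le_sylow
    obtain ⟨c, hc⟩ := MulAction.exists_smul_eq G T S
    intro w hw
    rw [← hc]
    exact ⟨w, hT hw, by simp [Subgroup.mem_center_iff.1 hw c]⟩
  apply le_antisymm
  · have hinj : Function.Injective (fun w : Subgroup.center G => e' ⟨w, hZS w.2⟩) := fun a b h =>
      Subtype.ext (congrArg Subtype.val (e'.injective h) :)
    have hmem : ∀ w : Subgroup.center G, e' ⟨w, hZS w.2⟩ ∈ ({1, QuaternionGroup.a 2} : Set (QuaternionGroup 2)) := fun w => by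
      refine q8_center.1 _ fun y => ?_
      obtain ⟨y, rfl⟩ := e'.surjective y
      rw [← map_mul, ← map_mul]
      congr 1
      exact Subtype.ext (Subgroup.mem_center_iff.1 w.2 (y : G)).symm
    refine le_trans (Nat.card_le_card_of_injective (fun w => (⟨_, hmem w⟩ : ({1, QuaternionGroup.a 2} : Set (QuaternionGroup 2)))) fun a b h => hinj (congrArg Subtype.val h :)) ?_
    rw [Nat.card_coe_set_eq]
    exact le_of_eq (Set.ncard_pair (by decide))
  · rw [← hz]
    exact (Subgroup.orderOf_mk z hzc).symm ▸ Nat.le_of_dvd Nat.card_pos (orderOf_dvd_natCard (⟨z, hzc⟩ : Subgroup.center G))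

end Cfsg.Agent.S0201
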