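import Cfsg.Statements.S2507
import Cfsg.Agent.Spec.PSLTwoClass
-- import your own Cfsg.Agent.* helpers here

set_option autoImplicit false
open Cfsg

namespace Cfsg.Agent.S2507

/-- Let F be a finite field with q = 2^f ≥ 4 elements. The conjugacy class sizes of PSL(2,F) are exactly 1, q(q − 1), q² − 1 and q(q + 1). -/
theorem result {F : Type*} [Field F] [Fintype F]
    (h2 : 2 ∣ Fintype.card F) (h4 : 4 ≤ Fintype.card F) :
    Set.range (fun g : (Matrix.ProjectiveSpecialLinearGroup (Fin 2) F) => (Subgroup.centralizer ({g} : Set (Matrix.ProjectiveSpecialLinearGroup (Fin 2) F))).index) =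
      {1, Fintype.card F * (Fintype.card F - 1), Fintype.card F ^ 2 - 1, Fintype.card F * (Fintype.card F + 1)} := by
  classical
  have h0 : (2 : F) = 0 := Spec.Two.two_eq_zero_iff.2 h2
  set q := Fintype.card F with hq
  have key : ∀ g : Matrix.SpecialLinearGroup (Fin 2) F, Spec.Two.NS (g : Matrix (Fin 2) (Fin 2) F) →
      (Subgroup.centralizer ({Spec.Two.π g} : Set (Matrix.ProjectiveSpecialLinearGroup (Fin 2) F))).index *
        Nat.card {v : F × F // Spec.Two.qf (g : Matrix (Fin 2) (Fin 2) F).trace v = 1} =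
      q * (q - 1) * (q + 1) := fun g hg => by
    have := Spec.Two.index_mul g hg
    rwa [if_pos (Or.inr h0), one_mul] at this
  have hsq : q ^ 2 - 1 = (q + 1) * (q - 1) := by simpa using Nat.sq_sub_sq q 1
  ext m
  simp only [Set.mem_range, Set.mem_insert_iff, Set.mem_singleton_iff]
  constructor
  · rintro ⟨x, rfl⟩
    obtain ⟨g, rfl⟩ := Spec.Two.π_surjective x
    by_cases hx : Spec.Two.π g = 1
    · left; rw [hx, Spec.Two.index_one]
    have hk := key g (Spec.Two.ns_of_π_ne_one hx)
    set t := (g : Matrix (Fin 2) (Fin 2) F).trace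
    by_cases ht : t ^ 2 = 4
    · rw [Spec.Two.card_qf_parabolic ht, Spec.Two.card_sq_one, if_pos h0, one_mul, ← hq] at hk
      refine Or.inr (Or.inr (Or.inl ?_))
      rw [hsq]
      exact Nat.eq_of_mul_eq_mul_right (show 0 < q by omega) (by rw [hk]; ring)
    by_cases hr : ∃ r : F, r ^ 2 - t * r + 1 = 0
    · obtain ⟨r, hr⟩ := hr
      rw [Spec.Two.card_qf_split hr ht, ← hq] at hk
      refine Or.inr (Or.inr (Or.inr ?_))
      exact Nat.eq_of_mul_eq_mul_right (show 0 < q - 1 by omega) (by rw [hk]; ring)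
    · push Not at hr
      rw [Spec.Two.card_qf_nonsplit hr, ← hq] at hk
      refine Or.inr (Or.inl ?_)
      exact Nat.eq_of_mul_eq_mul_right (show 0 < q + 1 by omega) hk
  · have hval : ∀ t : F, ∃ x : Matrix.ProjectiveSpecialLinearGroup (Fin 2) F,
        (Subgroup.centralizer ({x} : Set (Matrix.ProjectiveSpecialLinearGroup (Fin 2) F))).index *
          Nat.card {v : F × F // Spec.Two.qf t v = 1} = q * (q - 1) * (q + 1) := fun t =>
      ⟨_, by
        have := key (Spec.Two.mk (Spec.Two.comp t) (Spec.Two.comp_det t)) (Spec.Two.comp_ns t)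
        rwa [Spec.Two.coe_mk, Spec.Two.comp_trace] at this⟩
    rintro (rfl | rfl | rfl | rfl)
    · exact ⟨1, Spec.Two.index_one⟩
    · obtain ⟨t, -, hr⟩ := Spec.Two.exists_nonsplit_trace (F := F) h4 (fun h => absurd h0 h)
      obtain ⟨x, hx⟩ := hval t
      rw [Spec.Two.card_qf_nonsplit hr, ← hq] at hx
      exact ⟨x, Nat.eq_of_mul_eq_mul_right (show 0 < q + 1 by omega) hx⟩
    · have ht : (2 : F) ^ 2 = 4 := by norm_num
      obtain ⟨x, hx⟩ := hval 2
      rw [Spec.Two.card_qf_parabolic ht, Spec.Two.card_sq_one, if_pos h0, one_mul, ← hq] at hx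
      refine ⟨x, ?_⟩
      rw [hsq]
      exact Nat.eq_of_mul_eq_mul_right (show 0 < q by omega) (by rw [hx]; ring)
    · obtain ⟨t, -, ht, r, hr⟩ := Spec.Two.exists_split_trace (F := F) h4 (fun h => absurd h0 h)
      obtain ⟨x, hx⟩ := hval t
      rw [Spec.Two.card_qf_split hr ht, ← hq] at hx
      exact ⟨x, Nat.eq_of_mul_eq_mul_right (show 0 < q - 1 by omega) (by rw [hx]; ring)⟩

end Cfsg.Agent.S2507
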