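import Cfsg.Statements.S5748
import Cfsg.Agent.S1230
import Cfsg.Agent.ClassicalMax.SimpleCA
import Cfsg.Agent.S0182
import Cfsg.Agent.CharTwo.SLPairNormalizer
import Cfsg.Agent.Linear.Orders

set_option autoImplicit false
open Cfsg

namespace Cfsg.Agent.S5748

open scoped MatrixGroups

theorem slScal_eq_one {F : Type} [Field F] [CharP F 2] {g : SL(2, F)}
    (h : CharTwo.SLScal g) : g = 1 := by
  obtain ⟨h1, h2, h3⟩ := h
  have hd : g 0 0 * g 1 1 - g 0 1 * g 1 0 = 1 := by
    have := g.2
    rw [Matrix.det_fin_two] at this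
    exact this
  rw [h1, ← h3, zero_mul, sub_zero, ← pow_two] at hd
  have h0 : g 0 0 = 1 := by
    have hsq : (g 0 0 + 1) ^ 2 = 0 := by
      rw [CharTwo.add_sq, hd, one_pow, CharTwo.add_self_eq_zero]
    exact CharTwo.add_eq_zero.1 (pow_eq_zero_iff (n := 2) (by norm_num) |>.1 hsq)
  ext i j
  fin_cases i <;> fin_cases j <;> simp [h0, h1, h2, ← h3]

theorem psl_ct {F : Type} [Field F] [Fintype F] {f : ℕ} (hf : 2 ≤ f)
    (hF : Fintype.card F = 2 ^ f) (a b c : Matrix.ProjectiveSpecialLinearGroup (Fin 2) F)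
    (hb : b ≠ 1) (hab : Commute a b) (hbc : Commute b c) : Commute a c := by
  have h2 : CharP F 2 := by
    have := CharP.ringChar_of_prime_eq_zero (R := F) Nat.prime_two (by
      have h0 : ((2 : ℕ) : F) ^ f = 0 := by
        rw [← Nat.cast_pow, ← hF, FiniteField.cast_card_eq_zero]
      exact pow_eq_zero_iff (by omega) |>.1 h0)
    exact this ▸ ringChar.charP F
  have hz : Subgroup.center SL(2, F) = ⊥ := by
    apply Subgroup.eq_bot_of_card_eq
    rw [Linear.card_center_SL, Fintype.card_fin, Linear.gcd_two_of_even]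
    rw [hF]; exact (Nat.even_pow).2 ⟨even_two, by omega⟩
  have key : ∀ x y : SL(2, F), Commute (QuotientGroup.mk x : Matrix.ProjectiveSpecialLinearGroup (Fin 2) F) (QuotientGroup.mk y) → Commute x y := by
    intro x y h
    have h' : (QuotientGroup.mk (x * y) : SL(2, F) ⧸ Subgroup.center SL(2, F)) = QuotientGroup.mk (y * x) := h.eq
    rw [QuotientGroup.eq, hz, Subgroup.mem_bot, inv_mul_eq_one] at h'
    exact h'
  obtain ⟨x, rfl⟩ := QuotientGroup.mk_surjective a
  obtain ⟨y, rfl⟩ := QuotientGroup.mk_surjective b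
  obtain ⟨z, rfl⟩ := QuotientGroup.mk_surjective c
  have hy : ¬ CharTwo.SLScal y := fun h => hb (by rw [slScal_eq_one h]; rfl)
  have h := CharTwo.sl_commute_of_commute hy (key x y hab).eq (key y z hbc).eq.symm
  exact congrArg QuotientGroup.mk h

/-- A finite non-abelian simple group in which commuting is a transitive relation on the non-identity elements (equivalently, every non-identity element has abelian centraliser) is isomorphic to PSL₂ over a field with 2^f elements for some f ≥ 2; conversely these groups have that property. -/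
theorem result {G : Type*} [Group G] [Finite G] [IsSimpleGroup G] (hG : ¬ IsMulCommutative G) :
    (∀ a b c : G, a ≠ 1 → b ≠ 1 → c ≠ 1 → Commute a b → Commute b c → Commute a c) ↔
    ∃ (F : Type) (_ : Field F) (_ : Fintype F) (f : ℕ), 2 ≤ f ∧ Fintype.card F = 2 ^ f ∧ Nonempty (G ≃* Matrix.ProjectiveSpecialLinearGroup (Fin 2) F) := by
  constructor
  · intro hct
    have hCA : ∀ x : G, x ≠ 1 → ∀ a ∈ Subgroup.centralizer ({x} : Set G),
        ∀ b ∈ Subgroup.centralizer ({x} : Set G), a * b = b * a := by
      intro x hx a ha b hb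
      rcases eq_or_ne a 1 with rfl | ha1
      · simp
      rcases eq_or_ne b 1 with rfl | hb1
      · simp
      exact hct a x b ha1 hx hb1 (Subgroup.mem_centralizer_singleton_iff.1 ha)
        (Subgroup.mem_centralizer_singleton_iff.1 hb).symm
    have hns : ¬ Group.IsSolvable G := fun _ => hG (by
      have := IsSimpleGroup.comm_iff_isSolvable (G := G)
      exact ⟨⟨this.2 inferInstance⟩⟩)
    have heven : Even (Nat.card G) :=
      (Nat.even_or_odd _).resolve_right fun h => hns (S0182.result h hCA)
    letI : Fintype G := Fintype.ofFinite G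
    obtain ⟨t, ht⟩ := Invol.exists_orderOf_two heven
    obtain ⟨P⟩ := (inferInstance : Nonempty (Sylow 2 G))
    have hPne : (P : Subgroup G) ≠ ⊥ := fun h => by
      have := P.not_dvd_index
      rw [h, Subgroup.index_bot] at this
      exact this heven.two_dvd
    have hPn : ¬ (P : Subgroup G).Normal := fun h => by
      rcases h.eq_bot_or_eq_top with hP | hP
      · exact hPne hP
      · exact hns (by
          have : Group.IsNilpotent G := (P.isPGroup'.of_equiv
            ((MulEquiv.subgroupCongr hP).trans Subgroup.topEquiv)).isNilpotent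
          infer_instance)
    -- a central involution of the Sylow subgroup
    haveI : Nontrivial (P : Subgroup G) := (Subgroup.nontrivial_iff_ne_bot _).2 hPne
    obtain ⟨z, hz⟩ : ∃ z : Subgroup.center (P : Subgroup G), orderOf z = 2 := by
      haveI := P.isPGroup'.center_nontrivial
      refine exists_prime_orderOf_dvd_card' 2 ?_
      obtain ⟨k, hk⟩ := (P.isPGroup'.to_subgroup (Subgroup.center (P : Subgroup G))).exists_card_eq
      rw [hk]
      refine dvd_pow_self 2 fun h0 => ?_
      rw [h0, pow_zero] at hk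
      exact (Finite.one_lt_card (α := Subgroup.center (P : Subgroup G))).ne' hk
    set w : G := ((z : (P : Subgroup G)) : G) with hw
    have hw2 : orderOf w = 2 := by rw [hw, Subgroup.orderOf_coe, Subgroup.orderOf_coe, hz]
    have hPA : (P : Subgroup G) ≤ ClassicalMax.SimpleCA.cA w := fun x hx =>
      ClassicalMax.SimpleCA.mem_cent.2 (congrArg Subtype.val (Subgroup.mem_center_iff.1 z.2 ⟨x, hx⟩))
    have hAns : ¬ (ClassicalMax.SimpleCA.cA w).Normal := fun h => by
      rcases h.eq_bot_or_eq_top with h1 | h1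
      · exact hPne (le_bot_iff.1 (h1 ▸ hPA))
      · exact hG ⟨⟨fun a b => ClassicalMax.SimpleCA.comm_A hCA hw2
          (h1 ▸ Subgroup.mem_top a) (h1 ▸ Subgroup.mem_top b)⟩⟩
    have hm : 2 ≤ ClassicalMax.SimpleCA.mA hCA hw2 := by
      by_contra hcon
      have hNA : ClassicalMax.SimpleCA.cN w ≤ ClassicalMax.SimpleCA.cA w := by
        intro h hh
        have h1 := ClassicalMax.SimpleCA.card_N hCA hw2
        have h0 : 0 < ClassicalMax.SimpleCA.mA hCA hw2 := by
          by_contra h0
          rw [show ClassicalMax.SimpleCA.mA hCA hw2 = 0 by omega, mul_zero] at h1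
          exact Nat.card_pos.ne' h1
        rw [show ClassicalMax.SimpleCA.mA hCA hw2 = 1 by omega, mul_one] at h1
        exact (Subgroup.eq_of_le_of_card_ge (ClassicalMax.SimpleCA.A_le_N hCA hw2) h1.le).symm ▸ hh
      have hc : Subgroup.normalizer ((P : Subgroup G) : Set G) ≤
          Subgroup.centralizer ((P : Subgroup G) : Set G) := by
        intro g hg
        have hgN : g ∈ ClassicalMax.SimpleCA.cN w := ClassicalMax.SimpleCA.mem_N_of_conj hCA hw2
          (hPA (z : (P : Subgroup G)).2) (TwoFusion.involution_ne_one hw2)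
          (hPA ((Subgroup.mem_normalizer_iff''.1 hg w).1 (z : (P : Subgroup G)).2))
        rw [Subgroup.mem_centralizer_iff]
        exact fun x hx => ClassicalMax.SimpleCA.comm_A hCA hw2 (hPA hx) (hNA hgN)
      have hcompl := MonoidHom.ker_transferSylow_isComplement' P hc
      rcases (MonoidHom.normal_ker (MonoidHom.transferSylow P hc)).eq_bot_or_eq_top with hk | hk
      · rw [hk] at hcompl
        exact hPn ((Subgroup.isComplement'_bot_left.1 hcompl) ▸ (inferInstance : (⊤ : Subgroup G).Normal))
      · rw [hk] at hcompl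
        exact hPne (Subgroup.isComplement'_top_left.1 hcompl)
    have helem : ∀ a ∈ ClassicalMax.SimpleCA.cA w, a * a = 1 := fun a ha =>
      ClassicalMax.SimpleCA.sq_eq_one hCA hw2 hAns hm ha
    have hC : ∀ u : G, orderOf u = 2 → IsMulCommutative (Subgroup.centralizer ({u} : Set G)) ∧
        ∀ c ∈ Subgroup.centralizer ({u} : Set G), c ^ 2 = 1 := by
      intro u hu
      refine ⟨⟨⟨fun a b => Subtype.ext (hCA u (TwoFusion.involution_ne_one hu) a a.2 b b.2)⟩⟩,
        fun c hc => ?_⟩
      obtain ⟨g, hg⟩ := isConj_iff.1 (ClassicalMax.SimpleCA.isConj_invol hCA hw2 hAns hu)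
      have h1 : g⁻¹ * c * g ∈ ClassicalMax.SimpleCA.cA w := by
        rw [ClassicalMax.SimpleCA.mem_cent] at hc ⊢
        rw [← hg, commute_iff_eq] at hc
        rw [commute_iff_eq]
        calc g⁻¹ * c * g * w = g⁻¹ * (c * (g * w * g⁻¹)) * g := by group
          _ = g⁻¹ * ((g * w * g⁻¹) * c) * g := by rw [hc]
          _ = w * (g⁻¹ * c * g) := by group
      calc c ^ 2 = c * c := pow_two c
        _ = g * ((g⁻¹ * c * g) * (g⁻¹ * c * g)) * g⁻¹ := by group
        _ = 1 := by rw [helem _ h1]; group
    have hnc : ¬ IsCyclic (P : Subgroup G) := by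
      intro hcyc
      obtain ⟨g, hg⟩ := IsCyclic.exists_ofOrder_eq_natCard (α := (P : Subgroup G))
      have h2 : Nat.card (P : Subgroup G) ≤ 2 := by
        rw [← hg]
        refine Nat.le_of_dvd (by norm_num) (orderOf_dvd_of_pow_eq_one ?_)
        rw [pow_two]
        exact Subtype.ext (helem g (hPA g.2))
      have h3 : Nat.card (ClassicalMax.SimpleCA.cA w) ∣ Nat.card (P : Subgroup G) := by
        have hA2 : IsPGroup 2 (ClassicalMax.SimpleCA.cA w) := fun x => ⟨1, by
          rw [pow_one, pow_two]; exact Subtype.ext (helem x x.2)⟩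
        obtain ⟨k, hk⟩ := IsPGroup.iff_card.1 hA2
        obtain ⟨Q, hQ⟩ := hA2.exists_le_sylow
        rw [P.card_eq_multiplicity, ← Q.card_eq_multiplicity]
        exact Subgroup.card_dvd_of_le hQ
      have h4 : ClassicalMax.SimpleCA.mA hCA hw2 ∣ Nat.card (ClassicalMax.SimpleCA.cA w) - 1 :=
        ClassicalMax.SimpleCA.mA_dvd hCA hw2
      have h5 : Nat.card (ClassicalMax.SimpleCA.cA w) ≤ 2 :=
        (Nat.le_of_dvd Nat.card_pos h3).trans h2
      have h6 : 1 < Nat.card (ClassicalMax.SimpleCA.cA w) :=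
        lt_of_lt_of_le (Finite.one_lt_card (α := (P : Subgroup G))) (Subgroup.card_le_of_le hPA)
      have := Nat.le_of_dvd (by omega) h4
      omega
    obtain ⟨F, iF, iFF, hFc, ⟨e⟩⟩ := S1230.result P hnc hPn hC
    obtain ⟨f, hf⟩ := IsPGroup.iff_card.1 P.isPGroup'
    refine ⟨F, iF, iFF, f, ?_, by rw [hFc, hf], ⟨e⟩⟩
    by_contra hlt
    apply hnc
    have h7 := Finite.one_lt_card (α := (P : Subgroup G))
    have hf1 : f = 1 := by
      rcases Nat.eq_zero_or_pos f with h0 | h0
      · rw [h0, pow_zero] at hf; omega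
      · omega
    exact isCyclic_of_prime_card (p := 2) (by rw [hf, hf1, pow_one])
  · rintro ⟨F, iF, iFF, f, hf, hcard, ⟨e⟩⟩ a b c - hb - hab hbc
    have h := psl_ct hf hcard (e a) (e b) (e c) ((map_ne_one_iff e e.injective).2 hb)
      (hab.map e.toMonoidHom) (hbc.map e.toMonoidHom)
    exact e.injective (by simpa using h.eq)

end Cfsg.Agent.S5748
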