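import Cfsg.Statements.S1060
import Cfsg.Agent.ChevGrp.OrderForm
import Cfsg.Agent.ChevGrp.Weyl.B2
import Cfsg.Agent.Chev.Rules
-- import your own Cfsg.Agent.* helpers here

set_option autoImplicit false
open Cfsg

namespace Cfsg.Agent.S1060

/-- `gcd(2, q-1) · |B₂(q)| = q⁴ (q² - 1)(q⁴ - 1)`. -/
theorem result {F : Type*} [Field F] [Fintype F] {q : ℕ} (hq : Fintype.card F = q) : Nat.gcd 2 (q - 1) * Nat.card ↥(Cfsg.Lie.chevB2.group F) = q ^ 4 * (q ^ 2 - 1) * (q ^ 4 - 1) := by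
  have hS : Cfsg.Agent.ChevGrp.Rules Cfsg.Lie.chevB2 F := Cfsg.Agent.Chev.rules_of_mem F (by simp)
  have hcard : Nat.card F = q := by rw [Nat.card_eq_fintype_card, hq]
  have hd : Nat.card (Cfsg.Agent.ChevGrp.rootKer Cfsg.Lie.chevB2 F) = Nat.gcd 2 (q - 1) := by
    rw [Cfsg.Agent.ChevGrp.card_rootKer_of_cert (r := 1) (fun i => [2].getD i.1 0)
      (Cfsg.Agent.ChevGrp.matOfList [[1], [0]])
      (Cfsg.Agent.ChevGrp.matOfList [[1, 2]])
      (Cfsg.Agent.ChevGrp.matOfList [[0, -1], [0, 0]])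
      (Cfsg.Agent.ChevGrp.matOfList [[2], [1]])
      (Cfsg.Agent.ChevGrp.matOfList [[0, 1]])
      (by decide +kernel) (by decide +kernel) (by decide +kernel) (by decide +kernel), hcard]
    simp [Fin.prod_univ_succ, Nat.gcd_comm, pow_two]
  have h := Cfsg.Agent.ChevGrp.order_eq hS hd
    (fun len hR => Cfsg.Agent.ChevGrp.WeylB2.lenPoly_mul hS hR _)
  rw [hcard] at h
  have hp : ∀ e : ℕ, 1 ≤ q ^ e := fun e => Nat.one_le_pow _ _ (hcard ▸ Nat.card_pos)
  have hN : Cfsg.Lie.chevB2.nroots / 2 = 4 := by decide +kernel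
  rw [hN] at h
  apply Nat.cast_injective (R := ℤ)
  simp only [Nat.cast_mul, Nat.cast_pow, Nat.cast_sub (hp _), Nat.cast_one, one_mul] at h ⊢
  rw [h]
  try ring

end Cfsg.Agent.S1060
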