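import Cfsg.Statements.S1062
import Cfsg.Agent.ChevGrp.OrderForm
import Cfsg.Agent.ChevGrp.Weyl.F4
import Cfsg.Agent.Chev.Rules
-- import your own Cfsg.Agent.* helpers here

set_option autoImplicit false
open Cfsg

namespace Cfsg.Agent.S1062

/-- `|F₄(q)| = q²⁴ (q² - 1)(q⁶ - 1)(q⁸ - 1)(q¹² - 1)`. -/
theorem result {F : Type*} [Field F] [Fintype F] {q : ℕ} (hq : Fintype.card F = q) : Nat.card ↥(Cfsg.Lie.chevF4.group F) = q ^ 24 * (q ^ 2 - 1) * (q ^ 6 - 1) * (q ^ 8 - 1) * (q ^ 12 - 1) := by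
  have hS : Cfsg.Agent.ChevGrp.Rules Cfsg.Lie.chevF4 F := Cfsg.Agent.Chev.rules_of_mem F (by simp)
  have hcard : Nat.card F = q := by rw [Nat.card_eq_fintype_card, hq]
  have hd : Nat.card (Cfsg.Agent.ChevGrp.rootKer Cfsg.Lie.chevF4 F) = 1 := by
    rw [Cfsg.Agent.ChevGrp.card_rootKer_of_cert (r := 0) (fun i => [].getD i.1 0)
      (Cfsg.Agent.ChevGrp.matOfList [[], [], [], []])
      (Cfsg.Agent.ChevGrp.matOfList [])
      (Cfsg.Agent.ChevGrp.matOfList [[2, 3, 4, 2], [3, 6, 8, 4], [2, 4, 6, 3], [1, 2, 3, 2]])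
      (Cfsg.Agent.ChevGrp.matOfList [[], [], [], []])
      (Cfsg.Agent.ChevGrp.matOfList [])
      (by decide +kernel) (by decide +kernel) (by decide +kernel) (by decide +kernel), hcard]
    simp [Fin.prod_univ_succ, Nat.gcd_comm, pow_two]
  have h := Cfsg.Agent.ChevGrp.order_eq hS hd
    (fun len hR => Cfsg.Agent.ChevGrp.WeylF4.lenPoly_mul hS hR _)
  rw [hcard] at h
  have hp : ∀ e : ℕ, 1 ≤ q ^ e := fun e => Nat.one_le_pow _ _ (hcard ▸ Nat.card_pos)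
  have hN : Cfsg.Lie.chevF4.nroots / 2 = 24 := by decide +kernel
  rw [hN] at h
  apply Nat.cast_injective (R := ℤ)
  simp only [Nat.cast_mul, Nat.cast_pow, Nat.cast_sub (hp _), Nat.cast_one, one_mul] at h ⊢
  rw [h]
  try ring

end Cfsg.Agent.S1062
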