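import Cfsg.Statements.S4706
import Cfsg.Agent.PrimeDeg.NormalizerTwo

set_option autoImplicit false
open Cfsg

namespace Cfsg.Agent.S4706

/-- Let p > 2 be a prime and G a permutation group on p letters whose Sylow p-subgroup P has normalizer of order 2p. Then either P is normal in G, or p − 1 = 2^a for some a and G is isomorphic to SL(2, 2^a). -/
theorem result {α : Type*} [Fintype α] [DecidableEq α] {p : ℕ} [Fact p.Prime] (hp : 2 < p) (hα : Fintype.card α = p) (G : Subgroup (Equiv.Perm α)) (P : Sylow p G) (hN : Nat.card (Subgroup.normalizer ((P : Subgroup G) : Set G)) = 2 * p) : (P : Subgroup G).Normal ∨ ∃ (a : ℕ) (F : Type) (_ : Field F) (_ : Fintype F), p = 2 ^ a + 1 ∧ Fintype.card F = 2 ^ a ∧ Nonempty (G ≃* Matrix.SpecialLinearGroup (Fin 2) F) := by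
  classical
  haveI : Finite G := inferInstance
  have hp : p.Prime := Fact.out
  obtain ⟨k, hk⟩ : p ∣ Nat.card G :=
    (show p ∣ 2 * p from dvd_mul_left _ _).trans (hN ▸ Subgroup.card_subgroup_dvd_card _)
  obtain ⟨σ0, hσ0⟩ := exists_prime_orderOf_dvd_card' (G := G) p ⟨k, hk⟩
  obtain ⟨e0, he0⟩ := PermLib.exists_coords (Ω := α) hα hσ0
  haveI : MulAction.IsPretransitive G α := PermLib.isPretransitive_of_coords e0 he0
  by_cases hsol : Group.IsSolvable G
  · left
    exact PrimeDeg.sylow_normal_of_solvable hα hsol P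
  right
  obtain ⟨e, σ, t, he, hσP, ht2, ht1, hte⟩ := PermLib.exists_coords_of_even_normalizer (by omega) hα P
    (by rw [hN]; exact even_two_mul p)
  have h3 := PermLib.three_pretransitive_of_reflection hα hsol e he ht2 ht1 hte
  have h5 := PermLib.five_le_of_not_solvable hα hsol
  have c : PrimeDeg.Cfg e σ t :=
    { faith := inferInstance, three := h3, five := h5, hσ := he, ht := hte
      hN := PrimeDeg.normalizer_cases hα P hN hσP e he hte (by omega) }
  obtain ⟨a, -, ha, F, i1, i2, hF, hiso⟩ := PrimeDeg.sl_two_of_sharp_odd (by omega)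
    (by rw [hα]; exact hp.odd_of_ne_two (by omega)) G h3
    (fun g hg => c.eq_one_of_fix_three hg)
  exact ⟨a, F, i1, i2, hα ▸ ha, hF, hiso⟩

end Cfsg.Agent.S4706
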