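import Cfsg.Statements.S4482
import Cfsg.Agent.DihBlock.OneClass

set_option autoImplicit false
open Cfsg

namespace Cfsg.Agent.S4482

/-- An order formula for groups with dihedral Sylow 2-subgroups and one class of involutions. Let G be a finite group whose Sylow 2-subgroup P = ⟨σ, τ⟩ is dihedral of order 2^n ≥ 8 (σ of order 2^(n−1), τ an involution inverting σ), let J be the central involution σ^(2^(n−2)), and suppose J, τ and στ are conjugate in G. Fix M over 2 and let χ₁ be an irreducible character in the principal 2-block taking one constant value δ₁ = ±1 at every non-identity power of σ, with χ₁ ≠ 1. Then, with x₁ = χ₁(1) and c(·) denoting orders of centralizers, x₁ ≠ δ₁ and #G · (x₁ − δ₁)² = 2·x₁(x₁ + δ₁)·c(J)³·(1/c(J, τ) + 1/c(J, στ))², where c(J, y) is the order of the joint centralizer of J and y. -/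
theorem result {G : Type*} [Group G] [Finite G] (M : Ideal Cfsg.AlgInt) (hM : Cfsg.IsPModular 2 M) (n : ℕ) (hn : 3 ≤ n) (P : Sylow 2 G) (σ τ : G) (hσ : σ ∈ (P : Subgroup G)) (hτ : τ ∈ (P : Subgroup G)) (hσo : orderOf σ = 2 ^ (n - 1)) (hτo : orderOf τ = 2) (hrel : τ * σ * τ⁻¹ = σ⁻¹) (hgen : Subgroup.closure ({σ, τ} : Set G) = (P : Subgroup G)) (hconj : IsConj (σ ^ (2 ^ (n - 2))) τ ∧ IsConj (σ ^ (2 ^ (n - 2))) (σ * τ)) (χ₁ : Cfsg.IrrCharacter G) (hχ₁ : χ₁ ∈ Cfsg.principalBlock M G) (h1 : (χ₁ : G → ℂ) ≠ (fun _ => 1)) (δ₁ : ℤ) (hδ₁ : δ₁ = 1 ∨ δ₁ = -1) (hval : ∀ l : ℕ, 0 < l → l < 2 ^ (n - 1) → (χ₁ : G → ℂ) (σ ^ l) = δ₁) : (Cfsg.charDegree (χ₁ : G → ℂ) : ℤ) ≠ δ₁ ∧ (Nat.card G : ℚ) * ((Cfsg.charDegree (χ₁ : G → ℂ) : ℚ) - δ₁) ^ 2 = 2 * (Cfsg.charDegree (χ₁ : G → ℂ) : ℚ) * ((Cfsg.charDegree (χ₁ : G → ℂ) : ℚ) + δ₁) * (Nat.card (Subgroup.centralizer ({σ ^ (2 ^ (n - 2))} : Set G)) : ℚ) ^ 3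 * (1 / (Nat.card (Subgroup.centralizer ({σ ^ (2 ^ (n - 2)), τ} : Set G)) : ℚ) + 1 / (Nat.card (Subgroup.centralizer ({σ ^ (2 ^ (n - 2)), σ * τ} : Set G)) : ℚ)) ^ 2 := by
  classical
  haveI := Fintype.ofFinite G
  obtain ⟨k, rfl⟩ : ∃ k, n = k + 3 := ⟨n - 3, by omega⟩
  simp only [show k + 3 - 1 = k + 2 by omega, show k + 3 - 2 = k + 1 by omega] at *
  have hm : 2 ^ (k + 2) = 2 * 2 ^ (k + 1) := by ring
  have h4 : 2 ≤ 2 ^ (k + 1) := by
    have := Nat.one_le_two_pow (n := k)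
    rw [pow_succ]; omega
  haveI : NeZero (2 ^ (k + 2)) := ⟨by positivity⟩
  have hsq : τ * τ = 1 := by
    have := pow_orderOf_eq_one τ
    rwa [hτo, pow_two] at this
  have hnm : τ ∉ Subgroup.zpowers σ := by
    intro hmem
    obtain ⟨z, rfl⟩ := Subgroup.mem_zpowers_iff.mp hmem
    rw [((Commute.refl σ).zpow_left z).eq, mul_inv_cancel_right, eq_inv_iff_mul_eq_one] at hrel
    have := orderOf_dvd_of_pow_eq_one (show σ ^ 2 = 1 by rw [pow_two]; exact hrel)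
    rw [hσo] at this
    have := Nat.le_of_dvd two_pos this
    omega
  have hcard : Nat.card (P : Subgroup G) = 4 * 2 ^ (k + 1) := by
    obtain ⟨e⟩ := TwoGroups.closure_equiv_dihedral hσo hnm hsq hrel
    rw [← hgen, Nat.card_congr e.toEquiv, DihedralGroup.nat_card, hm]; ring
  have D : DihBlock.Dih P σ τ (2 ^ (k + 1)) :=
    ⟨hσ, hτ, ⟨k + 1, rfl⟩, by rw [hσo, hm], hrel, hsq, hnm, hcard⟩
  obtain ⟨ha, hb⟩ := D.one_class_equation h4 hM hconj.1 hconj.2 (DihBlock.mem_pb.mpr hχ₁)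
    (fun e => h1 (by rw [e]; rfl)) hδ₁ (fun l hl0 hl => hval l hl0 (by rwa [hm]))
  refine ⟨ha, ?_⟩
  simp only [DihBlock.cJ, pow_zero, one_mul, pow_one] at hb
  exact hb

end Cfsg.Agent.S4482
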