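import Cfsg.Statements.S4541
import Cfsg.Agent.BlkChar.ContribBounds

set_option autoImplicit false
open Cfsg

namespace Cfsg.Agent.S4541

/-- Let B be a 2-block of the finite group G (relative to a maximal ideal M of the algebraic integers containing 2), u a 2-element, and b a block of the centralizer of u inducing B (a subsection (u, b)), of defect q and 2-regular rank l; write s for the integer square root of l and k₀(B) for the number of members of B of height zero. If s is odd then k₀(B) ≤ s·2 ^ q, and otherwise (s + 1)·k₀(B) ≤ l·2 ^ q; in particular k₀(B) ≤ 2 ^ q when l ≤ 3. -/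
theorem result {G : Type*} [Group G] [Finite G] (M : Ideal Cfsg.AlgInt) (hM : Cfsg.IsPModular 2 M) (B : Set (Cfsg.IrrCharacter G)) (hB : Cfsg.IsPBlock M B) (u : G) (hu : ∃ j : ℕ, orderOf u = 2 ^ j) (b : Set (Cfsg.IrrCharacter ↥(Subgroup.centralizer ({u} : Set G)))) (hb : Cfsg.IsInducedBlock M (Subgroup.centralizer ({u} : Set G)) b B) : (Odd (Nat.sqrt (Cfsg.blockRank 2 b)) → Nat.card {χ : Cfsg.IrrCharacter G // χ ∈ B ∧ Cfsg.blockHeight 2 B (χ : G → ℂ) = 0} ≤ Nat.sqrt (Cfsg.blockRank 2 b) * 2 ^ Cfsg.blockDefect 2 b) ∧ (¬ Odd (Nat.sqrt (Cfsg.blockRank 2 b)) → (Nat.sqrt (Cfsg.blockRank 2 b) + 1) * Nat.card {χ : Cfsg.IrrCharacter G // χ ∈ B ∧ Cfsg.blockHeight 2 B (χ : G → ℂ) = 0} ≤ Cfsg.blockRank 2 b * 2 ^ Cfsg.blockDefect 2 b) ∧ (Cfsg.blockRank 2 b ≤ 3 → Nat.card {χ : Cfsg.IrrCharacter G // χ ∈ B ∧ Cfsg.blockHeight 2 B (χ : G → ℂ) = 0} ≤ 2 ^ Cfsg.blockDefect 2 b) := by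
  classical
  letI := Fintype.ofFinite G
  obtain ⟨i, hi⟩ := hu
  letI := Fintype.ofFinite (Subgroup.centralizer ({u} : Set G))
  haveI : Fact (Nat.Prime 2) := ⟨Nat.prime_two⟩
  have hS := BlkChar.Contrib.isSection_of_orderOf (p := 2) hi
  rw [BlkChar.Contrib.card_heightZero]
  set H := BlkChar.Contrib.heightZero 2 B with hH
  set l := Cfsg.blockRank 2 b with hl
  set q := Cfsg.blockDefect 2 b with hq
  set s := Nat.sqrt l with hs
  set U : ℝ := ((BlkChar.Cyclo.unitSet (2 ^ (i + 1))).card : ℝ) with hU'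
  have hU : 0 < U := Nat.cast_pos.2 (BlkChar.Cyclo.unitSet_card_pos _)
  choose m hm1 hm2 hm3 hm4 using fun χ : H => BlkChar.Contrib.exists_odd_mean hS hM hb χ.2
  have hsum : ∑ χ : H, m χ ≤ (l : ℤ) * 2 ^ q := by
    have h1 := BlkChar.Contrib.sum_diagSum_le hS hM hb.1 H
    rw [← Finset.sum_coe_sort H] at h1
    simp only [hm3, ← Finset.mul_sum, ← hU'] at h1
    rw [mul_assoc] at h1
    have h2 := le_of_mul_le_mul_left h1 hU
    have h3 : (((∑ χ : H, m χ : ℤ)) : ℝ) ≤ (((l : ℤ) * 2 ^ q : ℤ) : ℝ) := by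
      push_cast
      push_cast at h2
      rw [mul_comm]
      exact h2
    exact_mod_cast h3
  have hsq1 : s * s ≤ l := Nat.sqrt_le l
  have hsq2 : l < (s + 1) * (s + 1) := Nat.lt_succ_sqrt l
  have main : ∀ t : ℕ, (∀ χ : H, (s : ℤ) < m χ → (t : ℤ) ≤ m χ) →
      (∀ χ : H, m χ ≤ s → (t * H.card : ℤ) ≤ (l : ℤ) * 2 ^ q) → t * H.card ≤ l * 2 ^ q := by
    intro t h1 h2
    have h3 : ((t * H.card : ℕ) : ℤ) ≤ (l : ℤ) * 2 ^ q := by
      push_cast
      by_cases hc : ∃ χ : H, m χ ≤ s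
      · obtain ⟨χ, hχ⟩ := hc
        exact h2 χ hχ
      · push Not at hc
        refine le_trans ?_ hsum
        have h4 := Finset.card_nsmul_le_sum (Finset.univ : Finset H) m (t : ℤ)
          fun χ _ => h1 χ (hc χ)
        rw [Finset.card_univ, Fintype.card_coe, nsmul_eq_mul] at h4
        linarith
    exact_mod_cast h3
  have hpow : (0 : ℤ) ≤ 2 ^ q := by positivity
  have oddcase : Odd s → H.card ≤ s * 2 ^ q := by
    intro hodd
    obtain ⟨a, ha⟩ := hodd
    by_cases hc : ∃ χ : H, m χ ≤ s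
    · obtain ⟨χ, hχ⟩ := hc
      have h4 := hm4 χ
      have h2 := hm2 χ
      have : (H.card : ℤ) ≤ (s : ℤ) * 2 ^ q := by nlinarith
      exact_mod_cast this
    · push Not at hc
      have h := main (s + 2) (fun χ hχ => by
        have h1 := hm1 χ
        omega) (fun χ hχ => absurd hχ (not_le.2 (hc χ)))
      have h5 : l ≤ s * (s + 2) := by nlinarith
      have h6 : l * 2 ^ q ≤ (s + 2) * (s * 2 ^ q) := by nlinarith [Nat.mul_le_mul_right (2 ^ q) h5]
      exact Nat.le_of_mul_le_mul_left (h.trans h6) (by omega)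
  have evencase : ¬ Odd s → (s + 1) * H.card ≤ l * 2 ^ q := by
    intro hev
    obtain ⟨a, ha⟩ := Nat.not_odd_iff_even.1 hev
    refine main (s + 1) (fun χ hχ => by omega) (fun χ hχ => ?_)
    have h4 := hm4 χ
    have h1 := hm1 χ
    have h2 := hm2 χ
    have h3 : m χ + 1 ≤ s := by omega
    have h7 : (H.card : ℤ) ≤ ((s : ℤ) - 1) * 2 ^ q := by nlinarith
    have h8 : ((s : ℤ) * s) ≤ (l : ℤ) := by exact_mod_cast hsq1
    push_cast
    nlinarith [mul_le_mul_of_nonneg_right h8 hpow]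
  refine ⟨oddcase, evencase, fun h3 => ?_⟩
  rcases Nat.eq_zero_or_pos l with h0 | h0
  · have hs0 : s = 0 := by rw [hs, h0]; rfl
    have := evencase (by rw [hs0]; decide)
    rw [hs0, h0, zero_mul, zero_add, one_mul] at this
    exact le_trans this (Nat.zero_le _)
  · have hs1 : s = 1 := by
      have h5 : 1 ≤ s := by
        by_contra hc
        have : s = 0 := by omega
        rw [this] at hsq2
        omega
      have h6 : s < 2 := by
        by_contra hc
        have : 2 * 2 ≤ s * s := Nat.mul_le_mul (by omega) (by omega)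
        omega
      omega
    have := oddcase (by rw [hs1]; decide)
    rwa [hs1, one_mul] at this

end Cfsg.Agent.S4541
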