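import Cfsg.Statements.S2794
import Cfsg.Agent.LocalP.QdStable
import Cfsg.Agent.CF.Sections
import Cfsg.Agent.CF.SectionTools
import Cfsg.Agent.S0664
import Cfsg.Agent.Modules.Thompson

set_option autoImplicit false
open Cfsg

namespace Cfsg.Agent.S2794

universe v

/-- `Z(J(Q))` as a functor on groups. -/
def zjFun : ∀ (Q : Type v) [Group Q], Subgroup Q := fun Q _ =>
  Cfsg.centerThompsonAOf (⊤ : Subgroup Q)

theorem induced_zjFun {G : Type v} [Group G] (P : Subgroup G) :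
    Cfsg.inducedFunctor zjFun P = Cfsg.centerThompsonAOf P := by
  rw [Cfsg.inducedFunctor, zjFun, Modules.map_centerThompsonAOf P.subtype_injective,
    ← MonoidHom.range_eq_map, Subgroup.range_subtype]

theorem zjFun_charP {p : ℕ} [Fact p.Prime] : Cfsg.IsCharPFunctor.{v} p zjFun := by
  refine ⟨fun Q _ _ hQ hne => ?_, fun Q R _ _ _ _ φ => ?_⟩
  · refine Modules.centerThompsonAOf_ne_bot (hQ.to_subgroup ⊤) ?_
    haveI := hne
    exact bot_ne_top.symm
  · show (Cfsg.centerThompsonAOf _).map _ = _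
    rw [Modules.map_centerThompsonAOf φ.injective, Subgroup.map_top_of_surjective _ φ.surjective]
    rfl

/-- The Sylow subgroup of `Qd(p)` whose `Z(J)` fails to control fusion. -/
theorem not_controls_qd {p : ℕ} [Fact p.Prime] :
    ¬ ∀ T : Sylow p ↥(Cfsg.qdOver (ZMod p)), Cfsg.ControlsStrongFusion p
      (Cfsg.centerThompsonAOf (T : Subgroup ↥(Cfsg.qdOver (ZMod p)))) := by
  open EvenLocal.Qd in
  intro h
  set U := uni (ZMod p)
  let T : Sylow p ↥(Cfsg.qdOver (ZMod p)) :=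
    ⟨U, uni_isPGroup, fun hQ hle => uni_maximal hQ hle⟩
  obtain ⟨T₀, hZ, hctrl⟩ := h T
  set Z := Cfsg.centerThompsonAOf U with hZdef
  have hne : U ≠ ⊥ := fun he => by
    have h1 : uniEl (1 : ZMod p) 0 0 ∈ U := uniEl_mem _ _ _
    rw [he, Subgroup.mem_bot] at h1
    have h2 := congrArg (fun M => ((lin M : Matrix (Fin 2) (Fin 2) (ZMod p)) 0 1)) h1
    simp [uniEl, lin_mkEl] at h2
  set Z' := Z.subgroupOf U with hZ'
  have hZU : Z ≤ U := Modules.centerThompsonAOf_le U
  have hZmap : Z'.map U.subtype = Z := Subgroup.map_subgroupOf_eq_of_le hZU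
  have hZchar : Z'.Characteristic := by
    refine Subgroup.characteristic_iff_map_eq.2 fun φ => ?_
    have h1 : Z' = Cfsg.centerThompsonAOf (⊤ : Subgroup ↥U) := by
      apply Subgroup.map_injective U.subtype_injective
      rw [hZmap, Modules.map_centerThompsonAOf U.subtype_injective, ← MonoidHom.range_eq_map,
        Subgroup.range_subtype]
    rw [h1]
    show Subgroup.map φ.toMonoidHom _ = _
    rw [Modules.map_centerThompsonAOf φ.injective, Subgroup.map_top_of_surjective _ φ.surjective]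
  have hZne : Z' ≠ ⊥ := fun he => Modules.centerThompsonAOf_ne_bot uni_isPGroup hne (by
    rw [← hZdef, ← hZmap, he, Subgroup.map_bot])
  have hN : Subgroup.normalizer (Z : Set ↥(Cfsg.qdOver (ZMod p))) = EvenLocal.Qd.borel (ZMod p) := by
    rw [← hZmap]
    exact normalizer_characteristic_uni Z' hZne hZchar
  set V := (lin (F := ZMod p)).ker with hV
  have hVp : IsPGroup p ↥V := fun v => ⟨1, Subtype.ext (by
    rw [pow_one]; exact pow_eq_one_of_lin (p := p) v.2)⟩
  have hVT : V ≤ (T₀ : Subgroup ↥(Cfsg.qdOver (ZMod p))) := by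
    have h1 := Cores.le_pCore (MonoidHom.normal_ker _) hVp
    exact h1.trans (Cores.pCore_le_sylow T₀)
  -- `e₀` and `e₁` translations are conjugate, but not under the Borel subgroup
  set a : ↥(Cfsg.qdOver (ZMod p)) := mkEl 1 ![1, 0]
  set b : ↥(Cfsg.qdOver (ZMod p)) := mkEl 1 ![0, 1]
  obtain ⟨A, hA⟩ := exists_mulVec_eq (F := ZMod p) (v := ![0, 1]) (fun he => by
    simpa using congrFun he 1)
  obtain ⟨hc1, hc2⟩ := conj_translation (mkEl A 0) a (lin_mkEl 1 _)
  have hga : mkEl A 0 * a * (mkEl A 0)⁻¹ = b := by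
    refine ext_lin_tr (hc1.trans (lin_mkEl 1 _).symm) ?_
    rw [hc2, lin_mkEl, tr_mkEl, tr_mkEl, hA]
  obtain ⟨-, hcf⟩ := hctrl {a} (Set.singleton_subset_iff.2 (hVT (lin_mkEl 1 _)))
  obtain ⟨x, hx, he⟩ := hcf (mkEl A 0) (by
    rintro _ ⟨_, rfl, rfl⟩
    show mkEl A 0 * a * (mkEl A 0)⁻¹ ∈ (T₀ : Subgroup ↥(Cfsg.qdOver (ZMod p)))
    rw [hga]
    exact hVT (lin_mkEl 1 _))
  have hx' : x ∈ EvenLocal.Qd.borel (ZMod p) := hN ▸ hx
  have h2 := (conj_translation x a (lin_mkEl 1 _)).2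
  rw [← he a rfl, hga, tr_mkEl, tr_mkEl] at h2
  have h3 := congrFun h2 1
  have hx10 : (lin x : Matrix (Fin 2) (Fin 2) (ZMod p)) 1 0 = 0 := hx'
  simp [Matrix.mulVec, dotProduct, Fin.sum_univ_two, hx10] at h3


/-- For an odd prime p and a finite group G, the group Qd(p) is not involved in G if and only if in every section K/R of G, for every Sylow p-subgroup S* of K/R, the centre of J(S*) (J generated by the abelian subgroups of largest order) controls strong fusion in K/R. -/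
theorem result {G : Type*} [Group G] [Finite G] {p : ℕ} [Fact p.Prime] (hp : p ≠ 2) : ¬ Cfsg.Involves ↥(Cfsg.qd p) G ↔ ∀ (K R : Subgroup G) [hR : (R.subgroupOf K).Normal], ∀ T : Sylow p (K ⧸ R.subgroupOf K), Cfsg.ControlsStrongFusion p (Cfsg.centerThompsonAOf (T : Subgroup (K ⧸ R.subgroupOf K))) := by
  constructor
  · intro hfree K R hR T
    have h𝓦 : ∀ W ∈ ({zjFun} : Set (∀ (Q : Type _) [Group Q], Subgroup Q)),
        Cfsg.IsCharPFunctor p W := fun W hW => (Set.mem_singleton_iff.1 hW) ▸ zjFun_charP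
    rw [← induced_zjFun]
    refine CF.controlsFusion_of_fusIn (CF.isConjugacyFunctor_induced zjFun_charP) T ?_
    rw [← CF.fam_singleton]
    refine CF.fusIn_of_sections (G := G) h𝓦 ?_ _ (CF.IsSec.of_section K R) T
    intro X _ _ hX hC S
    rw [CF.fam_singleton]
    refine CF.fusIn_singleton fun D _ g hg _ => ⟨g, ⟨hg, ?_⟩, fun d _ => rfl⟩
    have hn : (Cfsg.centerThompsonAOf (S : Subgroup X)).Normal := by
      refine S0664.result hp ?_ hC S
      rintro ⟨K₁, R₁, hR₁, ⟨e⟩⟩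
      obtain ⟨K₀, R₀, hR₀, ⟨e₀⟩⟩ := hX.exists_equiv
      obtain ⟨K₂, R₂, hR₂, ⟨e₂⟩⟩ := Stability.section_comap e₀.toMonoidHom e₀.surjective hR₁ e
      exact hfree (LocalP.QdStab.section_trans hR₂ e₂)
    rw [induced_zjFun, CF.Nz, Subgroup.normalizer_eq_top (h := hn)]
    trivial
  · rintro h ⟨K, R, hR, ⟨e⟩⟩
    refine not_controls_qd (p := p) fun T => ?_
    change Sylow p ↥(Cfsg.qd p) at T
    show Cfsg.ControlsStrongFusion p (Cfsg.centerThompsonAOf (T : Subgroup ↥(Cfsg.qd p)))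
    obtain ⟨T', hT'⟩ : ∃ T' : Sylow p (↥K ⧸ R.subgroupOf K),
        (T' : Subgroup _).map e.toMonoidHom = (T : Subgroup _) := by
      obtain ⟨T', hT'⟩ := Sylow.mapSurjective_surjective (f := e.toMonoidHom) e.surjective p T
      exact ⟨T', (congrArg Sylow.toSubgroup hT' :)⟩
    obtain ⟨T₀, hle, hc⟩ := h K R T'
    have he : (Cfsg.centerThompsonAOf (T' : Subgroup _)).map e.toMonoidHom =
        Cfsg.centerThompsonAOf (T : Subgroup ↥(Cfsg.qd p)) := by
      rw [Modules.map_centerThompsonAOf e.injective, hT']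
    refine ⟨T₀.mapSurjective (f := e.toMonoidHom) e.surjective, ?_, fun A hA => ⟨hA, fun g hgA => ?_⟩⟩
    · exact he.ge.trans (Subgroup.map_mono hle)
    replace hA : A ⊆ ((T₀ : Subgroup _).map e.toMonoidHom : Set _) := hA
    replace hgA : (fun a => g * a * g⁻¹) '' A ⊆ ((T₀ : Subgroup _).map e.toMonoidHom : Set _) := hgA
    have hmem : ∀ y, y ∈ (T₀ : Subgroup _).map e.toMonoidHom → e.symm y ∈ (T₀ : Subgroup _) := by
      rintro _ ⟨y, hy, rfl⟩
      show e.symm (e y) ∈ _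
      rwa [e.symm_apply_apply]
    obtain ⟨-, hc'⟩ := hc (e.symm '' A) (by
      rintro _ ⟨a, ha, rfl⟩
      exact hmem a (hA ha))
    obtain ⟨x, hx, hxe⟩ := hc' (e.symm g) (by
      rintro _ ⟨_, ⟨a, ha, rfl⟩, rfl⟩
      show e.symm g * e.symm a * (e.symm g)⁻¹ ∈ (T₀ : Subgroup _)
      rw [← map_mul, ← map_inv, ← map_mul]
      exact hmem _ (hgA ⟨a, ha, rfl⟩))
    refine ⟨e x, ?_, fun a ha => ?_⟩
    · show e x ∈ Subgroup.normalizer (Cfsg.centerThompsonAOf (T : Subgroup ↥(Cfsg.qd p)) : Set ↥(Cfsg.qd p))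
      rw [← he, ← Subgroup.map_equiv_normalizer_eq]
      exact ⟨x, hx, rfl⟩
    · have h2 := congrArg e (hxe (e.symm a) ⟨a, ha, rfl⟩)
      simpa using h2

end Cfsg.Agent.S2794
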