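import Cfsg.Statements.S1225
import Cfsg.Agent.TwoFusion.SEBasic

set_option autoImplicit false
open Cfsg

namespace Cfsg.Agent.S1225

/-- Let H be a strongly embedded subgroup of the finite group G, u an involution outside H and D = H ∩ uHu⁻¹. Then any two involutions of H are conjugate by an element of D, and any two involutions of G are conjugate in G. -/
theorem result {G : Type*} [Group G] [Finite G] (H : Subgroup G) (hH : Cfsg.IsStronglyEmbedded H) (u : G) (hu : orderOf u = 2) (huH : u ∉ H) (s t : G) (hs : orderOf s = 2) (hsH : s ∈ H) (ht : orderOf t = 2) (htH : t ∈ H) : (∃ d ∈ (H ⊓ H.map (MulAut.conj u).toMonoidHom), d * s * d⁻¹ = t) ∧ ∀ a b : G, orderOf a = 2 → orderOf b = 2 → IsConj a b := by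
  have huinv := TwoFusion.involution_inv hu
  have hconjH : ∀ a : G, orderOf a = 2 → ∃ b ∈ H, orderOf b = 2 ∧ IsConj a b := by
    intro a ha
    by_cases haH : a ∈ H
    · exact ⟨a, haH, ha, IsConj.refl a⟩
    · obtain ⟨v, -, hvs, -⟩ := TwoFusion.se_exists_swap hH hs hsH ha haH
      exact ⟨s, hsH, hs, (isConj_iff.2 ⟨v, hvs⟩).symm⟩
  have hD : ∀ t : G, orderOf t = 2 → t ∈ H →
      ∃ d ∈ (H ⊓ H.map (MulAut.conj u).toMonoidHom), d * s * d⁻¹ = t := by
    intro t ht htH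
    have h1 : u * t * u⁻¹ ∉ H := fun h => huH (TwoFusion.se_mem_of_conj_mem hH ht htH h)
    obtain ⟨v, hv, hvs, -⟩ := TwoFusion.se_exists_swap hH hs hsH
      ((TwoFusion.orderOf_conj' _ _).trans ht) h1
    have h2 : (u⁻¹ * v) * s * (u⁻¹ * v)⁻¹ = t := by
      have h' := congrArg (fun z => u⁻¹ * z * u) hvs
      simpa [mul_assoc] using h'
    have h3 : u⁻¹ * v ∈ H := TwoFusion.se_mem_of_conj_mem hH hs hsH (by rw [h2]; exact htH)
    refine ⟨u⁻¹ * v, ⟨h3, TwoFusion.mem_map_conj_iff.2 ?_⟩, h2⟩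
    have h4 := inv_mem h3
    rw [mul_inv_rev, inv_inv, TwoFusion.involution_inv hv] at h4
    rw [huinv, ← mul_assoc, TwoFusion.involution_mul_self hu, one_mul]
    exact h4
  refine ⟨hD t ht htH, fun a b ha hb => ?_⟩
  obtain ⟨a', ha'H, ha', haa'⟩ := hconjH a ha
  obtain ⟨b', hb'H, hb', hbb'⟩ := hconjH b hb
  obtain ⟨d1, -, hd1⟩ := hD a' ha' ha'H
  obtain ⟨d2, -, hd2⟩ := hD b' hb' hb'H
  exact haa'.trans ((((isConj_iff.2 ⟨d1, hd1⟩).symm).trans (isConj_iff.2 ⟨d2, hd2⟩)).trans hbb'.symm)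

end Cfsg.Agent.S1225
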