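import Cfsg.Statements.S1224
import Cfsg.Agent.TwoFusion.SEBasic

set_option autoImplicit false
open Cfsg

namespace Cfsg.Agent.S1224

/-- Let H be a strongly embedded subgroup of the finite group G and x ≠ y two cosets in G/H. Then the number of involutions i of G with i • x = y equals the number of involutions lying in H. -/
theorem result {G : Type*} [Group G] [Finite G] (H : Subgroup G) (hH : Cfsg.IsStronglyEmbedded H) (x y : G ⧸ H) (hxy : x ≠ y) : Nat.card {i : G // orderOf i = 2 ∧ i • x = y} = Nat.card {t : G // orderOf t = 2 ∧ t ∈ H} := by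
  classical
  obtain ⟨s, hs, hsH⟩ := TwoFusion.se_exists_involution hH
  induction x using QuotientGroup.induction_on with | _ g => ?_
  induction y using QuotientGroup.induction_on with | _ g' => ?_
  set a := g⁻¹ * g' with ha
  have haH : a ∉ H := fun h => hxy (QuotientGroup.eq.2 h)
  have hg' : g' = g * a := by rw [ha]; group
  have hsmul : ∀ i : G, i • (QuotientGroup.mk g : G ⧸ H) = QuotientGroup.mk g' ↔
      a⁻¹ * (g⁻¹ * i * g) ∈ H := by
    intro i
    rw [MulAction.Quotient.smul_mk, QuotientGroup.eq, smul_eq_mul, ← inv_mem_iff, hg']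
    simp [mul_assoc]
  have hv : ∀ i : {i : G // orderOf i = 2 ∧ i • (QuotientGroup.mk g : G ⧸ H) = QuotientGroup.mk g'},
      orderOf (g⁻¹ * i.1 * g) = 2 ∧ g⁻¹ * i.1 * g ∉ H := by
    intro i
    refine ⟨by simpa using (TwoFusion.orderOf_conj' g⁻¹ i.1).trans i.2.1, fun h => haH ?_⟩
    have h2 := mul_mem h (inv_mem ((hsmul i.1).1 i.2.2))
    simpa [mul_assoc] using h2
  refine Nat.card_congr (Equiv.ofBijective (fun i =>
    ⟨(a⁻¹ * (g⁻¹ * i.1 * g)) * s * (a⁻¹ * (g⁻¹ * i.1 * g))⁻¹,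
      (TwoFusion.orderOf_conj' _ _).trans hs,
      mul_mem (mul_mem ((hsmul i.1).1 i.2.2) hsH) (inv_mem ((hsmul i.1).1 i.2.2))⟩) ⟨?_, ?_⟩)
  · intro i j hij
    have h : (a⁻¹ * (g⁻¹ * i.1 * g)) * s * (a⁻¹ * (g⁻¹ * i.1 * g))⁻¹
        = (a⁻¹ * (g⁻¹ * j.1 * g)) * s * (a⁻¹ * (g⁻¹ * j.1 * g))⁻¹ := congrArg Subtype.val hij
    have h2 : (g⁻¹ * i.1 * g) * s * (g⁻¹ * i.1 * g)⁻¹ = (g⁻¹ * j.1 * g) * s * (g⁻¹ * j.1 * g)⁻¹ := by
      have h' := congrArg (fun z => a * z * a⁻¹) h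
      simpa [mul_assoc] using h'
    have h3 := TwoFusion.se_swap_unique hH hs hsH (hv i).1 (hv i).2 (hv j).1 (hv j).2 h2
    exact Subtype.ext (by simpa using h3)
  · rintro ⟨t, ht, htH⟩
    have h1 : a * t * a⁻¹ ∉ H := fun h => haH (TwoFusion.se_mem_of_conj_mem hH ht htH h)
    obtain ⟨v, hv2, hvs, -⟩ := TwoFusion.se_exists_swap hH hs hsH
      ((TwoFusion.orderOf_conj' _ _).trans ht) h1
    have h2 : (a⁻¹ * v) * s * (a⁻¹ * v)⁻¹ = t := by
      have h' := congrArg (fun z => a⁻¹ * z * a) hvs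
      simpa [mul_assoc] using h'
    have h3 : a⁻¹ * v ∈ H := TwoFusion.se_mem_of_conj_mem hH hs hsH (by rw [h2]; exact htH)
    refine ⟨⟨g * v * g⁻¹, (TwoFusion.orderOf_conj' _ _).trans hv2, (hsmul _).2 ?_⟩, Subtype.ext ?_⟩
    · simpa [mul_assoc] using h3
    · simpa [mul_assoc] using h2

end Cfsg.Agent.S1224
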