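import Cfsg.Statements.S4774
import Cfsg.Agent.SL2Char.Twist

set_option autoImplicit false
open Cfsg

namespace Cfsg.Agent.S4774

/-- Let F be a finite field of odd characteristic t with q > 5 elements and let S be isomorphic to PSL(2,F) or to SL(2,F). Then the vertices of the character degree graph of S are the primes dividing q(q²−1); the prime t is adjacent to no vertex; two distinct primes dividing q² − 1 are adjacent exactly when one of them is 2, or both divide q + 1, or both divide q − 1. -/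
theorem result (F : Type*) [Field F] [Fintype F] (t : ℕ) [Fact t.Prime] [CharP F t] (ht : t ≠ 2) (q : ℕ) (hq : Fintype.card F = q) (h5 : 5 < q) {S : Type*} [Group S] [Finite S] (hS : Nonempty (S ≃* Matrix.ProjectiveSpecialLinearGroup (Fin 2) F) ∨ Nonempty (S ≃* Matrix.SpecialLinearGroup (Fin 2) F)) : Cfsg.degreePrimes S = {r : ℕ | r.Prime ∧ r ∣ q * (q ^ 2 - 1)} ∧ ∀ r s : ℕ, (Cfsg.degreeGraph S).Adj r s ↔ (r ≠ s ∧ r.Prime ∧ s.Prime ∧ r ∣ q ^ 2 - 1 ∧ s ∣ q ^ 2 - 1 ∧ (r = 2 ∨ s = 2 ∨ (r ∣ q + 1 ∧ s ∣ q + 1) ∨ (r ∣ q - 1 ∧ s ∣ q - 1))) := by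
  subst hq
  obtain ⟨ν, hν⟩ : ∃ ν : F, ¬ IsSquare ν := FiniteField.exists_nonsquare (by
    rw [ringChar.eq F t]; exact ht)
  obtain ⟨k, htp, hk⟩ := FiniteField.card F t
  obtain ⟨hsub, hdq, hdp, hdm⟩ := SL2Char.degree_set_facts hν h5 hS
  have hodd := Nat.odd_iff.1 (SL2Char.odd_card_of_nonsquare hν)
  set q := Fintype.card F
  have hsq := SL2Char.sq_sub_one_eq q
  refine ⟨?_, fun r s => ?_⟩
  · ext r
    simp only [degreePrimes, Set.mem_ofPred_eq]
    refine and_congr_right fun hr => ?_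
    rw [SL2Char.prime_dvd_list hr]
    constructor
    · rintro ⟨d, hd, hrd⟩
      rcases hsub d hd with rfl | h | h
      · exact Or.inl hrd
      · exact Or.inr (Or.inl (hrd.trans h))
      · exact Or.inr (Or.inr (hrd.trans h))
    · rintro (h | h | h)
      exacts [⟨_, hdq, h⟩, ⟨_, hdp, h⟩, ⟨_, hdm, h⟩]
  · show (r ≠ s ∧ r.Prime ∧ s.Prime ∧ ∃ d ∈ charDegrees S, r * s ∣ d) ↔ _
    refine and_congr_right fun hrs => and_congr_right fun hr => and_congr_right fun hs => ?_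
    constructor
    · rintro ⟨d, hd, hrsd⟩
      rcases hsub d hd with rfl | h | h
      · exact absurd (hk ▸ hrsd) (SL2Char.not_mul_dvd_pow htp hr hs hrs)
      · have h1 : r ∣ q + 1 := ((Dvd.intro s rfl).trans hrsd).trans h
        have h2 : s ∣ q + 1 := ((Dvd.intro_left r rfl).trans hrsd).trans h
        refine ⟨?_, ?_, Or.inr (Or.inr (Or.inl ⟨h1, h2⟩))⟩
        · rw [hsq]; exact h1.mul_right _
        · rw [hsq]; exact h2.mul_right _
      · have h1 : r ∣ q - 1 := ((Dvd.intro s rfl).trans hrsd).trans h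
        have h2 : s ∣ q - 1 := ((Dvd.intro_left r rfl).trans hrsd).trans h
        refine ⟨?_, ?_, Or.inr (Or.inr (Or.inr ⟨h1, h2⟩))⟩
        · rw [hsq]; exact h1.mul_left _
        · rw [hsq]; exact h2.mul_left _
    · rintro ⟨hr2, hs2, h⟩
      rw [hsq, hr.dvd_mul] at hr2
      rw [hsq, hs.dvd_mul] at hs2
      have e1 : 2 ∣ q + 1 := by omega
      have e2 : 2 ∣ q - 1 := by omega
      rcases h with rfl | rfl | ⟨h1, h2⟩ | ⟨h1, h2⟩
      · rcases hs2 with h2 | h2
        · exact ⟨_, hdp, SL2Char.mul_dvd_of_primes hr hs hrs e1 h2⟩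
        · exact ⟨_, hdm, SL2Char.mul_dvd_of_primes hr hs hrs e2 h2⟩
      · rcases hr2 with h1 | h1
        · exact ⟨_, hdp, SL2Char.mul_dvd_of_primes hr hs hrs h1 e1⟩
        · exact ⟨_, hdm, SL2Char.mul_dvd_of_primes hr hs hrs h1 e2⟩
      · exact ⟨_, hdp, SL2Char.mul_dvd_of_primes hr hs hrs h1 h2⟩
      · exact ⟨_, hdm, SL2Char.mul_dvd_of_primes hr hs hrs h1 h2⟩

end Cfsg.Agent.S4774
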