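import Cfsg.Statements.S2331
import Cfsg.Agent.Linear.Classes
open Cfsg.Agent.Linear.Classes Matrix

set_option autoImplicit false
open Cfsg

namespace Cfsg.Agent.S2331

/-- Over a finite field with q elements, q even, the special linear group SL₂ has exactly q + 1 conjugacy classes. -/
theorem result {F : Type*} [Field F] [Fintype F] [CharP F 2] :
    Nat.card (ConjClasses (Matrix.SpecialLinearGroup (Fin 2) F)) = Fintype.card F + 1 := by
  classical
  have h2 : (2 : F) = 0 := CharTwo.two_eq_zero
  let f : Option F → ConjClasses (Matrix.SpecialLinearGroup (Fin 2) F) := fun o =>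
    o.elim (ConjClasses.mk 1) (fun t => ConjClasses.mk (companionSL t))
  have hbij : Function.Bijective f := by
    constructor
    · rintro (_ | t) (_ | t₂) h <;>
        simp only [f, Option.elim_none, Option.elim_some, ConjClasses.mk_eq_mk_iff_isConj,
          isConj_one_right, isConj_one_left] at h
      · rfl
      · exact absurd (congrArg (fun g : Matrix.SpecialLinearGroup (Fin 2) F => (g : Matrix (Fin 2) (Fin 2) F) 1 0) h)
          (by simp [companionSL_val, companion])
      · exact absurd (congrArg (fun g : Matrix.SpecialLinearGroup (Fin 2) F => (g : Matrix (Fin 2) (Fin 2) F) 1 0) h)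
          (by simp [companionSL_val, companion])
      · have := trace_eq_of_isConj h
        simpa [companionSL_val, trace_companion] using this
    · intro C
      obtain ⟨g, rfl⟩ := ConjClasses.exists_rep C
      by_cases hg : Nonscalar (g : Matrix (Fin 2) (Fin 2) F)
      · refine ⟨some (g : Matrix (Fin 2) (Fin 2) F).trace, ?_⟩
        simp only [f, Option.elim_some, ConjClasses.mk_eq_mk_iff_isConj]
        exact (isConj_SL_of_trace hg (companion_nonscalar _ _)
          (by simp [companionSL_val, trace_companion]) (Or.inl h2)).symm
      · obtain ⟨c, hc, hgc⟩ := scalar_SL hg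
        have : c = 1 := by
          rcases sq_eq_one_iff.1 hc with e | e
          · exact e
          · rw [e]; linear_combination -h2
        refine ⟨none, congrArg _ (Subtype.ext ?_)⟩
        rw [hgc, this, one_smul, Matrix.SpecialLinearGroup.coe_one]
  rw [← Nat.card_eq_of_bijective f hbij, Finite.card_option, Nat.card_eq_fintype_card]

end Cfsg.Agent.S2331
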