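import Cfsg.Statements.S4812
import Cfsg.Agent.SL2Char.Even
import Cfsg.Agent.SL2Char.Transfer

set_option autoImplicit false
open Cfsg

namespace Cfsg.Agent.S4812

/-- Let F be a finite field of characteristic 2 with q ≥ 4 elements and let S be isomorphic to PSL(2,F) or to SL(2,F). Then the vertices of the character degree graph of S are the primes dividing q(q²−1), and two distinct primes are adjacent exactly when both divide q + 1 or both divide q − 1; so the graph has the three connected components {2}, the primes dividing q + 1 and the primes dividing q − 1, each complete. -/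
theorem result (F : Type*) [Field F] [Fintype F] [CharP F 2] (q : ℕ) (hq : Fintype.card F = q) (h4 : 4 ≤ q) {S : Type*} [Group S] [Finite S] (hS : Nonempty (S ≃* Matrix.ProjectiveSpecialLinearGroup (Fin 2) F) ∨ Nonempty (S ≃* Matrix.SpecialLinearGroup (Fin 2) F)) : Cfsg.degreePrimes S = {r : ℕ | r.Prime ∧ r ∣ q * (q ^ 2 - 1)} ∧ ∀ r s : ℕ, (Cfsg.degreeGraph S).Adj r s ↔ (r ≠ s ∧ r.Prime ∧ s.Prime ∧ ((r ∣ q + 1 ∧ s ∣ q + 1) ∨ (r ∣ q - 1 ∧ s ∣ q - 1))) := by
  classical
  haveI := Fact.mk Nat.prime_two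
  obtain ⟨k, -, hk⟩ := FiniteField.card F 2
  have hSL : charDegrees (Matrix.SpecialLinearGroup (Fin 2) F) = {1, q - 1, q, q + 1} := by
    rw [← hq]; exact SL2Char.charDegrees_even (hq ▸ h4)
  refine SL2Char.graph_even Nat.prime_two (hq ▸ hk) ?_
  rw [← hSL]
  rcases hS with ⟨⟨e⟩⟩ | ⟨⟨e⟩⟩
  · rw [SL2Char.charDegrees_congr e]
    refine (SL2Char.charDegrees_congr ?_).trans
      (SL2Char.charDegrees_congr (QuotientGroup.quotientBot
        (G := Matrix.SpecialLinearGroup (Fin 2) F)))
    refine QuotientGroup.quotientMulEquivOfEq ?_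
    rw [eq_bot_iff]
    intro g hg
    rw [Subgroup.mem_bot]
    obtain ⟨c, hc, hgc⟩ := Linear.Classes.scalar_SL (Linear.Classes.mem_center_iff_scalar.1 hg)
    have hc1 : c = 1 := by
      rcases sq_eq_one_iff.1 hc with h | h
      · exact h
      · rw [h, CharTwo.neg_eq]
    apply Subtype.ext
    rw [hgc, hc1, one_smul, Matrix.SpecialLinearGroup.coe_one]
  · rw [SL2Char.charDegrees_congr e]

end Cfsg.Agent.S4812
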