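import Cfsg.Statements.S0073
import Cfsg.Agent.Transfer.Centralize
-- import your own Cfsg.Agent.* helpers here

set_option autoImplicit false
open Cfsg

namespace Cfsg.Agent.S0073

/-- For a finite non-abelian simple group, either the cube of the least prime divisor of the order divides the order, or 12 does. -/
theorem result {G : Type*} [Group G] [Finite G] [IsSimpleGroup G] (hG : ∃ x y : G, x * y ≠ y * x) : (Nat.card G).minFac ^ 3 ∣ Nat.card G ∨ 12 ∣ Nat.card G := by
  obtain ⟨x, y, hxy⟩ := hG
  have h1 : Nat.card G ≠ 1 := fun h => by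
    have := (Nat.card_eq_one_iff_unique.mp h).1
    exact hxy (Subsingleton.elim _ _)
  set p := (Nat.card G).minFac with hpdef
  have hp : Fact p.Prime := ⟨Nat.minFac_prime h1⟩
  by_contra hcon
  obtain ⟨hp3, h12⟩ := not_or.mp hcon
  obtain ⟨P⟩ : Nonempty (Sylow p G) := inferInstance
  obtain ⟨n, hn⟩ := IsPGroup.iff_card.mp P.2
  have hn2 : n ≤ 2 := by
    by_contra hn3
    exact hp3 ((pow_dvd_pow p (Nat.lt_of_not_le hn3)).trans (hn ▸ Subgroup.card_subgroup_dvd_card _))
  have hn0 : n ≠ 0 := fun h => P.ne_bot_of_dvd_card (Nat.minFac_dvd _)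
    (Subgroup.card_eq_one.mp (by rw [hn, h, pow_zero]))
  have hPc : IsMulCommutative P := by
    interval_cases n
    · exact absurd rfl hn0
    · have : IsCyclic P := isCyclic_of_prime_card (hn.trans (pow_one p))
      infer_instance
    · exact IsPGroup.isMulCommutative_of_card_eq_prime_sq (p := p) hn
  have key := Cfsg.Agent.Transfer.hasNormalPComplement_of_forall_prime P hPc hn ?_
  · obtain ⟨Q, N, hN, hc⟩ := key
    rcases IsSimpleGroup.eq_bot_or_eq_top_of_normal N hN with rfl | rfl
    · rw [Subgroup.isComplement'_bot_left] at hc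
      obtain ⟨u, hu⟩ := MulAction.exists_smul_eq G P Q
      have hPtop : (P : Subgroup G) = ⊤ := by
        apply Subgroup.eq_top_of_card_eq
        rw [P.card_eq_multiplicity, ← Q.card_eq_multiplicity, hc, Subgroup.card_top]
      have hxP : x ∈ (P : Subgroup G) := hPtop ▸ Subgroup.mem_top x
      have hyP : y ∈ (P : Subgroup G) := hPtop ▸ Subgroup.mem_top y
      exact hxy (congrArg Subtype.val (hPc.is_comm.comm (⟨x, hxP⟩ : P) ⟨y, hyP⟩))
    · rw [Subgroup.isComplement'_top_left] at hc
      exact Q.ne_bot_of_dvd_card (Nat.minFac_dvd _) hc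
  intro q hq hqG hqp i hi hd
  have hpq : p < q := lt_of_le_of_ne (Nat.minFac_le_of_dvd hq.two_le hqG) hqp.symm
  have hp1 := hp.out.two_le
  interval_cases n
  · omega
  · interval_cases i
    rw [pow_one, pow_zero] at hd
    exact absurd (Nat.le_of_dvd (by omega) hd) (by omega)
  · have hfac : q ∣ p * (p - 1) ∨ q ∣ (p + 1) * (p - 1) := by
      interval_cases i
      · right
        rwa [pow_zero, show p ^ 2 - 1 = (p + 1) * (p - 1) from Nat.sq_sub_sq p 1] at hd
      · left
        rwa [pow_one, sq, show p * p - p = p * (p - 1) by rw [Nat.mul_sub, mul_one]] at hd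
    have hq1 : ¬ q ∣ p - 1 := fun h => by
      have := Nat.le_of_dvd (by omega) h
      omega
    rcases hfac with h | h <;> rcases hq.dvd_mul.mp h with h' | h'
    · exact hqp (((Nat.prime_dvd_prime_iff_eq hq hp.out).mp h'))
    · exact hq1 h'
    · have hle := Nat.le_of_dvd (by omega) h'
      have heq : q = p + 1 := by omega
      rcases hp.out.eq_two_or_odd with h2 | h2
      · apply h12
        have h3 : q = 3 := by omega
        have h4 : 4 ∣ Nat.card G := by
          have h4' := Subgroup.card_subgroup_dvd_card (P : Subgroup G)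
          rw [show Nat.card (P : Subgroup G) = _ from hn, h2] at h4'
          exact h4'
        exact Nat.Coprime.mul_dvd_of_dvd_of_dvd (show Nat.Coprime 4 3 by norm_num) h4 (h3 ▸ hqG)
      · have hqe : 2 ∣ q := by omega
        have := (Nat.prime_dvd_prime_iff_eq Nat.prime_two hq).mp hqe
        omega
    · exact hq1 h'

end Cfsg.Agent.S0073
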