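import Cfsg.Statements.S0496
import Cfsg.Agent.SmallGroups.BelowThousand
import Cfsg.Agent.SmallGroups.Order720
import Cfsg.Agent.SmallGroups.Order756

set_option autoImplicit false
open Cfsg

namespace Cfsg.Agent.S0496

open Cfsg.Agent.SmallGroups
open Cfsg.Agent.SmallGroups.BelowThousand

theorem not_420 {G : Type} [Group G] [Finite G] [IsSimpleGroup G]
    (hG : ¬ IsMulCommutative G) (e : Nat.card G = 420) : False := by
  haveI : Fact (Nat.Prime 2) := ⟨by norm_num⟩
  haveI : Fact (Nat.Prime 3) := ⟨by norm_num⟩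
  haveI : Fact (Nat.Prime 5) := ⟨by norm_num⟩
  haveI : Fact (Nat.Prime 7) := ⟨by norm_num⟩
  obtain ⟨n₃, k₃, c₃, hn₃, hd₃, hm₃, h1₃, hk₃, hk1₃, he₃, hf₃, hP₃, hC₃, hN₃⟩ :=
    prime_data hG 3 140 420 e (by norm_num) (by norm_num)
  obtain ⟨n₅, k₅, c₅, hn₅, hd₅, hm₅, h1₅, hk₅, hk1₅, he₅, hf₅, hP₅, hC₅, hN₅⟩ :=
    prime_data hG 5 84 420 e (by norm_num) (by norm_num)
  obtain ⟨n₇, k₇, c₇, hn₇, hd₇, hm₇, h1₇, hk₇, hk1₇, he₇, hf₇, hP₇, hC₇, hN₇⟩ :=
    prime_data hG 7 60 420 e (by norm_num) (by norm_num)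
  have h7 := (by decide +kernel : ∀ n ∈ Nat.divisors 60, n % 7 = 1 → 1 < n →
    ∀ k ∈ Nat.divisors (7 - 1), 1 < k → 60 % (n * k) = 0 → factOk 420 n = true →
      n = 15 ∧ k = 2) n₇ hd₇ hm₇ h1₇ k₇ hk₇ hk1₇
      (Nat.mod_eq_zero_of_dvd ⟨c₇, by rw [← he₇]; ring⟩) hf₇
  have h5 := (by decide +kernel : ∀ n ∈ Nat.divisors 84, n % 5 = 1 → 1 < n →
    ∀ k ∈ Nat.divisors (5 - 1), 1 < k → 84 % (n * k) = 0 → factOk 420 n = true →
      n = 21 ∧ (k = 2 ∨ k = 4)) n₅ hd₅ hm₅ h1₅ k₅ hk₅ hk1₅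
      (Nat.mod_eq_zero_of_dvd ⟨c₅, by rw [← he₅]; ring⟩) hf₅
  have h3 := (by decide +kernel : ∀ n ∈ Nat.divisors 140, n % 3 = 1 → 1 < n →
    ∀ k ∈ Nat.divisors (3 - 1), 1 < k → 140 % (n * k) = 0 → factOk 420 n = true →
      (n = 7 ∨ n = 10 ∨ n = 70) ∧ k = 2) n₃ hd₃ hm₃ h1₃ k₃ hk₃ hk1₃
      (Nat.mod_eq_zero_of_dvd ⟨c₃, by rw [← he₃]; ring⟩) hf₃
  obtain ⟨rfl, rfl⟩ := h7
  obtain rfl : c₇ = 2 := by omega
  obtain ⟨P⟩ := (inferInstance : Nonempty (Sylow 7 G))
  rcases h3 with ⟨rfl | rfl | rfl, rfl⟩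
  · obtain ⟨Q⟩ := (inferInstance : Nonempty (Sylow 3 G))
    exact kill_index hG 7 420 7 28 (by norm_num) _ ((card_sylow_eq_index Q).symm.trans hn₃)
      (P : Subgroup G) (hP₇ P) (hN₇ P) (by norm_num) (by decide +kernel) e
  · obtain rfl : c₃ = 7 := by omega
    exact kill_centralizer hG 3 7 7 2 hC₃ hP₃ hP₇ hC₇ (by norm_num) (by norm_num)
  obtain rfl : c₃ = 1 := by omega
  obtain ⟨rfl, rfl | rfl⟩ := h5
  · obtain rfl : c₅ = 2 := by omega
    exact kill_count hG 3 5 7 1 2 2 hP₃ hC₃ hP₅ hC₅ hP₇ hC₇ (by norm_num) (by norm_num)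
      (by norm_num) (by rw [e, hn₃, hn₅, hn₇]; norm_num)
  · obtain rfl : c₅ = 1 := by omega
    obtain ⟨R⟩ := (inferInstance : Nonempty (Sylow 5 G))
    exact kill_cyclic_quotient hG (R : Subgroup G) 1 2 (hP₅ R) (hC₅ R) (hN₅ R) (Or.inl rfl)
      (by norm_num) fun T => (card_sylow_subgroup (a := 2) (m := 105) (e.trans (by norm_num))
        (by norm_num) T).trans (by norm_num)

theorem not_840 {G : Type} [Group G] [Finite G] [IsSimpleGroup G]
    (hG : ¬ IsMulCommutative G) (e : Nat.card G = 840) : False := by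
  haveI : Fact (Nat.Prime 2) := ⟨by norm_num⟩
  haveI : Fact (Nat.Prime 3) := ⟨by norm_num⟩
  haveI : Fact (Nat.Prime 5) := ⟨by norm_num⟩
  haveI : Fact (Nat.Prime 7) := ⟨by norm_num⟩
  obtain ⟨n₃, k₃, c₃, hn₃, hd₃, hm₃, h1₃, hk₃, hk1₃, he₃, hf₃, hP₃, hC₃, hN₃⟩ :=
    prime_data hG 3 280 840 e (by norm_num) (by norm_num)
  obtain ⟨n₅, k₅, c₅, hn₅, hd₅, hm₅, h1₅, hk₅, hk1₅, he₅, hf₅, hP₅, hC₅, hN₅⟩ :=
    prime_data hG 5 168 840 e (by norm_num) (by norm_num)
  obtain ⟨n₇, k₇, c₇, hn₇, hd₇, hm₇, h1₇, hk₇, hk1₇, he₇, hf₇, hP₇, hC₇, hN₇⟩ :=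
    prime_data hG 7 120 840 e (by norm_num) (by norm_num)
  have h7 := (by decide +kernel : ∀ n ∈ Nat.divisors 120, n % 7 = 1 → 1 < n →
    ∀ k ∈ Nat.divisors (7 - 1), 1 < k → 120 % (n * k) = 0 → factOk 840 n = true →
      (n = 8 ∧ k = 3) ∨ (n = 15 ∧ k = 2)) n₇ hd₇ hm₇ h1₇ k₇ hk₇ hk1₇
      (Nat.mod_eq_zero_of_dvd ⟨c₇, by rw [← he₇]; ring⟩) hf₇
  have h5 := (by decide +kernel : ∀ n ∈ Nat.divisors 168, n % 5 = 1 → 1 < n →
    ∀ k ∈ Nat.divisors (5 - 1), 1 < k → 168 % (n * k) = 0 → factOk 840 n = true →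
      n = 21 ∧ (k = 2 ∨ k = 4)) n₅ hd₅ hm₅ h1₅ k₅ hk₅ hk1₅
      (Nat.mod_eq_zero_of_dvd ⟨c₅, by rw [← he₅]; ring⟩) hf₅
  have h3 := (by decide +kernel : ∀ n ∈ Nat.divisors 280, n % 3 = 1 → 1 < n →
    ∀ k ∈ Nat.divisors (3 - 1), 1 < k → 280 % (n * k) = 0 → factOk 840 n = true →
      (n = 7 ∨ n = 10 ∨ n = 28 ∨ n = 70) ∧ k = 2) n₃ hd₃ hm₃ h1₃ k₃ hk₃ hk1₃
      (Nat.mod_eq_zero_of_dvd ⟨c₃, by rw [← he₃]; ring⟩) hf₃
  obtain ⟨P⟩ := (inferInstance : Nonempty (Sylow 7 G))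
  rcases h7 with ⟨rfl, rfl⟩ | ⟨rfl, rfl⟩
  · obtain rfl : c₇ = 5 := by omega
    exact kill_index hG 7 840 8 105 (by norm_num) _ ((card_sylow_eq_index P).symm.trans hn₇)
      (P : Subgroup G) (hP₇ P) (hN₇ P) (by norm_num) (by decide +kernel) e
  obtain rfl : c₇ = 4 := by omega
  rcases h3 with ⟨rfl | rfl | rfl | rfl, rfl⟩
  · obtain ⟨Q⟩ := (inferInstance : Nonempty (Sylow 3 G))
    exact kill_index hG 7 840 7 56 (by norm_num) _ ((card_sylow_eq_index Q).symm.trans hn₃)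
      (P : Subgroup G) (hP₇ P) (hN₇ P) (by norm_num) (by decide +kernel) e
  · obtain rfl : c₃ = 14 := by omega
    exact kill_centralizer hG 3 7 14 4 hC₃ hP₃ hP₇ hC₇ (by norm_num) (by norm_num)
  · obtain rfl : c₃ = 5 := by omega
    obtain ⟨rfl, rfl | rfl⟩ := h5
    · obtain rfl : c₅ = 4 := by omega
      exact kill_centralizer hG 3 5 5 4 hC₃ hP₃ hP₅ hC₅ (by norm_num) (by norm_num)
    · obtain rfl : c₅ = 2 := by omega
      exact kill_centralizer hG 3 5 5 2 hC₃ hP₃ hP₅ hC₅ (by norm_num) (by norm_num)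
  obtain rfl : c₃ = 2 := by omega
  obtain ⟨rfl, rfl | rfl⟩ := h5
  · obtain rfl : c₅ = 4 := by omega
    exact kill_count hG 3 5 7 2 4 4 hP₃ hC₃ hP₅ hC₅ hP₇ hC₇ (by norm_num) (by norm_num)
      (by norm_num) (by rw [e, hn₃, hn₅, hn₇]; norm_num)
  · obtain rfl : c₅ = 2 := by omega
    obtain ⟨R⟩ := (inferInstance : Nonempty (Sylow 5 G))
    exact kill_cyclic_quotient hG (R : Subgroup G) 2 3 (hP₅ R) (hC₅ R) (hN₅ R) (Or.inr rfl)
      (by norm_num) fun T => (card_sylow_subgroup (a := 3) (m := 105) (e.trans (by norm_num))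
        (by norm_num) T).trans (by norm_num)

theorem main {G : Type} [Group G] [Finite G] [IsSimpleGroup G]
    (hG : ¬ IsMulCommutative G) (h : Nat.card G ≤ 1092) :
    Nat.card G = 60 ∨ Nat.card G = 168 ∨ Nat.card G = 360 ∨ Nat.card G = 504 ∨ Nat.card G = 660 ∨
      Nat.card G = 1092 := by
  haveI : Fact (Nat.Prime 2) := ⟨by norm_num⟩
  haveI : Fact (Nat.Prime 3) := ⟨by norm_num⟩
  haveI : Fact (Nat.Prime 5) := ⟨by norm_num⟩
  haveI : Fact (Nat.Prime 7) := ⟨by norm_num⟩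
  haveI : Fact (Nat.Prime 11) := ⟨by norm_num⟩
  have hmem := chk_orders _ (by omega) (chk_card hG h)
  simp only [orders, List.mem_cons, List.not_mem_nil, or_false] at hmem
  rcases hmem with e | e | e | e | e | e | e | e | e | e | e | e | e | e | e | e | e | e | e | e |
    e | e | e | e | e | e | e | e | e | e | e | e
  · exact Or.inl e -- 60
  · exact (kill_three hG 2 5 3 3 1 120 (by norm_num) (by norm_num) (by norm_num) e (by norm_num)
      (by decide +kernel)).elim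
  · exact Or.inr (Or.inl e) -- 168
  · exact (kill_three hG 2 3 5 2 2 180 (by norm_num) (by norm_num) (by norm_num) e (by norm_num)
      (by decide +kernel)).elim
  · exact (kill_prime hG 5 48 240 e (by norm_num) (by norm_num) (by decide +kernel)).elim
  · exact (kill_prime hG 7 36 252 e (by norm_num) (by norm_num) (by decide +kernel)).elim
  · exact (kill_prime hG 5 56 280 e (by norm_num) (by norm_num) (by decide +kernel)).elim
  · exact (kill_sylow hG 5 1 12 300 e (by norm_num) (by norm_num) (by decide +kernel)).elim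
  · exact (kill_three hG 2 7 3 4 1 336 (by norm_num) (by norm_num) (by norm_num) e (by norm_num)
      (by decide +kernel)).elim
  · exact Or.inr (Or.inr (Or.inl e)) -- 360
  · exact (not_420 hG e).elim
  · exact (kill_three hG 2 5 3 5 1 480 (by norm_num) (by norm_num) (by norm_num) e (by norm_num)
      (by decide +kernel)).elim
  · exact Or.inr (Or.inr (Or.inr (Or.inl e))) -- 504
  · exact (kill_prime hG 5 108 540 e (by norm_num) (by norm_num) (by decide +kernel)).elim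
  · exact (kill_three hG 2 5 7 4 1 560 (by norm_num) (by norm_num) (by norm_num) e (by norm_num)
      (by decide +kernel)).elim
  · exact (kill_sylow hG 7 1 12 588 e (by norm_num) (by norm_num) (by decide +kernel)).elim
  · exact (kill_sylow hG 5 1 24 600 e (by norm_num) (by norm_num) (by decide +kernel)).elim
  · exact Or.inr (Or.inr (Or.inr (Or.inr (Or.inl e)))) -- 660
  · exact (kill_three hG 2 3 7 5 1 672 (by norm_num) (by norm_num) (by norm_num) e (by norm_num)
      (by decide +kernel)).elim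
  · exact (Order720.not_simple_720 e).elim
  · exact (Order756.not_simple_756 e).elim
  · exact (kill_three hG 2 3 11 3 2 792 (by norm_num) (by norm_num) (by norm_num) e (by norm_num)
      (by decide +kernel)).elim
  · exact (not_840 hG e).elim
  · exact (kill_sylow hG 11 0 80 880 e (by norm_num) (by norm_num) (by decide +kernel)).elim
  · exact (kill_inter hG 5 1 36 900 e (by norm_num) (by norm_num) (by norm_num) (by norm_num)
      (by decide +kernel) (by decide +kernel)).elim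
  · exact (kill_prime hG 11 84 924 e (by norm_num) (by norm_num) (by decide +kernel)).elim
  · exact (kill_prime hG 5 189 945 e (by norm_num) (by norm_num) (by decide +kernel)).elim
  · exact (kill_inter hG 2 5 15 960 e (by norm_num) (by norm_num) (by norm_num) (by norm_num)
      (by decide +kernel) (by decide +kernel)).elim
  · exact (kill_three hG 2 3 7 4 2 1008 (by norm_num) (by norm_num) (by norm_num) e (by norm_num)
      (by decide +kernel)).elim
  · exact (kill_three hG 2 11 3 5 1 1056 (by norm_num) (by norm_num) (by norm_num) e (by norm_num)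
      (by decide +kernel)).elim
  · exact (kill_three hG 2 3 5 3 3 1080 (by norm_num) (by norm_num) (by norm_num) e (by norm_num)
      (by decide +kernel)).elim
  · exact Or.inr (Or.inr (Or.inr (Or.inr (Or.inr e)))) -- 1092

/-- A non-abelian finite simple group of order at most 1092 has order 60, 168, 360, 504, 660 or 1092. -/
theorem result {G : Type*} [Group G] [Finite G] [IsSimpleGroup G]
    (hG : ¬ IsMulCommutative G) (h : Nat.card G ≤ 1092) :
    Nat.card G = 60 ∨ Nat.card G = 168 ∨ Nat.card G = 360 ∨ Nat.card G = 504 ∨ Nat.card G = 660 ∨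
      Nat.card G = 1092 := by
  classical
  letI := Fintype.ofFinite G
  let f : G →* Equiv.Perm (Fin (Fintype.card G)) :=
    (Fintype.equivFin G).permCongrHom.toMonoidHom.comp (MulAction.toPermHom G G)
  have hf : Function.Injective f :=
    (Fintype.equivFin G).permCongrHom.injective.comp MulAction.toPerm_injective
  let e : G ≃* ↥f.range := MonoidHom.ofInjective hf
  haveI : Nontrivial ↥f.range := e.toEquiv.symm.nontrivial
  haveI : IsSimpleGroup ↥f.range := IsSimpleGroup.isSimpleGroup_of_surjective e.toMonoidHom e.surjective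
  have hcard : Nat.card ↥f.range = Nat.card G := (Nat.card_congr e.toEquiv).symm
  have := main (G := ↥f.range)
    (fun h' => hG ⟨⟨fun a b => e.injective (by rw [map_mul, map_mul, h'.is_comm.comm])⟩⟩)
    (hcard ▸ h)
  rwa [hcard] at this

end Cfsg.Agent.S0496
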