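import Cfsg.Statements.S0976
import Cfsg.Agent.SmallGroups.Involution

set_option autoImplicit false
open Cfsg

namespace Cfsg.Agent.S0976


/-- No finite simple group has order 4032 = 2^6 * 3^2 * 7. -/
theorem result {G : Type*} [Group G] [Finite G] [IsSimpleGroup G] : Nat.card G ≠ 4032 := by
  intro hc
  let := Fintype.ofFinite G
  have := Fact.mk (by norm_num : Nat.Prime 7)
  have hG : ¬ IsMulCommutative G := SmallGroups.not_isMulCommutative (by rw [hc]; norm_num)
  obtain ⟨n, k, -, hn, hn1, hk, hk1, hnk, hP, hC, hN⟩ := SmallGroups.exists_threePrime_data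
    hG Nat.prime_two Nat.prime_three (r := 7) (a := 6) (b := 2)
    (by norm_num) (by norm_num) (by norm_num) (by rw [hc]; norm_num)
  obtain rfl : k = 2 := by
    have hk6 : k ≤ 6 := Nat.le_of_dvd (by norm_num) hk
    interval_cases k <;> omega
  obtain ⟨P⟩ := (inferInstance : Nonempty (Sylow 7 G))
  obtain ⟨ε, b, d, L, hε, ⟨hd1, hd, hdp⟩, hL, hnm, hs, hsq, hinv⟩ :=
    SmallGroups.Exceptional.exists_involution_data (P : Subgroup G) (p := 7) (e := 2) (t := 3)
      (by norm_num) (by norm_num) (hP P) (hC P) (hN P) hG (by norm_num) (by norm_num) (by norm_num)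
  norm_num at hnm hdp hs
  rw [hc] at hd hsq hinv
  simp only [hc, Nat.cast_ofNat] at hL
  have hLnn : 0 ≤ (L.map fun x => x.2 ^ 2).sum := List.sum_nonneg fun x hx => by
    obtain ⟨y, -, rfl⟩ := List.mem_map.mp hx
    exact sq_nonneg _
  obtain rfl : b = 0 := by
    have hblt : b < 2 := by nlinarith [sq_nonneg (b + ε)]
    have hbgt : -2 < b := by nlinarith [sq_nonneg (b + ε)]
    by_contra hb
    have hL0 : (L.map fun x => x.2 ^ 2).sum = 0 := by
      rcases hε with rfl | rfl <;> interval_cases b <;> (try norm_num at hnm hb ⊢) <;> omega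
    cases L with
    | nil =>
      simp at hs hnm
      rcases hε with rfl | rfl <;> interval_cases b <;> (try norm_num at hnm hs hb) <;> omega
    | cons x L =>
      have h1 : 0 < x.2 ^ 2 := sq_pos_iff.mpr (hL x List.mem_cons_self).2.2.2
      have h2 : 0 ≤ (L.map fun x => x.2 ^ 2).sum := List.sum_nonneg fun x hx => by
        obtain ⟨y, -, rfl⟩ := List.mem_map.mp hx
        exact sq_nonneg _
      simp only [List.map_cons, List.sum_cons] at hL0
      omega
  obtain ⟨f, a, rfl, ha⟩ := SmallGroups.list_sq_sum_one (fun x hx => (hL x hx).2.2.2)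
    (by rcases hε with rfl | rfl <;> norm_num at hnm <;> linarith)
  obtain ⟨hf1, hf, hfp, -⟩ : 1 < f ∧ f ∣ 4032 ∧ (7 : ℤ) ∣ (f : ℤ) - a ∧ a ≠ 0 := hL (f, a) (by simp)
  simp only [List.map_cons, List.map_nil, List.sum_cons, List.sum_nil, add_zero] at hs hsq hnm
  obtain ⟨rfl, rfl, rfl, rfl⟩ : d = 9 ∧ f = 8 ∧ ε = -1 ∧ a = 1 := by
    have hdlt : d < 37 := by nlinarith
    have hflt : f < 64 := by nlinarith
    rcases hε with rfl | rfl <;> rcases ha with rfl | rfl <;> interval_cases d <;>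
      (try omega) <;> interval_cases f <;> omega
  obtain ⟨g, hg, hg64⟩ := SmallGroups.exists_involution_dvd_centralizer (G := G) (a := 6)
    (by norm_num) (by rw [hc]; norm_num)
  obtain ⟨u, V, hV, ⟨i, hi, rfl⟩, -, hlin, -, hquad⟩ := hinv g hg
  obtain ⟨⟨f', a', v⟩, rfl, hx⟩ : ∃ x, V = [x] ∧ (x.1, x.2.1) = (8, (1 : ℤ)) := by
    rcases V with _ | ⟨x, _ | ⟨y, V⟩⟩
    · simp at hV
    · exact ⟨x, rfl, by simpa using hV⟩
    · simp at hV
  simp only [Prod.mk.injEq] at hx
  obtain ⟨rfl, rfl⟩ := hx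
  simp only [List.map_cons, List.map_nil, List.sum_cons, List.sum_nil, add_zero] at hlin hquad
  norm_num [-Nat.card_eq_fintype_card] at hlin hquad
  set C := Nat.card ↥(Subgroup.centralizer ({g} : Set G))
  obtain ⟨j, hj⟩ := hg64
  norm_num at hj
  have hj0 : 0 < C := Nat.card_pos
  obtain rfl : v = 2 * (i : ℤ) - 10 := by omega
  have hi' : (i : ℚ) ≤ 8 := by exact_mod_cast (show i ≤ 8 by omega)
  have hi0 : (0 : ℚ) ≤ i := Nat.cast_nonneg i
  push_cast at hquad
  rcases hquad with h | h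
  · nlinarith
  · have hC64 : (64 : ℚ) ≤ C := by exact_mod_cast (show 64 ≤ C by omega)
    nlinarith

end Cfsg.Agent.S0976
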