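import Cfsg.Statements.S0977
import Cfsg.Agent.SmallGroups.Involution

set_option autoImplicit false
open Cfsg

namespace Cfsg.Agent.S0977
/-- Search over the values at an involution, the last one being forced by the linear relation. -/
def search (P : ℤ → ℤ → Bool) : List (ℕ × ℤ) → ℤ → ℤ → ℤ → Bool
  | [], x, y, q => x != -1 || P y q
  | [(f, a)], x, y, q =>
      let v : ℤ := a * (-1 - x)
      !(decide (-(f : ℤ) ≤ v) && decide (v < (f : ℤ)) && decide ((v + (f : ℤ)) % 2 = 0)) ||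
        P (y + a * v ^ 2 * ((144 / f : ℕ) : ℤ)) (q + v ^ 2)
  | (f, a) :: z :: L, x, y, q => (List.range f).all fun i =>
      let v : ℤ := 2 * (i : ℤ) - (f : ℤ)
      search P (z :: L) (x + a * v) (y + a * v ^ 2 * ((144 / f : ℕ) : ℤ)) (q + v ^ 2)

theorem search_sound (P : ℤ → ℤ → Bool) : ∀ (V : List (ℕ × ℤ × ℤ)) (x y q : ℤ),
    (∀ z ∈ V, ∃ i, i < z.1 ∧ z.2.2 = 2 * i - z.1) → (∀ z ∈ V, z.2.1 = 1 ∨ z.2.1 = -1) →
    search P (V.map fun z => (z.1, z.2.1)) x y q = true →
    x + (V.map fun z => z.2.1 * z.2.2).sum = -1 →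
    P (y + (V.map fun z => z.2.1 * z.2.2 ^ 2 * ((144 / z.1 : ℕ) : ℤ)).sum)
      (q + (V.map fun z => z.2.2 ^ 2).sum) = true := by
  intro V
  induction V with
  | nil =>
    intro x y q _ _ h hx
    simp at hx
    subst hx
    simpa [search] using h
  | cons z V ih =>
    intro x y q hz ha h hx
    obtain ⟨i, hi, hv⟩ := hz z List.mem_cons_self
    rcases V with _ | ⟨w, V⟩
    · simp only [List.map_cons, List.map_nil, List.sum_cons, List.sum_nil, add_zero] at hx ⊢
      have hval : z.2.1 * (-1 - x) = z.2.2 := by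
        rcases ha z List.mem_cons_self with h1 | h1 <;> rw [h1] at hx ⊢ <;> linarith
      simp only [List.map_cons, List.map_nil, search, hval, Bool.or_eq_true, Bool.not_eq_true',
        Bool.and_eq_false_iff, decide_eq_false_iff_not] at h
      rcases h with h | h
      · omega
      · exact h
    · simp only [List.map_cons, search, List.all_eq_true, List.mem_range] at h
      have h2 := ih (x + z.2.1 * z.2.2) (y + z.2.1 * z.2.2 ^ 2 * ((144 / z.1 : ℕ) : ℤ))
        (q + z.2.2 ^ 2) (fun w hw => hz w (List.mem_cons_of_mem _ hw))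
        (fun w hw => ha w (List.mem_cons_of_mem _ hw)) (by rw [hv]; exact h i hi)
        (by simp only [List.map_cons, List.sum_cons] at hx ⊢; linarith)
      simp only [List.map_cons, List.sum_cons] at h2 ⊢
      simpa only [add_assoc] using h2

theorem quad_eq : ∀ (V : List (ℕ × ℤ × ℤ)), (∀ z ∈ V, z.1 ∣ 144) →
    (144 : ℚ) * (V.map fun x => (x.2.1 : ℚ) * ((x.2.2 : ℚ) ^ 2 / x.1)).sum =
      (((V.map fun z => z.2.1 * z.2.2 ^ 2 * ((144 / z.1 : ℕ) : ℤ)).sum : ℤ) : ℚ) := by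
  intro V
  induction V with
  | nil => simp
  | cons z V ih =>
    intro hz
    obtain ⟨q, hq⟩ := hz z List.mem_cons_self
    have hz0 : z.1 ≠ 0 := by intro h; rw [h] at hq; omega
    have hdiv : 144 / z.1 = q := by rw [hq]; exact Nat.mul_div_cancel_left q (Nat.pos_of_ne_zero hz0)
    have hq' : (144 : ℚ) = z.1 * q := by exact_mod_cast hq
    simp only [List.map_cons, List.sum_cons, mul_add, hdiv, Int.cast_add,
      ← ih fun w hw => hz w (List.mem_cons_of_mem _ hw)]
    push_cast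
    rw [hq']
    field_simp

/-- The possible terms. -/
def cand : List (ℕ × ℤ) := [(4, -1), (9, -1), (24, -1), (54, -1), (6, 1), (16, 1), (36, 1)]

/-- Degree patterns excluded by a central involution. -/
def solsZ : List (List (ℕ × ℤ)) :=
  [[(4, -1), (6, 1), (6, 1), (9, -1)], [(9, -1), (16, 1), (16, 1), (24, -1)]]

/-- Degree patterns excluded by an involution normalizing the Sylow `5`-subgroup. -/
def solsN : List (List (ℕ × ℤ)) :=
  [[(4, -1), (4, -1), (9, -1), (16, 1)], [(4, -1), (9, -1), (24, -1), (36, 1)]]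

theorem sols_complete : ∀ a ∈ cand, ∀ b ∈ cand, ∀ c ∈ cand, ∀ d ∈ cand,
    a.1 ≤ b.1 → b.1 ≤ c.1 → c.1 ≤ d.1 →
    1 + (a.2 * a.1 + (b.2 * b.1 + (c.2 * c.1 + d.2 * d.1))) = 0 →
    1 + (a.1 ^ 2 + (b.1 ^ 2 + (c.1 ^ 2 + d.1 ^ 2))) ≤ 4320 →
    [a, b, c, d] ∈ solsZ ∨ [a, b, c, d] ∈ solsN := by
  decide +kernel

/-- The divisors of `4320`. -/
def divs : List ℕ :=
  [1, 2, 3, 4, 5, 6, 8, 9, 10, 12, 15, 16, 18, 20, 24, 27, 30, 32, 36, 40, 45, 48, 54, 60, 72, 80,
    90, 96, 108, 120, 135, 144, 160, 180, 216, 240, 270, 288, 360, 432, 480, 540, 720, 864, 1080,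
    1440, 2160, 4320]

theorem mem_divs : ∀ C ∈ Nat.divisors 4320, C ∈ divs := by decide +kernel

/-- A central involution has no compatible values. -/
def badZ (y _q : ℤ) : Bool :=
  144 + y != 0 && divs.all fun C : ℕ => C % 32 != 0 || 6 * (144 + y) != (C : ℤ) ^ 2

/-- An involution normalizing the Sylow subgroup has no compatible values. -/
def badN (y q : ℤ) : Bool :=
  divs.all fun C : ℕ => 6 * (144 + y) != (C : ℤ) ^ 2 || decide ((C : ℤ) < 1 + q)

theorem solsZ_bad : ∀ s ∈ solsZ, search badZ s 0 0 0 = true := by decide +kernel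

theorem solsN_bad : ∀ s ∈ solsN, search badN s 0 0 0 = true := by decide +kernel

/-- The data attached to one involution. -/
def InvData (L : List (ℕ × ℤ)) (C : ℕ) (inN : Prop) : Prop :=
  ∃ V : List (ℕ × ℤ × ℤ), V.map (fun x => (x.1, x.2.1)) = L ∧
    (∀ x ∈ V, ∃ i, i < x.1 ∧ x.2.2 = 2 * i - x.1) ∧
    1 + (V.map fun x => x.2.1 * x.2.2).sum = 0 ∧
    1 + (V.map fun x => x.2.2 ^ 2).sum ≤ (C : ℤ) ∧
    (let S : ℚ := 1 + (V.map fun x => (x.2.1 : ℚ) * ((x.2.2 : ℚ) ^ 2 / x.1)).sum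
     ((4320 : ℕ) : ℚ) * S = 0 ∧ ¬ inN ∨ ((4320 : ℕ) : ℚ) * S = (5 : ℕ) * (C : ℚ) ^ 2)

theorem InvData.perm {L L' : List (ℕ × ℤ)} (h : L.Perm L') {C : ℕ} {inN : Prop}
    (hd : InvData L C inN) : InvData L' C inN := by
  obtain ⟨V, rfl, h1, h2, h3, h4⟩ := hd
  obtain ⟨W, hW, rfl⟩ : ∃ W : List (ℕ × ℤ × ℤ), W.Perm V ∧ W.map (fun x => (x.1, x.2.1)) = L' := by
    have hr : Relation.Comp List.Perm (List.Forall₂ fun (x : ℕ × ℤ) (z : ℕ × ℤ × ℤ) => x = (z.1, z.2.1))
        L' V := ⟨_, h.symm, List.forall₂_map_left_iff.mpr (List.forall₂_same.mpr fun z _ => rfl)⟩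
    rw [← List.forall₂_comp_perm_eq_perm_comp_forall₂] at hr
    obtain ⟨W, hW1, hW2⟩ := hr
    refine ⟨W, hW2, ?_⟩
    clear hW2 h1 h2 h3 h4 h
    induction hW1 with
    | nil => rfl
    | cons hx _ ih => simp [hx, ih]
  refine ⟨W, rfl, fun x hx => h1 x (hW.mem_iff.mp hx), ?_, ?_, ?_⟩
  · rwa [(hW.map _).sum_eq]
  · rwa [(hW.map _).sum_eq]
  · rwa [(hW.map _).sum_eq]

theorem InvData.bound {s : List (ℕ × ℤ)} (hs : ∀ x ∈ s, x.1 ∣ 144 ∧ (x.2 = 1 ∨ x.2 = -1))
    {P : ℤ → ℤ → Bool} (hP : search P s 0 0 0 = true) {C : ℕ} {inN : Prop}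
    (hd : InvData s C inN) :
    ∃ y q : ℤ, P y q = true ∧ 1 + q ≤ (C : ℤ) ∧
      (144 + y = 0 ∧ ¬ inN ∨ 6 * (144 + y) = (C : ℤ) ^ 2) := by
  obtain ⟨V, rfl, h1, h2, h3, h4⟩ := hd
  simp only [List.forall_mem_map] at hs
  have hq := quad_eq V fun z hz => (hs z hz).1
  have h := search_sound P V 0 0 0 h1 (fun z hz => (hs z hz).2) hP (by linarith)
  simp only [zero_add] at h
  generalize (V.map fun z => z.2.1 * z.2.2 ^ 2 * ((144 / z.1 : ℕ) : ℤ)).sum = Y at hq h
  refine ⟨_, _, h, h3, h4.imp (fun hz => ⟨?_, hz.2⟩) fun hz => ?_⟩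
  · have hz' := hz.1
    push_cast at hz'
    apply Int.cast_injective (α := ℚ)
    push_cast
    rw [← hq]
    linarith
  · push_cast at hz
    apply Int.cast_injective (α := ℚ)
    push_cast
    rw [← hq]
    linarith

/-- No finite simple group has order 4320 = 2^5 * 3^3 * 5. -/
theorem result {G : Type*} [Group G] [Finite G] [IsSimpleGroup G] : Nat.card G ≠ 4320 := by
  intro hc
  let := Fintype.ofFinite G
  have := Fact.mk (by norm_num : Nat.Prime 5)
  have hG : ¬ IsMulCommutative G := SmallGroups.not_isMulCommutative (by rw [hc]; norm_num)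
  obtain ⟨n, k, -, hn, hn1, hk, hk1, hnk, hP, hC, hN⟩ := SmallGroups.exists_threePrime_data
    hG Nat.prime_two Nat.prime_three (r := 5) (a := 5) (b := 3)
    (by norm_num) (by norm_num) (by norm_num) (by rw [hc]; norm_num)
  obtain rfl : k = 4 := by
    have hk4 : k ≤ 4 := Nat.le_of_dvd (by norm_num) hk
    interval_cases k <;> omega
  obtain ⟨P⟩ := (inferInstance : Nonempty (Sylow 5 G))
  obtain ⟨L, hL, hnm, hs, hsq, hinv⟩ :=
    SmallGroups.Exceptional.exists_involution_data_one (P : Subgroup G) (p := 5) (e := 4)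
      (by norm_num) (by norm_num) (hP P) (hC P) (hN P) hG (by norm_num)
  rw [hc] at hsq hinv
  simp only [hc, Nat.cast_ofNat] at hL
  simp only [Nat.cast_ofNat] at hnm
  have hlen : L.length = 4 ∧ ∀ x ∈ L, x.2 = 1 ∨ x.2 = -1 := by
    have hsqv : ∀ x ∈ L, x.2 ^ 2 = 1 ∨ 4 ≤ x.2 ^ 2 := by
      intro x hx
      rcases eq_or_ne x.2 1 with h | h1
      · simp [h]
      rcases eq_or_ne x.2 (-1) with h | h2
      · simp [h]
      right
      have h0 := (hL x hx).2.2.2
      rcases (show 2 ≤ x.2 ∨ x.2 ≤ -2 by omega) with h | h <;> nlinarith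
    rcases L with _ | ⟨a, _ | ⟨b, _ | ⟨c, _ | ⟨d, _ | ⟨e, L⟩⟩⟩⟩⟩
    · simp at hnm
    · simp at hnm hs
      rcases (show a.2 = 2 ∨ a.2 = -2 from sq_eq_sq_iff_eq_or_eq_neg.mp (by omega :
        a.2 ^ 2 = 2 ^ 2)) with h | h <;> rw [h] at hs <;> omega
    · have h1 := hsqv a (by simp)
      have h2 := hsqv b (by simp)
      simp at hnm; omega
    · have h1 := hsqv a (by simp)
      have h2 := hsqv b (by simp)
      have h3 := hsqv c (by simp)
      simp at hnm; omega
    · refine ⟨rfl, fun x hx => sq_eq_one_iff.mp ?_⟩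
      have h1 := hsqv a (by simp)
      have h2 := hsqv b (by simp)
      have h3 := hsqv c (by simp)
      have h4 := hsqv d (by simp)
      simp at hnm hx
      rcases hx with rfl | rfl | rfl | rfl <;> omega
    · have h1 := hsqv a (by simp)
      have h2 := hsqv b (by simp)
      have h3 := hsqv c (by simp)
      have h4 := hsqv d (by simp)
      have h5 := hsqv e (by simp)
      simp only [List.map_cons, List.sum_cons] at hnm
      have : 0 ≤ (L.map fun x => x.2 ^ 2).sum := List.sum_nonneg fun x hx => by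
        obtain ⟨y, -, rfl⟩ := List.mem_map.mp hx
        exact sq_nonneg _
      omega
  have hcand : ∀ x ∈ L, x ∈ cand := by
    intro x hx
    obtain ⟨h1, h2, h3, -⟩ := hL x hx
    have hle : x.1 ^ 2 ≤ (L.map fun x => x.1 ^ 2).sum :=
      List.le_sum_of_mem (List.mem_map_of_mem hx)
    have hlt : x.1 < 66 := by nlinarith
    have ha := hlen.2 x hx
    obtain ⟨f, a⟩ := x
    simp only at h1 h2 h3 hlt ha ⊢
    rcases ha with rfl | rfl <;> interval_cases f <;> first | omega | decide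
  let le : ℕ × ℤ → ℕ × ℤ → Bool := fun x y => decide (x.1 ≤ y.1)
  have hperm := List.mergeSort_perm L le
  have hsorted : (L.mergeSort le).Pairwise fun x y => x.1 ≤ y.1 :=
    (List.pairwise_mergeSort (le := le) (by
      intro a b c h1 h2
      simp only [le, decide_eq_true_eq] at h1 h2 ⊢
      omega) (by
      intro a b
      simp only [le, Bool.or_eq_true, decide_eq_true_eq]
      omega) L).imp fun h => of_decide_eq_true h
  obtain ⟨a, b, c, d, hW⟩ : ∃ a b c d, L.mergeSort le = [a, b, c, d] := by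
    have hl := hperm.length_eq.trans hlen.1
    rcases h : L.mergeSort le with _ | ⟨a, _ | ⟨b, _ | ⟨c, _ | ⟨d, _ | ⟨e, M⟩⟩⟩⟩⟩ <;>
      simp [h] at hl ⊢
  rw [hW] at hperm hsorted
  simp at hsorted
  rw [← (hperm.map _).sum_eq] at hs hsq
  simp only [List.map_cons, List.map_nil, List.sum_cons, List.sum_nil, add_zero] at hs hsq
  have hsol : [a, b, c, d] ∈ solsZ ∨ [a, b, c, d] ∈ solsN :=
    sols_complete _ (hcand a (hperm.mem_iff.mp (by simp))) _ (hcand b (hperm.mem_iff.mp (by simp)))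
      _ (hcand c (hperm.mem_iff.mp (by simp))) _ (hcand d (hperm.mem_iff.mp (by simp)))
      (by omega) (by omega) (by omega) hs hsq
  have hdata : ∀ g : G, orderOf g = 2 → InvData [a, b, c, d]
      (Nat.card ↥(Subgroup.centralizer ({g} : Set G)))
      (g ∈ Subgroup.normalizer ((P : Subgroup G) : Set G)) := fun g hg =>
    InvData.perm hperm.symm (hinv g hg)
  have hdvs : ∀ g : G, Nat.card ↥(Subgroup.centralizer ({g} : Set G)) ∈ divs := fun g =>
    mem_divs _ (Nat.mem_divisors.mpr ⟨hc ▸ Subgroup.card_subgroup_dvd_card _, by norm_num⟩)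
  rcases hsol with hsol | hsol
  · obtain ⟨g, hg, hg32⟩ := SmallGroups.exists_involution_dvd_centralizer (G := G) (a := 5)
      (by norm_num) (by rw [hc]; norm_num)
    obtain ⟨y, q, hy, -, hcase⟩ := (hdata g hg).bound
      ((by decide : ∀ s ∈ solsZ, ∀ x ∈ s, x.1 ∣ 144 ∧ (x.2 = 1 ∨ x.2 = -1)) _ hsol)
      (solsZ_bad _ hsol)
    simp only [badZ, Bool.and_eq_true, bne_iff_ne, ne_eq, List.all_eq_true, Bool.or_eq_true] at hy
    rcases hcase with h | h
    · exact hy.1 h.1
    · rcases hy.2 _ (hdvs g) with h' | h'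
      · omega
      · exact h' h
  · haveI := Fact.mk Nat.prime_two
    obtain ⟨g, hg⟩ := exists_prime_orderOf_dvd_card'
      (G := ↥(Subgroup.normalizer ((P : Subgroup G) : Set G))) 2 (by rw [hN P]; norm_num)
    have hgo : orderOf (g : G) = 2 := by rw [Subgroup.orderOf_coe, hg]
    obtain ⟨y, q, hy, hq, hcase⟩ := (hdata g hgo).bound
      ((by decide : ∀ s ∈ solsN, ∀ x ∈ s, x.1 ∣ 144 ∧ (x.2 = 1 ∨ x.2 = -1)) _ hsol)
      (solsN_bad _ hsol)
    simp only [badN, List.all_eq_true, Bool.or_eq_true, bne_iff_ne, ne_eq, decide_eq_true_eq] at hy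
    rcases hcase with h | h
    · exact h.2 g.2
    · rcases hy _ (hdvs g) with h' | h'
      · exact h' h
      · omega

end Cfsg.Agent.S0977
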