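import Cfsg.Statements.S0978

import Cfsg.Agent.SmallGroups.OrderPDegree

set_option autoImplicit false
set_option linter.style.haveILetI false
open Cfsg
open Cfsg.Agent

namespace Cfsg.Agent.S0978


/-- Signed degrees for `p = 5`. -/
def cand5 : List ℤ := [-14, 16, 21, -24, 36, 56]

/-- Signed degrees for `p = 7`. -/
def cand7 : List ℤ := [15, -20, 36, -48]

theorem mem_cand5 : ∀ f : ℕ, f < 71 → 10 ≤ f → f ∣ 5040 → ∀ a ∈ ([1, -1] : List ℤ),
    (5 : ℤ) ∣ (f : ℤ) - a → a * f ∈ cand5 := by decide +kernel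

theorem mem_cand7 : ∀ f : ℕ, f < 71 → (14 ≤ f ∧ f ≠ 16) → f ∣ 5040 → ∀ a ∈ ([1, -1] : List ℤ),
    (7 : ℤ) ∣ (f : ℤ) - a → a * f ∈ cand7 := by decide +kernel

theorem five_two : ∀ a ∈ cand5, ¬ ((1 + a).natAbs ∣ 5040 ∧ (1 + a).natAbs < 71) := by decide +kernel

theorem seven_two : ∀ a ∈ cand7,
    ¬ ((1 + a).natAbs ∣ 5040 ∧ (1 + a).natAbs < 71 ∧ (1 + a).natAbs ≠ 16) := by decide +kernel

theorem five_four : ∀ a ∈ cand5, a ≠ 16 → ∀ b ∈ cand5, b ≠ 16 → ∀ c ∈ cand5, c ≠ 16 →
    ¬ ((1 + (a + (b + c))).natAbs ∣ 5040 ∧ (1 + (a + (b + c))).natAbs < 71 ∧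
      10 ≤ (1 + (a + (b + c))).natAbs ∧ (1 + (a + (b + c))).natAbs ≠ 16) := by decide +kernel

open Cfsg.Agent in
open scoped Classical in
/-- The principal block excludes a Sylow subgroup of order `p` with `C(P) ≠ P` in the cases needed. -/
theorem not_block {G : Type*} [Group G] [Finite G] [IsSimpleGroup G] (h : Nat.card G = 5040)
    {p : ℕ} [Fact p.Prime] (P : Sylow p G) (hP : Nat.card P = p) {c e : ℕ}
    (hC : Nat.card ↥(Subgroup.centralizer ((P : Subgroup G) : Set G)) = p * c) (hc : c ≠ 1)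
    (hpc : ¬ p ∣ c)
    (he : (Subgroup.centralizer ((P : Subgroup G) : Set G)).relIndex
      (Subgroup.normalizer ((P : Subgroup G) : Set G)) = e)
    (hcase : p = 5 ∧ e = 2 ∨ p = 5 ∧ e = 4 ∧ 2 ∣ c ∨ p = 7 ∧ e = 2 ∧ 2 ∣ c) : False := by
  have hp : p.Prime := Fact.out
  letI := Fintype.ofFinite G
  have hG : ¬ IsMulCommutative G := SmallGroups.not_isMulCommutative (by rw [h]; norm_num)
  obtain ⟨M, hM⟩ := BlkChar.exists_isPModular p hp
  obtain ⟨X, Y, sgn, ε, hdisj, hB, hXc, hYc, hTX, hTs, hε, hXd, -, -, hrel⟩ :=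
    SmallGroups.OrderP.exists_block_data hM P hP e he
  choose dg hdg0 hdg hdgdvd using fun χ : Cfsg.IrrCharacter G => Char.irr_degree_dvd_card χ.2
  have hcd : ∀ χ : IrrCharacter G, Cfsg.charDegree (χ : G → ℂ) = dg χ :=
    fun χ => Char.charDegree_of_eq (hdg χ)
  obtain ⟨q, hq, hqc⟩ := Nat.exists_prime_and_dvd hc
  haveI := Fact.mk hq
  have hqp : q ≠ p := fun e => hpc (e ▸ hqc)
  obtain ⟨v, hv⟩ := exists_prime_orderOf_dvd_card'
    (G := ↥(Subgroup.centralizer ((P : Subgroup G) : Set G))) q (hC ▸ Dvd.dvd.mul_left hqc p)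
  have hv' : orderOf (v : G) = q := by rw [Subgroup.orderOf_coe, hv]
  have hlt : ∀ χ : Cfsg.IrrCharacter G, χ ≠ Char.trivialIrr G → dg χ < 71 := by
    intro χ hne
    have htot : ∑ ψ : Cfsg.IrrCharacter G, (dg ψ : ℝ) ^ 2 = Nat.card G := by
      have h1 := Char.sum_irr_degree_sq (G := G)
      simp only [hdg] at h1
      exact_mod_cast h1
    have hle : ∑ ψ ∈ {χ, Char.trivialIrr G}, (dg ψ : ℝ) ^ 2 ≤ Nat.card G :=
      htot ▸ Finset.sum_le_sum_of_subset_of_nonneg (Finset.subset_univ _) fun _ _ _ => sq_nonneg _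
    rw [Finset.sum_pair hne, h] at hle
    have hle' : ((dg χ ^ 2 + dg (Char.trivialIrr G) ^ 2 : ℕ) : ℝ) ≤ ((5040 : ℕ) : ℝ) := by
      push_cast at hle ⊢; exact hle
    have h2 := Nat.cast_le.1 hle'
    by_contra h3
    push Not at h3
    nlinarith
  have hbig : ∀ χ ∈ Cfsg.principalBlock M G, χ ≠ Char.trivialIrr G →
      2 * p ≤ dg χ ∧ dg χ ∣ 5040 ∧ dg χ < 71 ∧ (2 ∣ c → dg χ ≠ 16) := by
    intro χ hχ hne
    refine ⟨SmallGroups.OrderP.two_mul_le_degree hM P hP hχ hG hq hqp hv' v.2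
      (fun e => hne (Subtype.ext e)) (hdg χ), h ▸ hdgdvd χ, hlt χ hne, fun h2 h16 => ?_⟩
    obtain ⟨z, hz⟩ := exists_prime_orderOf_dvd_card' (hp := ⟨Nat.prime_two⟩)
      (G := ↥(Subgroup.centralizer ((P : Subgroup G) : Set G))) 2 (hC ▸ Dvd.dvd.mul_left h2 p)
    have hz' : orderOf (z : G) = 2 := by rw [Subgroup.orderOf_coe, hz]
    have h0 : (χ : G → ℂ) (z : G) = 0 := Char.irr_defect_zero_vanish χ.2 Nat.prime_two
      (d := 16) (m := 315) (by rw [hdg, h16]) (by rw [h]) (by norm_num) _ (by rw [hz'])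
    have hp2 : ¬ p ∣ orderOf (z : G) := by
      rw [hz']
      rcases hcase with ⟨rfl, -⟩ | ⟨rfl, -⟩ | ⟨rfl, -⟩ <;> norm_num
    have h16' := SmallGroups.OrderP.dvd_degree_of_value_eq_zero hM P hP hχ (hdg χ) z.2 hp2 h0
    rw [h16] at h16'
    rcases hcase with ⟨rfl, -⟩ | ⟨rfl, -⟩ | ⟨rfl, -⟩ <;> norm_num at h16'
  obtain ⟨θ, hθ⟩ : Y.Nonempty := Finset.card_pos.1 (by
    rw [hYc]; rcases hcase with ⟨rfl, rfl⟩ | ⟨rfl, rfl, -⟩ | ⟨rfl, rfl, -⟩ <;> norm_num)
  have hθT : θ ≠ Char.trivialIrr G := fun e => Finset.disjoint_left.1 hdisj hTX (e ▸ hθ)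
  obtain ⟨hθ1, hθ2, hθ3, hθ4⟩ := hbig θ ((hB θ).2 (.inr hθ)) hθT
  have hsum : (ε * dg θ : ℤ) = 1 + ∑ χ ∈ X.erase (Char.trivialIrr G), sgn χ * dg χ := by
    have h1 := hrel θ hθ 1 (by rw [orderOf_one]; exact hp.not_dvd_one)
    have hT1 : ((Char.trivialIrr G : Cfsg.IrrCharacter G) : G → ℂ) 1 = 1 := rfl
    rw [← Finset.add_sum_erase _ _ hTX, hTs, hT1] at h1
    simp only [hdg, Int.cast_one, one_mul] at h1
    apply Int.cast_injective (α := ℂ)
    push_cast
    exact h1
  have habs : (1 + ∑ χ ∈ X.erase (Char.trivialIrr G), sgn χ * dg χ).natAbs = dg θ := by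
    rw [← hsum, Int.natAbs_mul, Int.natAbs_natCast]
    rcases hε with rfl | rfl <;> simp
  have hmem : ∀ χ ∈ X.erase (Char.trivialIrr G), (p : ℤ) ∣ (dg χ : ℤ) - sgn χ ∧
      sgn χ ∈ ([1, -1] : List ℤ) ∧ 2 * p ≤ dg χ ∧ dg χ ∣ 5040 ∧ dg χ < 71 ∧
      (2 ∣ c → dg χ ≠ 16) := by
    intro χ hχ
    obtain ⟨hne, hX⟩ := Finset.mem_erase.1 hχ
    obtain ⟨h1, h2, -⟩ := hXd χ hX
    exact ⟨hcd χ ▸ h2, by simpa using h1, hbig χ ((hB χ).2 (.inl hX)) hne⟩
  have hcard := Finset.card_erase_of_mem hTX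
  rw [hXc] at hcard
  rcases hcase with ⟨rfl, rfl⟩ | ⟨rfl, rfl, hc2⟩ | ⟨rfl, rfl, hc2⟩
  · obtain ⟨a, ha⟩ := Finset.card_eq_one.1 hcard
    rw [ha, Finset.sum_singleton] at habs
    obtain ⟨h1, h2, h3, h4, h5, -⟩ := hmem a (ha ▸ Finset.mem_singleton_self a)
    exact five_two _ (mem_cand5 _ h5 h3 h4 _ h2 h1) ⟨habs ▸ hθ2, habs ▸ hθ3⟩
  · obtain ⟨a, b, d, hab, had, hbd, hX⟩ := Finset.card_eq_three.1 hcard
    rw [hX] at habs hmem
    rw [Finset.sum_insert (by simp [hab, had]), Finset.sum_insert (by simp [hbd]),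
      Finset.sum_singleton] at habs
    have key : ∀ χ ∈ ({a, b, d} : Finset (Cfsg.IrrCharacter G)),
        sgn χ * dg χ ∈ cand5 ∧ sgn χ * dg χ ≠ 16 := by
      intro χ hχ
      obtain ⟨h1, h2, h3, h4, h5, h6⟩ := hmem χ hχ
      refine ⟨mem_cand5 _ h5 h3 h4 _ h2 h1, fun e => h6 hc2 ?_⟩
      have e' := congrArg Int.natAbs e
      simp at h2
      rcases h2 with h2 | h2 <;> simpa [h2] using e'
    obtain ⟨a1, a2⟩ := key a (by simp)
    obtain ⟨b1, b2⟩ := key b (by simp)
    obtain ⟨d1, d2⟩ := key d (by simp)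
    exact five_four _ a1 a2 _ b1 b2 _ d1 d2
      ⟨habs ▸ hθ2, habs ▸ hθ3, habs ▸ hθ1, habs ▸ hθ4 hc2⟩
  · obtain ⟨a, ha⟩ := Finset.card_eq_one.1 hcard
    rw [ha, Finset.sum_singleton] at habs
    obtain ⟨h1, h2, h3, h4, h5, h6⟩ := hmem a (ha ▸ Finset.mem_singleton_self a)
    exact seven_two _ (mem_cand7 _ h5 ⟨h3, h6 hc2⟩ h4 _ h2 h1)
      ⟨habs ▸ hθ2, habs ▸ hθ3, habs ▸ hθ4 hc2⟩


/-- No finite simple group has order 5040 = 2^4 * 3^2 * 5 * 7. -/
theorem result {G : Type*} [Group G] [Finite G] [IsSimpleGroup G] : Nat.card G ≠ 5040 := by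
  intro h
  have hG : ¬ IsMulCommutative G := Cfsg.Agent.SmallGroups.not_isMulCommutative (by rw [h]; norm_num)
  haveI := Fact.mk (by norm_num : Nat.Prime 5)
  haveI := Fact.mk (by norm_num : Nat.Prime 7)
  have hnot8 : ∀ H : Subgroup G, H ≠ ⊤ → H.index ≠ 8 := by
    intro H hH h8
    have hex := Cfsg.Agent.SmallGroups.exists_embedding_alternating hG H hH
    rw [h8] at hex
    obtain ⟨f, hf⟩ := hex
    haveI : IsSimpleGroup ↥(alternatingGroup (Fin 8)) := alternatingGroup.isSimpleGroup (by simp)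
    have hcA : Nat.card ↥(alternatingGroup (Fin 8)) = 20160 := by
      rw [Nat.card_eq_fintype_card, card_alternatingGroup]; rfl
    have hcR : Nat.card ↥f.range = 5040 := by
      rw [← h]; exact (Nat.card_congr (MonoidHom.ofInjective hf).toEquiv).symm
    have hidx : f.range.index = 4 := by
      have := f.range.card_mul_index
      rw [hcR, hcA] at this; omega
    have h4 := Cfsg.Agent.SmallGroups.two_mul_card_dvd_factorial
      (Cfsg.Agent.SmallGroups.not_isMulCommutative (G := ↥(alternatingGroup (Fin 8)))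
        (by rw [hcA]; norm_num)) f.range (fun e => by rw [e, Subgroup.index_top] at hidx; omega)
    rw [hcA, hidx] at h4
    exact absurd h4 (by decide)
  obtain ⟨P⟩ := (inferInstance : Nonempty (Sylow 7 G))
  obtain ⟨R⟩ := (inferInstance : Nonempty (Sylow 5 G))
  have hP : Nat.card P = 7 := by
    have := Cfsg.Agent.SmallGroups.card_sylow_subgroup (a := 1) (m := 720) (h.trans (by norm_num))
      (by norm_num) P
    simpa using this
  have hR : Nat.card R = 5 := by
    have := Cfsg.Agent.SmallGroups.card_sylow_subgroup (a := 1) (m := 1008) (h.trans (by norm_num))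
      (by norm_num) R
    simpa using this
  -- normalizer and centralizer data
  have hdata : ∀ (p : ℕ) [Fact p.Prime] (S : Sylow p G), Nat.card S = p → ∃ k c : ℕ,
      (Subgroup.centralizer ((S : Subgroup G) : Set G)).relIndex
        (Subgroup.normalizer ((S : Subgroup G) : Set G)) = k ∧
      Nat.card ↥(Subgroup.centralizer ((S : Subgroup G) : Set G)) = p * c ∧ k ∣ p - 1 ∧ k ≠ 1 ∧
      ¬ p ∣ c ∧ Nat.card (Sylow p G) * (p * c * k) = 5040 := by
    intro p hp S hS
    obtain ⟨hk, hk1⟩ := Cfsg.Agent.SmallGroups.relIndex_centralizer_prime hG S hS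
    haveI : IsCyclic ↥(S : Subgroup G) := isCyclic_of_prime_card hS
    have hSC : (S : Subgroup G) ≤ Subgroup.centralizer ((S : Subgroup G) : Set G) := fun x hx =>
      Subgroup.mem_centralizer_iff.2 fun y hy =>
        congrArg Subtype.val (IsCyclic.commGroup.mul_comm (⟨y, hy⟩ : ↥(S : Subgroup G)) ⟨x, hx⟩)
    obtain ⟨c, hc⟩ : p ∣ Nat.card ↥(Subgroup.centralizer ((S : Subgroup G) : Set G)) :=
      (dvd_of_eq hS.symm).trans (Subgroup.card_dvd_of_le hSC)
    refine ⟨_, c, rfl, hc, hk, hk1, fun hd => ?_, ?_⟩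
    · refine S.not_dvd_index (Nat.dvd_of_mul_dvd_mul_left hp.out.pos (?_ : p * p ∣ p * _))
      have e := (S : Subgroup G).card_mul_index
      rw [hS] at e
      rw [e]
      exact (mul_dvd_mul_left p hd).trans (hc ▸ Subgroup.card_subgroup_dvd_card _)
    · rw [← h, ← Cfsg.Agent.SmallGroups.card_sylow_mul_card_normalizer S, ← hc]
      congr 1
      rw [← Subgroup.relIndex_bot_left, Subgroup.relIndex_mul_relIndex _ _ _ bot_le
        (Subgroup.centralizer_le_normalizer _), Subgroup.relIndex_bot_left]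
  obtain ⟨k, c, hk, hC, hkd, hk1, hpc, hn⟩ := hdata 7 P hP
  obtain ⟨k', c', hk', hC', hkd', hk1', hpc', hn'⟩ := hdata 5 R hR
  have hm7 := Cfsg.Agent.SmallGroups.card_sylow_mem (G := G) hG (p := 7) (a := 0) (m := 720)
    (by rw [h]; norm_num) (by norm_num)
  rw [show (720 : ℕ).divisors.filter (fun n => n % 7 = 1 ∧ 1 < n) = {8, 15, 36, 120} by decide +kernel]
    at hm7
  have hm5 := Cfsg.Agent.SmallGroups.card_sylow_mem (G := G) hG (p := 5) (a := 0) (m := 1008)
    (by rw [h]; norm_num) (by norm_num)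
  rw [show (1008 : ℕ).divisors.filter (fun n => n % 5 = 1 ∧ 1 < n) = {6, 16, 21, 36, 56, 126, 336}
    by decide +kernel] at hm5
  simp only [Finset.mem_insert, Finset.mem_singleton] at hm7 hm5
  have hk4 : k' = 2 ∨ k' = 4 := by
    have := Nat.le_of_dvd (by norm_num) hkd'
    interval_cases k' <;> omega
  by_cases h5c : 5 ∣ c
  · -- `C(P)` has order divisible by five
    obtain ⟨c₁, rfl⟩ := h5c
    have hn8 : Nat.card (Sylow 7 G) ≠ 8 := by
      rw [Cfsg.Agent.SmallGroups.card_sylow_eq_index P]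
      refine hnot8 _ fun e => ?_
      haveI := Subgroup.normalizer_eq_top_iff.1 e
      have := Cfsg.Agent.SmallGroups.eq_top_of_normal (H := (P : Subgroup G)) this (fun e' => by
        have h1 := hP; rw [e', Subgroup.card_bot] at h1; omega)
      have h1 := hP
      rw [this, Subgroup.card_top, h] at h1
      omega
    have hkc : k = 2 ∧ 5 * c₁ = 10 := by
      have hk6 := Nat.le_of_dvd (by norm_num) hkd
      rcases hm7 with e | e | e | e <;> rw [e] at hn <;> interval_cases k <;> omega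
    refine not_block h P hP hC (by omega) hpc hk (Or.inr (Or.inr ⟨rfl, hkc.1, ?_⟩))
    rw [hkc.2]; norm_num
  · -- seven does not divide the order of `N(R)`
    have h7 : ¬ 7 ∣ c' := by
      intro hd
      obtain ⟨y, hy⟩ := exists_prime_orderOf_dvd_card'
        (G := ↥(Subgroup.centralizer ((R : Subgroup G) : Set G))) 7 (hC' ▸ Dvd.dvd.mul_left hd 5)
      have hy' : orderOf (y : G) = 7 := by rw [Subgroup.orderOf_coe, hy]
      have hcy : Nat.card ↥(Subgroup.zpowers (y : G)) = 7 := by rw [Nat.card_zpowers, hy']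
      let Q : Sylow 7 G := IsPGroup.toSylow (P := Subgroup.zpowers (y : G))
        (IsPGroup.of_card (n := 1) (by rw [hcy, pow_one]))
        (by
          intro hd7
          have h1 := Subgroup.card_mul_index (Subgroup.zpowers (y : G))
          rw [hcy, h] at h1
          omega)
      have hQ : (Q : Subgroup G) = Subgroup.zpowers (y : G) := rfl
      have hRQ : (R : Subgroup G) ≤ Subgroup.centralizer ((Q : Subgroup G) : Set G) := by
        rw [Subgroup.le_centralizer_iff, hQ, Subgroup.zpowers_le]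
        exact y.2
      obtain ⟨g, hg⟩ := MulAction.exists_smul_eq G Q P
      have e1 : Nat.card ↥(Subgroup.centralizer ((Q : Subgroup G) : Set G)) = 7 * c := by
        rw [← hC, ← hg]
        have key : (Subgroup.centralizer ((Q : Subgroup G) : Set G)).map (MulAut.conj g).toMonoidHom =
            Subgroup.centralizer (((g • Q : Sylow 7 G) : Subgroup G) : Set G) := by
          ext z
          rw [Subgroup.mem_map_equiv, Subgroup.mem_centralizer_iff, Subgroup.mem_centralizer_iff]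
          constructor
          · intro hz w hw
            have h1 := hz (g⁻¹ * w * g) (by
              rw [Sylow.coe_subgroup_smul, SetLike.mem_coe, Subgroup.mem_pointwise_smul_iff_inv_smul_mem] at hw
              exact (by simpa using hw : g⁻¹ * w * g ∈ (Q : Subgroup G)))
            rw [MulAut.conj_symm_apply] at h1
            calc w * z = g * (g⁻¹ * w * g * (g⁻¹ * z * g)) * g⁻¹ := by group
              _ = z * w := by rw [h1]; group
          · intro hz w hw
            have h1 := hz (g * w * g⁻¹) (by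
              rw [Sylow.coe_subgroup_smul, SetLike.mem_coe, Subgroup.mem_pointwise_smul_iff_inv_smul_mem]
              convert (show w ∈ (Q : Subgroup G) from hw) using 1
              simp [mul_assoc])
            rw [MulAut.conj_symm_apply]
            calc w * (g⁻¹ * z * g) = g⁻¹ * (g * w * g⁻¹ * z) * g := by group
              _ = g⁻¹ * z * g * w := by rw [h1]; group
        rw [← key]
        exact (Subgroup.card_map_of_injective (MulEquiv.injective (MulAut.conj g))).symm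
      refine h5c ((Nat.Coprime.dvd_of_dvd_mul_left (by norm_num : Nat.Coprime 5 7) ?_))
      rw [← e1]
      exact (dvd_of_eq hR.symm).trans (Subgroup.card_dvd_of_le hRQ)
    have hn6 : Nat.card (Sylow 5 G) ≠ 6 := by
      intro e
      have := Cfsg.Agent.SmallGroups.two_mul_card_dvd_factorial_card_sylow (G := G) hG (p := 5)
        (by rw [h]; norm_num)
      rw [e, h] at this
      exact absurd this (by decide)
    refine not_block h R hR hC' ?_ hpc' hk' ?_
    · rcases hm5 with e | e | e | e | e | e | e <;> rw [e] at hn' <;>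
        rcases hk4 with rfl | rfl <;> omega
    · rcases hk4 with rfl | rfl
      · exact Or.inl ⟨rfl, rfl⟩
      · refine Or.inr (Or.inl ⟨rfl, rfl, ?_⟩)
        rcases hm5 with e | e | e | e | e | e | e <;> rw [e] at hn' <;> omega

end Cfsg.Agent.S0978
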