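import Cfsg.Statements.S0999
import Cfsg.Agent.SmallGroups.SelfCentPrime.Classify
import Cfsg.Agent.SmallGroups.SelfCentPrime.Cubic

set_option autoImplicit false
open Cfsg

namespace Cfsg.Agent.S0999


/-- Let G be a non-cyclic finite simple group and p a prime divisor of its order with p^3 > |G|. Then p > 3 and G is isomorphic to the projective special linear group of dimension 2 over the field with p elements, or p - 1 is a power of 2 and G is isomorphic to that group over the field with p - 1 elements. -/
theorem result {G : Type*} [Group G] [Finite G] [IsSimpleGroup G] (hG : ¬ IsCyclic G) (p : ℕ) (hp : p.Prime) (hdvd : p ∣ Nat.card G) (hbig : Nat.card G < p ^ 3) : (∃ (F : Type) (_ : Field F) (_ : Fintype F), Fintype.card F = p ∧ 3 < p ∧ Nonempty (G ≃* Matrix.ProjectiveSpecialLinearGroup (Fin 2) F)) ∨ (∃ (m : ℕ) (F : Type) (_ : Field F) (_ : Fintype F), Fintype.card F = 2 ^ m ∧ p = 2 ^ m + 1 ∧ 3 < p ∧ Nonempty (G ≃* Matrix.ProjectiveSpecialLinearGroup (Fin 2) F)) := by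
  have hnc : ¬ IsMulCommutative G := fun h => hG (by
    have := Fact.mk (SmallGroups.prime_card_of_isMulCommutative h)
    exact isCyclic_of_prime_card (α := G) rfl)
  letI := Fintype.ofFinite G
  haveI : Fact p.Prime := ⟨hp⟩
  obtain ⟨P⟩ := (inferInstance : Nonempty (Sylow p G))
  obtain ⟨e, he⟩ : ∃ e, (Subgroup.centralizer ((P : Subgroup G) : Set G)).relIndex
    (Subgroup.normalizer ((P : Subgroup G) : Set G)) = e := ⟨_, rfl⟩
  obtain ⟨n, hn'⟩ : p ∣ Nat.card (Sylow p G) - 1 :=
    (Nat.modEq_iff_dvd' Nat.card_pos).1 (card_sylow_modEq_one p G).symm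
  have hpos : 0 < Nat.card (Sylow p G) := Nat.card_pos
  have hn : Nat.card (Sylow p G) = 1 + n * p := by rw [mul_comm]; omega
  have h1 := SmallGroups.one_lt_card_sylow hnc hdvd
  have hn1 : 1 ≤ n := by
    rcases Nat.eq_zero_or_pos n with h | h
    · subst h; omega
    · exact h
  have hmul := SmallGroups.card_sylow_mul_card_normalizer P
  have hnp : p ≤ n * p := Nat.le_mul_of_pos_left p hn1
  -- the Sylow subgroups have order `p`
  obtain ⟨k, hk⟩ := P.2.exists_card_eq
  have hle := Nat.le_of_dvd Nat.card_pos
    (Subgroup.card_dvd_of_le (Subgroup.le_normalizer (H := (P : Subgroup G))))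
  have hk1 : k = 1 := by
    have hk0 : k ≠ 0 := by
      rintro rfl
      exact P.ne_bot_of_dvd_card hdvd (Subgroup.card_eq_one.1 (hk.trans (pow_zero p)))
    by_contra hk2
    have h2 : p ^ 2 ≤ p ^ k := Nat.pow_le_pow_right hp.pos (by omega)
    have h3 : (p + 1) * p ^ 2 ≤ Nat.card G := by
      rw [← hmul]
      exact Nat.mul_le_mul (by omega) (h2.trans (hk ▸ hle))
    have : p ^ 3 = p * p ^ 2 := by ring
    have : (p + 1) * p ^ 2 = p * p ^ 2 + p ^ 2 := by ring
    omega
  have hP : Nat.card ↥(P : Subgroup G) = p := by rw [hk, hk1, pow_one]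
  haveI : IsMulCommutative ↥(P : Subgroup G) :=
    SmallGroups.isMulCommutative_of_prime_card (by rw [hP]; exact hp)
  obtain ⟨c, hc⟩ : p ∣ Nat.card ↥(Subgroup.centralizer ((P : Subgroup G) : Set G)) :=
    (dvd_of_eq hP.symm).trans (Subgroup.card_dvd_of_le (P : Subgroup G).le_centralizer)
  have hN := Subgroup.relIndex_mul_relIndex ⊥ (Subgroup.centralizer ((P : Subgroup G) : Set G))
    (Subgroup.normalizer ((P : Subgroup G) : Set G)) bot_le (Subgroup.centralizer_le_normalizer _)
  rw [Subgroup.relIndex_bot_left, Subgroup.relIndex_bot_left, he, hc] at hN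
  rw [← hN, hn] at hmul
  have hKn : e * c * n < p := by
    by_contra hcon
    have h2 : p * (p * p) ≤ Nat.card G := by
      rw [← hmul, show (1 + n * p) * (p * c * e) = p * (e * c + (e * c * n) * p) by ring]
      refine Nat.mul_le_mul_left _ (le_trans ?_ (Nat.le_add_left _ _))
      exact Nat.mul_le_mul_right _ (by omega)
    have : p ^ 3 = p * (p * p) := by ring
    omega
  have h2n : 2 * n < p + 3 := by
    have he' := SmallGroups.relIndex_centralizer_prime hnc P hP
    rw [he] at he'
    have he0 := Nat.pos_of_dvd_of_pos he'.1 (by have := hp.two_le; omega)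
    have hec : 2 ≤ e * c := by
      have hc0 : 0 < c := Nat.pos_of_ne_zero fun h => by
        subst h; rw [mul_zero] at hc; exact Nat.card_pos.ne' hc
      have := Nat.le_mul_of_pos_right e hc0
      have := he'.2
      omega
    have := Nat.mul_le_mul_right n hec
    omega
  have hC : Subgroup.centralizer ((P : Subgroup G) : Set G) = (P : Subgroup G) := by
    rcases Nat.lt_or_ge n 2 with h | h
    · refine SmallGroups.SelfCentPrime.centralizer_eq_of_card_eq hnc P hP ?_
      rw [hn, show n = 1 by omega]; ring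
    · exact SmallGroups.SelfCentPrime.centralizer_eq_of_small hnc P hP hc he hn hKn h
  exact SmallGroups.SelfCentPrime.conclusion_of_simple hnc P hP hC hn h2n

end Cfsg.Agent.S0999
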