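import Cfsg.Statements.S0983
import Cfsg.Agent.SmallGroups.BelowSixThousand.Sieve
import Cfsg.Agent.SmallGroups.BelowSixThousand.Special
import Cfsg.Agent.SmallGroups.BelowSixThousand.Order5400
import Cfsg.Agent.S0976
import Cfsg.Agent.S0977
import Cfsg.Agent.S0978
import Cfsg.Agent.S0980

set_option autoImplicit false
open Cfsg

namespace Cfsg.Agent.S0983

open Cfsg.Agent.SmallGroups
open Cfsg.Agent.SmallGroups.BelowThousand
open Cfsg.Agent.SmallGroups.BelowSixThousand

theorem main {G : Type} [Group G] [Finite G] [IsSimpleGroup G] (hG : ¬ IsMulCommutative G)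
    (h1 : 3640 < Nat.card G) (h2 : Nat.card G ≤ 6232) :
    Nat.card G = 4080 ∨ Nat.card G = 5616 ∨ Nat.card G = 6048 ∨ Nat.card G = 6072 := by
  haveI : Fact (Nat.Prime 3) := ⟨by norm_num⟩
  haveI : Fact (Nat.Prime 5) := ⟨by norm_num⟩
  haveI : Fact (Nat.Prime 7) := ⟨by norm_num⟩
  haveI : Fact (Nat.Prime 11) := ⟨by norm_num⟩
  haveI : Fact (Nat.Prime 13) := ⟨by norm_num⟩
  rcases card_mem_leftOrders hG h1 h2 with hmem | e
  · simp only [leftOrders, List.mem_cons, List.not_mem_nil, or_false] at hmem
    rcases hmem with e | e | e | e | e | e | e | e | e | e | e | e | e | e | e | e | e | e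
    · exact (kill_sylow hG 7 1 80 3920 e (by norm_num) (by norm_num) (by decide +kernel)).elim
    · exact absurd e S0976.result
    · exact Or.inl e
    · exact absurd e S0977.result
    · exact (kill_sylow hG 11 1 36 4356 e (by norm_num) (by norm_num) (by decide +kernel)).elim
    · exact (kill_inter hG 5 2 36 4500 e (by norm_num) (by norm_num) (by norm_num) (by norm_num)
        (by decide +kernel) (by decide +kernel)).elim
    · exact (not_4620 hG e).elim
    · exact (kill_sylow hG 7 1 96 4704 e (by norm_num) (by norm_num) (by decide +kernel)).elim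
    · exact (kill_sylow hG 3 4 20 4860 e (by norm_num) (by norm_num) (by decide +kernel)).elim
    · exact absurd e S0978.result
    · exact (kill_inter hG 7 1 108 5292 e (by norm_num) (by norm_num) (by norm_num) (by norm_num)
        (by decide +kernel) (by decide +kernel)).elim
    · exact (not_5400 hG e).elim
    · exact (not_5460 hG e).elim
    · exact Or.inr (Or.inl e)
    · exact absurd e S0980.result
    · exact (kill_inter hG 5 2 48 6000 e (by norm_num) (by norm_num) (by norm_num) (by norm_num)
        (by decide +kernel) (by decide +kernel)).elim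
    · exact Or.inr (Or.inr (Or.inl e))
    · exact (kill_sylow hG 13 1 36 6084 e (by norm_num) (by norm_num) (by decide +kernel)).elim
  · exact Or.inr (Or.inr (Or.inr e))

/-- A non-abelian finite simple group of order greater than 3640 and at most 6232 has order 4080, 5616, 6048 or 6072. -/
theorem result {G : Type*} [Group G] [Finite G] [IsSimpleGroup G] (hG : ¬ IsMulCommutative G) (h1 : 3640 < Nat.card G) (h2 : Nat.card G ≤ 6232) : Nat.card G = 4080 ∨ Nat.card G = 5616 ∨ Nat.card G = 6048 ∨ Nat.card G = 6072 := by
  classical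
  letI := Fintype.ofFinite G
  let f : G →* Equiv.Perm (Fin (Fintype.card G)) :=
    (Fintype.equivFin G).permCongrHom.toMonoidHom.comp (MulAction.toPermHom G G)
  have hf : Function.Injective f :=
    (Fintype.equivFin G).permCongrHom.injective.comp MulAction.toPerm_injective
  let e : G ≃* ↥f.range := MonoidHom.ofInjective hf
  haveI : Nontrivial ↥f.range := e.toEquiv.symm.nontrivial
  haveI : IsSimpleGroup ↥f.range := IsSimpleGroup.isSimpleGroup_of_surjective e.toMonoidHom e.surjective
  have hcard : Nat.card ↥f.range = Nat.card G := (Nat.card_congr e.toEquiv).symm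
  have := main (G := ↥f.range)
    (fun h' => hG ⟨⟨fun a b => e.injective (by rw [map_mul, map_mul, h'.is_comm.comm])⟩⟩)
    (hcard ▸ h1) (hcard ▸ h2)
  rwa [hcard] at this

end Cfsg.Agent.S0983
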