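import Cfsg.Statements.S0981
import Cfsg.Agent.SmallGroups.EvenRecognition
import Cfsg.Agent.SmallGroups.PrimeSylow

set_option autoImplicit false
open Cfsg

namespace Cfsg.Agent.S0981
open Subgroup SmallGroups

section
variable {G : Type*} [Group G] [Finite G] [IsSimpleGroup G] (h : Nat.card G = 4080)
include h

theorem not_comm : ¬ IsMulCommutative G := not_isMulCommutative (by rw [h]; norm_num)

theorem index_ge {H : Subgroup G} (hH : H ≠ ⊤) : 17 ≤ H.index := by
  by_contra hlt
  have h17 : Nat.Prime 17 := by norm_num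
  have hd := (show 17 ∣ 2 * Nat.card G by rw [h]; norm_num).trans (two_mul_card_dvd_factorial (not_comm h) H hH)
  exact hlt (h17.dvd_factorial.mp hd)

theorem card_sylow_ge {p : ℕ} [Fact p.Prime] (hd : p ∣ Nat.card G) : 17 ≤ Nat.card (Sylow p G) := by
  obtain ⟨T⟩ := (inferInstance : Nonempty (Sylow p G))
  rw [card_sylow_eq_index T]
  refine index_ge h fun ht => ?_
  have := one_lt_card_sylow (not_comm h) hd
  rw [card_sylow_eq_index T, ht, Subgroup.index_top] at this
  omega

/-- The local data at the primes `17`, `5`, `3`, and the count of the remaining elements. -/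
theorem local_data :
    (∀ z y : G, orderOf z = 2 → Commute z y → ∃ j, orderOf y = 2 ^ j) ∧
      (sylowElements 2 G).ncard ≤ 255 := by
  have hG := not_comm h
  have : Fact (Nat.Prime 17) := ⟨by norm_num⟩
  have : Fact (Nat.Prime 5) := ⟨by norm_num⟩
  have : Fact (Nat.Prime 3) := ⟨by norm_num⟩
  obtain ⟨n17, k17, c17, e17, hn17, hk17, hm17, hP17, hC17, -⟩ :=
    exists_primeSylow_data hG (r := 17) (m := 240) (by rw [h]) (by norm_num)
  obtain ⟨n5, k5, c5, e5, hn5, hk5, hm5, hP5, hC5, hN5⟩ :=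
    exists_primeSylow_data hG (r := 5) (m := 816) (by rw [h]) (by norm_num)
  obtain ⟨n3, k3, c3, e3, hn3, hk3, hm3, hP3, hC3, -⟩ :=
    exists_primeSylow_data hG (r := 3) (m := 1360) (by rw [h]) (by norm_num)
  rw [show ((240 : ℕ).divisors.filter fun a => a % 17 = 1 ∧ 1 < a) = {120} by decide +kernel,
    Finset.mem_singleton] at hn17
  rw [show ((17 - 1 : ℕ).divisors.filter fun a => 1 < a) = {2, 4, 8, 16} by decide +kernel] at hk17
  rw [show ((5 - 1 : ℕ).divisors.filter fun a => 1 < a) = {2, 4} by decide +kernel] at hk5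
  rw [show ((3 - 1 : ℕ).divisors.filter fun a => 1 < a) = {2} by decide +kernel,
    Finset.mem_singleton] at hk3
  rw [show ((816 : ℕ).divisors.filter fun a => a % 5 = 1 ∧ 1 < a) = {6, 16, 51, 136, 816} by decide +kernel] at hn5
  rw [show ((1360 : ℕ).divisors.filter fun a => a % 3 = 1 ∧ 1 < a) =
    {4, 10, 16, 34, 40, 85, 136, 340, 1360} by decide +kernel] at hn3
  simp only [Finset.mem_insert, Finset.mem_singleton] at hn5 hn3 hk17 hk5
  have h5ge := card_sylow_ge h (p := 5) (by rw [h]; norm_num)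
  have h3ge := card_sylow_ge h (p := 3) (by rw [h]; norm_num)
  rw [e5] at h5ge
  rw [e3] at h3ge
  subst hn17 hk3
  have hc17 : c17 = 1 := by rcases hk17 with rfl | rfl | rfl | rfl <;> omega
  subst hc17
  have hcase5 : (n5 = 51 ∧ c5 = 8) ∨ (n5 = 51 ∧ c5 = 4) ∨ (n5 = 136 ∧ k5 = 2 ∧ c5 = 3) := by
    rcases hn5 with rfl | rfl | rfl | rfl | rfl <;> rcases hk5 with rfl | rfl <;> omega
  have hcase3 : (n3 = 34 ∧ c3 = 20) ∨ (n3 = 40 ∧ c3 = 17) ∨ (n3 = 85 ∧ c3 = 8) ∨ (n3 = 136 ∧ c3 = 5) ∨
      (n3 = 340 ∧ c3 = 2) := by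
    rcases hn3 with rfl | rfl | rfl | rfl | rfl | rfl | rfl | rfl | rfl <;> omega
  have hsyl : ∀ {r c : ℕ}, r.Prime → ∀ s : ℕ, s.Prime → [Fact r.Prime] →
      (∀ P : Sylow r G, Nat.card ↥(centralizer ((P : Subgroup G) : Set G)) = r * c) → s ∣ c →
      (∀ P : Sylow r G, Nat.card ↥(P : Subgroup G) = r) →
      ∃ x y : G, orderOf x = r ∧ orderOf y = s ∧ Commute x y := by
    intro r c hr s hs _ hC hsc hP
    obtain ⟨P⟩ := (inferInstance : Nonempty (Sylow r G))
    obtain ⟨x, hx⟩ := exists_prime_orderOf_dvd_card' (G := ↥(P : Subgroup G)) r (hP P).symm.dvd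
    have := Fact.mk hs
    obtain ⟨y, hy⟩ := exists_prime_orderOf_dvd_card' (G := ↥(centralizer ((P : Subgroup G) : Set G))) s
      (hC P ▸ hsc.mul_left r)
    exact ⟨x, y, by rw [Subgroup.orderOf_coe, hx], by rw [Subgroup.orderOf_coe, hy], y.2 x x.2⟩
  -- `C(P₃)` of order `60` is impossible
  have h60 : c3 = 20 → c5 = 3 → False := by
    rintro rfl rfl
    obtain ⟨P⟩ := (inferInstance : Nonempty (Sylow 3 G))
    set C := centralizer ((P : Subgroup G) : Set G) with hC
    have hCc : Nat.card ↥C = 60 := hC3 P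
    let S : Sylow 5 ↥C := default
    obtain ⟨Y, hY⟩ := (S.2.map C.subtype).exists_le_sylow
    have hS5 : Nat.card ↥(S : Subgroup ↥C) = 5 :=
      (card_sylow_subgroup (a := 1) (m := 12) (by rw [hCc]; norm_num) (by norm_num) S).trans (pow_one 5)
    have hYe : (S : Subgroup ↥C).map C.subtype = (Y : Subgroup G) :=
      Subgroup.eq_of_le_of_card_ge hY (by
        rw [← Nat.card_congr ((S : Subgroup ↥C).equivMapOfInjective _ C.subtype_injective).toEquiv, hS5, hP5 Y])
    set N := normalizer ((S : Subgroup ↥C) : Set ↥C) with hN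
    have hNle : N.map C.subtype ≤ normalizer ((Y : Subgroup G) : Set G) := by
      rw [← hYe]; exact Subgroup.le_normalizer_map C.subtype
    have h30 := Subgroup.card_dvd_of_le hNle
    rw [← Nat.card_congr (N.equivMapOfInjective _ C.subtype_injective).toEquiv, hN5 Y] at h30
    have h3N : 3 ∣ Nat.card ↥N := by
      have := isMulCommutative_of_prime_card (G := ↥(P : Subgroup G)) (by rw [hP3 P]; norm_num)
      obtain ⟨x, hx⟩ := exists_prime_orderOf_dvd_card' (G := ↥(P : Subgroup G)) 3 (hP3 P).symm.dvd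
      let x' : ↥C := ⟨x, (P : Subgroup G).le_centralizer x.2⟩
      have hx' : x' ∈ N := by
        refine mem_normalizer_iff.mpr fun w => ?_
        have : x' * w * x'⁻¹ = w := by
          apply Subtype.ext
          show (x : G) * (w : G) * (x : G)⁻¹ = (w : G)
          rw [w.2 x x.2, mul_inv_cancel_right]
        rw [this]
      have h3 := Subgroup.orderOf_dvd_natCard _ hx'
      rwa [← Subgroup.orderOf_coe, show ((x' : ↥C) : G) = (x : G) from rfl, Subgroup.orderOf_coe, hx] at h3
    have hmul := card_sylow_mul_card_normalizer S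
    have hd := card_sylow_dvd (G := ↥C) (p := 5) (a := 1) (m := 12) (by rw [hCc]; norm_num)
    have hm := card_sylow_modEq_one 5 ↥C
    rw [Nat.ModEq] at hm
    rw [hCc, ← hN] at hmul
    have hle := Nat.le_of_dvd (by norm_num) hd
    have hk : k5 = 2 := by omega
    subst hk
    rcases (show Nat.card (Sylow 5 ↥C) = 1 ∨ Nat.card (Sylow 5 ↥C) = 6 ∨ Nat.card (Sylow 5 ↥C) = 11 by
      omega) with e | e | e <;> rw [e] at hmul hd
    · have := Nat.le_of_dvd (by norm_num) h30; omega
    · omega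
    · norm_num at hd
  have hA17 := card_dvd_orderOf_ge (r := 17) hP17 hC17
  have hA5 := card_dvd_orderOf_ge (r := 5) hP5 hC5
  have hA3 := card_dvd_orderOf_ge (r := 3) hP3 hC3
  rw [e17] at hA17
  rw [e5] at hA5
  rw [e3] at hA3
  -- disjointness
  have hdis : ∀ {r s c : ℕ}, r.Prime → [Fact r.Prime] → s.Prime →
      (∀ P : Sylow r G, Nat.card ↥(P : Subgroup G) = r) →
      (∀ P : Sylow r G, Nat.card ↥(centralizer ((P : Subgroup G) : Set G)) = r * c) →
      ¬ s ∣ r * c → ∀ g : G, r ∣ orderOf g → ¬ s ∣ orderOf g := by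
    intro r s c hr _ hs hP hC hsc g hrg hsg
    exact hsc (dvd_of_commute_prime hP hC (orderOf_pow_orderOf_div (orderOf_pos g).ne' hrg)
      (orderOf_pow_orderOf_div (orderOf_pos g).ne' hsg) ((Commute.refl g).pow_pow _ _))
  have hsum : ∀ B : Set G, (1 : G) ∉ B → (∀ g ∈ B, ¬ 17 ∣ orderOf g ∧ ¬ 5 ∣ orderOf g) →
      ∀ C : Set G, (1 : G) ∉ C → (∀ g ∈ C, ¬ 17 ∣ orderOf g ∧ ¬ 5 ∣ orderOf g ∧ g ∉ B) →
      1920 + n5 * ((5 - 1) * c5) + B.ncard + C.ncard + 1 ≤ 4080 := by
    intro B hB hB' C hC hC'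
    have h1 := ncard_three_add_one_le (A := {g : G | 17 ∣ orderOf g} ∪ {g : G | 5 ∣ orderOf g}) (B := B) (C := C)
      (Set.disjoint_left.mpr fun g hg hgB => hg.elim (hB' g hgB).1 (hB' g hgB).2)
      (Set.disjoint_left.mpr fun g hg hgC => hg.elim (hC' g hgC).1 (hC' g hgC).2.1)
      (Set.disjoint_left.mpr fun g hgB hgC => (hC' g hgC).2.2 hgB)
      (by simp) hB hC
    have hd : Disjoint {g : G | 17 ∣ orderOf g} {g : G | 5 ∣ orderOf g} :=
      Set.disjoint_left.mpr fun g hg hg5 =>
        hdis (r := 17) (s := 5) (by norm_num) (by norm_num) hP17 hC17 (by norm_num) g hg hg5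
    rw [Set.ncard_union_eq hd (Set.toFinite _) (Set.toFinite _), h] at h1
    omega
  have hA17' := hdis (r := 17) (s := 3) (by norm_num) (by norm_num) hP17 hC17 (by norm_num)
  have hA : n3 = 136 ∧ c3 = 5 ∧ n5 = 136 ∧ c5 = 3 := by
    have h35 : 5 ∣ c3 → 3 ∣ 5 * c5 := by
      intro h5
      obtain ⟨x, y, hx, hy, hxy⟩ := hsyl (r := 3) (by norm_num) 5 (by norm_num) hC3 h5 hP3
      exact dvd_of_commute_prime hP5 hC5 hy hx hxy.symm
    have h53 : 3 ∣ c5 → 5 ∣ 3 * c3 := by
      intro h3
      obtain ⟨x, y, hx, hy, hxy⟩ := hsyl (r := 5) (by norm_num) 3 (by norm_num) hC5 h3 hP5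
      exact dvd_of_commute_prime hP3 hC3 hy hx hxy.symm
    have h173 : ¬ 17 ∣ c3 := by
      intro h17
      obtain ⟨x, y, hx, hy, hxy⟩ := hsyl (r := 3) (by norm_num) 17 (by norm_num) hC3 h17 hP3
      have := dvd_of_commute_prime hP17 hC17 hy hx hxy.symm
      norm_num at this
    rcases hcase5 with ⟨rfl, rfl⟩ | ⟨rfl, rfl⟩ | ⟨rfl, rfl, rfl⟩
    rotate_left 2
    · rcases hcase3 with ⟨rfl, rfl⟩ | ⟨rfl, rfl⟩ | ⟨rfl, rfl⟩ | ⟨rfl, rfl⟩ | ⟨rfl, rfl⟩
      · exact (h60 rfl rfl).elim
      all_goals omega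
    all_goals
      exfalso
      have hd35 := hdis (r := 5) (s := 3) (by norm_num) (by norm_num) hP5 hC5 (by norm_num)
      have h1 := hsum {g : G | 3 ∣ orderOf g} (by simp)
        (fun g hg => ⟨fun h' => hA17' g h' hg, fun h' => hd35 g h' hg⟩) ∅ (by simp)
        (fun g hg => hg.elim)
      rcases hcase3 with ⟨rfl, rfl⟩ | ⟨rfl, rfl⟩ | ⟨rfl, rfl⟩ | ⟨rfl, rfl⟩ | ⟨rfl, rfl⟩ <;> omega
  obtain ⟨rfl, rfl, rfl, rfl⟩ := hA
  refine ⟨fun z y hz hc => ?_, ?_⟩
  · have key : ∀ {r c : ℕ} [Fact r.Prime], (∀ P : Sylow r G, Nat.card ↥(P : Subgroup G) = r) →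
        (∀ P : Sylow r G, Nat.card ↥(centralizer ((P : Subgroup G) : Set G)) = r * c) →
        ¬ 2 ∣ r * c → ¬ r ∣ orderOf y := fun hP hC h2 hr =>
      h2 (dvd_of_commute_prime hP hC (orderOf_pow_orderOf_div (orderOf_pos y).ne' hr) hz
        (hc.symm.pow_left _))
    have hd : orderOf y ∣ 2 ^ 4 * 255 := (h ▸ orderOf_dvd_natCard y : orderOf y ∣ 4080)
    have hcop : Nat.Coprime (orderOf y) 255 := by
      rw [show 255 = 3 * (5 * 17) from rfl]
      exact Nat.Coprime.mul_right
        (Nat.Coprime.symm ((show Nat.Prime 3 by norm_num).coprime_iff_not_dvd.mpr (key hP3 hC3 (by norm_num))))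
        (Nat.Coprime.mul_right
          (Nat.Coprime.symm ((show Nat.Prime 5 by norm_num).coprime_iff_not_dvd.mpr (key hP5 hC5 (by norm_num))))
          (Nat.Coprime.symm ((show Nat.Prime 17 by norm_num).coprime_iff_not_dvd.mpr (key hP17 hC17 (by norm_num)))))
    obtain ⟨j, -, hj⟩ := (Nat.dvd_prime_pow Nat.prime_two).mp (hcop.dvd_of_dvd_mul_right hd)
    exact ⟨j, hj⟩
  · have hB : {g : G | orderOf g = 3}.ncard = 136 * (3 - 1) := by
      rw [← Nat.card_coe_set_eq, ← e3]
      exact card_orderOf_eq_prime hP3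
    have hnd : ∀ g ∈ sylowElements 2 G, ∀ r : ℕ, r.Prime → r ≠ 2 → ¬ r ∣ orderOf g := by
      rintro g ⟨-, T, hgT⟩ r hr hr2 hrg
      obtain ⟨k, hk⟩ := T.2.exists_card_eq
      exact hr2 ((Nat.prime_dvd_prime_iff_eq hr Nat.prime_two).mp
        (hr.dvd_of_dvd_pow (hrg.trans (hk ▸ Subgroup.orderOf_dvd_natCard _ hgT))))
    have h1 := hsum {g : G | orderOf g = 3} (by simp)
      (fun g (hg : orderOf g = 3) => by rw [hg]; norm_num) (sylowElements 2 G) (fun h1 => h1.1 rfl)
      (fun g hg => ⟨hnd g hg 17 (by norm_num) (by norm_num), hnd g hg 5 (by norm_num) (by norm_num),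
        fun h3 : orderOf g = 3 => hnd g hg 3 (by norm_num) (by norm_num) h3.symm.dvd⟩)
    omega

end

/-- A simple group of order 4080 is isomorphic to the projective special linear group of dimension 2 over the field with 16 elements. -/
theorem result {G : Type*} [Group G] [Finite G] [IsSimpleGroup G] (h : Nat.card G = 4080) {F : Type*} [Field F] [Fintype F] (hF : Fintype.card F = 16) : Nonempty (G ≃* Matrix.ProjectiveSpecialLinearGroup (Fin 2) F) := by
  have hG := not_comm h
  obtain ⟨hinv, hcnt⟩ := local_data h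
  have hT : ∀ T : Sylow 2 G, Nat.card ↥(T : Subgroup G) = 16 := fun T =>
    (card_sylow_subgroup (a := 4) (m := 255) (by rw [h]; norm_num) (by norm_num) T).trans (by norm_num)
  have hn := card_sylow_mem hG (p := 2) (a := 3) (m := 255) (by rw [h]; norm_num) (by norm_num)
  rw [show ((255 : ℕ).divisors.filter fun n => n % 2 = 1 ∧ 1 < n) = {3, 5, 15, 17, 51, 85, 255} by decide +kernel] at hn
  simp only [Finset.mem_insert, Finset.mem_singleton] at hn
  have hge := card_sylow_ge h (p := 2) (by rw [h]; norm_num)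
  have h2 : 2 ∣ Nat.card G := by rw [h]; norm_num
  have hab : ∀ T : Sylow 2 G, IsMulCommutative ↥(T : Subgroup G) := by
    have hN : ∀ T : Sylow 2 G, Nat.card (Sylow 2 G) * Nat.card ↥(normalizer ((T : Subgroup G) : Set G)) = 4080 :=
      fun T => h ▸ card_sylow_mul_card_normalizer T
    have : Fact (Nat.Prime 5) := ⟨by norm_num⟩
    have : Fact (Nat.Prime 3) := ⟨by norm_num⟩
    have h1 : ∀ T : Sylow 2 G, 1 ≤ (centralInvolutions T).ncard := by
      intro T
      have hnt : Nontrivial ↥(T : Subgroup G) := Finite.one_lt_card_iff_nontrivial.mp (by rw [hT T]; norm_num)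
      have := T.2.center_nontrivial
      obtain ⟨k, hk⟩ := (T.2.to_subgroup (center ↥(T : Subgroup G))).exists_card_eq
      have hk0 : k ≠ 0 := by
        rintro rfl
        rw [pow_zero] at hk
        exact absurd hk (ne_of_gt (Finite.one_lt_card_iff_nontrivial.mpr this))
      obtain ⟨c, hc⟩ := exists_prime_orderOf_dvd_card' (G := ↥(center ↥(T : Subgroup G))) 2
        (hk ▸ dvd_pow_self 2 hk0)
      exact (Set.ncard_pos (Set.toFinite _)).mpr ⟨((c : ↥(T : Subgroup G)) : G),
        by rw [Subgroup.orderOf_coe, Subgroup.orderOf_coe, hc], (c : ↥(T : Subgroup G)).2,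
        fun t ht => congrArg Subtype.val (Subgroup.mem_center_iff.mp c.2 ⟨t, ht⟩)⟩
    by_cases hn17 : Nat.card (Sylow 2 G) = 17
    · -- an element of order five acts on the centre
      intro T
      have h5 : 5 ∣ Nat.card ↥(normalizer ((T : Subgroup G) : Set G)) := by
        have := hN T
        rw [hn17] at this
        exact ⟨48, by omega⟩
      obtain ⟨hc1, hc2⟩ := le_ncard_centralInvolutions hinv (r := 5) (by norm_num) T h5 h2
      rw [← Nat.card_congr ((center ↥(T : Subgroup G)).equivMapOfInjective _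
        (T : Subgroup G).subtype_injective).toEquiv, Nat.ModEq] at hc2
      have hd : Nat.card ↥(center ↥(T : Subgroup G)) ∣ 2 ^ 4 := by
        have := Subgroup.card_subgroup_dvd_card (center ↥(T : Subgroup G))
        rwa [hT T] at this
      obtain ⟨i, hi, he⟩ := (Nat.dvd_prime_pow Nat.prime_two).mp hd
      rw [he] at hc2
      interval_cases i
      · exfalso
        obtain ⟨z, hz2, hzT, hzc⟩ := Set.nonempty_of_ncard_ne_zero (show (centralInvolutions T).ncard ≠ 0 by omega)
        have : (⟨z, hzT⟩ : ↥(T : Subgroup G)) ∈ center ↥(T : Subgroup G) :=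
          Subgroup.mem_center_iff.mpr fun t => Subtype.ext (hzc t t.2)
        rw [Subgroup.card_eq_one.mp (he.trans (pow_zero 2)), Subgroup.mem_bot] at this
        have hz1 : z = 1 := congrArg Subtype.val this
        rw [hz1, orderOf_one] at hz2
        omega
      · norm_num at hc2
      · norm_num at hc2
      · norm_num at hc2
      · have htop : center ↥(T : Subgroup G) = ⊤ :=
          Subgroup.eq_top_of_card_eq _ (by rw [he, hT T]; norm_num)
        exact ⟨⟨fun a b => (Subgroup.mem_center_iff.mp (htop ▸ Subgroup.mem_top b) a)⟩⟩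
    by_contra hcon
    rw [not_forall] at hcon
    obtain ⟨i, hi, hmul⟩ : ∃ i, (∀ T : Sylow 2 G, i ≤ (centralInvolutions T).ncard) ∧
        255 ≤ Nat.card (Sylow 2 G) * i := by
      rcases hn with hn | hn | hn | hn | hn | hn | hn
      · omega
      · omega
      · omega
      · exact absurd hn hn17
      · refine ⟨5, fun T => ?_, by rw [hn]⟩
        have := hN T
        rw [hn] at this
        exact (le_ncard_centralInvolutions hinv (r := 5) (by norm_num) T ⟨16, by omega⟩ h2).1
      · refine ⟨3, fun T => ?_, by rw [hn]⟩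
        have := hN T
        rw [hn] at this
        exact (le_ncard_centralInvolutions hinv (r := 3) (by norm_num) T ⟨16, by omega⟩ h2).1
      · exact ⟨1, h1, by rw [hn]⟩
    have := card_sylow_mul_lt hinv hcon hi
    omega
  exact nonempty_equiv_psl_even_of_counts hinv hG (q := 16) (by decide) (by norm_num) (by rw [h]) hT hab hcnt hge hF

end Cfsg.Agent.S0981
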