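import Cfsg.Statements.S0984

import Cfsg.Agent.SmallGroups.Order2520
import Cfsg.Agent.Invol.IndexTwo
import Cfsg.Agent.Invol.RankOneQuot
import Cfsg.Agent.Cores.Basic

set_option autoImplicit false
set_option linter.style.haveILetI false
set_option linter.unusedSectionVars false
open Cfsg
open scoped Pointwise
open Cfsg.Agent

namespace Cfsg.Agent.S0984


open Cfsg.Agent
open scoped ComplexConjugate Classical

universe v

variable {G : Type v} [Group G] [Finite G]

/-- An involutive element without fixed points on an abelian group inverts it. -/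
theorem inv_of_fixedPointFree {P : Subgroup G} {s : G} (hs : s * s = 1)
    (hsN : s ∈ Subgroup.normalizer (P : Set G))
    (hab : ∀ a ∈ P, ∀ b ∈ P, a * b = b * a)
    (hfix : ∀ y ∈ P, Commute s y → y = 1) : ∀ y ∈ P, s * y * s⁻¹ = y⁻¹ := by
  intro y hy
  have hy' : s * y * s⁻¹ ∈ P := (Subgroup.mem_normalizer_iff.1 hsN y).1 hy
  have hsi : s⁻¹ = s := inv_eq_of_mul_eq_one_right hs
  have h : Commute s (y * (s * y * s⁻¹)) := by
    show s * (y * (s * y * s⁻¹)) = y * (s * y * s⁻¹) * s
    rw [hab y hy _ hy', hsi]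
    calc s * (s * y * s * y) = (s * s) * (y * s * y) := by group
      _ = s * y * s * y * s := by
          rw [hs, one_mul]
          conv_rhs => rw [← hsi]
          rw [show s⁻¹ * y * s⁻¹ * y * s⁻¹ = s⁻¹ * (y * s⁻¹ * y * s⁻¹) by group,
            hab y hy (s * y * s⁻¹) hy' |> fun e => (show y * s⁻¹ * y * s⁻¹ = s⁻¹ * y * s⁻¹ * y by
              rw [hsi] at e ⊢; simpa [mul_assoc] using e)]
          rw [show s⁻¹ * (s⁻¹ * y * s⁻¹ * y) = (s⁻¹ * s⁻¹) * y * s⁻¹ * y by group, hsi, hs, one_mul]
  exact (inv_eq_of_mul_eq_one_right (hfix _ (P.mul_mem hy hy') h)).symm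

theorem card_centralizer_zpowers (g : G) :
    Subgroup.centralizer ((Subgroup.zpowers g : Subgroup G) : Set G) =
      Subgroup.centralizer ({g} : Set G) := by
  rw [Subgroup.zpowers_eq_closure, Subgroup.centralizer_closure]

/-- A subgroup of order four has an element of order four or consists of involutions. -/
theorem four_cases {U : Subgroup G} (hU : Nat.card U = 4) :
    (∃ u ∈ U, orderOf u = 4) ∨ ∀ x ∈ U, x * x = 1 := by
  by_cases h : ∃ u ∈ U, orderOf u = 4
  · exact Or.inl h
  push Not at h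
  refine Or.inr fun x hx => ?_
  have hd : orderOf x ∣ 4 := hU ▸ Subgroup.orderOf_dvd_natCard U hx
  have hle := Nat.le_of_dvd (by norm_num) hd
  have := h x hx
  have hpos := orderOf_pos x
  interval_cases hx' : orderOf x
  · rw [orderOf_eq_one_iff.1 hx', one_mul]
  · rw [← pow_two, ← hx', pow_orderOf_eq_one]
  · omega
  · omega

theorem exists_subgroup_four {N : Subgroup G} (h : 4 ∣ Nat.card N) :
    ∃ U : Subgroup G, U ≤ N ∧ Nat.card U = 4 := by
  haveI := Fact.mk Nat.prime_two
  obtain ⟨K, hK⟩ := Sylow.exists_subgroup_card_pow_prime (G := N) 2 (n := 2) (by simpa using h)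
  refine ⟨K.map N.subtype, Subgroup.map_subtype_le K, ?_⟩
  rw [Subgroup.card_map_of_injective N.subtype_injective, hK]
  norm_num


/-- A simple group of order 2520 is isomorphic to the alternating group of degree 7. -/
theorem result {G : Type*} [Group G] [Finite G] [IsSimpleGroup G] (h : Nat.card G = 2520) : Nonempty (G ≃* alternatingGroup (Fin 7)) := by
  have hG : ¬ IsMulCommutative G := SmallGroups.not_isMulCommutative (by rw [h]; norm_num)
  haveI := Fact.mk (by norm_num : Nat.Prime 5)
  haveI := Fact.mk (by norm_num : Nat.Prime 7)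
  haveI := Fact.mk Nat.prime_three
  haveI := Fact.mk Nat.prime_two
  letI := Fintype.ofFinite G
  -- Sylow subgroups of order five and seven
  have hdata : ∀ (p : ℕ) [Fact p.Prime] (S : Sylow p G), Nat.card S = p → ∃ k c : ℕ,
      (Subgroup.centralizer ((S : Subgroup G) : Set G)).relIndex
        (Subgroup.normalizer ((S : Subgroup G) : Set G)) = k ∧
      Nat.card ↥(Subgroup.centralizer ((S : Subgroup G) : Set G)) = p * c ∧ k ∣ p - 1 ∧ k ≠ 1 ∧
      ¬ p ∣ c ∧ Nat.card (Sylow p G) * (p * c * k) = 2520 ∧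
      Nat.card ↥(Subgroup.normalizer ((S : Subgroup G) : Set G)) = p * c * k := by
    intro p hp S hS
    obtain ⟨hk, hk1⟩ := SmallGroups.relIndex_centralizer_prime hG S hS
    haveI : IsCyclic ↥(S : Subgroup G) := isCyclic_of_prime_card hS
    have hSC : (S : Subgroup G) ≤ Subgroup.centralizer ((S : Subgroup G) : Set G) := fun x hx =>
      Subgroup.mem_centralizer_iff.2 fun y hy =>
        congrArg Subtype.val (IsCyclic.commGroup.mul_comm (⟨y, hy⟩ : ↥(S : Subgroup G)) ⟨x, hx⟩)
    obtain ⟨c, hc⟩ : p ∣ Nat.card ↥(Subgroup.centralizer ((S : Subgroup G) : Set G)) :=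
      (dvd_of_eq hS.symm).trans (Subgroup.card_dvd_of_le hSC)
    have hN : Nat.card ↥(Subgroup.normalizer ((S : Subgroup G) : Set G)) = p * c *
        (Subgroup.centralizer ((S : Subgroup G) : Set G)).relIndex
          (Subgroup.normalizer ((S : Subgroup G) : Set G)) := by
      rw [← hc, ← Subgroup.relIndex_bot_left, ← Subgroup.relIndex_bot_left,
        Subgroup.relIndex_mul_relIndex _ _ _ bot_le (Subgroup.centralizer_le_normalizer _)]
    refine ⟨_, c, rfl, hc, hk, hk1, fun hd => ?_, ?_, hN⟩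
    · refine S.not_dvd_index (Nat.dvd_of_mul_dvd_mul_left hp.out.pos (?_ : p * p ∣ p * _))
      have e := (S : Subgroup G).card_mul_index
      rw [hS] at e
      rw [e]
      exact (mul_dvd_mul_left p hd).trans (hc ▸ Subgroup.card_subgroup_dvd_card _)
    · rw [← h, ← SmallGroups.card_sylow_mul_card_normalizer S, hN]
  have hcard5 : ∀ S : Sylow 5 G, Nat.card S = 5 := fun S => by
    have := SmallGroups.card_sylow_subgroup (a := 1) (m := 504) (h.trans (by norm_num)) (by norm_num) S
    simpa using this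
  have hcard7 : ∀ S : Sylow 7 G, Nat.card S = 7 := fun S => by
    have := SmallGroups.card_sylow_subgroup (a := 1) (m := 360) (h.trans (by norm_num)) (by norm_num) S
    simpa using this
  have h5 : ∀ S : Sylow 5 G,
      Nat.card ↥(Subgroup.centralizer ((S : Subgroup G) : Set G)) = 5 ∧
      (Subgroup.centralizer ((S : Subgroup G) : Set G)).relIndex
        (Subgroup.normalizer ((S : Subgroup G) : Set G)) = 4 ∧
      Nat.card (Sylow 5 G) = 126 ∧
      Nat.card ↥(Subgroup.normalizer ((S : Subgroup G) : Set G)) = 20 := by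
    intro S
    obtain ⟨k, c, hk, hC, hkd, hk1, hpc, hn, hN⟩ := hdata 5 S (hcard5 S)
    have hk4 : k = 2 ∨ k = 4 := by
      have := Nat.le_of_dvd (by norm_num) hkd
      interval_cases k <;> omega
    have hc := SmallGroups.O2520.centralizer_eq h S (hcard5 S) hC hpc hk
      (Or.inl ⟨rfl, by rcases hk4 with rfl | rfl <;> simp⟩)
    subst hc
    have hm := SmallGroups.card_sylow_mem (G := G) hG (p := 5) (a := 0) (m := 504)
      (by rw [h]; norm_num) (by norm_num)
    rw [show (504 : ℕ).divisors.filter (fun n => n % 5 = 1 ∧ 1 < n) = {6, 21, 36, 56, 126} by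
      decide +kernel] at hm
    simp only [Finset.mem_insert, Finset.mem_singleton] at hm
    rw [hC, hk, hN]
    rcases hk4 with rfl | rfl <;> omega
  have h7 : ∀ S : Sylow 7 G,
      Nat.card ↥(Subgroup.centralizer ((S : Subgroup G) : Set G)) = 7 ∧
      (Subgroup.centralizer ((S : Subgroup G) : Set G)).relIndex
        (Subgroup.normalizer ((S : Subgroup G) : Set G)) = 3 := by
    intro S
    obtain ⟨k, c, hk, hC, hkd, hk1, hpc, hn, hN⟩ := hdata 7 S (hcard7 S)
    have hk6 : k = 2 ∨ k = 3 ∨ k = 6 := by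
      have := Nat.le_of_dvd (by norm_num) hkd
      interval_cases k <;> omega
    have hc := SmallGroups.O2520.centralizer_eq h S (hcard7 S) hC hpc hk
      (Or.inr ⟨rfl, by rcases hk6 with rfl | rfl | rfl <;> simp⟩)
    subst hc
    have hm := SmallGroups.card_sylow_mem (G := G) hG (p := 7) (a := 0) (m := 360)
      (by rw [h]; norm_num) (by norm_num)
    rw [show (360 : ℕ).divisors.filter (fun n => n % 7 = 1 ∧ 1 < n) = {8, 15, 36, 120} by
      decide +kernel] at hm
    simp only [Finset.mem_insert, Finset.mem_singleton] at hm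
    rw [hC, hk]
    rcases hk6 with rfl | rfl | rfl <;> omega
  -- elements of order five and seven commute only with their powers
  have hself : ∀ g x : G, orderOf g = 5 ∨ orderOf g = 7 → Commute g x → orderOf x ∣ orderOf g := by
    intro g x hg hgx
    have hx : x ∈ Subgroup.centralizer ((Subgroup.zpowers g : Subgroup G) : Set G) := by
      rw [card_centralizer_zpowers, Subgroup.mem_centralizer_singleton_iff]
      exact hgx.symm.eq
    have hsz : ∀ p : ℕ, p.Prime → orderOf g = p → ¬ p ∣ (Subgroup.zpowers g).index →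
        (∀ S : Sylow p G, Nat.card ↥(Subgroup.centralizer ((S : Subgroup G) : Set G)) = p) →
        orderOf x ∣ p := by
      intro p hp hgp hidx hall
      haveI := Fact.mk hp
      let Q : Sylow p G := IsPGroup.toSylow (P := Subgroup.zpowers g)
        (IsPGroup.of_card (n := 1) (by rw [Nat.card_zpowers, hgp, pow_one])) hidx
      exact hall Q ▸ Subgroup.orderOf_dvd_natCard _ (show x ∈ Subgroup.centralizer
        ((Q : Subgroup G) : Set G) from hx)
    have hidx : (Subgroup.zpowers g).index * orderOf g = 2520 := by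
      rw [← Nat.card_zpowers, Subgroup.index_mul_card, h]
    rcases hg with hg | hg <;> rw [hg] at hidx ⊢
    · exact hsz 5 (by norm_num) hg (by omega) fun S => (h5 S).1
    · exact hsz 7 (by norm_num) hg (by omega) fun S => (h7 S).1
  -- the character
  obtain ⟨R₀⟩ := (inferInstance : Nonempty (Sylow 5 G))
  obtain ⟨P₇⟩ := (inferInstance : Nonempty (Sylow 7 G))
  obtain ⟨χ, d, hd46, hd, hreal⟩ := SmallGroups.O2520.exists_real_char h R₀ (hcard5 _) (h5 _).1
    (h5 _).2.1 P₇ (hcard7 _) (h7 _).1 (h7 _).2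
  obtain ⟨n, ρ, -, hρ⟩ := id χ.2
  have hne1 : (χ : G → ℂ) ≠ fun _ => 1 := fun e => by
    have : (1 : ℕ) = d := Nat.cast_injective (R := ℂ) (by rw [Nat.cast_one, ← hd, e])
    omega
  have hsum0 : ∑ g : G, ρ.character g = 0 := by
    rw [hρ]; exact Char.irr_sum_eq_zero χ.2 hne1
  have hreal2 : ∀ g : G, (∃ j, orderOf g = 2 ^ j) → conj ((χ : G → ℂ) g) = (χ : G → ℂ) g := by
    rintro g ⟨j, hj⟩
    exact hreal g fun h7 => by
      rw [hj] at h7
      have := (Nat.prime_seven).dvd_of_dvd_pow h7
      norm_num at this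
  -- Frobenius groups of order twenty
  have hF : ∀ S : Sylow 5 G, ∃ u : G, orderOf u = 4 ∧
      u ∈ Subgroup.normalizer ((S : Subgroup G) : Set G) ∧
      ∀ y ∈ (S : Subgroup G), u ^ 2 * y * (u ^ 2)⁻¹ = y⁻¹ := by
    intro S
    haveI : IsCyclic ↥(S : Subgroup G) := isCyclic_of_prime_card (hcard5 S)
    have hab : ∀ a ∈ (S : Subgroup G), ∀ b ∈ (S : Subgroup G), a * b = b * a := fun a ha b hb =>
      congrArg Subtype.val (IsCyclic.commGroup.mul_comm (⟨a, ha⟩ : ↥(S : Subgroup G)) ⟨b, hb⟩)
    have hfix : ∀ s : G, orderOf s = 2 → ∀ y ∈ (S : Subgroup G), Commute s y → y = 1 := by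
      intro s hs y hy hsy
      by_contra hne
      have hy5 : orderOf y = 5 := ((Nat.dvd_prime (by norm_num)).1
        (hcard5 S ▸ Subgroup.orderOf_dvd_natCard _ hy)).resolve_left (by simpa using hne)
      have := hself y s (Or.inl hy5) hsy.symm
      rw [hy5, hs] at this
      norm_num at this
    have hinv : ∀ s : G, orderOf s = 2 → s ∈ Subgroup.normalizer ((S : Subgroup G) : Set G) →
        ∀ y ∈ (S : Subgroup G), s * y * s⁻¹ = y⁻¹ := fun s hs hsN =>
      inv_of_fixedPointFree (by rw [← pow_two, ← hs, pow_orderOf_eq_one]) hsN hab (hfix s hs)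
    obtain ⟨U, hUN, hU⟩ := exists_subgroup_four (N := Subgroup.normalizer ((S : Subgroup G) : Set G))
      (by rw [(h5 S).2.2.2]; norm_num)
    rcases four_cases hU with ⟨u, huU, hu⟩ | hexp
    · refine ⟨u, hu, hUN huU, hinv _ ?_ (Subgroup.pow_mem _ (hUN huU) 2)⟩
      rw [orderOf_pow' u two_ne_zero, hu]; rfl
    exfalso
    have hord : ∀ x ∈ U, x ≠ 1 → orderOf x = 2 := fun x hx hx1 =>
      orderOf_eq_prime (by rw [pow_two]; exact hexp x hx) hx1
    haveI : Nontrivial U := by rw [← Finite.one_lt_card_iff_nontrivial, hU]; norm_num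
    obtain ⟨⟨s, hs⟩, hs1⟩ := exists_ne (1 : U)
    have hs1' : s ≠ 1 := fun e => hs1 (Subtype.ext e)
    obtain ⟨s', hs', hs's⟩ : ∃ s' ∈ U, s' ∉ Subgroup.zpowers s := by
      by_contra hcon
      push Not at hcon
      have h1 := Subgroup.card_le_of_le (show U ≤ Subgroup.zpowers s from hcon)
      rw [hU, Nat.card_zpowers, hord s hs hs1'] at h1
      omega
    have hs'1 : s' ≠ 1 := fun e => hs's (e ▸ Subgroup.one_mem _)
    have hp1 : s * s' ≠ 1 := fun e => hs's (by
      rw [eq_inv_of_mul_eq_one_right e]; exact Subgroup.inv_mem _ (Subgroup.mem_zpowers s))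
    obtain ⟨y, hy, hy1⟩ := (S : Subgroup G).bot_or_exists_ne_one.resolve_left fun e => by
      have h1 := hcard5 S; rw [e, Subgroup.card_bot] at h1; omega
    refine hy1 (hfix _ (hord _ (U.mul_mem hs hs') hp1) y hy (?_ : s * s' * y = y * (s * s')))
    have e1 := hinv s' (hord s' hs' hs'1) (hUN hs') y hy
    have e2 := hinv s (hord s hs hs1') (hUN hs) _ ((S : Subgroup G).inv_mem hy)
    rw [inv_inv] at e2
    rw [← mul_inv_eq_iff_eq_mul]
    calc s * s' * y * (s * s')⁻¹ = s * (s' * y * s'⁻¹) * s⁻¹ := by group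
      _ = y := by rw [e1, e2]
  obtain ⟨u₅, hu₅, hu₅N, hu₅inv⟩ := hF R₀
  have hne5 : (R₀ : Subgroup G) ≠ ⊥ := fun e => by
    have h1 := hcard5 R₀; rw [e, Subgroup.card_bot] at h1; omega
  obtain ⟨hd6, -, hχz, -, -⟩ := SmallGroups.O2520.frobenius_four hG ρ hρ hd hd46 (R₀ : Subgroup G)
    hne5 (by rw [hcard5]; norm_num) hu₅ hu₅N hu₅inv (hreal2 _ ⟨2, hu₅⟩)
  subst hd6
  clear hd46
  -- one class of involutions
  obtain ⟨z₀, hz₀def⟩ : ∃ z₀, z₀ = u₅ ^ 2 := ⟨_, rfl⟩
  have hz₀ : orderOf z₀ = 2 := by rw [hz₀def, orderOf_pow' u₅ two_ne_zero, hu₅]; rfl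
  have hno : ∀ H : Subgroup G, H.index ≠ 2 := by
    intro H hH
    haveI := Subgroup.normal_of_index_eq_two hH
    rcases (inferInstance : H.Normal).eq_bot_or_eq_top with e | e
    · rw [e, Subgroup.index_bot, h] at hH; omega
    · rw [e, Subgroup.index_top] at hH; omega
  have hcard2 : ∀ T : Sylow 2 G, Nat.card T = 8 := fun T => by
    have := SmallGroups.card_sylow_subgroup (a := 3) (m := 315) (h.trans (by norm_num)) (by norm_num) T
    simpa using this
  have hclass : ∀ x : G, orderOf x = 2 → IsConj z₀ x := by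
    intro x hx
    obtain ⟨T, hT⟩ := (IsPGroup.of_card (p := 2) (n := 2)
      (by rw [Nat.card_zpowers, hu₅]; norm_num) : IsPGroup 2 ↥(Subgroup.zpowers u₅)).exists_le_sylow
    obtain ⟨g, hg⟩ := Invol.exists_conj_mem_of_no_index_two hno T (Subgroup.zpowers u₅)
      (by rw [Nat.card_zpowers, hu₅, hcard2]) hx
    have ho : orderOf (g⁻¹ * x * g) = 2 := by
      rw [show g⁻¹ * x * g = MulAut.conj g⁻¹ x by simp, MulEquiv.orderOf_eq, hx]
    obtain ⟨j, hj'⟩ := mem_powers_iff_mem_zpowers.2 hg
    have hj : u₅ ^ j = g⁻¹ * x * g := hj'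
    rw [← pow_mod_orderOf, hu₅] at hj
    have hj4 : j % 4 < 4 := Nat.mod_lt _ (by norm_num)
    have hval : g⁻¹ * x * g = z₀ := by
      rw [hz₀def, ← hj]
      rw [← hj] at ho
      interval_cases hjc : j % 4
      · rw [pow_zero, orderOf_one] at ho; omega
      · rw [pow_one, hu₅] at ho; omega
      · rfl
      · rw [orderOf_pow' u₅ (by norm_num), hu₅] at ho; norm_num at ho
    exact isConj_iff.2 ⟨g, by rw [← hval]; group⟩
  have hval2 : ∀ x : G, orderOf x = 2 → (χ : G → ℂ) x = 2 := by
    intro x hx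
    obtain ⟨g, hg⟩ := isConj_iff.1 (hclass x hx)
    rw [← hg, Char.irr_isClassFunction χ.2, hz₀def, hχz]
  -- centralisers of involutions
  obtain ⟨I, hI⟩ : ∃ I : Finset G, I = Finset.univ.filter fun x : G => orderOf x = 2 := ⟨_, rfl⟩
  have hIC : ∀ s : G, orderOf s = 2 →
      Nat.card ↥(Subgroup.centralizer ({s} : Set G)) * I.card = 2520 := by
    intro s hs
    have h1 := MulAction.index_stabilizer (ConjAct G) s
    have e : MulAction.orbit (ConjAct G) s = (I : Set G) := by
      ext t
      rw [hI, ConjAct.mem_orbit_conjAct, Finset.coe_filter]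
      simp only [Finset.mem_univ, true_and, Set.mem_ofPred_eq]
      constructor
      · intro hts
        obtain ⟨c, hc⟩ := isConj_iff.1 hts.symm
        rw [← hc, ← MulAut.conj_apply, MulEquiv.orderOf_eq, hs]
      · exact fun ht => ((hclass s hs).symm.trans (hclass t ht)).symm
    rw [e, Set.ncard_coe_finset, ConjAct.stabilizer_eq_centralizer] at h1
    rw [← h1, ← h, ← Subgroup.card_mul_index (Subgroup.centralizer ({s} : Set G))]
    rfl
  have hIbig : 2520 ≤ I.card * I.card := by
    choose u hu huN huinv using hF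
    let A := Σ S : Sylow 5 G, (↥(S : Subgroup G) × {y : ↥(S : Subgroup G) // y ≠ 1})
    have hmemI : ∀ (S : Sylow 5 G) (x : G), x ∈ (S : Subgroup G) → u S ^ 2 * x ∈ I := by
      intro S x hx
      have ho : orderOf (u S ^ 2) = 2 := by rw [orderOf_pow' _ two_ne_zero, hu S]; rfl
      simp only [hI, Finset.mem_filter, Finset.mem_univ, true_and]
      refine orderOf_eq_prime ?_ fun e => ?_
      · rw [pow_two (u S ^ 2 * x)]
        calc u S ^ 2 * x * (u S ^ 2 * x)
            = (u S ^ 2 * x * (u S ^ 2)⁻¹) * (u S ^ 2 * u S ^ 2) * x := by group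
          _ = 1 := by
              rw [huinv S x hx, ← pow_two (u S ^ 2),
                show (u S ^ 2) ^ 2 = 1 from orderOf_dvd_iff_pow_eq_one.1 (dvd_of_eq ho)]
              group
      · have hmem : u S ^ 2 ∈ (S : Subgroup G) := by
          rw [eq_inv_of_mul_eq_one_left e]; exact Subgroup.inv_mem _ hx
        have := hcard5 S ▸ Subgroup.orderOf_dvd_natCard _ hmem
        rw [ho] at this
        norm_num at this
    let F : A → {x // x ∈ I} × {x // x ∈ I} := fun a =>
      (⟨u a.1 ^ 2 * a.2.1, hmemI a.1 _ a.2.1.2⟩, ⟨u a.1 ^ 2 * (a.2.1 * a.2.2.1 : G),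
        hmemI a.1 _ (Subgroup.mul_mem _ a.2.1.2 a.2.2.1.2)⟩)
    have hFinj : Function.Injective F := by
      rintro ⟨S, ⟨x, hx⟩, ⟨⟨y, hy⟩, hy1⟩⟩ ⟨S', ⟨x', hx'⟩, ⟨⟨y', hy'⟩, hy1'⟩⟩ he
      simp only [F, Prod.mk.injEq, Subtype.mk.injEq] at he
      obtain ⟨e1, e2⟩ := he
      rw [← mul_assoc, ← mul_assoc, e1, mul_left_cancel_iff] at e2
      subst e2
      have hne : y ≠ 1 := fun e => hy1 (Subtype.ext e)
      have hz : ∀ Q : Sylow 5 G, y ∈ (Q : Subgroup G) → (Q : Subgroup G) = Subgroup.zpowers y := by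
        intro Q hQ
        refine (Subgroup.eq_of_le_of_card_ge (Subgroup.zpowers_le.2 hQ) ?_).symm
        have hyo : orderOf y = 5 := ((Nat.dvd_prime (by norm_num : Nat.Prime 5)).1
          (show orderOf y ∣ 5 from hcard5 Q ▸ Subgroup.orderOf_dvd_natCard _ hQ)).resolve_left
          (by simpa using hne)
        rw [hcard5, Nat.card_zpowers, hyo]
      obtain rfl : S = S' := Sylow.ext ((hz S hy).trans (hz S' hy').symm)
      obtain rfl : x = x' := mul_left_cancel e1
      rfl
    have hle := Nat.card_le_card_of_injective F hFinj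
    have hA : Nat.card A = 126 * (5 * 4) := by
      rw [Nat.card_sigma]
      have hc : ∀ S : Sylow 5 G,
          Nat.card (↥(S : Subgroup G) × {y : ↥(S : Subgroup G) // y ≠ 1}) = 5 * 4 := by
        intro S
        rw [Nat.card_prod, hcard5]
        congr 1
        rw [Nat.card_eq_fintype_card, Fintype.card_subtype_compl, Fintype.card_subtype_eq,
          ← Nat.card_eq_fintype_card, hcard5]
      rw [Finset.sum_congr rfl fun S _ => hc S, Finset.sum_const, Finset.card_univ,
        ← Nat.card_eq_fintype_card, (h5 R₀).2.2.1, smul_eq_mul]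
    rw [hA, Nat.card_prod, Nat.card_eq_finsetCard] at hle
    exact hle
  have hC9 : ∀ s : G, orderOf s = 2 → ¬ 9 ∣ Nat.card ↥(Subgroup.centralizer ({s} : Set G)) := by
    intro s hs h9
    obtain ⟨g, hg, hg8⟩ := SmallGroups.exists_involution_dvd_centralizer (G := G) (a := 3)
      (by norm_num) (by rw [h]; norm_num)
    have e1 := hIC g hg
    have e2 := hIC s hs
    have heq : Nat.card ↥(Subgroup.centralizer ({g} : Set G)) =
        Nat.card ↥(Subgroup.centralizer ({s} : Set G)) := by
      have hpos : 0 < I.card := Finset.card_pos.2 ⟨s, by simp [hI, hs]⟩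
      exact Nat.eq_of_mul_eq_mul_right hpos (e1.trans e2.symm)
    rw [heq] at hg8
    have h72 : 72 ∣ Nat.card ↥(Subgroup.centralizer ({s} : Set G)) :=
      Nat.Coprime.mul_dvd_of_dvd_of_dvd (by norm_num : Nat.Coprime (2 ^ 3) 9) hg8 h9
    have hge := Nat.le_of_dvd Nat.card_pos h72
    nlinarith
  -- the normaliser of a Sylow three-subgroup
  obtain ⟨P⟩ := (inferInstance : Nonempty (Sylow 3 G))
  have hP : Nat.card P = 9 := by
    have := SmallGroups.card_sylow_subgroup (a := 2) (m := 280) (h.trans (by norm_num)) (by norm_num) P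
    simpa using this
  have hab : ∀ a ∈ (P : Subgroup G), ∀ b ∈ (P : Subgroup G), a * b = b * a := fun a ha b hb =>
    congrArg Subtype.val ((IsPGroup.commutative_of_card_eq_prime_sq (p := 3) (G := ↥(P : Subgroup G))
      (by rw [hP]; norm_num)) ⟨a, ha⟩ ⟨b, hb⟩)
  haveI hPc : IsMulCommutative ↥(P : Subgroup G) :=
    ⟨⟨fun a b => Subtype.ext (hab a a.2 b b.2)⟩⟩
  obtain ⟨N, hNdef⟩ : ∃ N, N = Subgroup.normalizer ((P : Subgroup G) : Set G) := ⟨_, rfl⟩
  have hPN : (P : Subgroup G) ≤ N := hNdef ▸ Subgroup.le_normalizer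
  have hN36 : Nat.card N = 36 := by
    have hnot : ∀ r : ℕ, r = 5 ∨ r = 7 → ¬ r ∣ Nat.card N := by
      intro r hr hd
      haveI : Fact r.Prime := ⟨by rcases hr with rfl | rfl <;> norm_num⟩
      obtain ⟨y, hy⟩ := exists_prime_orderOf_dvd_card' (G := N) r hd
      have hy' : orderOf (y : G) = r := by rw [Subgroup.orderOf_coe, hy]
      have hmod := SmallGroups.card_modEq_one_of_fixedPointFree hy' (D := (P : Subgroup G))
        (hNdef ▸ y.2) fun x hx hc => by
          have h1 := hself y x (by rw [hy']; exact hr) hc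
          rw [hy'] at h1
          have h2 := hP ▸ Subgroup.orderOf_dvd_natCard _ hx
          have h3 := Nat.dvd_gcd h1 h2
          rcases hr with rfl | rfl <;> norm_num at h3 <;> simpa using h3
      rw [hP] at hmod
      rcases hr with rfl | rfl <;> exact absurd hmod (by decide)
    have hm := SmallGroups.card_sylow_mem (G := G) hG (p := 3) (a := 1) (m := 280)
      (by rw [h]; norm_num) (by norm_num)
    rw [show (280 : ℕ).divisors.filter (fun n => n % 3 = 1 ∧ 1 < n) = {4, 7, 10, 28, 40, 70, 280} by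
      decide +kernel] at hm
    simp only [Finset.mem_insert, Finset.mem_singleton] at hm
    have hnN := SmallGroups.card_sylow_mul_card_normalizer P
    rw [h, ← hNdef] at hnN
    have h5' := hnot 5 (Or.inl rfl)
    have h7' := hnot 7 (Or.inr rfl)
    have hne9 : Nat.card N ≠ 9 := fun e => by
      refine SmallGroups.not_normalizer_le_centralizer hG (p := 3) (by rw [h]; norm_num) P ?_
      rw [← hNdef, ← Subgroup.eq_of_le_of_card_ge hPN (by rw [hP, e])]
      exact P.le_centralizer
    rcases hm with e | e | e | e | e | e | e <;> rw [e] at hnN <;> omega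
  -- fixed points in `P`
  have hCne : ∀ s : G, orderOf s = 2 → ∃ y ∈ (P : Subgroup G), ¬ Commute s y := by
    intro s hs
    by_contra hcon
    push Not at hcon
    refine hC9 s hs ((dvd_of_eq hP.symm).trans (Subgroup.card_dvd_of_le fun y hy => ?_))
    rw [Subgroup.mem_centralizer_singleton_iff]
    exact (hcon y hy).symm.eq
  have hinvP : ∀ s : G, orderOf s = 2 → s ∈ N →
      ((P : Subgroup G) ⊓ Subgroup.centralizer ({s} : Set G)) = ⊥ →
      ∀ y ∈ (P : Subgroup G), s * y * s⁻¹ = y⁻¹ := fun s hs hsN hbot =>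
    inv_of_fixedPointFree (by rw [← pow_two, ← hs, pow_orderOf_eq_one]) (hNdef ▸ hsN) hab
      fun y hy hsy => Subgroup.mem_bot.1 (hbot ▸ Subgroup.mem_inf.2
        ⟨hy, Subgroup.mem_centralizer_singleton_iff.2 hsy.symm.eq⟩)
  have hgenN : ∀ U K : Subgroup G, U ≤ N → Nat.card U = 4 → (P : Subgroup G) ≤ K → U ≤ K → N ≤ K := by
    intro U K hUN hU hPK hUK
    have h9 : 9 ∣ Nat.card ↥(N ⊓ K) := hP ▸ Subgroup.card_dvd_of_le (le_inf hPN hPK)
    have h4 : 4 ∣ Nat.card ↥(N ⊓ K) := hU ▸ Subgroup.card_dvd_of_le (le_inf hUN hUK)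
    have h36 := Nat.Coprime.mul_dvd_of_dvd_of_dvd (by norm_num : Nat.Coprime 9 4) h9 h4
    rw [← Subgroup.eq_of_le_of_card_ge (inf_le_left : N ⊓ K ≤ N)
      (hN36 ▸ Nat.le_of_dvd Nat.card_pos h36)]
    exact inf_le_right
  obtain ⟨U, hUN, hU⟩ := exists_subgroup_four (N := N) (by rw [hN36]; norm_num)
  obtain ⟨u, huN, hu, huinv⟩ : ∃ u : G, u ∈ N ∧ orderOf u = 4 ∧
      ∀ y ∈ (P : Subgroup G), u ^ 2 * y * (u ^ 2)⁻¹ = y⁻¹ := by
    rcases four_cases hU with ⟨u, huU, hu⟩ | hexp
    · refine ⟨u, hUN huU, hu, ?_⟩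
      obtain ⟨z, hz⟩ : ∃ z, z = u ^ 2 := ⟨_, rfl⟩
      rw [← hz]
      have ho : orderOf z = 2 := by rw [hz, orderOf_pow' u two_ne_zero, hu]; rfl
      have hzN : z ∈ Subgroup.normalizer ((P : Subgroup G) : Set G) :=
        hz ▸ hNdef ▸ Subgroup.pow_mem _ (hUN huU) 2
      obtain ⟨y₀, hy₀, hy₀z⟩ := hCne z ho
      obtain ⟨b, hb, hbne, hbinv⟩ :
          ∃ b ∈ (P : Subgroup G), b ≠ 1 ∧ z * b * z⁻¹ = b⁻¹ := by
        have hy₁ : z * y₀ * z⁻¹ ∈ (P : Subgroup G) :=
          (Subgroup.mem_normalizer_iff.1 hzN _).1 hy₀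
        have hy₀i := (P : Subgroup G).inv_mem hy₀
        refine ⟨y₀⁻¹ * (z * y₀ * z⁻¹), Subgroup.mul_mem _ hy₀i hy₁, fun e => ?_, ?_⟩
        · refine hy₀z (show z * y₀ = y₀ * z from ?_)
          rw [← mul_inv_eq_iff_eq_mul]
          exact (inv_mul_eq_one.1 e).symm
        · have hzz : z * z = 1 := by rw [← pow_two, ← ho, pow_orderOf_eq_one]
          calc z * (y₀⁻¹ * (z * y₀ * z⁻¹)) * z⁻¹
              = z * y₀⁻¹ * z⁻¹ * (z * z * y₀ * (z * z)⁻¹) := by group
            _ = z * y₀⁻¹ * z⁻¹ * y₀ := by rw [hzz]; group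
            _ = (y₀⁻¹ * (z * y₀ * z⁻¹))⁻¹ := by group
      let K : Subgroup G :=
        { carrier := {y | y ∈ (P : Subgroup G) ∧ z * y * z⁻¹ = y⁻¹}
          one_mem' := ⟨Subgroup.one_mem _, by simp⟩
          mul_mem' := fun {a c} ha hc => ⟨Subgroup.mul_mem _ ha.1 hc.1, by
            calc z * (a * c) * z⁻¹ = (z * a * z⁻¹) * (z * c * z⁻¹) := by group
              _ = (a * c)⁻¹ := by rw [ha.2, hc.2, ← mul_inv_rev, hab c hc.1 a ha.1]⟩
          inv_mem' := fun {a} ha => ⟨Subgroup.inv_mem _ ha.1, by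
            calc z * a⁻¹ * z⁻¹ = (z * a * z⁻¹)⁻¹ := by group
              _ = a⁻¹⁻¹ := by rw [ha.2]⟩ }
      have hbK : b ∈ K := ⟨hb, hbinv⟩
      have hcK : u * b * u⁻¹ ∈ K :=
        ⟨(Subgroup.mem_normalizer_iff.1 (hNdef ▸ hUN huU) _).1 hb, by
          rw [hz]
          calc u ^ 2 * (u * b * u⁻¹) * (u ^ 2)⁻¹ = u * (u ^ 2 * b * (u ^ 2)⁻¹) * u⁻¹ := by group
            _ = (u * b * u⁻¹)⁻¹ := by rw [← hz, hbinv]; group⟩
      have hKP : K ≤ (P : Subgroup G) := fun y hy => hy.1
      obtain ⟨i, hi2, hi⟩ := (Nat.dvd_prime_pow Nat.prime_three).1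
        (show Nat.card K ∣ 3 ^ 2 from (Subgroup.card_dvd_of_le hKP).trans (by rw [hP]; norm_num))
      interval_cases i
      · have := Subgroup.eq_bot_of_card_eq K (by simpa using hi)
        exact absurd (Subgroup.mem_bot.1 (this ▸ hbK)) hbne
      · exfalso
        have hzb : Subgroup.zpowers b = K := by
          refine Subgroup.eq_of_le_of_card_ge (Subgroup.zpowers_le.2 hbK) ?_
          rw [hi, pow_one, Nat.card_zpowers]
          exact Nat.le_of_dvd (orderOf_pos b) (by
            rcases (Nat.dvd_prime Nat.prime_three).1 (show orderOf b ∣ 3 by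
              have hbd := Subgroup.orderOf_dvd_natCard K hbK
              rwa [hi, pow_one] at hbd) with e | e
            · exact absurd (orderOf_eq_one_iff.1 e) hbne
            · rw [e])
        have hob : orderOf b = 3 := by
          rw [← Nat.card_zpowers, hzb, hi, pow_one]
        obtain ⟨j, hj'⟩ := mem_powers_iff_mem_zpowers.2 (hzb ▸ hcK : u * b * u⁻¹ ∈ Subgroup.zpowers b)
        have hj : b ^ j = u * b * u⁻¹ := hj'
        have h2 : z * b * z⁻¹ = b ^ (j * j) := by
          rw [hz, pow_two]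
          calc u * u * b * (u * u)⁻¹ = u * (u * b * u⁻¹) * u⁻¹ := by group
            _ = (u * b * u⁻¹) ^ j := by
              conv_lhs => rw [← hj]
              rw [conj_pow]
            _ = b ^ (j * j) := by rw [← hj, pow_mul]
        rw [hbinv] at h2
        have h3 : b ^ (j * j + 1) = 1 := by rw [pow_succ, ← h2, inv_mul_cancel]
        have h4 : (j * j + 1) % 3 = 0 :=
          Nat.mod_eq_zero_of_dvd (hob ▸ orderOf_dvd_of_pow_eq_one h3)
        rw [Nat.add_mod, Nat.mul_mod] at h4
        have : j % 3 < 3 := Nat.mod_lt _ (by norm_num)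
        interval_cases hj3 : j % 3 <;> simp at h4
      · have hKeq : K = (P : Subgroup G) :=
          Subgroup.eq_of_le_of_card_ge hKP (by rw [hi, hP]; norm_num)
        exact fun y hy => ((hKeq ▸ hy : y ∈ K)).2
    exfalso
    have hord : ∀ x ∈ U, x ≠ 1 → orderOf x = 2 := fun x hx hx1 =>
      orderOf_eq_prime (by rw [pow_two]; exact hexp x hx) hx1
    have hcomm : ∀ x ∈ U, ∀ y ∈ U, x * y = y * x := by
      intro x hx y hy
      have e1 := hexp _ (U.mul_mem hx hy)
      calc x * y = (x * y) * (x * y) * (y⁻¹ * x⁻¹) := by group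
        _ = y⁻¹ * x⁻¹ := by rw [e1, one_mul]
        _ = y * x := by
          rw [inv_eq_of_mul_eq_one_right (hexp x hx), inv_eq_of_mul_eq_one_right (hexp y hy)]
    -- two distinct involutions with fixed points
    have htwo : ∀ s ∈ U, ∀ s' ∈ U, s ≠ 1 → s' ≠ 1 → s ≠ s' →
        ((P : Subgroup G) ⊓ Subgroup.centralizer ({s} : Set G)) ≠ ⊥ →
        ((P : Subgroup G) ⊓ Subgroup.centralizer ({s'} : Set G)) ≠ ⊥ → False := by
      intro s hs s' hs' hs1 hs'1 hne hA hA'
      have hcardA : ∀ t ∈ U, t ≠ 1 → ((P : Subgroup G) ⊓ Subgroup.centralizer ({t} : Set G)) ≠ ⊥ →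
          Nat.card ↥((P : Subgroup G) ⊓ Subgroup.centralizer ({t} : Set G)) = 3 := by
        intro t ht ht1 hne'
        obtain ⟨i, hi2, hi⟩ := (Nat.dvd_prime_pow Nat.prime_three).1
          (show Nat.card ↥((P : Subgroup G) ⊓ Subgroup.centralizer ({t} : Set G)) ∣ 3 ^ 2 from
            (Subgroup.card_dvd_of_le inf_le_left).trans (by rw [hP]; norm_num))
        interval_cases i
        · exact absurd (Subgroup.eq_bot_of_card_eq _ (by simpa using hi)) hne'
        · simpa using hi
        · refine absurd ?_ (hC9 t (hord t ht ht1))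
          have h9 : 9 = Nat.card ↥((P : Subgroup G) ⊓ Subgroup.centralizer ({t} : Set G)) := by
            rw [hi]; norm_num
          exact h9 ▸ Subgroup.card_dvd_of_le inf_le_right
      obtain ⟨A, hAdef⟩ : ∃ A, A = (P : Subgroup G) ⊓ Subgroup.centralizer ({s} : Set G) := ⟨_, rfl⟩
      obtain ⟨A', hA'def⟩ : ∃ A', A' = (P : Subgroup G) ⊓ Subgroup.centralizer ({s'} : Set G) :=
        ⟨_, rfl⟩
      have hA3 : Nat.card A = 3 := hAdef ▸ hcardA s hs hs1 hA
      have hA'3 : Nat.card A' = 3 := hA'def ▸ hcardA s' hs' hs'1 hA'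
      obtain ⟨a, haA, ha1⟩ := A.bot_or_exists_ne_one.resolve_left fun e => by
        rw [e, Subgroup.card_bot] at hA3; omega
      -- `N` normalises `A`
      have hNA : N ≤ Subgroup.normalizer (A : Set G) := by
        refine hgenN U _ hUN hU ?_ ?_
        · intro y hy
          rw [Subgroup.mem_normalizer_iff]
          intro t
          constructor
          · intro ht
            have htP : t ∈ (P : Subgroup G) := (Subgroup.mem_inf.1 (hAdef ▸ ht)).1
            rwa [hab y hy t htP, mul_inv_cancel_right]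
          · intro ht
            have htP : y * t * y⁻¹ ∈ (P : Subgroup G) := (Subgroup.mem_inf.1 (hAdef ▸ ht)).1
            have htP' : t ∈ (P : Subgroup G) := by
              have := Subgroup.mul_mem _ (Subgroup.mul_mem _ (Subgroup.inv_mem _ hy) htP) hy
              simpa [mul_assoc] using this
            rwa [hab y hy t htP', mul_inv_cancel_right] at ht
        · intro r hr
          have hfw : ∀ q ∈ U, ∀ t ∈ A, q * t * q⁻¹ ∈ A := by
            intro q hq t ht
            rw [hAdef, Subgroup.mem_inf] at ht ⊢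
            refine ⟨(Subgroup.mem_normalizer_iff.1 (hNdef ▸ hUN hq) _).1 ht.1, ?_⟩
            rw [Subgroup.mem_centralizer_singleton_iff] at ht ⊢
            have hqs : Commute q s := hcomm q hq s hs
            calc q * t * q⁻¹ * s = q * t * (q⁻¹ * s) := by group
              _ = q * (t * s) * q⁻¹ := by rw [hqs.inv_left.eq]; group
              _ = q * (s * t) * q⁻¹ := by rw [ht.2]
              _ = (q * s) * t * q⁻¹ := by group
              _ = s * (q * t * q⁻¹) := by rw [hqs.eq]; group
          rw [Subgroup.mem_normalizer_iff]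
          intro t
          refine ⟨hfw r hr t, fun ht => ?_⟩
          have := hfw r⁻¹ (U.inv_mem hr) _ ht
          simpa [mul_assoc] using this
      -- `A` and `A'` are conjugate
      have ho := hord s hs hs1
      obtain ⟨g, hg⟩ := isConj_iff.1 ((hclass s ho).symm.trans (hclass s' (hord s' hs' hs'1)))
      obtain ⟨C, hCdef⟩ : ∃ C, C = Subgroup.centralizer ({s'} : Set G) := ⟨_, rfl⟩
      have hBC : A.map (MulAut.conj g).toMonoidHom ≤ C := by
        rintro _ ⟨t, ht, rfl⟩
        rw [SetLike.mem_coe, hAdef, Subgroup.mem_inf, Subgroup.mem_centralizer_singleton_iff] at ht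
        show g * t * g⁻¹ ∈ C
        rw [hCdef, Subgroup.mem_centralizer_singleton_iff, ← hg]
        calc g * t * g⁻¹ * (g * s * g⁻¹) = g * (t * s) * g⁻¹ := by group
          _ = g * s * g⁻¹ * (g * t * g⁻¹) := by rw [ht.2]; group
      have hA'C : A' ≤ C := by rw [hA'def, hCdef]; exact inf_le_right
      have hsyl : ∀ B : Subgroup G, B ≤ C → Nat.card B = 3 →
          ∃ Q : Sylow 3 C, (Q : Subgroup C) = B.subgroupOf C := by
        intro B hB hB3
        have hc : Nat.card (B.subgroupOf C) = 3 :=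
          (Nat.card_congr (Subgroup.subgroupOfEquivOfLe hB).toEquiv).trans hB3
        refine ⟨IsPGroup.toSylow (P := B.subgroupOf C)
          (IsPGroup.of_card (n := 1) (by rw [hc, pow_one])) fun hd => ?_, rfl⟩
        refine hC9 s' (hord s' hs' hs'1) (hCdef ▸ ?_)
        rw [← (B.subgroupOf C).card_mul_index, hc]
        obtain ⟨q, hq⟩ := hd
        exact ⟨q, by rw [hq]; ring⟩
      obtain ⟨Q₁, hQ₁⟩ := hsyl _ hBC
        ((Subgroup.card_map_of_injective (MulAut.conj g).injective).trans hA3)
      obtain ⟨Q₂, hQ₂⟩ := hsyl A' hA'C hA'3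
      obtain ⟨c, hc⟩ := MulAction.exists_smul_eq C Q₁ Q₂
      have hga : g * a * g⁻¹ ∈ C := hBC ⟨a, haA, rfl⟩
      have hmem : c * ⟨g * a * g⁻¹, hga⟩ * c⁻¹ ∈ (Q₂ : Subgroup C) := by
        rw [← hc, Sylow.coe_subgroup_smul]
        exact Subgroup.smul_mem_pointwise_smul _ (MulAut.conj c) _
          (hQ₁ ▸ Subgroup.mem_subgroupOf.2 ⟨a, haA, rfl⟩)
      rw [hQ₂, Subgroup.mem_subgroupOf] at hmem
      obtain ⟨k, hk⟩ : ∃ k : G, k = (c : G) * g := ⟨_, rfl⟩
      have hka : k * a * k⁻¹ ∈ A' := by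
        rw [show k * a * k⁻¹ = (c : G) * (g * a * g⁻¹) * (c : G)⁻¹ by rw [hk]; group]
        exact hmem
      have hA'P : A' ≤ (P : Subgroup G) := hA'def ▸ inf_le_left
      have haP : a ∈ (P : Subgroup G) := (Subgroup.mem_inf.1 (hAdef ▸ haA)).1
      obtain ⟨m, hm, hme⟩ := P.conj_eq_normalizer_conj_of_mem a k⁻¹ haP
        (by rw [inv_inv]; exact hA'P hka)
      rw [inv_inv] at hme
      have hmA : k * a * k⁻¹ ∈ A := by
        rw [hme]
        have hm' := hNA ((Subgroup.inv_mem _ (show m ∈ N from hNdef ▸ hm)))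
        simpa using (Subgroup.mem_normalizer_iff.1 hm' a).1 haA
      -- so a fixed point of all of `N`
      obtain ⟨b, hbdef⟩ : ∃ b, b = k * a * k⁻¹ := ⟨_, rfl⟩
      rw [← hbdef] at hmA hka
      have hb1 : b ≠ 1 := fun e => ha1 (conj_eq_one_iff.1 (hbdef ▸ e))
      refine hb1 (SmallGroups.eq_one_of_central_in_normalizer hG P (hA'P hka) fun m' hm' => ?_)
      rw [← hNdef] at hm'
      have hNC : N ≤ Subgroup.centralizer ({b} : Set G) := by
        refine hgenN U _ hUN hU (fun y hy => ?_) ?_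
        · rw [Subgroup.mem_centralizer_singleton_iff]; exact hab y hy b (hA'P hka)
        · have hsb : s ∈ Subgroup.centralizer ({b} : Set G) := by
            have := (Subgroup.mem_inf.1 (hAdef ▸ hmA)).2
            rw [Subgroup.mem_centralizer_singleton_iff] at this ⊢
            exact this.symm
          have hsb' : s' ∈ Subgroup.centralizer ({b} : Set G) := by
            have := (Subgroup.mem_inf.1 (hA'def ▸ hka)).2
            rw [Subgroup.mem_centralizer_singleton_iff] at this ⊢
            exact this.symm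
          have hle : U ⊓ Subgroup.centralizer ({b} : Set G) = U := by
            refine Subgroup.eq_of_le_of_card_ge inf_le_left ?_
            have h2 : 2 < Nat.card ↥(U ⊓ Subgroup.centralizer ({b} : Set G)) := by
              have h3 : ({1, s, s'} : Finset G).card = 3 := by
                rw [Finset.card_insert_of_notMem (by simp [Ne.symm hs1, Ne.symm hs'1]),
                  Finset.card_pair hne]
              rw [← SetLike.coe_sort_coe, Nat.card_coe_set_eq]
              refine Nat.lt_of_lt_of_le (by rw [← Set.ncard_coe_finset] at h3; omega : 2 < _)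
                (Set.ncard_le_ncard (s := (({1, s, s'} : Finset G) : Set G)) ?_ (Set.toFinite _))
              intro t ht
              simp only [Finset.coe_insert, Finset.coe_singleton, Set.mem_insert_iff,
                Set.mem_singleton_iff] at ht
              rcases ht with rfl | rfl | rfl
              exacts [Subgroup.one_mem _, ⟨hs, hsb⟩, ⟨hs', hsb'⟩]
            have hd : Nat.card ↥(U ⊓ Subgroup.centralizer ({b} : Set G)) ∣ 4 :=
              hU ▸ Subgroup.card_dvd_of_le inf_le_left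
            rw [hU]
            have := Nat.le_of_dvd (by norm_num) hd
            interval_cases hq : Nat.card ↥(U ⊓ Subgroup.centralizer ({b} : Set G)) <;> omega
          exact hle ▸ inf_le_right
      exact Subgroup.mem_centralizer_singleton_iff.1 (hNC hm')
    haveI : Nontrivial U := by rw [← Finite.one_lt_card_iff_nontrivial, hU]; norm_num
    obtain ⟨⟨s, hs⟩, hs1⟩ := exists_ne (1 : U)
    have hs1' : s ≠ 1 := fun e => hs1 (Subtype.ext e)
    obtain ⟨s', hs', hs's⟩ : ∃ s' ∈ U, s' ∉ Subgroup.zpowers s := by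
      by_contra hcon
      push Not at hcon
      have h1 := Subgroup.card_le_of_le (show U ≤ Subgroup.zpowers s from hcon)
      rw [hU, Nat.card_zpowers, hord s hs hs1'] at h1
      omega
    have hs'1 : s' ≠ 1 := fun e => hs's (e ▸ Subgroup.one_mem _)
    have hne : s ≠ s' := fun e => hs's (e ▸ Subgroup.mem_zpowers s)
    have hp1 : s * s' ≠ 1 := fun e => hs's (by
      rw [eq_inv_of_mul_eq_one_right e]; exact Subgroup.inv_mem _ (Subgroup.mem_zpowers s))
    have hboth : ∀ r ∈ U, ∀ r' ∈ U, r ≠ 1 → r' ≠ 1 → r * r' ≠ 1 →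
        ((P : Subgroup G) ⊓ Subgroup.centralizer ({r} : Set G)) = ⊥ →
        ((P : Subgroup G) ⊓ Subgroup.centralizer ({r'} : Set G)) = ⊥ → False := by
      intro r hr r' hr' hr1 hr'1 hrr hb hb'
      obtain ⟨y, hy, hny⟩ := hCne _ (hord _ (U.mul_mem hr hr') hrr)
      refine hny (show r * r' * y = y * (r * r') from ?_)
      rw [← mul_inv_eq_iff_eq_mul]
      calc r * r' * y * (r * r')⁻¹ = r * (r' * y * r'⁻¹) * r⁻¹ := by group
        _ = y := by
            rw [hinvP r' (hord r' hr' hr'1) (hUN hr') hb' y hy,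
              hinvP r (hord r hr hr1) (hUN hr) hb _ ((P : Subgroup G).inv_mem hy), inv_inv]
    have hs3 : s * (s * s') = s' := by rw [← mul_assoc, hexp s hs, one_mul]
    have hs3' : s' * (s * s') = s := by
      rw [hcomm s hs s' hs', ← mul_assoc, hexp s' hs', one_mul]
    have hp : s * s' ∈ U := U.mul_mem hs hs'
    have hsp : s ≠ s * s' := fun e => hs'1 (by simpa using e)
    have hs'p : s' ≠ s * s' := fun e => hs1' (by simpa using e)
    by_cases hA : ((P : Subgroup G) ⊓ Subgroup.centralizer ({s} : Set G)) = ⊥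
    · exact htwo s' hs' _ hp hs'1 hp1 hs'p
        (fun e => hboth s hs s' hs' hs1' hs'1 hp1 hA e)
        (fun e => hboth s hs _ hp hs1' hp1 (by rw [hs3]; exact hs'1) hA e)
    by_cases hA' : ((P : Subgroup G) ⊓ Subgroup.centralizer ({s'} : Set G)) = ⊥
    · exact htwo s hs _ hp hs1' hp1 hsp hA
        (fun e => hboth s' hs' _ hp hs'1 hp1 (by rw [hs3']; exact hs1') hA' e)
    exact htwo s hs s' hs' hs1' hs'1 hne hA hA'
  -- the fixed vector
  have hneP : (P : Subgroup G) ≠ ⊥ := fun e => by
    have h1 := hP; rw [e, Subgroup.card_bot] at h1; omega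
  obtain ⟨-, hχu, hχu2, hfixB, hfixu⟩ := SmallGroups.O2520.frobenius_four hG ρ hρ hd (Or.inr rfl)
    (P : Subgroup G) hneP (by rw [hP]; norm_num) hu (hNdef ▸ huN) huinv (hreal2 _ ⟨2, hu⟩)
  obtain ⟨T, hT⟩ := (IsPGroup.of_card (p := 2) (n := 2)
    (by rw [Nat.card_zpowers, hu]; norm_num) : IsPGroup 2 ↥(Subgroup.zpowers u)).exists_le_sylow
  obtain ⟨z, hz⟩ : ∃ z, z = u ^ 2 := ⟨_, rfl⟩
  have hzo : orderOf z = 2 := by rw [hz, orderOf_pow' u two_ne_zero, hu]; rfl
  obtain ⟨w, hwT, hw2, hwM⟩ : ∃ w ∈ (T : Subgroup G), orderOf w = 2 ∧ w ∉ Subgroup.zpowers u := by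
    by_contra hcon
    push Not at hcon
    have huniq : ∀ w ∈ (T : Subgroup G), orderOf w = 2 → w = z := by
      intro w hw hw2
      obtain ⟨j, hj'⟩ := mem_powers_iff_mem_zpowers.2 (hcon w hw hw2)
      have hj : u ^ j = w := hj'
      rw [← pow_mod_orderOf, hu] at hj
      rw [← hj] at hw2 ⊢
      have hj4 : j % 4 < 4 := Nat.mod_lt _ (by norm_num)
      interval_cases hjc : j % 4
      · rw [pow_zero, orderOf_one] at hw2; omega
      · rw [pow_one, hu] at hw2; omega
      · exact hz.symm
      · rw [orderOf_pow' u (by norm_num), hu] at hw2; norm_num at hw2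
    obtain ⟨x, hx, hxc⟩ := Invol.rankOneCentral G
      (by
        rcases (inferInstance : (Cfsg.pPrimeCore 2 G).Normal).eq_bot_or_eq_top with e | e
        · exact e
        · exfalso
          have := Cores.not_dvd_card_pPrimeCore (p := 2) (G := G)
          rw [e, Subgroup.card_top, h] at this
          exact this (by norm_num))
      (by rw [h]; decide)
      fun a b ha hb hab' => by
        have hIP : IsPGroup 2 ↥(Subgroup.zpowers a ⊔ Subgroup.zpowers b) := by
          refine IsPGroup.to_sup_of_normal_left'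
            (IsPGroup.of_card (n := 1) (by rw [Nat.card_zpowers, ha, pow_one]))
            (IsPGroup.of_card (n := 1) (by rw [Nat.card_zpowers, hb, pow_one])) ?_
          rw [Subgroup.zpowers_le, Subgroup.mem_normalizer_iff]
          intro t
          constructor
          · intro ht
            obtain ⟨j, rfl⟩ := Subgroup.mem_zpowers_iff.1 ht
            rw [((hab'.symm).zpow_right j).eq, mul_inv_cancel_right]
            exact ht
          · intro ht
            obtain ⟨j, hj⟩ := Subgroup.mem_zpowers_iff.1 ht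
            have : t = a ^ j := by
              rw [show t = b⁻¹ * (b * t * b⁻¹) * b by group, ← hj,
                ((hab'.symm).inv_left.zpow_right j).eq, inv_mul_cancel_right]
            exact this ▸ ⟨j, rfl⟩
        obtain ⟨T', hT'⟩ := hIP.exists_le_sylow
        obtain ⟨g, hg⟩ := MulAction.exists_smul_eq G T' T
        have key : ∀ x ∈ (T' : Subgroup G), orderOf x = 2 → g * x * g⁻¹ = z := by
          intro x hx hx2
          refine huniq _ ?_ (by rw [← MulAut.conj_apply, MulEquiv.orderOf_eq, hx2])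
          rw [← hg, Sylow.coe_subgroup_smul]
          exact Subgroup.smul_mem_pointwise_smul x (MulAut.conj g) _ hx
        have e1 := (key a (hT' (Subgroup.mem_sup_left (Subgroup.mem_zpowers a))) ha).trans
          (key b (hT' (Subgroup.mem_sup_right (Subgroup.mem_zpowers b))) hb).symm
        exact mul_left_cancel (mul_right_cancel e1)
    rw [SmallGroups.center_eq_bot hG, Subgroup.mem_bot] at hxc
    rw [hxc, orderOf_one] at hx
    omega
  have huT : u ∈ (T : Subgroup G) := hT (Subgroup.mem_zpowers u)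
  have hMn : ∀ g ∈ (T : Subgroup G), g * u * g⁻¹ ∈ Subgroup.zpowers u := by
    intro g hg
    have hidx : ((Subgroup.zpowers u).subgroupOf (T : Subgroup G)).index = 2 := by
      have h1 := ((Subgroup.zpowers u).subgroupOf (T : Subgroup G)).card_mul_index
      rw [Nat.card_congr (Subgroup.subgroupOfEquivOfLe hT).toEquiv, Nat.card_zpowers, hu,
        hcard2] at h1
      omega
    haveI := Subgroup.normal_of_index_eq_two hidx
    have := this.conj_mem ⟨u, huT⟩ (Subgroup.mem_subgroupOf.2 (Subgroup.mem_zpowers u)) ⟨g, hg⟩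
    exact Subgroup.mem_subgroupOf.1 this
  have hwz : w * z = z * w := by
    obtain ⟨j, hj'⟩ := mem_powers_iff_mem_zpowers.2 (hMn w hwT)
    have hj : u ^ j = w * u * w⁻¹ := hj'
    have e : w * z * w⁻¹ = (u ^ j) ^ 2 := by rw [hj, hz, conj_pow]
    have ho : orderOf (w * z * w⁻¹) = 2 := by rw [← MulAut.conj_apply, MulEquiv.orderOf_eq, hzo]
    rcases Nat.even_or_odd j with ⟨m, hm⟩ | ⟨m, hm⟩
    · rw [e, hm, ← pow_mul, show (m + m) * 2 = 4 * m by ring, pow_mul, ← hu, pow_orderOf_eq_one,
        one_pow, orderOf_one] at ho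
      omega
    · rw [← mul_inv_eq_iff_eq_mul, e, hm, ← pow_mul, hz, show (2 * m + 1) * 2 = 4 * m + 2 by ring,
        pow_add, pow_mul, ← hu, pow_orderOf_eq_one, one_pow, one_mul]
  -- the values on `T`
  have hww : w * w = 1 := by rw [← pow_two, ← hw2, pow_orderOf_eq_one]
  have huu : u ^ 4 = 1 := by rw [← hu, pow_orderOf_eq_one]
  have hdimρ : Module.finrank ℂ (Fin n → ℂ) = 6 := by
    have h1 := hd
    rw [← hρ, ρ.char_one] at h1
    exact_mod_cast h1
  have hinvw : w * u * w⁻¹ = u⁻¹ := by
    obtain ⟨j, hj'⟩ := mem_powers_iff_mem_zpowers.2 (hMn w hwT)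
    have hj : u ^ j = w * u * w⁻¹ := hj'
    rw [← pow_mod_orderOf, hu] at hj
    have ho : orderOf (w * u * w⁻¹) = 4 := by rw [← MulAut.conj_apply, MulEquiv.orderOf_eq, hu]
    rw [← hj] at ho ⊢
    have hj4 : j % 4 < 4 := Nat.mod_lt _ (by norm_num)
    interval_cases hjc : j % 4
    · rw [pow_zero, orderOf_one] at ho; omega
    · exfalso
      -- the abelian case
      have hcwu : Commute w u := by
        rw [pow_one] at hj
        exact mul_inv_eq_iff_eq_mul.1 hj.symm
      have huw2 : (u * w) ^ 2 = z := by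
        rw [hcwu.symm.mul_pow, ← hz, pow_two w, hww, mul_one]
      have huw4 : orderOf (u * w) = 4 := by
        refine orderOf_eq_prime_pow (p := 2) (n := 1) ?_ ?_
        · rw [pow_one, huw2]; intro e; rw [e, orderOf_one] at hzo; omega
        · rw [show 2 ^ (1 + 1) = 2 * 2 by norm_num, pow_mul, huw2, ← hzo, pow_orderOf_eq_one]
      obtain ⟨n0, n1, n2, he, hsum, hx, hz2, hf0, -⟩ := SmallGroups.O2520.eigen_four ρ huw4
        (SmallGroups.O2520.det_eq_one hG ρ _) (by rw [hρ]; exact hreal2 _ ⟨2, huw4⟩)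
      rw [huw2, hρ, hval2 z hzo] at hz2
      have hz2' : ((n0 : ℤ) + n2 - 2 * n1) = 2 := by exact_mod_cast hz2.symm
      rw [hdimρ] at hsum
      letI := Fintype.ofFinite (Subgroup.zpowers u)
      letI := Fintype.ofFinite (Subgroup.zpowers w)
      letI := Fintype.ofFinite ↥(Subgroup.zpowers u ⊔ Subgroup.zpowers w)
      have hdisj : Disjoint (Subgroup.zpowers u) (Subgroup.zpowers w) := by
        rw [Subgroup.disjoint_def]
        intro t ht ht'
        obtain ⟨i, hi'⟩ := mem_powers_iff_mem_zpowers.2 ht'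
        have hi : w ^ i = t := hi'
        rw [← pow_mod_orderOf, hw2] at hi
        rcases Nat.mod_two_eq_zero_or_one i with e | e <;> rw [e] at hi
        · rw [← hi, pow_zero]
        · exact absurd (show w ∈ Subgroup.zpowers u by rw [← hi, pow_one] at ht; exact ht) hwM
      have hmul : ∀ a : Subgroup.zpowers u × Subgroup.zpowers w,
          (a.1 : G) * a.2 ∈ Subgroup.zpowers u ⊔ Subgroup.zpowers w := fun a =>
        Subgroup.mul_mem _ (Subgroup.mem_sup_left a.1.2) (Subgroup.mem_sup_right a.2.2)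
      have hsplit : ∀ t ∈ Subgroup.zpowers u ⊔ Subgroup.zpowers w,
          ∃ a : Subgroup.zpowers u × Subgroup.zpowers w, (a.1 : G) * a.2 = t := by
        intro t ht
        have hn' : Subgroup.zpowers w ≤ Subgroup.normalizer ((Subgroup.zpowers u : Subgroup G) : Set G) := by
          rw [Subgroup.zpowers_le]
          refine Subgroup.centralizer_le_normalizer _ ?_
          rw [card_centralizer_zpowers, Subgroup.mem_centralizer_singleton_iff]
          exact hcwu.eq
        have ht' : t ∈ ((Subgroup.zpowers u : Subgroup G) : Set G) * ((Subgroup.zpowers w : Subgroup G) : Set G) := by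
          rw [← Subgroup.coe_mul_of_right_le_normalizer_left _ _ hn']; exact ht
        obtain ⟨a, ha, b, hb, rfl⟩ := ht'
        exact ⟨(⟨a, ha⟩, ⟨b, hb⟩), rfl⟩
      let f : Subgroup.zpowers u × Subgroup.zpowers w →
          ↥(Subgroup.zpowers u ⊔ Subgroup.zpowers w) := fun a => ⟨_, hmul a⟩
      have hf : Function.Bijective f :=
        ⟨fun a b hab => Subgroup.mul_injective_of_disjoint hdisj (congrArg Subtype.val hab),
          fun t => (hsplit t t.2).imp fun a ha => Subtype.ext ha⟩
      have hpair : ∀ a : G, ∑ b : Subgroup.zpowers w, ρ.character (a * b) =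
          ρ.character a + ρ.character (a * w) := by
        intro a
        rw [SmallGroups.O2520.sum_zpowers (fun b => ρ.character (a * b)), hw2]
        simp [Finset.sum_range_succ]
      have hS := SmallGroups.sum_character_eq ρ (Subgroup.zpowers u ⊔ Subgroup.zpowers w)
      rw [← (Equiv.ofBijective f hf).sum_comp, Fintype.sum_prod_type,
        ← Nat.card_congr (Equiv.ofBijective f hf), Nat.card_prod, Nat.card_zpowers,
        Nat.card_zpowers, hu, hw2] at hS
      simp only [Equiv.ofBijective_apply, f, hpair] at hS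
      rw [SmallGroups.O2520.sum_zpowers (fun a => ρ.character a + ρ.character (a * w)), hu] at hS
      simp only [Finset.sum_range_succ, Finset.sum_range_zero, zero_add, pow_zero, pow_one,
        one_mul, hρ, hd] at hS
      have e3 : (χ : G → ℂ) (u ^ 3) = 0 := by
        rw [show u ^ 3 = u⁻¹ from eq_inv_of_mul_eq_one_left (by rw [← pow_succ, huu]),
          Char.irr_inv χ.2, hreal2 u ⟨2, hu⟩, hχu]
      have e4 : (χ : G → ℂ) (u ^ 2 * w) = 2 := by
        refine hval2 _ (orderOf_eq_prime ?_ fun e => hwM ?_)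
        · rw [← hz, (show Commute z w from hwz.symm).mul_pow,
            show z ^ 2 = 1 by rw [← hzo, pow_orderOf_eq_one], one_mul, pow_two, hww]
        · rw [eq_inv_of_mul_eq_one_right e]
          exact Subgroup.inv_mem _ (Subgroup.pow_mem _ (Subgroup.mem_zpowers u) 2)
      have e5 : (χ : G → ℂ) (u ^ 3 * w) = (χ : G → ℂ) (u * w) := by
        rw [show u ^ 3 * w = (u * w)⁻¹ by
          rw [mul_inv_rev, inv_eq_of_mul_eq_one_right hww,
            show u⁻¹ = u ^ 3 from inv_eq_of_mul_eq_one_left (by rw [← pow_succ, huu]),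
            (hcwu.pow_right 3).eq], Char.irr_inv χ.2, hreal2 _ ⟨2, huw4⟩]
      rw [hρ] at hx
      rw [hχu, hχu2, e3, hval2 w hw2, e4, e5, hx] at hS
      generalize SmallGroups.fixDim ρ (Subgroup.zpowers u ⊔ Subgroup.zpowers w) = F at hS
      have hS' : ((6 + 2 + 2 + 2 + 2 * ((n0 : ℤ) - n2) : ℤ) : ℂ) = ((8 * F : ℤ) : ℂ) := by
        push_cast at hS ⊢; linear_combination hS
      have hS'' : (6 + 2 + 2 + 2 + 2 * ((n0 : ℤ) - n2) : ℤ) = 8 * F := Int.cast_injective hS'
      obtain ⟨m, hm⟩ := he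
      omega
    · rw [orderOf_pow' u two_ne_zero, hu] at ho; norm_num at ho
    · exact eq_inv_of_mul_eq_one_left (by rw [← pow_succ, huu])
  have hwN : Subgroup.zpowers w ≤ Subgroup.normalizer ((Subgroup.zpowers u : Subgroup G) : Set G) := by
    rw [Subgroup.zpowers_le, Subgroup.mem_normalizer_iff]
    have hfw : ∀ t ∈ Subgroup.zpowers u, w * t * w⁻¹ ∈ Subgroup.zpowers u := by
      intro t ht
      obtain ⟨i, rfl⟩ := Subgroup.mem_zpowers_iff.1 ht
      rw [← conj_zpow, hinvw]
      exact Subgroup.zpow_mem _ (Subgroup.inv_mem _ (Subgroup.mem_zpowers u)) i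
    intro t
    refine ⟨hfw t, fun ht => ?_⟩
    have := hfw _ ht
    rwa [show w * (w * t * w⁻¹) * w⁻¹ = (w * w) * t * (w * w)⁻¹ by group, hww, one_mul, inv_one,
      mul_one] at this
  obtain ⟨D, hDdef⟩ : ∃ D, D = Subgroup.zpowers u ⊔ Subgroup.zpowers w := ⟨_, rfl⟩
  have hdisjw : Disjoint (Subgroup.zpowers u) (Subgroup.zpowers w) := by
    rw [Subgroup.disjoint_def]
    intro t ht ht'
    obtain ⟨i, hi'⟩ := mem_powers_iff_mem_zpowers.2 ht'
    have hi : w ^ i = t := hi'
    rw [← pow_mod_orderOf, hw2] at hi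
    rcases Nat.mod_two_eq_zero_or_one i with e | e <;> rw [e] at hi
    · rw [← hi, pow_zero]
    · exact absurd (show w ∈ Subgroup.zpowers u by rw [← hi, pow_one] at ht; exact ht) hwM
  have hconjw : ∀ k ∈ Subgroup.zpowers w, k ≠ 1 → ∀ y ∈ Subgroup.zpowers u,
      ρ.character (y * k) = ρ.character k := by
    intro k hk hk1 y hy
    obtain ⟨i, hi'⟩ := mem_powers_iff_mem_zpowers.2 hk
    have hi : w ^ i = k := hi'
    rw [← pow_mod_orderOf, hw2] at hi
    rcases Nat.mod_two_eq_zero_or_one i with e | e <;> rw [e] at hi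
    · exact absurd (by rw [← hi, pow_zero]) hk1
    rw [pow_one] at hi
    rw [← hi, hρ, hval2 w hw2]
    refine hval2 _ (orderOf_eq_prime ?_ fun e => hwM ?_)
    · obtain ⟨l, rfl⟩ := Subgroup.mem_zpowers_iff.1 hy
      rw [pow_two]
      calc u ^ l * w * (u ^ l * w) = u ^ l * (w * u ^ l * w⁻¹) * (w * w) := by group
        _ = 1 := by rw [← conj_zpow, hinvw, hww, mul_one, inv_zpow, mul_inv_cancel]
    · rw [eq_inv_of_mul_eq_one_right e]
      exact Subgroup.inv_mem _ hy
  have hfixw : SmallGroups.fixDim ρ (Subgroup.zpowers w) = 4 := by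
    letI := Fintype.ofFinite (Subgroup.zpowers w)
    have h1 := SmallGroups.sum_character_eq ρ (Subgroup.zpowers w)
    rw [SmallGroups.O2520.sum_zpowers, hw2, Nat.card_zpowers, hw2] at h1
    simp only [Finset.sum_range_succ, Finset.sum_range_zero, zero_add, pow_zero, pow_one, hρ, hd,
      hval2 w hw2] at h1
    apply Nat.cast_injective (R := ℂ)
    push_cast at h1 ⊢
    linear_combination (-1 / 2 : ℂ) * h1
  have hfixD : SmallGroups.fixDim ρ D = 2 := by
    have e := SmallGroups.card_mul_fixDim_sup ρ _ _ hwN hdisjw hconjw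
    rw [Nat.card_zpowers, hw2, hdimρ, hfixu, hfixw, ← hDdef] at e
    omega
  obtain ⟨H, hH, hBH, hDH⟩ := SmallGroups.exists_ne_top_of_fixDim ρ hsum0
    (B := (P : Subgroup G) ⊔ Subgroup.zpowers u) (C := Subgroup.zpowers u) (D := D)
    le_sup_right (hDdef ▸ le_sup_left) (by rw [hfixB]; norm_num) (by rw [hfixu, hfixD])
  have hPH : (P : Subgroup G) ≤ H := le_sup_left.trans hBH
  have huH : u ∈ H := hBH (Subgroup.mem_sup_right (Subgroup.mem_zpowers u))
  have h8H : 8 ∣ Nat.card H := by
    have hcD : (D : Subgroup G) ≤ (T : Subgroup G) :=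
      hDdef ▸ sup_le hT (Subgroup.zpowers_le.2 hwT)
    have hd8 : Nat.card D ∣ 8 := hcard2 T ▸ Subgroup.card_dvd_of_le hcD
    have hlt : 4 < Nat.card D := by
      rw [← hu, ← Nat.card_zpowers]
      refine lt_of_le_of_ne (Subgroup.card_le_of_le (hDdef ▸ le_sup_left)) fun e => hwM ?_
      rw [Subgroup.eq_of_le_of_card_ge (hDdef ▸ le_sup_left : Subgroup.zpowers u ≤ D) e.ge, hDdef]
      exact Subgroup.mem_sup_right (Subgroup.mem_zpowers w)
    have hle := Nat.le_of_dvd (by norm_num) hd8
    have e8 : Nat.card D = 8 := by interval_cases hq : Nat.card D <;> omega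
    exact e8 ▸ Subgroup.card_dvd_of_le hDH
  have h9H : 9 ∣ Nat.card H := hP ▸ Subgroup.card_dvd_of_le hPH
  have h72 : 72 ∣ Nat.card H :=
    Nat.Coprime.mul_dvd_of_dvd_of_dvd (by norm_num : Nat.Coprime 8 9) h8H h9H
  have hidx := H.card_mul_index
  rw [h] at hidx
  have hd35 : H.index ∣ 35 := by
    obtain ⟨q, hq⟩ := h72
    exact ⟨q, by rw [hq] at hidx; nlinarith⟩
  have hfac := SmallGroups.two_mul_card_dvd_factorial hG H hH
  rw [h] at hfac
  have h7i : H.index = 7 := by
    have hle := Nat.le_of_dvd (by norm_num) hd35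
    have hcases : H.index = 1 ∨ H.index = 5 ∨ H.index = 7 ∨ H.index = 35 := by
      interval_cases hq : H.index <;> omega
    rcases hcases with e | e | e | e
    · rw [e] at hfac; exact absurd hfac (by decide)
    · rw [e] at hfac; exact absurd hfac (by decide)
    · exact e
    exfalso
    rw [e] at hidx
    let Q : Sylow 3 H := P.subtype hPH
    have hQn : Nat.card (Sylow 3 H) ∣ 2 := by
      rw [SmallGroups.card_sylow_eq_index Q]
      have hQ : (Q : Subgroup H) = (P : Subgroup G).subgroupOf H := rfl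
      have hsub : ((P : Subgroup G) ⊔ Subgroup.zpowers u).subgroupOf H ≤
          Subgroup.normalizer ((Q : Subgroup H) : Set H) := by
        intro x hx
        have hxN : (x : G) ∈ N :=
          sup_le hPN (Subgroup.zpowers_le.2 huN) (Subgroup.mem_subgroupOf.1 hx)
        rw [Subgroup.mem_normalizer_iff]
        intro t
        rw [hQ, Subgroup.mem_subgroupOf, Subgroup.mem_subgroupOf]
        push_cast
        exact Subgroup.mem_normalizer_iff.1 (hNdef ▸ hxN) (t : G)
      refine (Subgroup.index_dvd_of_le hsub).trans ?_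
      have hcB : Nat.card ↥(((P : Subgroup G) ⊔ Subgroup.zpowers u).subgroupOf H) = 36 := by
        rw [Nat.card_congr (Subgroup.subgroupOfEquivOfLe hBH).toEquiv]
        have hle' : (P : Subgroup G) ⊔ Subgroup.zpowers u ≤ N :=
          sup_le hPN (Subgroup.zpowers_le.2 huN)
        have h9' : 9 ∣ Nat.card ↥((P : Subgroup G) ⊔ Subgroup.zpowers u) :=
          hP ▸ Subgroup.card_dvd_of_le le_sup_left
        have h4' : 4 ∣ Nat.card ↥((P : Subgroup G) ⊔ Subgroup.zpowers u) := by
          have := Subgroup.card_dvd_of_le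
            (le_sup_right : Subgroup.zpowers u ≤ (P : Subgroup G) ⊔ Subgroup.zpowers u)
          rwa [Nat.card_zpowers, hu] at this
        refine le_antisymm (hN36 ▸ Subgroup.card_le_of_le hle') (Nat.le_of_dvd Nat.card_pos ?_)
        exact Nat.Coprime.mul_dvd_of_dvd_of_dvd (by norm_num : Nat.Coprime 9 4) h9' h4'
      have := (((P : Subgroup G) ⊔ Subgroup.zpowers u).subgroupOf H).card_mul_index
      rw [hcB] at this
      exact dvd_of_eq (by omega)
    have hQ1 : Nat.card (Sylow 3 H) = 1 := by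
      have hmod := card_sylow_modEq_one 3 H
      have := Nat.le_of_dvd (by norm_num) hQn
      rw [Nat.ModEq] at hmod
      omega
    have hHN : H ≤ N := by
      haveI : Subsingleton (Sylow 3 H) := (Nat.card_eq_one_iff_unique.1 hQ1).1
      have hn := Sylow.normal_of_subsingleton Q
      intro x hx
      rw [hNdef, Subgroup.mem_normalizer_iff]
      have hfw : ∀ y ∈ H, ∀ t ∈ (P : Subgroup G), y * t * y⁻¹ ∈ (P : Subgroup G) := fun y hy t ht =>
        Subgroup.mem_subgroupOf.1 (hn.conj_mem ⟨t, hPH ht⟩ (Subgroup.mem_subgroupOf.2 ht) ⟨y, hy⟩)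
      intro t
      refine ⟨hfw x hx t, fun ht => ?_⟩
      have := hfw x⁻¹ (H.inv_mem hx) _ ht
      simpa [mul_assoc] using this
    have := Subgroup.card_le_of_le hHN
    omega
  have hex := SmallGroups.exists_embedding_alternating hG H hH
  rw [h7i] at hex
  obtain ⟨f, hf⟩ := hex
  refine ⟨MulEquiv.ofBijective f ((Nat.bijective_iff_injective_and_card f).2 ⟨hf, ?_⟩)⟩
  rw [h, Nat.card_eq_fintype_card, card_alternatingGroup]
  rfl

end Cfsg.Agent.S0984
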