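import Cfsg.Statements.S1011
import Cfsg.Agent.SmallGroups.EvenRecognition

set_option autoImplicit false
open Cfsg

namespace Cfsg.Agent.S1011
open Subgroup SmallGroups

section
variable {G : Type*} [Group G] [Finite G] [IsSimpleGroup G] (h : Nat.card G = 504)
include h

local instance instFactSeven504 : Fact (Nat.Prime 7) := ⟨by norm_num⟩

theorem not_comm : ¬ IsMulCommutative G := not_isMulCommutative (by rw [h]; norm_num)

theorem card_seven (P : Sylow 7 G) : Nat.card ↥(P : Subgroup G) = 7 :=
  card_sylow_subgroup (a := 1) (m := 72) (by rw [h]; norm_num) (by norm_num) P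

theorem normalizer_seven (P : Sylow 7 G) :
    Nat.card (Sylow 7 G) = 36 ∧ Nat.card ↥(normalizer ((P : Subgroup G) : Set G)) = 14 ∧
      centralizer ((P : Subgroup G) : Set G) = (P : Subgroup G) := by
  have hmul := card_sylow_mul_card_normalizer P
  have hn := card_sylow_mem (not_comm h) (p := 7) (a := 0) (m := 72) (by rw [h]; norm_num) (by norm_num)
  rw [show ((72 : ℕ).divisors.filter fun n => n % 7 = 1 ∧ 1 < n) = {8, 36} by decide +kernel] at hn
  simp only [Finset.mem_insert, Finset.mem_singleton] at hn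
  have h36 : Nat.card (Sylow 7 G) = 36 := by
    refine hn.resolve_left fun h8 => ?_
    have hi : (normalizer ((P : Subgroup G) : Set G)).index = 8 := (card_sylow_eq_index P).symm.trans h8
    have hd := two_mul_card_normalizer_dvd_of_index (not_comm h) (p := 7) (by norm_num)
      (normalizer ((P : Subgroup G) : Set G))
      (fun ht => by rw [ht, Subgroup.index_top] at hi; omega) (by omega) (P : Subgroup G) (card_seven h P)
    rw [h8, h] at hmul
    rw [hi, show Nat.card ↥(normalizer ((P : Subgroup G) : Set G)) = 63 by omega] at hd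
    norm_num at hd
  rw [h36, h] at hmul
  have h14 : Nat.card ↥(normalizer ((P : Subgroup G) : Set G)) = 14 := by omega
  refine ⟨h36, h14, ?_⟩
  have := isMulCommutative_of_prime_card (G := ↥(P : Subgroup G)) (by rw [card_seven h P]; norm_num)
  obtain ⟨-, hk⟩ := relIndex_centralizer_prime (not_comm h) P (card_seven h P)
  have hmul2 := Subgroup.relIndex_mul_relIndex (⊥ : Subgroup G) _ _ bot_le
    (Subgroup.centralizer_le_normalizer ((P : Subgroup G) : Set G))
  rw [relIndex_bot_left, relIndex_bot_left, h14] at hmul2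
  obtain ⟨c, hc⟩ := (card_seven h P).symm.dvd.trans (Subgroup.card_dvd_of_le (P : Subgroup G).le_centralizer)
  refine (Subgroup.eq_of_le_of_card_ge (P : Subgroup G).le_centralizer ?_).symm
  rw [card_seven h P, hc]
  rw [hc] at hmul2
  generalize (centralizer ((P : Subgroup G) : Set G)).relIndex (normalizer ((P : Subgroup G) : Set G)) = k at hk hmul2
  have hck : c * k = 2 := by rw [mul_assoc] at hmul2; omega
  rcases (Nat.dvd_prime Nat.prime_two).mp ⟨k, hck.symm⟩ with rfl | rfl
  · norm_num
  · omega

theorem index_ge {H : Subgroup G} (hH : H ≠ ⊤) : 9 ≤ H.index := by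
  by_contra hlt
  have hd := two_mul_card_dvd_factorial (not_comm h) H hH
  rw [h] at hd
  obtain ⟨P⟩ := (inferInstance : Nonempty (Sylow 7 G))
  have hd2 := fun h2 => two_mul_card_normalizer_dvd_of_index (not_comm h) (p := 7) (by norm_num) H hH h2
    (P : Subgroup G) (card_seven h P)
  rw [(normalizer_seven h P).2.1] at hd2
  have h2 := H.one_lt_index_of_ne_top hH
  interval_cases hi : H.index
  all_goals first
    | (norm_num [Nat.factorial] at hd; done)
    | (have := hd2 (by norm_num); norm_num at this)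

theorem card_nine (P : Sylow 3 G) : Nat.card ↥(P : Subgroup G) = 9 :=
  (card_sylow_subgroup (a := 2) (m := 56) (by rw [h]; norm_num) (by norm_num) P).trans (by norm_num)

theorem normalizer_three (P : Sylow 3 G) :
    Nat.card (Sylow 3 G) = 28 ∧ Nat.card ↥(normalizer ((P : Subgroup G) : Set G)) = 18 := by
  have hmul := card_sylow_mul_card_normalizer P
  have hn := card_sylow_mem (not_comm h) (p := 3) (a := 1) (m := 56) (by rw [h]; norm_num) (by norm_num)
  rw [show ((56 : ℕ).divisors.filter fun n => n % 3 = 1 ∧ 1 < n) = {4, 7, 28} by decide +kernel] at hn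
  simp only [Finset.mem_insert, Finset.mem_singleton] at hn
  have hge : 9 ≤ Nat.card (Sylow 3 G) := by
    rw [card_sylow_eq_index P]
    refine index_ge h fun ht => ?_
    have := one_lt_card_sylow (not_comm h) (p := 3) (by rw [h]; norm_num)
    rw [card_sylow_eq_index P, ht, Subgroup.index_top] at this
    omega
  have h28 : Nat.card (Sylow 3 G) = 28 := by omega
  rw [h28, h] at hmul
  exact ⟨h28, by omega⟩

/-- An element commuting with an element of order `7` lies in the group it generates. -/
theorem commute_seven {x y : G} (hx : orderOf x = 7) (hc : Commute x y) : y ∈ zpowers x := by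
  obtain ⟨P, hP⟩ := (IsPGroup.of_card (p := 7) (n := 1) (by rw [Nat.card_zpowers, hx, pow_one] :
    Nat.card ↥(zpowers x) = 7 ^ 1)).exists_le_sylow
  have hPx : zpowers x = (P : Subgroup G) :=
    Subgroup.eq_of_le_of_card_ge hP (by rw [card_seven h P, Nat.card_zpowers, hx])
  rw [hPx, ← (normalizer_seven h P).2.2, ← hPx]
  intro z hz
  obtain ⟨i, rfl⟩ := Subgroup.mem_zpowers_iff.mp hz
  exact (hc.zpow_left i).eq

/-- The centralizer of an element of order `3` is the Sylow subgroup containing it. -/
theorem centralizer_three (P : Sylow 3 G) {x : G} (hx : orderOf x = 3) (hxP : x ∈ (P : Subgroup G)) :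
    centralizer ({x} : Set G) = (P : Subgroup G) := by
  have hPc : IsMulCommutative ↥(P : Subgroup G) :=
    IsPGroup.isMulCommutative_of_card_eq_prime_sq (p := 3) (by rw [card_nine h P]; norm_num)
  set C := centralizer ({x} : Set G) with hC
  have hle : (P : Subgroup G) ≤ C := ((P : Subgroup G).le_centralizer).trans
    (Subgroup.centralizer_le (Set.singleton_subset_iff.mpr hxP))
  have hx1 : x ≠ 1 := fun h1 => by rw [h1, orderOf_one] at hx; omega
  have hne : C ≠ ⊤ := fun ht => by
    have hz : x ∈ center G := Subgroup.mem_center_iff.mpr fun g =>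
      mem_centralizer_singleton_iff.mp (ht ▸ Subgroup.mem_top g : g ∈ C)
    rw [center_eq_bot (not_comm h), Subgroup.mem_bot] at hz
    exact hx1 hz
  have hd : Nat.card ↥C ∣ 2 ^ 3 * 9 := by
    have h1 : Nat.card ↥C ∣ 7 * 72 := (h ▸ Subgroup.card_subgroup_dvd_card C : Nat.card ↥C ∣ 504)
    refine (Nat.Coprime.symm ((show Nat.Prime 7 by norm_num).coprime_iff_not_dvd.mpr fun h7 => ?_)).dvd_of_dvd_mul_left h1
    obtain ⟨y, hy⟩ := exists_prime_orderOf_dvd_card' (G := ↥C) 7 h7
    rw [← Subgroup.orderOf_coe] at hy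
    have h2 := orderOf_dvd_of_mem_zpowers
      (commute_seven h hy (show Commute (y : G) x from mem_centralizer_singleton_iff.mp y.2))
    rw [hx, hy] at h2
    norm_num at h2
  obtain ⟨c, hc⟩ : 9 ∣ Nat.card ↥C := (card_nine h P).symm.dvd.trans (Subgroup.card_dvd_of_le hle)
  have hidx := index_ge h hne
  have hmul := Subgroup.card_mul_index C
  rw [h, hc] at hmul
  rw [hc, mul_comm (2 ^ 3)] at hd
  have hc8 : c ∣ 2 ^ 3 := Nat.dvd_of_mul_dvd_mul_left (by norm_num) hd
  obtain ⟨i, hi, rfl⟩ := (Nat.dvd_prime_pow Nat.prime_two).mp hc8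
  interval_cases i
  · exact (Subgroup.eq_of_le_of_card_ge hle (by rw [card_nine h P, hc]; norm_num)).symm
  · exfalso
    -- `C = N(P)`, so `x` is central in the normalizer
    have hidx2 : ((P : Subgroup G).subgroupOf C).index = 2 := by
      have := Subgroup.card_mul_index ((P : Subgroup G).subgroupOf C)
      rw [Nat.card_congr (Subgroup.subgroupOfEquivOfLe hle).toEquiv, card_nine h P, hc] at this
      omega
    have hCN : C ≤ normalizer ((P : Subgroup G) : Set G) :=
      (Subgroup.normal_subgroupOf_iff_le_normalizer hle).mp (Subgroup.normal_of_index_eq_two hidx2)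
    have hCe : C = normalizer ((P : Subgroup G) : Set G) :=
      Subgroup.eq_of_le_of_card_ge hCN (by rw [(normalizer_three h P).2, hc]; norm_num)
    exact hx1 (eq_one_of_central_in_normalizer (not_comm h) P hxP fun n hn =>
      mem_centralizer_singleton_iff.mp (hCe ▸ hn : n ∈ C))
  · exfalso
    have hC36 : Nat.card ↥C = 36 := by rw [hc]; norm_num
    -- the quotient by `⟨x⟩` has order twelve
    let x' : ↥C := ⟨x, hle hxP⟩
    have hxc : x' ∈ center ↥C := Subgroup.mem_center_iff.mpr fun g =>
      Subtype.ext (mem_centralizer_singleton_iff.mp g.2)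
    set Z : Subgroup ↥C := zpowers x'
    have hZn : Z.Normal := ⟨fun a ha g => by
      have hac : a ∈ center ↥C := (zpowers_le.mpr hxc) ha
      rwa [show g * a * g⁻¹ = a by rw [Subgroup.mem_center_iff.mp hac g, mul_inv_cancel_right]]⟩
    have hZc : Nat.card ↥Z = 3 := by rw [Nat.card_zpowers, ← Subgroup.orderOf_coe]; exact hx
    have hQ : Nat.card (↥C ⧸ Z) = 12 := by
      have := Subgroup.card_eq_card_quotient_mul_card_subgroup Z
      rw [hC36, hZc] at this
      omega
    have hQ3 : ∀ R : Sylow 3 (↥C ⧸ Z), Nat.card ↥(R : Subgroup (↥C ⧸ Z)) = 3 := fun R =>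
      (card_sylow_subgroup (a := 1) (m := 4) (by rw [hQ]; norm_num) (by norm_num) R).trans (pow_one 3)
    have hQ4 : Nat.card (Sylow 3 (↥C ⧸ Z)) = 4 := by
      have h1 := card_sylow_dvd (G := ↥C ⧸ Z) (p := 3) (a := 1) (m := 4) (by rw [hQ]; norm_num)
      have h2 := card_sylow_modEq_one 3 (↥C ⧸ Z)
      rw [Nat.ModEq] at h2
      have h3 := Nat.le_of_dvd (by norm_num) h1
      have h4 : 1 ≤ Nat.card (Sylow 3 (↥C ⧸ Z)) := Nat.card_pos
      by_contra hne4
      have h5 : Nat.card (Sylow 3 (↥C ⧸ Z)) = 1 := by interval_cases Nat.card (Sylow 3 (↥C ⧸ Z)) <;> omega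
      have : Subsingleton (Sylow 3 (↥C ⧸ Z)) := (Nat.card_eq_one_iff_unique.mp h5).1
      let P' : Sylow 3 ↥C := P.subtype hle
      let R := P'.mapSurjective (f := QuotientGroup.mk' Z) (QuotientGroup.mk'_surjective Z)
      have hRn : (R : Subgroup (↥C ⧸ Z)).Normal := R.normal_of_subsingleton
      have hP' : ((R : Subgroup (↥C ⧸ Z)).comap (QuotientGroup.mk' Z)) = (P' : Subgroup ↥C) := by
        rw [Sylow.coe_mapSurjective, Subgroup.comap_map_eq_self]
        rw [QuotientGroup.ker_mk', Sylow.coe_subtype]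
        exact zpowers_le.mpr hxP
      have hPn : (P' : Subgroup ↥C).Normal := hP' ▸ hRn.comap _
      rw [Sylow.coe_subtype] at hPn
      have h6 := Subgroup.card_le_of_le ((Subgroup.normal_subgroupOf_iff_le_normalizer hle).mp hPn)
      rw [(normalizer_three h P).2, hC36] at h6
      omega
    -- so its Sylow two subgroup is normal
    classical
    have hQ2 : ∀ S : Sylow 2 (↥C ⧸ Z), Nat.card ↥(S : Subgroup (↥C ⧸ Z)) = 4 := fun S =>
      card_sylow_subgroup (a := 2) (m := 3) (by rw [hQ]; norm_num) (by norm_num) S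
    have hcount := card_orderOf_eq_prime hQ3
    have := Fintype.ofFinite (↥C ⧸ Z)
    have hall : ∀ S : Sylow 2 (↥C ⧸ Z), ((S : Subgroup (↥C ⧸ Z)) : Set (↥C ⧸ Z)) = {g | ¬ orderOf g = 3} := by
      intro S
      refine Set.eq_of_subset_of_ncard_le (fun g hg hord => ?_) ?_ (Set.toFinite _)
      · have := Subgroup.orderOf_dvd_natCard _ hg
        rw [hord, hQ2 S] at this
        norm_num at this
      · rw [← Nat.card_coe_set_eq, ← Nat.card_coe_set_eq]
        refine le_of_eq ((?_ : Nat.card {g : ↥C ⧸ Z // ¬ orderOf g = 3} = 4).trans (hQ2 S).symm)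
        rw [Nat.card_eq_fintype_card, Fintype.card_subtype_compl, ← Nat.card_eq_fintype_card,
          ← Nat.card_eq_fintype_card, hcount, hQ4, hQ]
    obtain ⟨S0⟩ := (inferInstance : Nonempty (Sylow 2 (↥C ⧸ Z)))
    have : Subsingleton (Sylow 2 (↥C ⧸ Z)) :=
      ⟨fun a b => Sylow.ext (SetLike.coe_injective ((hall a).trans (hall b).symm))⟩
    have hS0 : (S0 : Subgroup (↥C ⧸ Z)).Normal := S0.normal_of_subsingleton
    set M := (S0 : Subgroup (↥C ⧸ Z)).comap (QuotientGroup.mk' Z) with hM
    have hMn : M.Normal := hS0.comap _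
    obtain ⟨S⟩ := (inferInstance : Nonempty (Sylow 2 ↥C))
    have hScard : Nat.card ↥(S : Subgroup ↥C) = 4 :=
      card_sylow_subgroup (a := 2) (m := 9) (by rw [hC36]; norm_num) (by norm_num) S
    have hSM : (S : Subgroup ↥C) ≤ M := by
      rw [hM, ← Subgroup.map_le_iff_le_comap]
      obtain ⟨R, hR⟩ := (S.2.map (QuotientGroup.mk' Z)).exists_le_sylow
      rwa [Subsingleton.elim R S0] at hR
    have hMc : Nat.card ↥M = 12 := by
      have h1 := Subgroup.card_mul_index M
      rw [hM, Subgroup.index_comap_of_surjective _ (QuotientGroup.mk'_surjective Z), ← hM, hC36] at h1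
      have h2 := Subgroup.card_mul_index (S0 : Subgroup (↥C ⧸ Z))
      rw [hQ, hQ2] at h2
      have h3 : (S0 : Subgroup (↥C ⧸ Z)).index = 3 := by omega
      rw [h3] at h1
      omega
    have hsup : M = (S : Subgroup ↥C) ⊔ Z := by
      refine (Subgroup.eq_of_le_of_card_ge (sup_le hSM ?_) ?_).symm
      · intro z hz
        rw [hM, Subgroup.mem_comap, show QuotientGroup.mk' Z z = 1 from (QuotientGroup.eq_one_iff z).mpr hz]
        exact one_mem _
      · have h4 := hScard.symm.dvd.trans (Subgroup.card_dvd_of_le (le_sup_left : (S : Subgroup ↥C) ≤ (S : Subgroup ↥C) ⊔ Z))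
        have h5 := hZc.symm.dvd.trans (Subgroup.card_dvd_of_le (le_sup_right : Z ≤ (S : Subgroup ↥C) ⊔ Z))
        have h6 := Nat.le_of_dvd Nat.card_pos (Nat.Coprime.mul_dvd_of_dvd_of_dvd (by norm_num) h4 h5)
        omega
    have hSn : (S : Subgroup ↥C).Normal := by
      have hSnM : M ≤ normalizer ((S : Subgroup ↥C) : Set ↥C) := by
        rw [hsup]
        refine sup_le Subgroup.le_normalizer fun z hz => mem_normalizer_iff.mpr fun w => ?_
        have hzc : z ∈ center ↥C := (zpowers_le.mpr hxc) hz
        rw [show z * w * z⁻¹ = w by rw [← Subgroup.mem_center_iff.mp hzc w, mul_inv_cancel_right]]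
      have : ((S : Subgroup ↥C).subgroupOf M).Normal :=
        (Subgroup.normal_subgroupOf_iff_le_normalizer hSM).mpr hSnM
      let S' : Sylow 2 ↥M := S.subtype hSM
      have hchar : (S' : Subgroup ↥M).Characteristic := S'.characteristic_of_normal this
      have hn2 : ((S' : Subgroup ↥M).map M.subtype).Normal := ConjAct.normal_of_characteristic_of_normal
      rwa [Sylow.coe_subtype, Subgroup.subgroupOf_map_subtype, inf_eq_left.mpr hSM] at hn2
    set Sg := (S : Subgroup ↥C).map C.subtype with hSg
    have hCle : C ≤ normalizer (Sg : Set G) :=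
      le_trans (by rw [Subgroup.normalizer_eq_top, ← MonoidHom.range_eq_map, Subgroup.range_subtype])
        (Subgroup.le_normalizer_map C.subtype)
    have hSgc : Nat.card ↥Sg = 2 ^ 2 := by
      rw [hSg, ← Nat.card_congr ((S : Subgroup ↥C).equivMapOfInjective _ C.subtype_injective).toEquiv, hScard]
      norm_num
    have h8 : 2 ^ 3 ∣ Nat.card ↥(normalizer (Sg : Set G)) :=
      Sylow.prime_pow_dvd_card_normalizer (p := 2) (n := 2) (by rw [h]; norm_num) hSgc
    have h9 : 36 ∣ Nat.card ↥(normalizer (Sg : Set G)) := hC36 ▸ Subgroup.card_dvd_of_le hCle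
    have h72 : 72 ∣ Nat.card ↥(normalizer (Sg : Set G)) :=
      Nat.Coprime.mul_dvd_of_dvd_of_dvd (show Nat.Coprime 8 9 by norm_num) (by norm_num at h8; exact h8)
        ((show 9 ∣ 36 by norm_num).trans h9)
    have hne2 : normalizer (Sg : Set G) ≠ ⊤ := by
      intro ht
      have hn3 : Sg.Normal := Subgroup.normalizer_eq_top_iff.mp ht
      have htop := eq_top_of_normal hn3 (fun hb => by rw [hb, Subgroup.card_bot] at hSgc; norm_num at hSgc)
      rw [htop, Subgroup.card_top, h] at hSgc
      norm_num at hSgc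
    have h10 := index_ge h hne2
    have h11 := Subgroup.card_mul_index (normalizer (Sg : Set G))
    rw [h] at h11
    have h12 := Nat.le_of_dvd Nat.card_pos h72
    nlinarith
  · omega

theorem exists_pow_mem (g : G) :
    7 ∣ orderOf g ∨ g ∈ sylowElements 3 G ∨ (∃ j, orderOf g = 2 ^ j) := by
  by_cases h7 : 7 ∣ orderOf g
  · exact .inl h7
  by_cases h3 : 3 ∣ orderOf g
  · right; left
    refine ⟨fun h1 => by rw [h1, orderOf_one] at h3; norm_num at h3, ?_⟩
    set x := g ^ (orderOf g / 3)
    have hx : orderOf x = 3 := orderOf_pow_orderOf_div (orderOf_pos g).ne' h3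
    obtain ⟨P, hP⟩ := (IsPGroup.of_card (p := 3) (n := 1) (by rw [Nat.card_zpowers, hx, pow_one] :
      Nat.card ↥(zpowers x) = 3 ^ 1)).exists_le_sylow
    refine ⟨P, ?_⟩
    rw [← centralizer_three h P hx (hP (mem_zpowers x)), mem_centralizer_singleton_iff]
    exact ((Commute.refl g).pow_right _).eq
  · right; right
    have hd : orderOf g ∣ 504 := h ▸ orderOf_dvd_natCard g
    have hcop : Nat.Coprime (orderOf g) 63 := by
      rw [show 63 = 3 * (3 * 7) from rfl]
      exact Nat.Coprime.mul_right (Nat.Coprime.symm (Nat.prime_three.coprime_iff_not_dvd.mpr h3))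
        (Nat.Coprime.mul_right (Nat.Coprime.symm (Nat.prime_three.coprime_iff_not_dvd.mpr h3))
          (Nat.Coprime.symm ((show Nat.Prime 7 by norm_num).coprime_iff_not_dvd.mpr h7)))
    obtain ⟨j, -, hj⟩ := (Nat.dvd_prime_pow Nat.prime_two).mp
      (hcop.dvd_of_dvd_mul_right (show orderOf g ∣ 2 ^ 3 * 63 from hd))
    exact ⟨j, hj⟩

theorem two_element_centralizer : ∀ z y : G, orderOf z = 2 → Commute z y → ∃ j, orderOf y = 2 ^ j := by
  intro z y hz hc
  rcases exists_pow_mem h y with h7 | ⟨hy1, P, hP⟩ | h'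
  · exfalso
    have hx : orderOf (y ^ (orderOf y / 7)) = 7 := orderOf_pow_orderOf_div (orderOf_pos y).ne' h7
    have h1 := orderOf_dvd_of_mem_zpowers (commute_seven h hx (hc.symm.pow_left _))
    rw [hz, hx] at h1
    norm_num at h1
  · exfalso
    have hd : orderOf y ∣ 3 ^ 2 := by
      have := Subgroup.orderOf_dvd_natCard _ hP
      rwa [card_nine h P] at this
    obtain ⟨i, hi, hyi⟩ := (Nat.dvd_prime_pow Nat.prime_three).mp hd
    have h3 : 3 ∣ orderOf y := by
      rcases i with _ | i
      · exact absurd (orderOf_eq_one_iff.mp (hyi.trans (pow_zero 3))) hy1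
      · exact hyi ▸ dvd_pow_self 3 (Nat.succ_ne_zero i)
    have hx : orderOf (y ^ (orderOf y / 3)) = 3 := orderOf_pow_orderOf_div (orderOf_pos y).ne' h3
    have hzC : z ∈ (P : Subgroup G) := by
      rw [← centralizer_three h P hx (pow_mem hP _), mem_centralizer_singleton_iff]
      exact (hc.pow_right _).eq
    have h1 := Subgroup.orderOf_dvd_natCard _ hzC
    rw [hz, card_nine h P] at h1
    norm_num at h1
  · exact h'

end

/-- A simple group of order 504 is isomorphic to the projective special linear group of dimension 2 over the field with 8 elements. -/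
theorem result {G : Type*} [Group G] [Finite G] [IsSimpleGroup G] (h : Nat.card G = 504) {F : Type*} [Field F] [Fintype F] (hF : Fintype.card F = 8) : Nonempty (G ≃* Matrix.ProjectiveSpecialLinearGroup (Fin 2) F) := by
  have hG := not_comm h
  have : Fact (Nat.Prime 7) := ⟨by norm_num⟩
  have hinv := two_element_centralizer h
  have hT : ∀ T : Sylow 2 G, Nat.card ↥(T : Subgroup G) = 8 := fun T =>
    (card_sylow_subgroup (a := 3) (m := 63) (by rw [h]; norm_num) (by norm_num) T).trans (by norm_num)
  have hdisj : ∀ g : G, g ∈ sylowElements 2 G → ¬ 7 ∣ orderOf g ∧ g ∉ sylowElements 3 G := by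
    rintro g ⟨hg1, T, hgT⟩
    have h1 := hT T ▸ Subgroup.orderOf_dvd_natCard _ hgT
    refine ⟨fun h7 => by have := h7.trans h1; norm_num at this, ?_⟩
    rintro ⟨-, P, hgP⟩
    have h2 := card_nine h P ▸ Subgroup.orderOf_dvd_natCard _ hgP
    exact hg1 (orderOf_eq_one_iff.mp (Nat.eq_one_of_dvd_coprimes (by norm_num) h1 h2))
  have hcnt : (sylowElements 2 G).ncard ≤ 63 := by
    obtain ⟨P⟩ := (inferInstance : Nonempty (Sylow 7 G))
    obtain ⟨Q⟩ := (inferInstance : Nonempty (Sylow 3 G))
    have h7 := card_dvd_orderOf_ge (r := 7) (c := 1) (card_seven h)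
      (fun R => by rw [(normalizer_seven h R).2.2, card_seven h R])
    rw [(normalizer_seven h P).1] at h7
    have h3 : Nat.card (Sylow 3 G) * (9 - 1) ≤ (sylowElements 3 G).ncard := by
      refine card_sylowElements_ge (card_nine h) fun A B hAB g hA hB => ?_
      by_contra hne
      obtain ⟨i, -, hgi⟩ := (Nat.dvd_prime_pow Nat.prime_three).mp
        (show orderOf g ∣ 3 ^ 2 from (Subgroup.orderOf_dvd_natCard _ hA).trans (card_nine h A).dvd)
      have h3 : 3 ∣ orderOf g := by
        rcases i with _ | i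
        · exact absurd (orderOf_eq_one_iff.mp (hgi.trans (pow_zero 3))) hne
        · exact hgi ▸ dvd_pow_self 3 (Nat.succ_ne_zero i)
      have hx : orderOf (g ^ (orderOf g / 3)) = 3 := orderOf_pow_orderOf_div (orderOf_pos g).ne' h3
      exact hAB (Sylow.ext ((centralizer_three h A hx (pow_mem hA _)).symm.trans
        (centralizer_three h B hx (pow_mem hB _))))
    rw [(normalizer_three h Q).1] at h3
    have hsum := ncard_three_add_one_le (A := {g : G | 7 ∣ orderOf g}) (B := sylowElements 3 G)
      (C := sylowElements 2 G)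
      (Set.disjoint_left.mpr fun g hg hgB => by
        obtain ⟨-, R, hgR⟩ := hgB
        have := (show 7 ∣ orderOf g from hg).trans (card_nine h R ▸ Subgroup.orderOf_dvd_natCard _ hgR)
        norm_num at this)
      (Set.disjoint_left.mpr fun g hg hgC => (hdisj g hgC).1 hg)
      (Set.disjoint_left.mpr fun g hg hgC => (hdisj g hgC).2 hg)
      (by simp) (fun h1 => h1.1 rfl) (fun h1 => h1.1 rfl)
    rw [h] at hsum
    omega
  have hn := card_sylow_mem hG (p := 2) (a := 2) (m := 63) (by rw [h]; norm_num) (by norm_num)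
  rw [show ((63 : ℕ).divisors.filter fun n => n % 2 = 1 ∧ 1 < n) = {3, 7, 9, 21, 63} by decide +kernel] at hn
  simp only [Finset.mem_insert, Finset.mem_singleton] at hn
  obtain ⟨T₀⟩ := (inferInstance : Nonempty (Sylow 2 G))
  have hge : 9 ≤ Nat.card (Sylow 2 G) := by
    rw [card_sylow_eq_index T₀]
    refine index_ge h fun ht => ?_
    have := one_lt_card_sylow hG (p := 2) (by rw [h]; norm_num)
    rw [card_sylow_eq_index T₀, ht, Subgroup.index_top] at this
    omega
  have hab : ∀ T : Sylow 2 G, IsMulCommutative ↥(T : Subgroup G) := by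
    by_contra hcon
    rw [not_forall] at hcon
    obtain ⟨i, hi, hmul⟩ : ∃ i, (∀ T : Sylow 2 G, i ≤ (centralInvolutions T).ncard) ∧
        63 ≤ Nat.card (Sylow 2 G) * i := by
      have hN : ∀ T : Sylow 2 G, Nat.card (Sylow 2 G) * Nat.card ↥(normalizer ((T : Subgroup G) : Set G)) = 504 :=
        fun T => h ▸ card_sylow_mul_card_normalizer T
      have h1 : ∀ T : Sylow 2 G, 1 ≤ (centralInvolutions T).ncard := by
        intro T
        have hnt : Nontrivial ↥(T : Subgroup G) := Finite.one_lt_card_iff_nontrivial.mp (by rw [hT T]; norm_num)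
        have := T.2.center_nontrivial
        obtain ⟨k, hk⟩ := (T.2.to_subgroup (center ↥(T : Subgroup G))).exists_card_eq
        have hk0 : k ≠ 0 := by
          rintro rfl
          rw [pow_zero] at hk
          exact absurd hk (ne_of_gt (Finite.one_lt_card_iff_nontrivial.mpr this))
        obtain ⟨c, hc⟩ := exists_prime_orderOf_dvd_card' (G := ↥(center ↥(T : Subgroup G))) 2
          (hk ▸ dvd_pow_self 2 hk0)
        exact (Set.ncard_pos (Set.toFinite _)).mpr ⟨((c : ↥(T : Subgroup G)) : G),
          by rw [Subgroup.orderOf_coe, Subgroup.orderOf_coe, hc], (c : ↥(T : Subgroup G)).2,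
          fun t ht => congrArg Subtype.val (Subgroup.mem_center_iff.mp c.2 ⟨t, ht⟩)⟩
      rcases hn with hn | hn | hn | hn | hn
      · omega
      · omega
      · refine ⟨7, fun T => ?_, by rw [hn]⟩
        have := hN T
        rw [hn] at this
        exact (le_ncard_centralInvolutions hinv (r := 7) (by norm_num) T
          ⟨8, by omega⟩ (by rw [h]; norm_num)).1
      · refine ⟨3, fun T => ?_, by rw [hn]⟩
        have := hN T
        rw [hn] at this
        exact (le_ncard_centralInvolutions hinv (r := 3) (by norm_num) T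
          ⟨8, by omega⟩ (by rw [h]; norm_num)).1
      · exact ⟨1, h1, by rw [hn]⟩
    have := card_sylow_mul_lt hinv hcon hi
    omega
  exact nonempty_equiv_psl_even_of_counts hinv hG (q := 8) (by decide) (by norm_num) (by rw [h]) hT hab hcnt hge hF

end Cfsg.Agent.S1011
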