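import Cfsg.Agent.FusionAlperin.Hyperfocal
import Cfsg.Agent.FusionAux.ModStronglyClosed
import Cfsg.Statements.S5120
-- import your own Cfsg.Agent.* helpers here

set_option autoImplicit false
open Cfsg

namespace Cfsg.Agent.S5120

open Cfsg.Agent.FusionAlperin Cfsg.Agent.FusionSys Cfsg.FusionSystem


/-- Let F be a saturated fusion system over a finite p-group S and T a subgroup of S containing the hyperfocal subgroup of F and normal in S. Then every saturated subsystem of F over T of p-power index is a normal subsystem of F. -/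
theorem result {Ω : Type*} [Group Ω] {S : Subgroup Ω} [Finite S] (p : ℕ) [Fact p.Prime] (hS : IsPGroup p S) (F : Cfsg.FusionSystem S) (hF : F.IsSaturated p) (T : Subgroup Ω) (hTS : T ≤ S) (hTn : (T.subgroupOf S).Normal) (hT : F.hyperfocalSubgroup p ≤ T) (E : Cfsg.FusionSystem T) (hEs : E.IsSaturated p) (hEi : E.HasPPowerIndexIn F p) : E.IsNormalIn F p := by
  have hn : ∀ g ∈ S, ∀ x ∈ T, g * x * g⁻¹ ∈ T := fun g hg x hx =>
    hTn.conj_mem ⟨x, hTS hx⟩ hx ⟨g, hg⟩
  have hsc := stronglyClosed_of_hyperfocal_le hS hF hTS hT hn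
  haveI : Finite T := finite_of_le ‹_› hTS
  refine ⟨⟨hEs, hF, hEi.1, hsc, fun P hPT φ hφ α hα => ?_, fun P hP φ hφ => ?_⟩, fun α hα => ?_⟩
  · obtain ⟨χ, hχ, he⟩ := pPowerIndex_invariant hS hTS hEs hEi hα hφ
    refine ⟨χ, hχ, fun x hφx hαx => ?_⟩
    have e : (⟨_, hαx⟩ : autImage α P) = ⟨autExt α x, autExt_mem_autImage α hPT x.2⟩ :=
      Subtype.ext (autExt_of_mem α (hPT x.2)).symm
    rw [e, he, autExt_of_mem α hφx]
  · obtain ⟨s, hs, φ₀, hφ₀, he⟩ := pPowerIndex_frattini hS hF hTS hEs hEi hn hP hφ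
    obtain ⟨β, hβ, hβe⟩ := exists_conj_aut F hTS hn hs
    exact ⟨β, hβ, φ₀, hφ₀, fun x hx => (he x).trans (hβe ⟨_, hx⟩).symm⟩
  -- the extension condition
  set U := T ⊔ centralizerIn S T with hU
  have hUS : U ≤ S := sup_le hTS inf_le_left
  haveI : Finite U := finite_of_le ‹_› hUS
  have hCT : ∀ c ∈ centralizerIn S T, ∀ t ∈ T, t * c = c * t := fun c hc => hc.2
  let good : MulAut T → Prop := fun a => ∃ b ∈ F.autGroup U,
    (∀ x : T, ((b (Subgroup.inclusion le_sup_left x) : U) : Ω) = a x) ∧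
    ∀ c : U, (c : Ω) ∈ centralizerIn S T →
      (c : Ω)⁻¹ * (b c : U) ∈ T ⊓ Subgroup.centralizer (T : Set Ω)
  have hbC : ∀ {a : MulAut T} {b : MulAut U}, b ∈ F.autGroup U →
      (∀ x : T, ((b (Subgroup.inclusion le_sup_left x) : U) : Ω) = a x) →
      ∀ c : U, (c : Ω) ∈ centralizerIn S T → ((b c : U) : Ω) ∈ centralizerIn S T := by
    intro a b _ hab c hc
    refine ⟨hUS (b c).2, fun t ht => ?_⟩
    have h1 : ((Subgroup.inclusion le_sup_left (a.symm ⟨t, ht⟩) * c : U)) =
        c * Subgroup.inclusion le_sup_left (a.symm ⟨t, ht⟩) :=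
      Subtype.ext (hCT c hc _ (a.symm ⟨t, ht⟩).2)
    have h2 := congrArg (fun w => ((b w : U) : Ω)) h1
    simp only [map_mul, Subgroup.coe_mul, hab, MulEquiv.apply_symm_apply] at h2
    exact h2
  have hgmul : ∀ {a a'}, good a → good a' → good (a * a') := by
    rintro a a' ⟨b, hb, hbx, hbc⟩ ⟨b', hb', hbx', hbc'⟩
    refine ⟨b * b', mul_mem hb hb', fun x => ?_, fun c hc => ?_⟩
    · show ((b (b' _) : U) : Ω) = ((a (a' x) : T) : Ω)
      rw [← hbx]
      exact congrArg (fun w => ((b w : U) : Ω)) (Subtype.ext (hbx' x))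
    · have h := mul_mem (hbc' c hc) (hbc (b' c) (hbC hb' hbx' c hc))
      simp only [mul_assoc, mul_inv_cancel_left] at h
      exact h
  have hgone : good 1 := ⟨1, one_mem _, fun x => rfl, fun c _ => by simp⟩
  have hgpow : ∀ {a}, good a → ∀ n : ℕ, good (a ^ n) := fun {a} h n => by
    induction n with
    | zero => simpa using hgone
    | succ n ih => rw [pow_succ]; exact hgmul ih h
  let G : Subgroup (MulAut T) :=
    { carrier := {a | good a}
      mul_mem' := hgmul
      one_mem' := hgone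
      inv_mem' := fun {a} h => by
        have e : a ^ (orderOf a - 1) = a⁻¹ := by
          refine eq_inv_of_mul_eq_one_left ?_
          rw [← pow_succ, Nat.sub_add_cancel (orderOf_pos a), pow_orderOf_eq_one]
        exact e ▸ hgpow h _ }
  suffices E.autGroup T ≤ G from this hα
  refine (Cfsg.Agent.FusionSub.autGroup_le_of_fullyAutomized
    (saturated_fullyNormalized (hS.to_le hTS) hEs (fullyNormalized_self E)).2).trans (sup_le ?_ ?_)
  · rw [Subgroup.map_le_iff_le_comap]
    refine (Subgroup.closure_le _).2 fun a ha => ?_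
    -- extend to `T C_S(T)`
    have haF : (a : MulAut T) ∈ F.autGroup T :=
      Cfsg.Agent.FusionSub.autGroup_le_of_isSubsystemOf hEi.1 T a.2
    have hfn : F.IsFullyNormalized T := by
      refine ⟨hTS, fun Q hQ => ?_⟩
      have hN : normalizerIn S T = S :=
        inf_eq_left.2 fun g hg => Subgroup.mem_normalizer_iff.2 fun x => (mem_iff_conj_mem hn hg).symm
      rw [hN]
      exact Nat.card_le_card_of_injective _ (Subgroup.inclusion_injective (normalizerIn_le Q))
    obtain ⟨ψ, hψ, hψe⟩ := exists_ext_aut' (saturated_receptive_of_fullyNormalized hS hF hfn) haF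
      (le_sup_left : T ≤ U) (sup_le (le_normalizerIn hTS) (centralizerIn_le_normalizerIn T))
      (sup_le (le_carried_self F hTS _) (centralizer_le_carried T _))
    have hr : ψ.range = U := by
      refine range_eq_of_image_le (F.injective_of_mem hψ) ?_ le_rfl
      rintro _ ⟨y, rfl⟩
      refine Cfsg.Agent.FusionAux.hom_sup_mem ψ (fun x hx => ?_) (fun x hx => ?_) y
      · refine Subgroup.mem_sup_left ?_
        have := hψe ⟨x, hx⟩
        exact this ▸ ((a : MulAut T) ⟨x, hx⟩).2
      · refine Subgroup.mem_sup_right ⟨map_mem_S F hψ _, fun t ht => ?_⟩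
        have h1 : (⟨((a : MulAut T).symm ⟨t, ht⟩ : T), Subgroup.mem_sup_left
            ((a : MulAut T).symm ⟨t, ht⟩).2⟩ * ⟨x, Subgroup.mem_sup_right hx⟩ : U) =
            ⟨x, Subgroup.mem_sup_right hx⟩ * ⟨((a : MulAut T).symm ⟨t, ht⟩ : T),
              Subgroup.mem_sup_left ((a : MulAut T).symm ⟨t, ht⟩).2⟩ :=
          Subtype.ext (hCT x hx _ ((a : MulAut T).symm ⟨t, ht⟩).2)
        have h2 := congrArg ψ h1
        have h3 := hψe ((a : MulAut T).symm ⟨t, ht⟩)
        rw [MulEquiv.apply_symm_apply] at h3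
        rw [map_mul, map_mul, show ψ ⟨((a : MulAut T).symm ⟨t, ht⟩ : T), _⟩ = t from h3] at h2
        exact h2
    set b₀ : F.autGroup U := ⟨_, toIso_mem_autGroup F hψ hr⟩ with hb₀
    obtain ⟨m, c, hc, hm, hdvd⟩ :=
      Cfsg.Agent.FusionAux.exists_pprime_exponent (p := p) (orderOf_pos b₀) (show (orderOf a).Coprime p from ha)
    have hmem : b₀ ^ m ∈ Cfsg.pResidual p (F.autGroup U) := by
      refine Subgroup.subset_closure ?_
      show (orderOf (b₀ ^ m)).Coprime p
      refine Nat.Coprime.coprime_dvd_left (orderOf_dvd_of_pow_eq_one ?_) hc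
      rw [← pow_mul]
      exact orderOf_dvd_iff_pow_eq_one.1 hdvd
    refine ⟨(b₀ ^ m : F.autGroup U), (b₀ ^ m).2, fun x => ?_, fun w hw => ?_⟩
    · have key : ∀ n : ℕ, ∀ x : T, ((((b₀ : MulAut U) ^ n) (Subgroup.inclusion le_sup_left x) : U) : Ω)
          = (((a : MulAut T) ^ n) x : T) := by
        intro n
        induction n with
        | zero => intro x; rfl
        | succ n ih =>
          intro x
          rw [pow_succ', MulAut.mul_apply, pow_succ', MulAut.mul_apply, ← hψe]
          exact congrArg ψ (Subtype.ext (ih x))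
      have h1 : a ^ m = a := by
        conv_rhs => rw [← pow_one a]
        exact pow_eq_pow_iff_modEq.2 hm
      have h2 : (a : MulAut T) ^ m = a := congrArg Subtype.val h1
      rw [Subgroup.coe_pow, key, h2]
      rfl
    · have h1 : (w : Ω)⁻¹ * (((b₀ ^ m : F.autGroup U) : MulAut U) w : U) ∈ T :=
        hT (focal_gen_mem_hyperfocal F hUS hmem w)
      refine ⟨h1, ?_⟩
      have hb : ∀ n : ℕ, ((((b₀ : MulAut U) ^ n) w : U) : Ω) ∈ centralizerIn S T := by
        intro n
        induction n with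
        | zero => exact hw
        | succ n ih =>
          rw [pow_succ', MulAut.mul_apply]
          exact hbC b₀.2 (fun x => hψe x) _ ih
      exact (Subgroup.centralizer (T : Set Ω)).mul_mem ((Subgroup.centralizer (T : Set Ω)).inv_mem hw.2) (hb m).2
  · intro a ha
    obtain ⟨t, ht, hta⟩ := mem_autInducedBy.1 ha
    have hmem : MulAut.conj (⟨t, Subgroup.mem_sup_left ht⟩ : U) ∈ F.autGroup U :=
      inn_le_autGroup F hUS ⟨_, rfl⟩
    refine ⟨_, hmem, fun x => (hta x).symm, fun c hc => ?_⟩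
    show (c : Ω)⁻¹ * (t * (c : Ω) * t⁻¹) ∈ _
    rw [hCT c hc t ht]
    simp

end Cfsg.Agent.S5120
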