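import Cfsg.Agent.FusionAlperin.SurjImage
import Cfsg.Statements.S5148
-- import your own Cfsg.Agent.* helpers here

set_option autoImplicit false
open Cfsg

namespace Cfsg.Agent.S5148

open Cfsg.Agent.FusionAlperin Cfsg.Agent.FusionSys Cfsg.FusionSystem

/-- A simple fusion system over an abelian group has no maps but inclusions. -/
theorem hom_trivial_of_simple {G : Type*} [Group G] {T : Subgroup G} [Finite T] {p : ℕ}
    [Fact p.Prime] (hT : IsPGroup p T) (hab : ∀ a ∈ T, ∀ b ∈ T, a * b = b * a)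
    {E : Cfsg.FusionSystem T} (hE : E.IsSimple p) {P : Subgroup G} {φ : P →* G}
    (hφ : φ ∈ E.Hom P) (x : P) : φ x = x := by
  have htriv : ∀ {P : Subgroup G} {φ : P →* G}, φ ∈ (Cfsg.innerFusionSystem T).Hom P →
      ∀ x : P, φ x = x := by
    rintro P φ ⟨hP, g, hg, h⟩ x
    rw [h, hab g hg x (hP x.2), mul_inv_cancel_right]
  have hsat : (Cfsg.innerFusionSystem T).IsSaturated p := by
    intro P hP
    haveI : Finite P := finite_of_le ‹_› hP
    refine ⟨P, isConj_refl _ hP, ⟨hP, ?_⟩, hP, ?_⟩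
    · have h1 : (Cfsg.innerFusionSystem T).autGroup P ≤ Cfsg.autInducedBy T P := by
        intro α hα
        obtain ⟨-, g, hg, h⟩ := autGroup_mem_hom _ hP hα
        exact mem_autInducedBy.2 ⟨g, hg, h⟩
      obtain ⟨R, hR⟩ := ((isPGroup_autInducedBy hT P).to_le h1).of_equiv
        Subgroup.topEquiv.symm |>.exists_le_sylow
      refine ⟨R, ?_⟩
      rw [top_le_iff.1 hR, eq_comm, Subgroup.subgroupOf_eq_top]
      exact h1
    · intro Q φ hφ hr
      have hle : extender T Q φ ≤ T := (extender_le_normalizerIn φ).trans inf_le_left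
      exact ⟨_, subtype_mem _ hle, fun x hP hN => (htriv hφ ⟨x, hP⟩).symm⟩
  have hnormal : (Cfsg.innerFusionSystem T).IsNormalIn E p := by
    refine ⟨⟨hsat, hE.1, fun P φ h => innerFusionSystem_le E P h, sc_self,
      fun P hPT φ hφ α hα => ?_, fun P hP φ hφ => ?_⟩, fun α hα => ?_⟩
    · refine ⟨_, subtype_mem (Cfsg.innerFusionSystem T)
        (P := (P.subgroupOf T).map (T.subtype.comp α.toMonoidHom)) ?_, fun x h1 h2 => ?_⟩
      · rintro _ ⟨y, -, rfl⟩
        exact (α y).2
      · exact congrArg (fun w : T => (w : G))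
          (congrArg α (Subtype.ext (htriv hφ x).symm))
    · have hext : T ≤ extender T P φ := by
        intro g hg
        refine centralizerIn_le_extender φ (mem_centralizerIn.2 ⟨hg, fun x hx => hab x (hP hx) g hg⟩)
      have hfc : E.IsFullyCentralized φ.range := by
        refine ⟨range_le_S E hφ, fun Q hQ => ?_⟩
        have hC : ∀ R, R ≤ T → centralizerIn T R = T := fun R hR =>
          le_antisymm inf_le_left fun g hg => ⟨hg, fun y hy => hab y (hR hy) g hg⟩
        rw [hC _ (range_le_S E hφ), hC _ (isConj_le_right hQ)]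
      obtain ⟨ψ, hψ, he, -, -⟩ :=
        receptive_extend (saturated_fullyCentralized hT hE.1 hfc) hφ rfl
      have hψT := restr_mem E hext hψ
      have hr : (restr hext ψ).range = T := eq_of_isConj_self ⟨_, hψT, rfl⟩
      exact ⟨_, toIso_mem_autGroup E hψT hr, _, subtype_mem _ hP, fun x hx => (he x).symm⟩
    · have hα' : α = 1 := MulEquiv.ext fun y =>
        Subtype.ext (htriv (autGroup_mem_hom _ le_rfl hα) y)
      refine ⟨1, one_mem _, fun y => by subst hα'; rfl, fun c _ => ?_⟩
      show (c : G)⁻¹ * (c : G) ∈ _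
      rw [inv_mul_cancel]
      exact one_mem _
  rcases hE.2.2 T _ hnormal with h | ⟨-, h⟩
  · exact absurd h hE.2.1
  · exact htriv ((h P).symm ▸ hφ : φ ∈ (Cfsg.innerFusionSystem T).Hom P) x


/-- A quasisimple fusion system over a finite p-group S (saturated, equal to its p-residual subsystem, with simple — in particular nontrivial — factor system modulo its centre) has S nonabelian. -/
theorem result {Ω : Type*} [Group Ω] {S : Subgroup Ω} [Finite S] (p : ℕ) [Fact p.Prime] (hS : IsPGroup p S) (F : Cfsg.FusionSystem S) (hq : F.Quasisimple p) : ¬ IsMulCommutative S := by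
  intro hab
  obtain ⟨hF, hhyp, hsimple⟩ := hq
  set θ := QuotientGroup.mk' ((F.center).subgroupOf S) with hθ
  have hZ := isNormal_stronglyClosed (isCentral_isNormal (isCentral_center F))
  have hker : ∀ s : S, θ s = 1 ↔ (s : Ω) ∈ F.center := fun s => QuotientGroup.eq_one_iff s
  have hfac := factorSystem_isFactorSystem F hZ θ hker (QuotientGroup.range_mk' _)
  have hE := hsimple _ hfac
  have hmor := (isSurjectiveMorphism_factor hS hF hZ hfac).1
  have habq : ∀ a ∈ (⊤ : Subgroup (S ⧸ (F.center).subgroupOf S)),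
      ∀ b ∈ (⊤ : Subgroup (S ⧸ (F.center).subgroupOf S)), a * b = b * a := by
    intro a _ b _
    obtain ⟨x, rfl⟩ := QuotientGroup.mk'_surjective _ a
    obtain ⟨y, rfl⟩ := QuotientGroup.mk'_surjective _ b
    rw [← map_mul, ← map_mul]
    exact congrArg _ (mul_comm' x y)
  have hpq : IsPGroup p (⊤ : Subgroup (S ⧸ (F.center).subgroupOf S)) :=
    (hS.to_quotient _).to_subgroup ⊤
  have hle : F.hyperfocalSubgroup p ≤ F.center := by
    refine (Subgroup.closure_le _).2 ?_
    rintro _ ⟨P, α, x, hP, -, rfl⟩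
    obtain ⟨φ', hφ', h1, h2, h3, he⟩ := hmor.2 _ _ (autGroup_mem_hom F hP α.2)
    have h4 := hom_trivial_of_simple hpq habq hE hφ' ⟨_, h3 x⟩
    have h5 : θ ⟨(((α : MulAut P) x : P) : Ω), h2 x⟩ = θ ⟨x, h1 x.2⟩ := (he x).symm.trans h4
    exact (hker (⟨x, h1 x.2⟩⁻¹ * ⟨((α : MulAut P) x : P), h2 x⟩)).1 (by
      rw [map_mul, map_inv, h5, inv_mul_cancel])
  refine hE.2.1 (eq_bot_iff.2 fun q _ => ?_)
  obtain ⟨x, rfl⟩ := QuotientGroup.mk'_surjective _ q
  exact Subgroup.mem_bot.2 ((hker x).2 (hle (hhyp.symm ▸ x.2)))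

end Cfsg.Agent.S5148
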