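import Cfsg.Agent.FusionAlperin.Hyperfocal
import Cfsg.Agent.FusionAux.Induction
import Cfsg.Statements.S5119
-- import your own Cfsg.Agent.* helpers here

set_option autoImplicit false
open Cfsg

namespace Cfsg.Agent.S5119

open Cfsg.Agent.FusionAlperin Cfsg.Agent.FusionSys Cfsg.FusionSystem

/-- Strong invariance at `Q = T`, in terms of `autExt`. -/
def InvT {Ω : Type*} [Group Ω] {S T : Subgroup Ω} (F : Cfsg.FusionSystem S)
    (E : Cfsg.FusionSystem T) : Prop :=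
  ∀ β ∈ F.autGroup T, ∀ (P : Subgroup Ω) (φ : P →* Ω), φ ∈ E.Hom P →
    ∃ χ ∈ E.Hom (autImage β P), ∀ (x : P) (h : autExt β x ∈ autImage β P),
      χ ⟨autExt β x, h⟩ = autExt β (φ x)

/-- A map is an automorphism of `T` in `F` composed with a map of `E`. -/
def Decomp {Ω : Type*} [Group Ω] {S T : Subgroup Ω} (F : Cfsg.FusionSystem S)
    (E : Cfsg.FusionSystem T) (P : Subgroup Ω) (f : P → Ω) : Prop :=
  ∃ α ∈ F.autGroup T, ∃ φ₀ ∈ E.Hom P, ∀ x : P, f x = autExt α (φ₀ x)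

section
variable {Ω : Type*} [Group Ω] {S T : Subgroup Ω} {F : Cfsg.FusionSystem S}
  {E : Cfsg.FusionSystem T}

theorem autExt_inv (α : MulAut T) {x : Ω} (hx : x ∈ T) : autExt α⁻¹ (autExt α x) = x := by
  rw [autExt_of_mem α hx, autExt_of_mem α⁻¹ (α ⟨x, hx⟩).2]
  exact congrArg Subtype.val (α.symm_apply_apply ⟨x, hx⟩)

theorem autExt_inv' (α : MulAut T) {x : Ω} (hx : x ∈ T) : autExt α (autExt α⁻¹ x) = x := by
  have := autExt_inv α⁻¹ hx
  rwa [inv_inv] at this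

theorem autExt_mul (α β : MulAut T) {x : Ω} (hx : x ∈ T) :
    autExt (α * β) x = autExt α (autExt β x) := by
  rw [autExt_of_mem (α * β) hx, autExt_of_mem β hx, autExt_of_mem α (β ⟨x, hx⟩).2]
  rfl

theorem decomp_comp (hI : InvT F E) {P Q : Subgroup Ω} {f : P → Ω} {g : Q → Ω}
    (hf : Decomp F E P f) (hg : Decomp F E Q g) (h : ∀ x, f x ∈ Q) :
    Decomp F E P (fun x => g ⟨f x, h x⟩) := by
  obtain ⟨α, hα, a, ha, hae⟩ := hf
  obtain ⟨β, hβ, b, hb, hbe⟩ := hg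
  obtain ⟨χ, hχ, hχe⟩ := hI α⁻¹ (inv_mem hα) Q b hb
  have hm : ∀ x, a x ∈ autImage α⁻¹ Q := by
    intro x
    have h1 := autExt_mem_autImage α⁻¹ (le_S E hb) (h x)
    rwa [hae, autExt_inv α (map_mem_S E ha x)] at h1
  refine ⟨β * α, mul_mem hβ hα, _, E.comp_mem ha hχ hm, fun x => ?_⟩
  show _ = autExt _ (χ ⟨a x, hm x⟩)
  have e : (⟨a x, hm x⟩ : autImage α⁻¹ Q) =
      ⟨_, autExt_mem_autImage α⁻¹ (le_S E hb) (h x)⟩ := by
    refine Subtype.ext ?_
    show a x = autExt α⁻¹ (f x)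
    rw [hae, autExt_inv α (map_mem_S E ha x)]
  have hbT := map_mem_S E hb ⟨f x, h x⟩
  rw [e, hχe ⟨f x, h x⟩ _, autExt_mul β α (by rw [autExt_of_mem _ hbT]; exact (α⁻¹ _).2),
    autExt_inv' α hbT]
  exact hbe _

theorem decomp_restrict {P R : Subgroup Ω} {f : P → Ω} (hf : Decomp F E P f) (h : R ≤ P)
    {g : R → Ω} (hg : ∀ x : R, g x = f ⟨x, h x.2⟩) : Decomp F E R g := by
  obtain ⟨α, hα, a, ha, hae⟩ := hf
  exact ⟨α, hα, _, restr_mem E h ha, fun x => (hg x).trans (hae _)⟩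

theorem decomp_symm (hI : InvT F E) {P Q : Subgroup Ω} (e : P ≃* Q)
    (hf : Decomp F E P (fun x => (e x : Ω))) : Decomp F E Q (fun y => (e.symm y : Ω)) := by
  obtain ⟨α, hα, a, ha, hae⟩ := hf
  obtain ⟨c, hc, hce⟩ := E.inv_mem ha
  obtain ⟨χ, hχ, hχe⟩ := hI α hα _ c hc
  have hle : Q ≤ autImage α a.range := by
    intro y hy
    have h1 := autExt_mem_autImage α (range_le_S E ha) (x := a (e.symm ⟨y, hy⟩)) ⟨_, rfl⟩
    rw [← hae] at h1
    simpa using h1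
  refine ⟨α⁻¹, inv_mem hα, _, restr_mem E hle hχ, fun y => ?_⟩
  obtain ⟨x, rfl⟩ := e.surjective y
  show ((e.symm (e x) : P) : Ω) = _
  rw [MulEquiv.symm_apply_apply]
  show (x : Ω) = autExt α⁻¹ (χ ⟨(e x : Ω), _⟩)
  have h2 := hχe ⟨a x, x, rfl⟩ (autExt_mem_autImage α (range_le_S E ha) ⟨_, rfl⟩)
  rw [hce x] at h2
  have e2 : (⟨(e x : Ω), hle (e x).2⟩ : autImage α a.range) =
      ⟨_, autExt_mem_autImage α (range_le_S E ha) (x := a x) ⟨_, rfl⟩⟩ := Subtype.ext (hae x)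
  rw [e2, h2, autExt_inv α (le_S E ha x.2)]

theorem decomp_of_invariance [Finite S] {p : ℕ} [Fact p.Prime] (hS : IsPGroup p S)
    (hF : F.IsSaturated p) (hT : F.StronglyClosed T) (hI : InvT F E)
    (hnorm : ∀ R, R ≤ T → ((E.autGroup R).subgroupOf (F.autGroup R)).Normal)
    {P : Subgroup Ω} (hP : P ≤ T) : ∀ φ ∈ F.Hom P, Decomp F E P φ := by
  haveI : Finite T := finite_of_le ‹_› hT.1
  refine downward_induction (S := T) (motive := fun P => ∀ φ ∈ F.Hom P, Decomp F E P φ) ?_ hP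
  intro P hP ih φ hφ
  have hval : ∀ x, φ x ∈ T := fun x => sc_map_mem hT hφ (hP x.2)
  rcases hP.eq_or_lt with rfl | hlt
  · haveI : Finite P := ‹_›
    have hr : φ.range = P := range_eq_of_image_le (F.injective_of_mem hφ)
      (by rintro _ ⟨x, rfl⟩; exact hval x) le_rfl
    exact ⟨_, toIso_mem_autGroup F hφ hr, _, subtype_mem E le_rfl,
      fun x => (autExt_of_mem (toIso F hφ hr) x.2).symm⟩
  obtain ⟨R, hPR, hR⟩ := exists_fullyNormalized F (hP.trans hT.1)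
  obtain ⟨f₀, hf₀, hf₀r⟩ := hPR
  have hRT : R ≤ T := hf₀r ▸ (by rintro _ ⟨x, rfl⟩; exact sc_map_mem hT hf₀ (hP x.2))
  have hcR : Nat.card P = Nat.card R := isConj_card_eq ⟨f₀, hf₀, hf₀r⟩
  have key : ∀ Q, Q ≤ T → F.IsConj Q R → ∃ f : Q ≃* R, IsIso F f ∧ Decomp F E Q (fun x => (f x : Ω)) := by
    intro Q hQT hQ
    obtain ⟨ψ, hψ, -, hψm⟩ := exists_normalizer_map_fullyNormalized hS hF hR hQ
    have hQlt : Q < T := lt_of_le_of_ne hQT fun h => by
      have h1 := card_lt_of_lt le_rfl hlt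
      have h2 := isConj_card_eq hQ
      rw [h] at h2
      omega
    have hNS : normalizerIn T Q ≤ normalizerIn S Q := inf_le_inf_right _ hT.1
    have hle := le_normalizerIn (S := S) (hQT.trans hT.1)
    have hr : (restr hle ψ).range = R := by rw [range_restr, hψm]
    refine ⟨toIso F (restr_mem F hle hψ) hr, toIso_isIso F _ _, ?_⟩
    refine decomp_restrict (ih (normalizerIn T Q) (normalizerIn_le Q) ?_ _ (restr_mem F hNS hψ))
      (le_normalizerIn hQT) fun x => rfl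
    rw [hcR, ← isConj_card_eq hQ]
    exact card_lt_of_lt (normalizerIn_le Q) (lt_normalizerIn (hS.to_le hT.1) hQlt)
  have hQT : φ.range ≤ T := by rintro _ ⟨x, rfl⟩; exact hval x
  obtain ⟨f₁, hf₁, hd₁⟩ := key P hP ⟨f₀, hf₀, hf₀r⟩
  obtain ⟨f₂, hf₂, hd₂⟩ := key φ.range hQT
    (isConj_trans (isConj_symm ⟨φ, hφ, rfl⟩) ⟨f₀, hf₀, hf₀r⟩)
  set a : MulAut R := f₁.symm.trans ((toIso F hφ rfl).trans f₂) with hadef
  have ha : a ∈ F.autGroup R :=
    (mem_autGroup F hR.1).2 (hf₁.symm.trans ((toIso_isIso F hφ rfl).trans hf₂))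
  -- the automorphism of the fully normalized subgroup
  haveI := hnorm R hRT
  obtain ⟨h, k, N, N', en, hRN, hak, hk, hen, -, hNn, hag, hext⟩ :=
    Cfsg.Agent.FusionAux.exists_frattini_extend hS hF hR ((E.autGroup R).subgroupOf (F.autGroup R))
      ⟨a, ha⟩
  have hN₀ : normalizerIn T R ≤ N := by
    intro g hg
    have hc : R.normalizerMonoidHom ⟨g, hg.2⟩ ∈ autInducedBy T R :=
      mem_autInducedBy.2 ⟨g, hg.1, fun _ => rfl⟩
    refine hext g ⟨hT.1 hg.1, hg.2⟩ ⟨⟨_, autInducedBy_le_autGroup F hR.1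
      (autInducedBy_mono hT.1 R hc)⟩, autInducedBy_le_autGroup E hRT hc, fun x => rfl⟩
  have hRlt : R < T := lt_of_le_of_ne hRT fun h => by
    have h1 := card_lt_of_lt le_rfl hlt
    rw [← h] at h1
    omega
  have hdh : Decomp F E R (fun x => ((h : MulAut R) x : Ω)) := by
    refine decomp_restrict (ih (normalizerIn T R) (normalizerIn_le R) ?_ _
      (restr_mem F hN₀ hen)) (le_normalizerIn hRT) fun x => (hag x).symm
    rw [hcR]
    exact card_lt_of_lt (normalizerIn_le R) (lt_normalizerIn (hS.to_le hT.1) hRlt)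
  have hdk : Decomp F E R (fun x => ((k : MulAut R) x : Ω)) :=
    ⟨1, one_mem _, _, autGroup_mem_hom E hRT hk,
      fun x => (autExt_of_mem (1 : MulAut T) (hRT ((k : MulAut R) x).2)).symm⟩
  have hda := decomp_comp hI hdk hdh fun x => ((k : MulAut R) x).2
  have h3 := decomp_comp hI hd₁ hda fun x => (f₁ x).2
  have h4 := decomp_comp hI h3 (decomp_symm hI f₂ hd₂) fun x => ((h : MulAut R) _).2
  refine decomp_restrict h4 le_rfl fun x => ?_
  have hv : ((h : MulAut R) ((k : MulAut R) (f₁ x))) = a (f₁ x) :=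
    (congrArg (fun m : F.autGroup R => (m : MulAut R) (f₁ x)) hak).symm
  have hw : a (f₁ x) = f₂ (toIso F hφ rfl x) := by
    show f₂ (toIso F hφ rfl (f₁.symm (f₁ x))) = _
    rw [MulEquiv.symm_apply_apply]
  show φ x = ((f₂.symm ⟨((h : MulAut R) ((k : MulAut R) (f₁ x)) : Ω), _⟩ : φ.range) : Ω)
  have e : (⟨((h : MulAut R) ((k : MulAut R) (f₁ x)) : Ω), ((h : MulAut R) _).2⟩ : R) =
      f₂ (toIso F hφ rfl x) := Subtype.ext (congrArg Subtype.val (hv.trans hw))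
  rw [e, MulEquiv.symm_apply_apply]
  rfl

end


/-- Let F be a saturated fusion system over a finite p-group S and E a subsystem of F over a subgroup T that is strongly closed in F. Then E is invariant in F (invariance under Aut_F(T) plus the Frattini condition) if and only if the strong invariance condition holds: for P ≤ Q ≤ T, every map φ of E from P into Q and every map ψ of F with source Q, the transported map ψ φ ψ⁻¹ on ψ(P) is a map of E. -/
theorem result {Ω : Type*} [Group Ω] {S : Subgroup Ω} [Finite S] (p : ℕ) [Fact p.Prime] (hS : IsPGroup p S) (F : Cfsg.FusionSystem S) (hF : F.IsSaturated p) {T : Subgroup Ω} (E : Cfsg.FusionSystem T) (hE : E.IsSubsystemOf F) (hT : F.StronglyClosed T) : E.IsInvariantIn F ↔ ∀ (P Q : Subgroup Ω) (hPQ : P ≤ Q) (_ : Q ≤ T) (φ : P →* Ω) (_ : φ ∈ E.Hom P) (hφQ : ∀ x : P, φ x ∈ Q) (ψ : Q →* Ω) (_ : ψ ∈ F.Hom Q), ∃ χ ∈ E.Hom ((P.subgroupOf Q).map ψ), ∀ (x : P) (hx : ψ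 (Subgroup.inclusion hPQ x) ∈ (P.subgroupOf Q).map ψ), χ ⟨ψ (Subgroup.inclusion hPQ x), hx⟩ = ψ ⟨φ x, hφQ x⟩ := by
  haveI : Finite T := finite_of_le ‹_› hT.1
  constructor
  · rintro ⟨-, -, hinv, hfr⟩ P Q hPQ hQT φ hφ hφQ ψ hψ
    obtain ⟨α, hα, ψ₀, hψ₀, hψe⟩ := hfr Q hQT ψ hψ
    obtain ⟨c, hc, hce⟩ := E.inv_mem (restr_mem E hPQ hψ₀)
    have hcQ : ∀ y, c y ∈ P := fun y => by
      obtain ⟨x, hx⟩ := y.2
      have hy : y = ⟨restr hPQ ψ₀ x, x, rfl⟩ := Subtype.ext hx.symm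
      rw [hy, hce]
      exact x.2
    have h1 := E.comp_mem hc hφ hcQ
    have h2 := E.comp_mem h1 hψ₀ (fun y => hφQ _)
    have hR : (restr hPQ ψ₀).range ≤ T := range_le_S E (restr_mem E hPQ hψ₀)
    obtain ⟨χ, hχ, hχe⟩ := hinv _ hR _ h2 α hα
    have hψv : ∀ y : Q, ∀ hy : ψ₀ y ∈ T, ψ y = (α ⟨ψ₀ y, hy⟩ : T) := hψe
    have hle : (P.subgroupOf Q).map ψ ≤
        ((restr hPQ ψ₀).range.subgroupOf T).map (T.subtype.comp α.toMonoidHom) := by
      rintro _ ⟨y, hy, rfl⟩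
      exact ⟨⟨ψ₀ y, map_mem_S E hψ₀ y⟩, ⟨⟨y, hy⟩, rfl⟩, (hψv y _).symm⟩
    refine ⟨_, restr_mem E hle hχ, fun x hx => ?_⟩
    have hαmem := hle hx
    rw [hψv _ (map_mem_S E hψ₀ _)] at hαmem
    have hz : (restr hPQ ψ₀) x ∈ (restr hPQ ψ₀).range := ⟨x, rfl⟩
    have h3 := hχe ⟨_, hz⟩ (map_mem_S E h2 _) hαmem
    show χ ⟨ψ (Subgroup.inclusion hPQ x), _⟩ = _
    refine Eq.trans (congrArg χ (Subtype.ext (hψv _ (map_mem_S E hψ₀ _)))) (h3.trans ?_)
    rw [hψv _ (map_mem_S E hψ₀ _)]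
    refine congrArg (fun w => ((α w : T) : Ω)) (Subtype.ext ?_)
    show ψ₀ ⟨φ ⟨c ⟨_, hz⟩, _⟩, _⟩ = ψ₀ ⟨φ x, _⟩
    exact congrArg ψ₀ (Subtype.ext (congrArg φ (Subtype.ext (hce x))))
  · intro h
    have hI : InvT F E := by
      intro β hβ P φ hφ
      obtain ⟨χ, hχ, he⟩ := h P T (le_S E hφ) le_rfl φ hφ (map_mem_S E hφ)
        (T.subtype.comp β.toMonoidHom) (autGroup_mem_hom F hT.1 hβ)
      refine ⟨χ, hχ, fun x hx => ?_⟩
      have e : (⟨autExt β x, hx⟩ : autImage β P) =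
          ⟨(T.subtype.comp β.toMonoidHom) (Subgroup.inclusion (le_S E hφ) x),
            ⟨_, x.2, rfl⟩⟩ := Subtype.ext (autExt_of_mem β (le_S E hφ x.2))
      rw [e]
      exact (he x _).trans (autExt_of_mem β (map_mem_S E hφ x)).symm
    have hnorm : ∀ R, R ≤ T → ((E.autGroup R).subgroupOf (F.autGroup R)).Normal := by
      intro R hR
      refine ⟨fun b hb a => ?_⟩
      have hb' : (b : MulAut R) ∈ E.autGroup R := hb
      obtain ⟨χ, hχ, he⟩ := h R R le_rfl hR _ (autGroup_mem_hom E hR hb')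
        (fun x => ((b : MulAut R) x).2) _ (autGroup_mem_hom F (hR.trans hT.1) a.2)
      have hle : R ≤ (R.subgroupOf R).map (R.subtype.comp (a : MulAut R).toMonoidHom) := fun y hy =>
        ⟨(a : MulAut R).symm ⟨y, hy⟩, (((a : MulAut R).symm ⟨y, hy⟩).2),
          congrArg Subtype.val ((a : MulAut R).apply_symm_apply ⟨y, hy⟩)⟩
      refine (mem_autGroup E hR).2 (mem_hom_congr E (restr_mem E hle hχ) fun y => ?_)
      have h1 := he ((a : MulAut R).symm y) (hle (by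
        show ((a : MulAut R) ((a : MulAut R).symm y) : Ω) ∈ R
        rw [MulEquiv.apply_symm_apply]; exact y.2))
      refine Eq.trans ?_ ((congrArg χ (Subtype.ext ?_)).trans h1).symm
      · rfl
      · exact (congrArg Subtype.val ((a : MulAut R).apply_symm_apply y)).symm
    refine ⟨hE, hT, fun P hPT φ hφ α hα => ?_, fun P hP φ hφ => ?_⟩
    · obtain ⟨χ, hχ, he⟩ := hI α hα P φ hφ
      refine ⟨χ, hχ, fun x hφx hαx => ?_⟩
      have e : (⟨_, hαx⟩ : autImage α P) = ⟨autExt α x, autExt_mem_autImage α hPT x.2⟩ :=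
        Subtype.ext (autExt_of_mem α (hPT x.2)).symm
      rw [e, he, autExt_of_mem α hφx]
    · obtain ⟨α, hα, φ₀, hφ₀, he⟩ := decomp_of_invariance hS hF hT hI hnorm hP φ hφ
      exact ⟨α, hα, φ₀, hφ₀, fun x hx => (he x).trans (autExt_of_mem α hx)⟩

end Cfsg.Agent.S5119
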