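import Cfsg.Agent.FusionAlperin.SurjImage
import Cfsg.Statements.S5128
-- import your own Cfsg.Agent.* helpers here

set_option autoImplicit false
open Cfsg

namespace Cfsg.Agent.S5128

open Cfsg.Agent.FusionAlperin Cfsg.Agent.FusionSys Cfsg.FusionSystem
open scoped Pointwise


/-- In a saturated fusion system over a finite p-group S, the product of two strongly closed subgroups is strongly closed. -/
theorem result {Ω : Type*} [Group Ω] {S : Subgroup Ω} [Finite S] (p : ℕ) [Fact p.Prime] (hS : IsPGroup p S) (F : Cfsg.FusionSystem S) (hF : F.IsSaturated p) (T₁ T₂ : Subgroup Ω) (h₁ : F.StronglyClosed T₁) (h₂ : F.StronglyClosed T₂) : F.StronglyClosed (T₁ ⊔ T₂) := by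
  refine sc_of_elements (sup_le h₁.1 h₂.1) fun P φ hφ x hx => ?_
  have hx' : (x : Ω) ∈ (T₁ : Set Ω) * (T₂ : Set Ω) := by
    rw [← Subgroup.coe_mul_of_left_le_normalizer_right T₁ T₂ (h₁.1.trans (sc_le_normalizer h₂))]
    exact hx
  obtain ⟨t₁, ht₁, t₂, ht₂, hxe⟩ := hx'
  obtain ⟨ψ, hψ, hc⟩ := Cfsg.Agent.FusionAux.exists_extend_mod hS hF h₁ P φ.range
    (toIso F hφ rfl) (toIso_isIso F hφ rfl)
  have ht₁' : t₁ ∈ P ⊔ T₁ := Subgroup.mem_sup_right ht₁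
  have ht₂' : t₂ ∈ P ⊔ T₁ := by
    have : t₂ = t₁⁻¹ * (x : Ω) := by rw [← hxe]; group
    exact this ▸ mul_mem (inv_mem ht₁') (Subgroup.mem_sup_left x.2)
  have h := (T₁ ⊔ T₂).mul_mem
    (Subgroup.mem_sup_left (sc_map_mem h₁ hψ (x := ⟨t₁, ht₁'⟩) ht₁))
    (Subgroup.mem_sup_right (sc_map_mem h₂ hψ (x := ⟨t₂, ht₂'⟩) ht₂))
  rw [← map_mul] at h
  have e : (⟨t₁, ht₁'⟩ * ⟨t₂, ht₂'⟩ : ↥(P ⊔ T₁)) = Subgroup.inclusion le_sup_left x :=
    Subtype.ext hxe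
  rw [e] at h
  have hcx : (φ x)⁻¹ * ψ (Subgroup.inclusion le_sup_left x) ∈ T₁ := hc x
  have h2 := (T₁ ⊔ T₂).mul_mem h ((T₁ ⊔ T₂).inv_mem (Subgroup.mem_sup_left hcx))
  simpa using h2

end Cfsg.Agent.S5128
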