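import Cfsg.Statements.S5256
import Cfsg.Agent.FusionAux.ModStronglyClosed
import Cfsg.Agent.FusionAux.FactorAut

set_option autoImplicit false
open Cfsg Cfsg.FusionSystem Cfsg.Agent.FusionSys Cfsg.Agent.FusionAlperin Cfsg.Agent.FusionAux

namespace Cfsg.Agent.S5256

/-- Let F be a saturated fusion system over a finite p-group S, T a subgroup of S strongly closed in F, and E a factor system F/T realised along a homomorphism θ of S with kernel T. Then the hyperfocal subgroup of E is the image under θ of the hyperfocal subgroup of F (hyp(F/T) = T·hyp(F)/T). -/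
theorem result {Ω : Type*} [Group Ω] {S : Subgroup Ω} [Finite S] (p : ℕ) [Fact p.Prime] (hS : IsPGroup p S) (F : Cfsg.FusionSystem S) (hF : F.IsSaturated p) (T : Subgroup Ω) (hT : F.StronglyClosed T) {Ω' : Type*} [Group Ω'] {S' : Subgroup Ω'} (θ : ↥S →* Ω') (E : Cfsg.FusionSystem S') (hE : F.IsFactorSystem T θ E) : E.hyperfocalSubgroup p = ((F.hyperfocalSubgroup p).subgroupOf S).map θ := by
  obtain ⟨-, hker, hrange, hEiff⟩ := id hE
  set D : Subgroup Ω' := ((F.hyperfocalSubgroup p).subgroupOf S).map θ
  apply le_antisymm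
  · refine (Subgroup.closure_le _).2 ?_
    rintro _ ⟨P', a, x', hP', ha, rfl⟩
    -- reduce to automorphisms of order prime to `p`
    revert x'
    induction ha using Subgroup.closure_induction with
    | mem a ha =>
      intro x'
      obtain ⟨-, φ, hφ, hind⟩ := (hEiff P' _).1 (autGroup_mem_hom E hP' a.2)
      have hPS := preimageAlong_le (θ := θ) P'
      have hfin : Finite (preimageAlong θ P') := finite_of_le ‹_› hPS
      have hr : φ.range = preimageAlong θ P' := by
        refine range_eq_of_image_le (F.injective_of_mem hφ) ?_ le_rfl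
        rintro _ ⟨y, rfl⟩
        obtain ⟨hy, he⟩ := inducedAlong_apply hind y
        exact mem_preimageAlong.2 ⟨hy, he ▸ ((a : MulAut P') _).2⟩
      let β : MulAut (preimageAlong θ P') := toIso F hφ hr
      have hβ : β ∈ F.autGroup _ := toIso_mem_autGroup F hφ hr
      obtain ⟨m, c, hc, hm, hdvd⟩ :=
        exists_pprime_exponent (b := orderOf β) (orderOf_pos β) ha
      have hcop : Nat.Coprime (orderOf (⟨β ^ m, pow_mem hβ m⟩ : F.autGroup (preimageAlong θ P'))) p := by
        refine Nat.Coprime.coprime_dvd_left (orderOf_dvd_of_pow_eq_one ?_) hc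
        apply Subtype.ext
        show (β ^ m) ^ c = 1
        rw [← pow_mul, ← orderOf_dvd_iff_pow_eq_one]
        exact hdvd
      obtain ⟨y, hy⟩ := exists_preimage (hP'.trans hrange.ge) x'
      have hpow : ∀ (n : ℕ) (y : preimageAlong θ P'),
          (((a : MulAut P') ^ n) ⟨θ ⟨y, hPS y.2⟩, theta_mem_of_mem_preimage y⟩ : Ω') =
            θ ⟨((β ^ n) y : preimageAlong θ P'), hPS ((β ^ n) y).2⟩ := by
        intro n
        induction n with
        | zero => intro y; rfl
        | succ n ih =>
          intro y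
          obtain ⟨hy', he⟩ := inducedAlong_apply hind ((β ^ n) y)
          have hih : ((a : MulAut P') ^ n) ⟨θ ⟨y, hPS y.2⟩, theta_mem_of_mem_preimage y⟩ =
              ⟨θ ⟨((β ^ n) y : preimageAlong θ P'), hPS ((β ^ n) y).2⟩,
                theta_mem_of_mem_preimage _⟩ := Subtype.ext (ih y)
          simp only [pow_succ', MulAut.mul_apply, hih]
          exact he
      have ham : (a : MulAut P') ^ m = (a : MulAut P') := by
        conv_rhs => rw [← pow_one (a : MulAut P')]
        rw [pow_eq_pow_iff_modEq, Subgroup.orderOf_coe]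
        exact hm
      have h1 := hpow m y
      rw [ham] at h1
      have e : x' = ⟨θ ⟨y, hPS y.2⟩, theta_mem_of_mem_preimage y⟩ := Subtype.ext hy.symm
      subst e
      refine ⟨⟨(y : Ω), hPS y.2⟩⁻¹ * ⟨((β ^ m) y : preimageAlong θ P'), hPS ((β ^ m) y).2⟩, ?_, ?_⟩
      · exact Subgroup.subset_closure
          ⟨_, ⟨β ^ m, pow_mem hβ m⟩, y, hPS, Subgroup.subset_closure hcop, rfl⟩
      · rw [map_mul, map_inv, ← h1]
    | one => intro x'; simp
    | mul a b _ _ iha ihb =>
      intro x'
      have := D.mul_mem (ihb x') (iha ((b : MulAut P') x'))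
      simpa [mul_assoc] using this
    | inv a _ iha =>
      intro x'
      have := D.inv_mem (iha ((a : MulAut P').symm x'))
      simpa [mul_assoc] using this
  · suffices h : F.hyperfocalSubgroup p ≤ ((E.hyperfocalSubgroup p).comap θ).map S.subtype by
      rintro _ ⟨y, hy, rfl⟩
      obtain ⟨z, hz, hzy⟩ := h (Subgroup.mem_subgroupOf.1 hy)
      obtain rfl : z = y := Subtype.ext hzy
      exact hz
    refine (Subgroup.closure_le _).2 ?_
    rintro _ ⟨P, a, x, hP, ha, rfl⟩
    revert x
    induction ha using Subgroup.closure_induction with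
    | mem a ha =>
      intro x
      refine ⟨⟨(x : Ω), hP x.2⟩⁻¹ * ⟨((a : MulAut P) x : P), hP ((a : MulAut P) x).2⟩, ?_, rfl⟩
      rw [SetLike.mem_coe, Subgroup.mem_comap, map_mul, map_inv]
      obtain ⟨φ, hφ, hφc⟩ := exists_extend_mod hS hF hT P P _ ((mem_autGroup F hP).1 a.2)
      have hr := range_eq_sup hT hφ hφc
      have hRS : P ⊔ T ≤ S := sup_le hP hT.1
      have : Finite ↥(P ⊔ T) := finite_of_le ‹_› hRS
      let β : MulAut ↥(P ⊔ T) := toIso F hφ hr
      have hβ : β ∈ F.autGroup _ := toIso_mem_autGroup F hφ hr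
      obtain ⟨m, c, hc, hm, hdvd⟩ :=
        exists_pprime_exponent (b := orderOf β) (orderOf_pos β) ha
      -- `β ^ m` agrees with `a` modulo `T` on `P`
      have hpow : ∀ (n : ℕ) (x : P), ((((a : MulAut P) ^ n) x : P) : Ω)⁻¹ *
          ((β ^ n) (Subgroup.inclusion le_sup_left x) : ↥(P ⊔ T)) ∈ T := by
        intro n
        induction n with
        | zero => intro x; simp
        | succ n ih =>
          intro x
          have h1 := hφc (((a : MulAut P) ^ n) x)
          have h2 : φ ⟨_, Subgroup.mem_sup_right (ih x)⟩ ∈ T := sc_map_mem hT hφ (ih x)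
          have h3 := T.mul_mem h1 h2
          rw [mul_assoc, ← map_mul] at h3
          simp only [pow_succ', MulAut.mul_apply]
          convert h3 using 3
          show φ _ = φ _
          exact congrArg φ (Subtype.ext (by simp))
      have ham : (a : MulAut P) ^ m = (a : MulAut P) := by
        conv_rhs => rw [← pow_one (a : MulAut P)]
        rw [pow_eq_pow_iff_modEq, Subgroup.orderOf_coe]
        exact hm
      have hc1 := hpow m x
      rw [ham] at hc1
      obtain ⟨γ, hγ, hγo, hγe⟩ := exists_induced_aut hT hE hRS le_sup_right (pow_mem hβ m)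
      have hcop : Nat.Coprime (orderOf (⟨γ, hγ⟩ : E.autGroup (imageAlong θ (P ⊔ T)))) p := by
        rw [← Subgroup.orderOf_coe]
        refine Nat.Coprime.coprime_dvd_left (hγo.trans (orderOf_dvd_of_pow_eq_one ?_)) hc
        rw [← pow_mul, ← orderOf_dvd_iff_pow_eq_one]
        exact hdvd
      have hx' : θ ⟨x, hP x.2⟩ ∈ imageAlong θ (P ⊔ T) :=
        Subgroup.mem_map_of_mem _ (Subgroup.mem_sup_left x.2 : (x : Ω) ∈ P ⊔ T)
      refine Subgroup.subset_closure
        ⟨_, ⟨γ, hγ⟩, ⟨_, hx'⟩, hrange ▸ Subgroup.map_le_range _ _, Subgroup.subset_closure hcop, ?_⟩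
      show (θ ⟨x, hP x.2⟩)⁻¹ * θ ⟨((a : MulAut P) x : P), _⟩ = (θ ⟨x, hP x.2⟩)⁻¹ * _
      refine Eq.trans ?_ (congrArg (fun z => (θ ⟨x, hP x.2⟩)⁻¹ * z)
        (hγe (Subgroup.inclusion le_sup_left x) hx').symm)
      congr 1
      rw [← inv_mul_eq_one, ← map_inv, ← map_mul]
      exact (hker _).2 hc1
    | one => intro x; simp
    | mul a b _ _ iha ihb =>
      intro x
      have := mul_mem (ihb x) (iha ((b : MulAut P) x))
      simpa [mul_assoc] using this
    | inv a _ iha =>
      intro x
      have := inv_mem (iha ((a : MulAut P).symm x))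
      simpa [mul_assoc] using this

end Cfsg.Agent.S5256
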