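import Cfsg.Statements.S5226
import Cfsg.Agent.FusionAux.NormalRadical
import Mathlib.GroupTheory.Nilpotent

set_option autoImplicit false
open Cfsg Cfsg.FusionSystem Cfsg.Agent.FusionSys Cfsg.Agent.FusionAlperin Cfsg.Agent.FusionAux
open scoped commutatorElement

namespace Cfsg.Agent.S5226

/-- Let F be a saturated fusion system over a finite p-group S and Q a subgroup of S. Then Q is normal in F (F equals the normalizer system of Q) if and only if Q is strongly closed in F and admits a central series 1 = Q₀ ≤ Q₁ ≤ ⋯ ≤ Qₙ = Q ([Qᵢ₊₁, Q] ≤ Qᵢ) all of whose proper terms are weakly closed in F. -/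
theorem result {Ω : Type*} [Group Ω] {S : Subgroup Ω} [Finite S] (p : ℕ) [Fact p.Prime] (hS : IsPGroup p S) (F : Cfsg.FusionSystem S) (hF : F.IsSaturated p) (Q : Subgroup Ω) : F.IsNormal Q ↔ F.StronglyClosed Q ∧ ∃ (n : ℕ) (C : Fin (n + 1) → Subgroup Ω), C 0 = ⊥ ∧ C (Fin.last n) = Q ∧ Monotone C ∧ (∀ i : Fin n, ⁅C i.succ, Q⁆ ≤ C i.castSucc) ∧ ∀ i : Fin n, F.WeaklyClosed (C i.castSucc) := by
  constructor
  · intro hQ
    have hsc := isNormal_stronglyClosed hQ
    have hQS := hQ.1
    have : Finite Q := finite_of_le ‹_› hQS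
    have : Group.IsNilpotent Q := (hS.to_le hQS).isNilpotent
    obtain ⟨n, hn⟩ := Group.IsNilpotent.nilpotent Q
    let C : ℕ → Subgroup Ω := fun i => (Subgroup.upperCentralSeries Q i).map Q.subtype
    refine ⟨hsc, n, fun i => C i, ?_, ?_, fun i j h => Subgroup.map_mono
      (Subgroup.upperCentralSeries_mono Q h), fun i => ?_, fun i => ?_⟩
    · simp [C]
    · show C n = Q
      simp only [C, hn]
      rw [← MonoidHom.range_eq_map, Subgroup.range_subtype]
    · have h := Subgroup.map_mono (f := Q.subtype)
        (Subgroup.commutator_upperCentralSeries_top_le Q (i : ℕ))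
      rw [Subgroup.map_commutator, ← MonoidHom.range_eq_map, Subgroup.range_subtype] at h
      exact h
    · refine ⟨(Subgroup.map_subtype_le _).trans hQS, fun φ hφ => ?_⟩
      obtain ⟨ψ, hψ, hψe, hψQ⟩ := hQ.2 _ φ hφ
      have hle : Q ≤ C i ⊔ Q := le_sup_right
      let χ := restr hle ψ
      have hr : χ.range = Q := by rw [range_restr]; exact hψQ
      let β : MulAut Q := toIso F (restr_mem F hle hψ) hr
      have hchar : ∀ y : Q, y ∈ Subgroup.upperCentralSeries Q (i : ℕ) →
          β y ∈ Subgroup.upperCentralSeries Q (i : ℕ) := fun y hy =>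
        (Subgroup.characteristic_iff_le_comap.1 inferInstance β) hy
      refine @range_eq_of_image_le _ _ _ _ (finite_of_le (S := S) inferInstance
        ((Subgroup.map_subtype_le _).trans hQS)) φ (F.injective_of_mem hφ) ?_ le_rfl
      rintro _ ⟨⟨_, y, hy, rfl⟩, rfl⟩
      rw [← hψe]
      exact ⟨β y, hchar y hy, rfl⟩
  · rintro ⟨hsc, n, C, hC0, hCn, hmono, hcomm, hwc⟩
    refine isNormal_of_sc_radical hS hF hsc fun R hR hcent hrad => ?_
    have hRS := hR.1
    suffices h : ∀ i : Fin (n + 1), C i ≤ R from hCn ▸ h (Fin.last n)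
    intro i
    induction i using Fin.induction with
    | zero => rw [hC0]; exact bot_le
    | succ i ih =>
      have hCQ : ∀ j, C j ≤ Q := fun j => (hmono (Fin.le_last j)).trans_eq hCn
      let c : ℕ → Subgroup Ω := fun j => C ⟨min j i, by have := i.2; omega⟩
      let D : ℕ → Subgroup Ω := fun j =>
        if j ≤ i then c j else if j = i + 1 then R ⊓ Q else R
      have hci : c (i : ℕ) = C i.castSucc := congrArg C (Fin.ext (min_self _))
      have hcR : ∀ j, c j ≤ R := fun j => by
        refine le_trans (hmono ?_) ih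
        exact min_le_right j (i : ℕ)
      have hnorm : R ≤ Subgroup.normalizer (Q : Set Ω) := hRS.trans (sc_le_normalizer hsc)
      -- elements of `C (i+1)` normalizing `R` lie in `R`
      have key : ∀ g ∈ C i.succ, g ∈ normalizerIn S R → g ∈ R := by
        intro g hg hgN
        refine mem_of_stabilizes hS hcent hrad D ((i : ℕ) + 2) ?_ ?_ ?_ ?_ hgN ?_
        · simp only [D, if_pos (Nat.zero_le _), c]
          refine (congrArg C (Fin.ext ?_)).trans hC0
          simp
        · simp [D]
        · refine monotone_nat_of_le_succ fun j => ?_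
          simp only [D]
          split_ifs <;> first
            | omega
            | exact le_inf (hcR _) (hCQ _)
            | exact hcR _
            | exact inf_le_left
            | exact le_rfl
            | exact hmono (show min j (i : ℕ) ≤ min (j + 1) (i : ℕ) by omega)
        · intro j hj a ha x hx
          simp only [D] at hx ⊢
          split_ifs at hx ⊢ with h1 h2
          · -- `c j` is weakly closed
            obtain ⟨j', hj'⟩ : ∃ j' : Fin n, C j'.castSucc = c j := by
              have := i.2
              exact ⟨⟨min j i, by omega⟩, rfl⟩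
            rw [← hj'] at hx ⊢
            have hle : C j'.castSucc ≤ R := hj' ▸ hcR j
            have h3 := (hwc j').2 _ (restr_mem F hle (autGroup_mem_hom F hRS ha))
            exact h3.le ⟨⟨x, hx⟩, rfl⟩
          · exact ⟨(a x).2, sc_map_mem hsc (autGroup_mem_hom F hRS ha) hx.2⟩
          · exact (a x).2
        · intro j hj x hxR hx
          have hconjR : g * x * g⁻¹ ∈ R := (Subgroup.mem_normalizer_iff.1 hgN.2 x).1 hxR
          have hgQ : g ∈ Q := hCQ _ hg
          rcases Nat.lt_or_ge j i with h | h
          · simp only [D, if_pos h.le, if_pos (Nat.succ_le_of_lt h)] at hx ⊢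
            have := i.2
            have hjn : j < n := by omega
            have e1 : c (j + 1) = C (⟨j, hjn⟩ : Fin n).succ :=
              congrArg C (Fin.ext (min_eq_left (Nat.succ_le_of_lt h)))
            have e2 : c j = C (⟨j, hjn⟩ : Fin n).castSucc := congrArg C (Fin.ext (min_eq_left h.le))
            rw [e1] at hx
            rw [e2]
            have h5 : ⁅x⁻¹, g⁆ ∈ C (⟨j, hjn⟩ : Fin n).castSucc :=
              hcomm ⟨j, hjn⟩ (Subgroup.commutator_mem_commutator (Subgroup.inv_mem _ hx) hgQ)
            simpa [commutatorElement_def, mul_assoc] using h5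
          rcases Nat.eq_or_lt_of_le h with rfl | h
          · simp only [D, if_pos le_rfl, if_neg (Nat.not_succ_le_self _), if_pos] at hx ⊢
            rw [hci]
            have h6 : ⁅x⁻¹, g⁆ ∈ C i.castSucc := by
              refine hcomm i ?_
              rw [Subgroup.commutator_comm]
              exact Subgroup.commutator_mem_commutator (Q.inv_mem hx.2) hg
            simpa [commutatorElement_def, mul_assoc] using h6
          · obtain rfl : j = (i : ℕ) + 1 := by omega
            simp only [D, if_neg (Nat.not_succ_le_self _), if_pos]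
            refine ⟨R.mul_mem (R.inv_mem hxR) hconjR, ?_⟩
            have h7 : x⁻¹ * g * x⁻¹⁻¹ ∈ Q := sc_conj_mem hsc (S.inv_mem (hRS hxR)) hgQ
            simpa [mul_assoc] using Q.mul_mem h7 (Q.inv_mem hgQ)
      -- `C (i+1)` is normal in `S`
      have hCn' : S ≤ Subgroup.normalizer (C i.succ : Set Ω) := by
        rcases (i.succ).eq_castSucc_or_eq_last with ⟨j, hj⟩ | hl
        · rw [hj]
          intro s hs
          have h1 := (hwc j).2 _ (F.conj_mem (hwc j).1 hs)
          have h2 := (hwc j).2 _ (F.conj_mem (hwc j).1 (S.inv_mem hs))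
          refine Subgroup.mem_normalizer_iff.2 fun y => ⟨fun hy => h1.le ⟨⟨y, hy⟩, rfl⟩, fun hy => ?_⟩
          have := h2.le ⟨⟨_, hy⟩, rfl⟩
          simpa [conjHom, mul_assoc] using this
        · rw [hl, hCn]; exact sc_le_normalizer hsc
      by_contra hnot
      have hsupS : R ⊔ C i.succ ≤ S := sup_le hRS ((hCQ _).trans hsc.1)
      have : Finite ↥(R ⊔ C i.succ) := finite_of_le ‹_› hsupS
      obtain ⟨g, hg, hgN, hgR⟩ := exists_normalizer_mem_not_mem (hS.to_le hsupS)
        (lt_of_le_of_ne le_sup_left fun h => hnot (h ▸ le_sup_right) : R < R ⊔ C i.succ)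
      rw [← SetLike.mem_coe, Subgroup.coe_mul_of_left_le_normalizer_right _ _ (hRS.trans hCn')] at hg
      obtain ⟨r, hr, t, ht, rfl⟩ := hg
      refine hgR (R.mul_mem hr (key t ht ⟨hsc.1 (hCQ _ ht), ?_⟩))
      simpa using mul_mem (inv_mem (Subgroup.le_normalizer (H := R) hr)) hgN

end Cfsg.Agent.S5226
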