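import Cfsg.Statements.S5233
import Cfsg.Agent.S5226
import Cfsg.Agent.FusionAux.GenExtraspecial
import Cfsg.Agent.FusionAux.SeriesStab

set_option autoImplicit false
open Cfsg Cfsg.FusionSystem Cfsg.Agent.FusionSys Cfsg.Agent.FusionAux
open Cfsg.Agent.FusionAlperin (sc_map_mem sc_le_normalizer sc_conj_mem sc_of_elements exists_ext_aut
  exists_ext_of_normal)
open scoped commutatorElement IsMulCommutative

namespace Cfsg.Agent.S5233

variable {Ω : Type*} [Group Ω] {S : Subgroup Ω} [Finite S] {p : ℕ} [Fact p.Prime]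
  {F : FusionSystem S}

/-- A strongly closed abelian subgroup is normal. -/
theorem isNormal_of_abelian (hS : IsPGroup p S) (hF : F.IsSaturated p) {C : Subgroup Ω}
    (hC : F.StronglyClosed C) (hab : ∀ a ∈ C, ∀ b ∈ C, a * b = b * a) : F.IsNormal C := by
  refine (Cfsg.Agent.S5226.result p hS F hF C).2 ⟨hC, 1, ![⊥, C], rfl, rfl, ?_, ?_, ?_⟩
  · intro i j h
    fin_cases i <;> fin_cases j <;> simp at h ⊢
  · intro i
    fin_cases i
    show ⁅C, C⁆ ≤ ⊥
    rw [Subgroup.commutator_le]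
    intro a ha b hb
    rw [Subgroup.mem_bot, commutatorElement_eq_one_iff_mul_comm]
    exact hab a ha b hb
  · intro i
    fin_cases i
    refine ⟨bot_le, fun φ hφ => ?_⟩
    show φ.range = ⊥
    rw [eq_bot_iff]
    rintro _ ⟨x, rfl⟩
    obtain rfl : x = 1 := Subtype.ext (Subgroup.mem_bot.1 x.2)
    exact Subgroup.mem_bot.2 (map_one φ)

/-- The final contradiction: the elementary abelian normal subgroup `C` of index `p` in `P`, and an
automorphism `α` of `C` moving the commutator line to another line. -/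
theorem no_fusion (hS : IsPGroup p S) (hF : F.IsSaturated p) (hp2 : p ≠ 2) {P C Z T : Subgroup Ω}
    (hP : F.StronglyClosed P) (hC : F.IsNormal C) (hCP : C ≤ P)
    (hab : ∀ a ∈ C, ∀ b ∈ C, a * b = b * a)
    {y t z : Ω} (hy : y ∈ P)
    (hgen : ∀ g ∈ P, ∃ c ∈ C, ∃ n : ℕ, g = c * y ^ n)
    (hpow : ∀ c ∈ C, ∀ n : ℕ, (c * y ^ n) ^ p = (y ^ p) ^ n)
    (hZ : Z = Subgroup.zpowers z) (hT : T = Subgroup.zpowers t) (hne : Z ≠ T)
    (hzC : z ∈ C) (htC : t ∈ C) (hz : orderOf z = p) (ht : orderOf t = p)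
    (hyz : y * z * y⁻¹ = z) (hyt : y * t * y⁻¹ = z * t)
    (hyx : ∀ x ∈ C, y * x * y⁻¹ * x⁻¹ ∈ Z) (hypZ : y ^ p ∈ Z) (hyp1 : y ^ p ≠ 1)
    {α : MulAut C} (hα : α ∈ F.autGroup C) (hαz : ∀ x : C, (x : Ω) ∈ Z → (α x : Ω) ∈ T) :
    False := by
  classical
  have hp := (Fact.out : p.Prime)
  have hCS : C ≤ S := hC.1
  have hPS := hP.1
  have : Finite C := finite_of_le ‹_› hCS
  have : IsMulCommutative C := ⟨⟨fun a b => Subtype.ext (hab a a.2 b b.2)⟩⟩
  have hCsc := FusionAlperin.isNormal_stronglyClosed hC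
  have hSC := sc_le_normalizer hCsc
  have hCfn : F.IsFullyNormalized C := by
    refine ⟨hCS, fun B _ => ?_⟩
    have : Finite (normalizerIn S C) := finite_of_le ‹_› (normalizerIn_le C)
    exact Subgroup.card_le_of_le (le_inf (normalizerIn_le B) ((normalizerIn_le B).trans hSC))
  let τ₀ : MulAut C := C.normalizerMonoidHom ⟨y, hSC (hPS hy)⟩
  have hτI : τ₀ ∈ autInducedBy S C := mem_autInducedBy.2 ⟨y, hPS hy, fun x => rfl⟩
  let τ : F.autGroup C := ⟨τ₀, autInducedBy_le_autGroup F hCS hτI⟩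
  let a : F.autGroup C := ⟨α, hα⟩
  let τ' : F.autGroup C := a * τ * a⁻¹
  have hτpow : ∀ (n : ℕ) (x : C), (((τ₀ ^ n) x : C) : Ω) = y ^ n * x * (y ^ n)⁻¹ := by
    intro n
    induction n with
    | zero => intro x; simp
    | succ n ih =>
      intro x
      rw [pow_succ' τ₀, pow_succ' y, MulAut.mul_apply, mul_inv_rev]
      show y * (((τ₀ ^ n) x : C) : Ω) * y⁻¹ = _
      rw [ih]
      simp [mul_assoc]
  have hconjC : ∀ c ∈ C, ∀ x ∈ C, c * x * c⁻¹ = x := fun c hc x hx => by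
    rw [hab c hc x hx, mul_inv_cancel_right]
  -- automorphisms conjugating `τ` into `Aut_S(C)`
  have hclosed : ∀ β : F.autGroup C, ((β * τ * β⁻¹ : F.autGroup C) : MulAut C) ∈ autInducedBy S C →
      ∃ n : ℕ, (β * τ * β⁻¹ = τ ^ n) ∧
        ∀ h : y ^ p ∈ C, ((β : MulAut C) ⟨y ^ p, h⟩ : Ω) = (y ^ p) ^ n := by
    intro β hβ
    have hstep : ∀ g : Ω, ∀ hg : g ∈ P, (β : MulAut C) *
        C.normalizerMonoidHom ⟨g, hSC (hPS hg)⟩ * (β : MulAut C)⁻¹ ∈ autInducedBy S C := by
      intro g hg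
      obtain ⟨c, hc, n, rfl⟩ := hgen g hg
      have e : C.normalizerMonoidHom ⟨c * y ^ n, hSC (hPS hg)⟩ = τ₀ ^ n := by
        ext x
        rw [hτpow]
        show c * y ^ n * x * (c * y ^ n)⁻¹ = _
        rw [mul_inv_rev, ← hτpow n x]
        have := hconjC c hc _ ((τ₀ ^ n) x).2
        rw [hτpow] at this ⊢
        simpa [mul_assoc] using this
      rw [e, ← conj_pow]
      exact pow_mem hβ n
    obtain ⟨ψ, hψ, hψe⟩ := exists_ext_aut (saturated_receptive_of_fullyNormalized hS hF hCfn) β.2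
      hCP (le_inf hPS (hPS.trans hSC)) hstep
    obtain ⟨c, hc, n, hn⟩ := hgen _ (sc_map_mem hP hψ (x := ⟨y, hy⟩) hy)
    refine ⟨n, Subtype.ext (MulEquiv.ext fun x => Subtype.ext ?_), fun h => ?_⟩
    · rw [SubgroupClass.coe_pow, hτpow]
      show ((β : MulAut C) (τ₀ ((β : MulAut C).symm x)) : Ω) = _
      rw [← hψe, show Subgroup.inclusion hCP (τ₀ ((β : MulAut C).symm x)) =
        ⟨y, hy⟩ * Subgroup.inclusion hCP ((β : MulAut C).symm x) * ⟨y, hy⟩⁻¹ from
          Subtype.ext rfl, map_mul, map_mul, map_inv, hψe, MulEquiv.apply_symm_apply, hn,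
        mul_inv_rev, ← hτpow n x]
      have := hconjC c hc _ ((τ₀ ^ n) x).2
      rw [hτpow] at this ⊢
      simpa [mul_assoc] using this
    · rw [← hψe, show Subgroup.inclusion hCP ⟨y ^ p, h⟩ = (⟨y, hy⟩ : P) ^ p from Subtype.ext rfl,
        map_pow, hn, hpow c hc n]
  set z' : C := ⟨z, hzC⟩ with hz'
  set t' : C := ⟨t, htC⟩ with ht'
  have hτz : τ₀ z' = z' := Subtype.ext hyz
  have hτt : τ₀ t' = z' * t' := Subtype.ext hyt
  have hτx : ∀ x : C, ((τ₀ x : C) : Ω) * (x : Ω)⁻¹ ∈ Z := fun x => hyx x x.2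
  have hτ'x : ∀ x : C, (((τ' : MulAut C) x : C) : Ω) * (x : Ω)⁻¹ ∈ T := by
    intro x
    have h := hαz (τ₀ (α.symm x) * (α.symm x)⁻¹) (by simpa using hτx (α.symm x))
    simpa [τ', a, τ, MulAut.mul_apply] using h
  have hZdec : ∀ x ∈ Z, ∃ i : ℤ, z ^ i = x := fun x hx =>
    Subgroup.mem_zpowers_iff.1 (hZ.le hx)
  have hTdec : ∀ x ∈ T, ∃ i : ℤ, t ^ i = x := fun x hx =>
    Subgroup.mem_zpowers_iff.1 (hT.le hx)
  have hdispl : ∀ (σ : MulAut C) (x d : C), (d : Ω) = ((σ x : C) : Ω) * (x : Ω)⁻¹ → σ x = d * x :=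
    fun σ x d h => Subtype.ext (by rw [Subgroup.coe_mul, h, inv_mul_cancel_right])
  have hτ't : (τ' : MulAut C) t' = t' := by
    have h0 : (α.symm t' : Ω) ∈ Z := by
      let f : Z.subgroupOf C → T.subgroupOf C := fun x => ⟨α x.1, hαz x.1 x.2⟩
      have hf : Function.Injective f := fun x y hxy =>
        Subtype.ext (α.injective (congrArg Subtype.val hxy) : _)
      have hsurj : Function.Bijective f := by
        refine (Nat.bijective_iff_injective_and_card f).2 ⟨hf, ?_⟩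
        rw [Nat.card_congr (Subgroup.subgroupOfEquivOfLe (hZ ▸ Subgroup.zpowers_le.2 hzC)).toEquiv,
          Nat.card_congr (Subgroup.subgroupOfEquivOfLe (hT ▸ Subgroup.zpowers_le.2 htC)).toEquiv,
          hZ, hT, Nat.card_zpowers, Nat.card_zpowers, hz, ht]
      obtain ⟨⟨w, hw⟩, hwe⟩ := hsurj.2 ⟨t', hT.ge (Subgroup.mem_zpowers t)⟩
      have : α w = t' := congrArg Subtype.val hwe
      rw [← this, MulEquiv.symm_apply_apply]
      exact hw
    obtain ⟨i, hi⟩ := hZdec _ h0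
    have e : α.symm t' = z' ^ i := Subtype.ext (by rw [SubgroupClass.coe_zpow]; exact hi.symm)
    show α (τ₀ (α.symm t')) = t'
    rw [e, map_zpow, hτz, ← e, MulEquiv.apply_symm_apply]
  by_cases hfix : (τ' : MulAut C) z' = z'
  · -- `τ` and `τ'` lie in a common Sylow subgroup
    let W : Subgroup C := Subgroup.zpowers z' ⊔ Subgroup.zpowers t'
    let K : Subgroup (F.autGroup C) :=
      { carrier := {b | (b : MulAut C) z' = z' ∧ (b : MulAut C) t' * t'⁻¹ ∈ Subgroup.zpowers z' ∧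
          ∀ x : C, (b : MulAut C) x * x⁻¹ ∈ W}
        one_mem' := ⟨rfl, by simp, fun x => by simp⟩
        mul_mem' := by
          rintro b c ⟨hb1, hb2, hb3⟩ ⟨hc1, hc2, hc3⟩
          obtain ⟨i, hi⟩ := Subgroup.mem_zpowers_iff.1 hc2
          refine ⟨?_, ?_, fun x => ?_⟩
          · show (b : MulAut C) ((c : MulAut C) z') = z'
            rw [hc1, hb1]
          · show (b : MulAut C) ((c : MulAut C) t') * t'⁻¹ ∈ _
            rw [show (c : MulAut C) t' = z' ^ i * t' by rw [hi, inv_mul_cancel_right], map_mul,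
              map_zpow, hb1, mul_assoc]
            exact Subgroup.mul_mem _ (zpow_mem (Subgroup.mem_zpowers _) i) hb2
          · show (b : MulAut C) ((c : MulAut C) x) * x⁻¹ ∈ W
            have := W.mul_mem (hb3 ((c : MulAut C) x)) (hc3 x)
            simpa [mul_assoc] using this
        inv_mem' := by
          rintro b ⟨hb1, hb2, hb3⟩
          have e1 : (b : MulAut C).symm z' = z' := by rw [MulEquiv.symm_apply_eq, hb1]
          refine ⟨e1, ?_, fun x => ?_⟩
          · obtain ⟨i, hi⟩ := Subgroup.mem_zpowers_iff.1 hb2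
            refine Subgroup.mem_zpowers_iff.2 ⟨-i, ?_⟩
            show z' ^ (-i) = (b : MulAut C).symm t' * t'⁻¹
            rw [eq_mul_inv_iff_mul_eq, eq_comm, MulEquiv.symm_apply_eq, map_mul, map_zpow, hb1,
              zpow_neg, hi]
            group
          · have := W.inv_mem (hb3 ((b : MulAut C).symm x))
            simpa [mul_comm] using this }
    have hKp : IsPGroup p K := by
      intro b
      obtain ⟨hb1, hb2, hb3⟩ := b.2
      let D : ℕ → Subgroup C := fun i =>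
        if i = 0 then ⊥ else if i = 1 then Subgroup.zpowers z' else if i = 2 then W else ⊤
      obtain ⟨k, hk⟩ := exists_pow_fix_series (α := ((b : F.autGroup C) : MulAut C))
        (hS.to_le hCS) D (fun x hx => by
          simp only [D, ↓reduceIte, Subgroup.mem_bot] at hx; rw [hx, map_one])
        3 (fun i hi => by interval_cases i <;> simp [D, W]) (fun i hi x hx => by
          interval_cases i <;> simp only [D, OfNat.ofNat_ne_zero, OfNat.ofNat_ne_one,
            ↓reduceIte, zero_add, one_ne_zero, Nat.reduceAdd, Nat.succ_ne_self,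
            Subgroup.mem_bot] at hx ⊢
          · obtain ⟨i, rfl⟩ := Subgroup.mem_zpowers_iff.1 hx
            rw [map_zpow, hb1, inv_mul_cancel]
          · have hle : W ≤ (Subgroup.zpowers z').comap
                (MonoidHom.mk' (fun x => x⁻¹ * ((b : F.autGroup C) : MulAut C) x)
                  fun u v => by simp [mul_comm, mul_assoc, mul_left_comm]) := by
              refine sup_le (Subgroup.zpowers_le.2 ?_) (Subgroup.zpowers_le.2 ?_)
              · simp [hb1]
              · simpa [mul_comm] using hb2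
            exact hle hx
          · simpa [mul_comm] using hb3 x) 3 le_rfl
      refine ⟨k, Subtype.ext (Subtype.ext (MulEquiv.ext fun x => ?_))⟩
      simpa using hk x (by simp [D])
    have hW1 : ∀ x : C, (x : Ω) ∈ Z → x ∈ W := fun x hx => by
      obtain ⟨i, hi⟩ := hZdec _ hx
      exact Subgroup.mem_sup_left ⟨i, Subtype.ext (by simpa using hi)⟩
    have hW2 : ∀ x : C, (x : Ω) ∈ T → x ∈ W := fun x hx => by
      obtain ⟨i, hi⟩ := hTdec _ hx
      exact Subgroup.mem_sup_right ⟨i, Subtype.ext (by simpa using hi)⟩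
    have hτK : τ ∈ K := ⟨hτz, by
      show τ₀ t' * t'⁻¹ ∈ _
      rw [hτt, mul_inv_cancel_right]
      exact Subgroup.mem_zpowers _, fun x => hW1 _ (by simpa using hτx x)⟩
    have hτ'K : τ' ∈ K := ⟨hfix, by rw [hτ't, mul_inv_cancel]; exact one_mem _,
      fun x => hW2 _ (by simpa using hτ'x x)⟩
    obtain ⟨-, R, hR⟩ := (saturated_fullyNormalized hS hF hCfn).2
    obtain ⟨P₁, hP₁⟩ := hKp.exists_le_sylow
    obtain ⟨g, hg⟩ := MulAction.exists_smul_eq (F.autGroup C) P₁ R
    have hconj : ∀ b ∈ K, ((g * b * g⁻¹ : F.autGroup C) : MulAut C) ∈ autInducedBy S C := by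
      intro b hb
      have h1 : MulAut.conj g b ∈ (g • P₁ : Sylow p (F.autGroup C)) :=
        Subgroup.smul_mem_pointwise_smul b (MulAut.conj g) (P₁ : Subgroup _) (hP₁ hb)
      rw [hg] at h1
      exact Subgroup.mem_subgroupOf.1 (hR.le h1)
    obtain ⟨m, hm, -⟩ := hclosed g (hconj τ hτK)
    obtain ⟨n, hn, -⟩ := hclosed (g * a) (by
      have := hconj τ' hτ'K
      simpa [τ', mul_assoc] using this)
    -- `τ ^ m` generates `⟨τ⟩`
    have hτp : τ ^ p = 1 := by
      apply Subtype.ext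
      rw [SubgroupClass.coe_pow]
      ext x
      rw [hτpow]
      have hypC : y ^ p ∈ C := (hZ ▸ Subgroup.zpowers_le.2 hzC : Z ≤ C) hypZ
      simpa using hconjC _ hypC x x.2
    have hmp : m.Coprime p := by
      rw [Nat.coprime_comm, hp.coprime_iff_not_dvd]
      rintro ⟨k, rfl⟩
      rw [pow_mul, hτp, one_pow, mul_inv_eq_one, mul_eq_left] at hm
      have h1 : τ₀ t' = t' := by rw [show τ₀ = 1 from congrArg Subtype.val hm]; rfl
      rw [hτt, mul_eq_right] at h1
      exact hp.one_lt.ne (by rw [← hz, show z = 1 from congrArg Subtype.val h1, orderOf_one])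
    obtain ⟨j, hj⟩ := exists_pow_eq_self_of_coprime (x := τ)
      (hmp.coprime_dvd_right (orderOf_dvd_of_pow_eq_one hτp))
    have hττ : τ = g * τ ^ j * g⁻¹ := by rw [← conj_pow, hm, hj]
    have hτ' : τ' = τ ^ (j * n) := by
      have h1 : τ' = g⁻¹ * τ ^ n * g := by
        rw [← hn]
        simp [τ', mul_assoc]
      rw [h1, hττ, conj_pow, ← pow_mul, ← hττ]
      simp [mul_assoc]
    -- hence `τ'` displaces along `Z`
    have hmove : ∀ x : C, (((τ' : MulAut C) x : C) : Ω) * (x : Ω)⁻¹ ∈ Z := by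
      intro x
      rw [hτ', SubgroupClass.coe_pow]
      change (((τ₀ ^ (j * n)) x : C) : Ω) * _ ∈ Z
      induction (j * n) with
      | zero => simp
      | succ k ih =>
        rw [pow_succ', MulAut.mul_apply]
        have := Z.mul_mem (hτx ((τ₀ ^ k) x)) ih
        simpa [mul_assoc] using this
    have hx0 : (((τ' : MulAut C) (α t') : C) : Ω) * (α t' : Ω)⁻¹ = (α z' : Ω) := by
      show ((α (τ₀ (α.symm (α t'))) : C) : Ω) * _ = _
      rw [MulEquiv.symm_apply_apply, hτt, map_mul, Subgroup.coe_mul, mul_inv_cancel_right]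
    have hαzZ : (α z' : Ω) ∈ Z := hx0 ▸ hmove (α t')
    refine hne ?_
    have hαzT : (α z' : Ω) ∈ T := hαz z' (hZ.ge (Subgroup.mem_zpowers z))
    have hord : orderOf (α z' : Ω) = p := by
      rw [Subgroup.orderOf_coe, MulEquiv.orderOf_eq, ← Subgroup.orderOf_coe]
      exact hz
    have e1 : Subgroup.zpowers (α z' : Ω) = Z := by
      have : Finite Z := finite_of_le (S := C) ‹_› (hZ ▸ Subgroup.zpowers_le.2 hzC)
      refine Subgroup.eq_of_le_of_card_ge (Subgroup.zpowers_le.2 hαzZ) ?_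
      rw [Nat.card_zpowers, hord, hZ, Nat.card_zpowers, hz]
    have e2 : Subgroup.zpowers (α z' : Ω) = T := by
      have : Finite T := finite_of_le (S := C) ‹_› (hT ▸ Subgroup.zpowers_le.2 htC)
      refine Subgroup.eq_of_le_of_card_ge (Subgroup.zpowers_le.2 hαzT) ?_
      rw [Nat.card_zpowers, hord, hT, Nat.card_zpowers, ht]
    exact e1.symm.trans e2
  -- the two transvections generate `SL(2, p)`
  obtain ⟨k, hk⟩ := hTdec _ (hτ'x z')
  have hk' : (τ' : MulAut C) z' = t' ^ k * z' :=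
    hdispl _ _ _ ((SubgroupClass.coe_zpow t' k).trans hk)
  have htk : t' ^ k ≠ 1 := fun h => hfix (by rw [hk', h, one_mul])
  obtain ⟨i, hi⟩ : ∃ i : ℕ, (t' ^ k) ^ i = t' := by
    have hmem : t' ∈ Subgroup.zpowers (t' ^ k) := by
      have e : Subgroup.zpowers (t' ^ k) = Subgroup.zpowers t' := by
        refine Subgroup.eq_of_le_of_card_ge
          (Subgroup.zpowers_le.2 (zpow_mem (Subgroup.mem_zpowers _) k)) ?_
        have ht'' : orderOf t' = p := by rw [← Subgroup.orderOf_coe]; exact ht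
        rw [Nat.card_zpowers, Nat.card_zpowers, ht'']
        refine le_of_eq (orderOf_eq_prime ?_ htk).symm
        rw [← zpow_natCast, ← zpow_mul, mul_comm, zpow_mul, zpow_natCast, ← ht'',
          pow_orderOf_eq_one, one_zpow]
      rw [e]
      exact Subgroup.mem_zpowers _
    exact mem_powers_iff_mem_zpowers.2 hmem
  let v : MulAut C := ((τ' ^ i : F.autGroup C) : MulAut C)
  have hvt : v t' = t' := by
    show ((τ' : MulAut C) ^ i) t' = t'
    clear hi
    induction i with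
    | zero => rfl
    | succ i ih => rw [pow_succ, MulAut.mul_apply, hτ't, ih]
  have hvz : v z' = t' * z' := by
    rw [← hi]
    show ((τ' : MulAut C) ^ i) z' = (t' ^ k) ^ i * z'
    clear hi hvt
    induction i with
    | zero => simp
    | succ i ih =>
      rw [pow_succ', MulAut.mul_apply, ih, map_mul, map_pow, map_zpow, hτ't, hk', pow_succ,
        mul_assoc]
  have hvx : ∀ x : C, ∃ j : ℤ, v x = t' ^ j * x := by
    intro x
    show ∃ j : ℤ, ((τ' : MulAut C) ^ i) x = t' ^ j * x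
    clear hi hvt hvz
    induction i with
    | zero => exact ⟨0, by simp⟩
    | succ i ih =>
      obtain ⟨j, hj⟩ := ih
      obtain ⟨l, hl⟩ := hTdec _ (hτ'x x)
      refine ⟨j + l, ?_⟩
      have hl' : (τ' : MulAut C) x = t' ^ l * x :=
        hdispl _ _ _ ((SubgroupClass.coe_zpow t' l).trans hl)
      rw [pow_succ', MulAut.mul_apply, hj, map_mul, map_zpow, hτ't, hl', zpow_add, mul_assoc]
  let w : MulAut C := τ₀ * v⁻¹ * τ₀
  let h : MulAut C := w * w
  have hwt : w t' = z' := by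
    show τ₀ (v.symm (τ₀ t')) = z'
    rw [hτt, map_mul, show v.symm z' = t'⁻¹ * z' by
        rw [MulEquiv.symm_apply_eq, map_mul, map_inv, hvt, hvz, inv_mul_cancel_left],
      show v.symm t' = t' by rw [MulEquiv.symm_apply_eq, hvt], mul_comm t'⁻¹ z',
      inv_mul_cancel_right, hτz]
  have hwz : w z' = t'⁻¹ := by
    show τ₀ (v.symm (τ₀ z')) = _
    rw [hτz, show v.symm z' = t'⁻¹ * z' by
        rw [MulEquiv.symm_apply_eq, map_mul, map_inv, hvt, hvz, inv_mul_cancel_left],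
      map_mul, map_inv, hτt, hτz, mul_inv_rev, inv_mul_cancel_right]
  have hht : h t' = t'⁻¹ := by show w (w t') = _; rw [hwt, hwz]
  have hhz : h z' = z'⁻¹ := by show w (w z') = _; rw [hwz, map_inv, hwt]
  have hdec : ∀ x : C, ∃ (i j : ℤ) (c : C), x = t' ^ i * z' ^ j * c ∧ τ₀ c = c ∧ h c = c := by
    intro x
    obtain ⟨i, hi⟩ := hZdec _ (hτx x)
    have hi' : τ₀ x = z' ^ i * x := hdispl _ _ _ ((SubgroupClass.coe_zpow z' i).trans hi)
    set x₁ : C := (t' ^ i)⁻¹ * x
    have h1 : τ₀ x₁ = x₁ := by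
      rw [map_mul, map_inv, map_zpow, hτt, hi', mul_zpow]
      simp [x₁, mul_comm, mul_assoc, mul_left_comm]
    obtain ⟨j, hj⟩ := hvx x₁
    set c : C := (z' ^ j)⁻¹ * x₁
    have h2 : τ₀ c = c := by rw [map_mul, map_inv, map_zpow, hτz, h1]
    have h3 : v c = c := by
      rw [map_mul, map_inv, map_zpow, hvz, hj, mul_zpow, mul_inv, mul_mul_mul_comm, inv_mul_cancel,
        one_mul]
    have h4 : w c = c := by
      show τ₀ (v.symm (τ₀ c)) = c
      rw [h2, show v.symm c = c by rw [MulEquiv.symm_apply_eq, h3], h2]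
    exact ⟨i, j, c, by simp [c, x₁, mul_assoc], h2, by show w (w c) = c; rw [h4, h4]⟩
  let hG : F.autGroup C := (τ * (τ' ^ i)⁻¹ * τ) * (τ * (τ' ^ i)⁻¹ * τ)
  have hcomm : hG * τ * hG⁻¹ = τ := by
    rw [mul_inv_eq_iff_eq_mul]
    apply Subtype.ext
    show h * τ₀ = τ₀ * h
    refine MulEquiv.ext fun x => ?_
    obtain ⟨i, j, c, rfl, hc1, hc2⟩ := hdec x
    show h (τ₀ _) = τ₀ (h _)
    simp only [map_mul, map_zpow, map_inv, hτt, hτz, hc1, hc2, hht, hhz, mul_zpow, mul_inv_rev,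
      inv_zpow']
  obtain ⟨n, hn, hnp⟩ := hclosed hG (by rw [hcomm]; exact hτI)
  have hypC : y ^ p ∈ C := (hZ ▸ Subgroup.zpowers_le.2 hzC : Z ≤ C) hypZ
  obtain ⟨l, hl⟩ := hZdec _ hypZ
  have hinv : ((hG : MulAut C) ⟨y ^ p, hypC⟩ : Ω) = (y ^ p)⁻¹ := by
    rw [show (⟨y ^ p, hypC⟩ : C) = z' ^ l from Subtype.ext (by
      rw [SubgroupClass.coe_zpow]; exact hl.symm)]
    show ((h (z' ^ l) : C) : Ω) = _
    rw [map_zpow, hhz, inv_zpow, Subgroup.coe_inv, SubgroupClass.coe_zpow, hl]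
  have hτn : p ∣ n + (p - 1) := by
    -- `τ ^ n = τ`, so `n ≡ 1`
    have h1 : τ₀ ^ n = τ₀ := by
      have := congrArg Subtype.val (hcomm.symm.trans hn)
      rwa [SubgroupClass.coe_pow, eq_comm] at this
    have hzn : z ^ n = z := by
      have h2 : ∀ m : ℕ, (τ₀ ^ m) t' = z' ^ m * t' := by
        intro m
        induction m with
        | zero => simp
        | succ m ih => rw [pow_succ', MulAut.mul_apply, ih, map_mul, map_pow, hτz, hτt, pow_succ,
            mul_assoc]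
      have h3 := h2 n
      rw [h1, hτt, mul_left_inj] at h3
      simpa using (congrArg Subtype.val h3).symm
    conv_lhs => rw [← hz]
    refine orderOf_dvd_of_pow_eq_one ?_
    rw [pow_add, hzn, ← pow_succ', Nat.sub_add_cancel hp.one_le, ← hz, pow_orderOf_eq_one]
  have heq := (hnp hypC).symm.trans hinv
  have hord : orderOf (y ^ p) = p := orderOf_eq_prime (by
    rw [← hl, ← zpow_natCast, ← zpow_mul, mul_comm, zpow_mul, zpow_natCast, ← hz,
      pow_orderOf_eq_one, one_zpow]) hyp1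
  have h2 : (y ^ p) ^ (n + 1) = 1 := by rw [pow_succ, heq, inv_mul_cancel]
  have h3 := orderOf_dvd_of_pow_eq_one h2
  rw [hord] at h3
  have h4 := Nat.dvd_sub hτn h3
  have h5 := hp.two_le
  rw [show n + (p - 1) - (n + 1) = p - 2 by omega] at h4
  have h6 := Nat.eq_zero_of_dvd_of_lt h4 (by omega)
  omega

/-- Let F be a saturated fusion system over a finite p-group S and P a subgroup of S strongly closed in F that is generalized extraspecial (its Frattini subgroup equals its commutator subgroup and has order p) and not isomorphic to E × A with A elementary abelian and E dihedral of order 8 (p = 2) or extraspecial of order p³ and exponent p (p odd). Then P is normal in F. -/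
theorem result {Ω : Type*} [Group Ω] {S : Subgroup Ω} [Finite S] (p : ℕ) [Fact p.Prime] (hS : IsPGroup p S) (F : Cfsg.FusionSystem S) (hF : F.IsSaturated p) (P : Subgroup Ω) (hP : F.StronglyClosed P) (hge : frattini ↥P = commutator ↥P ∧ Nat.card ↥(commutator ↥P) = p) (h2 : p = 2 → ¬ ∃ (A : Type) (_ : CommGroup A), (∀ a : A, a ^ 2 = 1) ∧ Nonempty (↥P ≃* DihedralGroup 4 × A)) (hodd : p ≠ 2 → ¬ ∃ (E : Type) (_ : Group E) (A : Type) (_ : CommGroup A), Cfsg.IsExtraspecial p E ∧ Nat.card E = p ^ 3 ∧ Monoid.exponent E = p ∧ (∀ a : A, a ^ p = 1) ∧ Nonempty (↥P ≃* E × A)) : F.IsNormal P := by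
  classical
  have hp := (Fact.out : p.Prime)
  have hPS := hP.1
  have : Finite P := finite_of_le ‹_› hPS
  have hPp := hS.to_le hPS
  set Z : Subgroup Ω := (commutator P).map P.subtype with hZdef
  have hZP : Z ≤ P := Subgroup.map_subtype_le _
  have hZc : Nat.card Z = p := by
    rw [hZdef, Subgroup.card_map_of_injective P.subtype_injective, hge.2]
  have : Finite Z := finite_of_le ‹_› hZP
  have hcm : ∀ a ∈ P, ∀ b ∈ P, ⁅a, b⁆ ∈ Z := fun a ha b hb =>
    ⟨⁅(⟨a, ha⟩ : P), ⟨b, hb⟩⁆,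
      Subgroup.commutator_mem_commutator (Subgroup.mem_top _) (Subgroup.mem_top _),
      map_commutatorElement P.subtype _ _⟩
  have hpw : ∀ a ∈ P, a ^ p ∈ Z := fun a ha =>
    ⟨(⟨a, ha⟩ : P) ^ p, hge.1.le (PGroup.pow_mem_frattini hPp _), rfl⟩
  have hSZ : ∀ s ∈ S, ∀ x ∈ Z, s * x * s⁻¹ ∈ Z := by
    rintro s hs _ ⟨x, hx, rfl⟩
    let e : MulAut P := P.normalizerMonoidHom ⟨s, sc_le_normalizer hP hs⟩
    exact ⟨e x, (Subgroup.characteristic_iff_map_eq.1 inferInstance e).le
      (Subgroup.mem_map_of_mem _ hx), rfl⟩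
  have hZcent : ∀ s ∈ S, ∀ x ∈ Z, s * x = x * s := by
    have hn : (Z.subgroupOf S).Normal := ⟨fun x hx g => hSZ g g.2 x hx⟩
    have hne : Z.subgroupOf S ≠ ⊥ := fun h => by
      have := congrArg (fun H : Subgroup S => Nat.card H) h
      simp only [Subgroup.card_bot,
        Nat.card_congr (Subgroup.subgroupOfEquivOfLe (hZP.trans hPS)).toEquiv, hZc] at this
      exact hp.ne_one this
    have hb := PGroup.inf_center_ne_bot hS _ hne
    have hc : Nat.card (Z.subgroupOf S) = p := by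
      rw [Nat.card_congr (Subgroup.subgroupOfEquivOfLe (hZP.trans hPS)).toEquiv, hZc]
    have : Fact (Nat.card (Z.subgroupOf S)).Prime := ⟨hc.symm ▸ hp⟩
    have htop : Z.subgroupOf S ≤ Subgroup.center S := by
      rcases Subgroup.eq_bot_or_eq_top_of_prime_card
        ((Subgroup.center S).subgroupOf (Z.subgroupOf S)) with h | h
      · refine absurd ((Subgroup.eq_bot_iff_forall _).2 fun x hx => ?_) hb
        exact congrArg Subtype.val ((Subgroup.eq_bot_iff_forall _).1 h ⟨x, hx.1⟩ hx.2)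
      · exact Subgroup.subgroupOf_eq_top.1 h
    intro s hs x hx
    exact congrArg Subtype.val (Subgroup.mem_center_iff.1
      (htop (show (⟨x, hPS (hZP hx)⟩ : S) ∈ Z.subgroupOf S from hx)) ⟨s, hs⟩)
  suffices hwc : F.WeaklyClosed Z by
    refine (Cfsg.Agent.S5226.result p hS F hF P).2 ⟨hP, 2, ![⊥, Z, P], rfl, rfl, ?_, ?_, ?_⟩
    · intro i j h
      fin_cases i <;> fin_cases j <;> simp [hZP] at h ⊢
    · intro i
      fin_cases i
      · show ⁅Z, P⁆ ≤ ⊥
        rw [Subgroup.commutator_le]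
        intro a ha b hb
        rw [Subgroup.mem_bot, commutatorElement_eq_one_iff_mul_comm]
        exact (hZcent b (hPS hb) a ha).symm
      · show ⁅P, P⁆ ≤ Z
        rw [Subgroup.commutator_le]
        exact hcm
    · intro i
      fin_cases i
      · refine ⟨bot_le, fun φ hφ => ?_⟩
        show φ.range = ⊥
        rw [eq_bot_iff]
        rintro _ ⟨x, rfl⟩
        obtain rfl : x = 1 := Subtype.ext (Subgroup.mem_bot.1 x.2)
        exact Subgroup.mem_bot.2 (map_one φ)
      · exact hwc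
  refine ⟨hZP.trans hPS, fun φ hφ => ?_⟩
  by_contra hne
  set T := φ.range with hTdef
  have hTP : T ≤ P := by
    rintro _ ⟨x, rfl⟩
    exact sc_map_mem hP hφ (hZP x.2)
  have hTc : Nat.card T = p := by
    rw [← hZc]
    exact (Nat.card_congr (MonoidHom.ofInjective (F.injective_of_mem hφ)).toEquiv).symm
  have : Finite T := finite_of_le ‹_› hTP
  have hdis : ∀ w, w ∈ Z → w ∈ T → w = 1 := fun w hw hw' => by
    by_contra h1
    have hwp : w ^ p = 1 := congrArg Subtype.val (hZc ▸ pow_card_eq_one' : (⟨w, hw⟩ : Z) ^ p = 1)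
    refine hne (Subgroup.eq_of_le_of_card_ge (le_trans ?_ (Subgroup.zpowers_le.2 hw))
      (hZc.trans_le hTc.ge))
    refine ge_of_eq (Subgroup.eq_of_le_of_card_ge (Subgroup.zpowers_le.2 hw') ?_)
    rw [hTc, Nat.card_zpowers, orderOf_eq_prime hwp h1]
  have hZn : normalizerIn S Z = S := le_antisymm (normalizerIn_le Z) fun s hs =>
    ⟨hs, Subgroup.mem_normalizer_iff.2 fun x => ⟨hSZ s hs x, fun hx => by
      simpa [mul_assoc] using hSZ s⁻¹ (S.inv_mem hs) _ hx⟩⟩
  have hZfn : F.IsFullyNormalized Z := ⟨hZP.trans hPS, fun B _ => by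
    rw [hZn]; exact Subgroup.card_le_of_le (normalizerIn_le B)⟩
  set e := (toIso F hφ hTdef.symm).symm with he
  have hχ : Z.subtype.comp e.toMonoidHom ∈ F.Hom T := (toIso_isIso F hφ hTdef.symm).symm
  obtain ⟨ψ, hψ, hψe, -, -⟩ := receptive_extend (saturated_receptive_of_fullyNormalized hS hF hZfn)
    hχ (range_subtype_comp e)
  set C := P ⊓ centralizerIn S T with hCdef
  have hCle : C ≤ extender S T (Z.subtype.comp e.toMonoidHom) :=
    inf_le_right.trans (centralizerIn_le_extender _)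
  set ψC := restr hCle ψ with hψC
  have hψC' : ψC ∈ F.Hom C := restr_mem F hCle hψ
  have hψP : ∀ x : C, ψC x ∈ P := fun x => sc_map_mem hP hψC' x.2.1
  have hZC : Z ≤ C := le_inf hZP (le_inf (hZP.trans hPS) fun x hx s hs =>
    hZcent s (hPS (hTP hs)) x hx)
  have hTab : ∀ a ∈ T, ∀ b ∈ T, a * b = b * a := by
    intro a ha b hb
    have : IsCyclic T := isCyclic_of_prime_card hTc
    exact congrArg Subtype.val (IsMulCommutative.is_comm.comm (⟨a, ha⟩ : T) ⟨b, hb⟩)
  have hTC : T ≤ C := le_inf hTP (le_inf (hTP.trans hPS) fun a ha b hb => hTab b hb a ha)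
  have hψT : ∀ x : T, ψC (Subgroup.inclusion hTC x) = e x := fun x => hψe x
  -- no nontrivial element of `Z` stays in `Z`
  have hstay : ∀ w : C, (w : Ω) ∈ Z → ψC w ∈ Z → w = 1 := by
    intro w hw hψw
    refine Subtype.ext (hdis _ hw ?_)
    have h1 : ψC (Subgroup.inclusion hTC (e.symm ⟨_, hψw⟩)) = ψC w := by
      rw [hψT, MulEquiv.apply_symm_apply]
    rw [← F.injective_of_mem hψC' h1]
    exact (e.symm ⟨_, hψw⟩).2
  have hCab : ∀ a ∈ C, ∀ b ∈ C, a * b = b * a := by
    intro a ha b hb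
    rw [← commutatorElement_eq_one_iff_mul_comm]
    refine congrArg Subtype.val (hstay ⁅(⟨a, ha⟩ : C), ⟨b, hb⟩⁆ ?_ ?_)
    · rw [show ((⁅(⟨a, ha⟩ : C), ⟨b, hb⟩⁆ : C) : Ω) = ⁅a, b⁆ from
        map_commutatorElement C.subtype _ _]
      exact hcm a ha.1 b hb.1
    · rw [map_commutatorElement]
      exact hcm _ (hψP _) _ (hψP _)
  have hCexp : ∀ a ∈ C, a ^ p = 1 := fun a ha =>
    congrArg Subtype.val (hstay ((⟨a, ha⟩ : C) ^ p) (hpw a ha.1)
      (by rw [map_pow]; exact hpw _ (hψP _)))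
  obtain ⟨z₁, hz₁Z, hz₁⟩ : ∃ x ∈ Z, x ≠ 1 := by
    by_contra h
    push Not at h
    rw [(Subgroup.eq_bot_iff_forall _).2 h, Subgroup.card_bot] at hZc
    exact hp.ne_one hZc.symm
  obtain ⟨t, htT, hte⟩ : ∃ t : Ω, ∃ ht : t ∈ T, (e ⟨t, ht⟩ : Ω) = z₁ :=
    ⟨e.symm ⟨z₁, hz₁Z⟩, (e.symm ⟨z₁, hz₁Z⟩).2, by simp⟩
  have ht1 : t ≠ 1 := fun h => hz₁ (by subst h; rw [← hte, show (⟨1, htT⟩ : T) = 1 from rfl, map_one]; rfl)
  have hCt : ∀ x ∈ P, x * t = t * x → x ∈ C := by
    intro x hx hxt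
    refine ⟨hx, hPS hx, Subgroup.mem_centralizer_iff.2 fun u hu => ?_⟩
    have hgen : Subgroup.zpowers t = T := by
      refine Subgroup.eq_of_le_of_card_ge (Subgroup.zpowers_le.2 htT) ?_
      rw [hTc, Nat.card_zpowers, orderOf_eq_prime (hCexp t (hTC htT)) ht1]
    rw [SetLike.mem_coe, ← hgen] at hu
    obtain ⟨i, rfl⟩ := Subgroup.mem_zpowers_iff.1 hu
    exact (Commute.zpow_right hxt i).eq.symm
  obtain ⟨y, hyP, hyt⟩ : ∃ y ∈ P, y * t ≠ t * y := by
    by_contra hall
    push Not at hall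
    have hPC : P ≤ C := fun x hx => hCt x hx (hall x hx)
    set χ := restr hPC ψC
    have hr : χ.range = P := range_eq_of_image_le (F.injective_of_mem (restr_mem F hPC hψC'))
      (by rintro _ ⟨x, rfl⟩; exact hψP _) le_rfl
    let β : MulAut P := toIso F (restr_mem F hPC hψC') hr
    have hβt : β ⟨t, hTP htT⟩ ∈ commutator P := by
      have : ((β ⟨t, hTP htT⟩ : P) : Ω) ∈ Z := by
        rw [show ((β ⟨t, hTP htT⟩ : P) : Ω) = ψC (Subgroup.inclusion hTC ⟨t, htT⟩) from rfl, hψT]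
        exact (e _).2
      obtain ⟨w, hw, hwe⟩ := this
      exact (Subtype.ext hwe : w = _) ▸ hw
    have htZ : t ∈ Z := ⟨⟨t, hTP htT⟩,
      (Subgroup.characteristic_iff_comap_eq.1 inferInstance β).le hβt, rfl⟩
    exact ht1 (hdis t htZ htT)
  set t' : P := ⟨t, hTP htT⟩ with ht'
  have hZcenter : commutator P ≤ Subgroup.center P := fun x hx => Subgroup.mem_center_iff.2
    fun g => Subtype.ext (hZcent g (hPS g.2) x ⟨x, hx, rfl⟩)
  have hsplit : ∀ y' : P, y' * t' ≠ t' * y' → GenExtraspecial.Split P p t' y' := fun y' hy' =>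
    { central := hZcenter
      card := hge.2
      pow_mem := fun g => hge.1.le (PGroup.pow_mem_frattini hPp g)
      t_pow := Subtype.ext (hCexp t (hTC htT))
      ne := fun h => hy' (commutatorElement_eq_one_iff_mul_comm.1 h).symm
      comm := fun a b ha hb => Subtype.ext (hCab _ (hCt a a.2 (congrArg Subtype.val ha)) _
        (hCt b b.2 (congrArg Subtype.val hb)))
      exp := fun a ha => Subtype.ext (hCexp _ (hCt a a.2 (congrArg Subtype.val ha))) }
  have hsplit₀ := hsplit ⟨y, hyP⟩ fun h => hyt (congrArg Subtype.val h)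
  by_cases hp2 : p = 2
  · subst hp2
    exact h2 rfl hsplit₀.two_model
  obtain ⟨y₀, hy₀P, hy₀⟩ : ∃ y₀ ∈ P, y₀ ^ p ≠ 1 := by
    by_contra hall
    push Not at hall
    exact hodd hp2 (hsplit₀.odd_model fun g => Subtype.ext (hall g g.2))
  have hy₀t : y₀ * t * y₀⁻¹ * t⁻¹ ≠ 1 := fun h => hy₀ (hCexp y₀ (hCt y₀ hy₀P (by
    rwa [mul_inv_eq_one, mul_inv_eq_iff_eq_mul] at h)))
  have hodd' : Odd p := hp.odd_of_ne_two hp2
  have hmulpow : ∀ a ∈ P, ∀ b ∈ P, a ^ p = 1 → (a * b) ^ p = b ^ p := fun a ha b hb h1 => by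
    have := congrArg Subtype.val (PGroup.mul_pow_of_classTwo hZcenter hodd' (x := (⟨a, ha⟩ : P))
      (y := ⟨b, hb⟩) (by rw [show (⟨a, ha⟩ : P) ^ p = 1 from Subtype.ext h1]; exact one_mem _))
    simpa [h1] using this
  set z := y₀ * t * y₀⁻¹ * t⁻¹ with hzdef
  have hzZ : z ∈ Z := by
    have := hcm y₀ hy₀P t (hTP htT)
    rwa [commutatorElement_def] at this
  have hzp : z ^ p = 1 := hCexp z (hZC hzZ)
  have hZgen : Z = Subgroup.zpowers z := by
    refine (Subgroup.eq_of_le_of_card_ge (Subgroup.zpowers_le.2 hzZ) ?_).symm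
    rw [hZc, Nat.card_zpowers, orderOf_eq_prime hzp hy₀t]
  -- every element of `P` is in `C y₀^n`
  have hgen : ∀ g ∈ P, ∃ c ∈ C, ∃ n : ℕ, g = c * y₀ ^ n := by
    intro g hg
    have h1 : g * t * g⁻¹ * t⁻¹ ∈ Subgroup.zpowers z := by
      have := hcm g hg t (hTP htT)
      rw [commutatorElement_def, hZgen] at this
      exact this
    have hzf : IsOfFinOrder z := isOfFinOrder_iff_pow_eq_one.2 ⟨p, hp.pos, hzp⟩
    obtain ⟨n, hn⟩ := hzf.mem_powers_iff_mem_zpowers.2 h1
    refine ⟨g * (y₀ ^ n)⁻¹, hCt _ (P.mul_mem hg (P.inv_mem (P.pow_mem hy₀P n))) ?_, n,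
      (inv_mul_cancel_right _ _).symm⟩
    have hc := fun a b : P => PGroup.commutatorElement_mem_center hZcenter a b
    have key : ⁅(⟨g, hg⟩ : P) * ((⟨y₀, hy₀P⟩ : P) ^ n)⁻¹, t'⁆ = 1 := by
      rw [PGroup.commutatorElement_mul_left (hc _ _), PGroup.commutatorElement_inv_left (hc _ _),
        PGroup.commutatorElement_pow_left (hc _ _), mul_inv_eq_one]
      exact Subtype.ext hn.symm
    exact congrArg Subtype.val (commutatorElement_eq_one_iff_mul_comm.1 key)
  -- `C` is the set of elements of order dividing `p`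
  have hOmega : ∀ x ∈ P, x ^ p = 1 → x ∈ C := by
    intro x hx hxp
    obtain ⟨c, hc, n, rfl⟩ := hgen x hx
    rw [hmulpow c hc.1 _ (P.pow_mem hy₀P n) (hCexp c hc), ← pow_mul, mul_comm, pow_mul] at hxp
    have h2 : (y₀ ^ p) ^ p = 1 := hCexp _ (hZC (hpw _ hy₀P))
    obtain ⟨k, rfl⟩ := (orderOf_eq_prime h2 hy₀) ▸ orderOf_dvd_of_pow_eq_one hxp
    refine C.mul_mem hc ?_
    rw [pow_mul]
    exact pow_mem (hZC (hpw _ hy₀P)) k
  have hCsc : F.StronglyClosed C := ⟨inf_le_left.trans hPS, fun R hR φ' hφ' x => by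
    refine hOmega _ (hP.2 R (hR.trans inf_le_left) φ' hφ' x) ?_
    rw [← map_pow, show x ^ p = 1 from Subtype.ext (hCexp _ (hR x.2)), map_one]⟩
  have hCn := isNormal_of_abelian hS hF hCsc hCab
  obtain ⟨ψ₁, hψ₁, hψ₁e, hψ₁C⟩ := hCn.2 Z φ hφ
  have hle : C ≤ Z ⊔ C := le_sup_right
  have hr : (restr hle ψ₁).range = C := by rw [range_restr]; exact hψ₁C
  refine no_fusion hS hF hp2 hP hCn inf_le_left hCab hy₀P hgen
    (fun c hc n => by
      rw [hmulpow c hc.1 _ (P.pow_mem hy₀P n) (hCexp c hc), ← pow_mul, mul_comm, pow_mul])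
    hZgen (T := T) (t := t) ?_ (fun h => hne h.symm) (hZC hzZ) (hTC htT)
    (orderOf_eq_prime hzp hy₀t) (orderOf_eq_prime (hCexp t (hTC htT)) ht1)
    (by rw [hZcent y₀ (hPS hy₀P) z hzZ, mul_inv_cancel_right])
    (by rw [hzdef, inv_mul_cancel_right])
    (fun x hx => by simpa [commutatorElement_def] using hcm y₀ hy₀P x hx.1)
    (hpw _ hy₀P) hy₀
    (α := toIso F (restr_mem F hle hψ₁) hr) (toIso_mem_autGroup F _ hr) fun x hx => ?_
  · refine (Subgroup.eq_of_le_of_card_ge (Subgroup.zpowers_le.2 htT) ?_).symm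
    rw [hTc, Nat.card_zpowers, orderOf_eq_prime (hCexp t (hTC htT)) ht1]
  · rw [toIso_coe, restr_apply]
    exact ⟨⟨x, hx⟩, (hψ₁e ⟨x, hx⟩).symm⟩

end Cfsg.Agent.S5233
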