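import Cfsg.Statements.S2800
import Cfsg.Agent.LocalP.ThompsonANPC
import Cfsg.Agent.LocalP.ThompsonReductionPred
import Cfsg.Agent.EvenLocal.Involved

set_option autoImplicit false
open Cfsg

namespace Cfsg.Agent.S2800

universe v

theorem npc_aux {G : Type v} [Group G] [Finite G] {p : ℕ} [Fact p.Prime] (S : Sylow p G)
    (h : p ≠ 2 ∨ ¬ Cfsg.Involves (Equiv.Perm (Fin 4)) G)
    (hC : Cfsg.HasNormalPComplement p ↥(Subgroup.centralizer
      (((S : Subgroup G) ⊓ Subgroup.centralizer ((S : Subgroup G) : Set G) : Subgroup G) : Set G)))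
    (hN : Cfsg.HasNormalPComplement p
      ↥(Subgroup.normalizer ((Cfsg.thompsonSubgroupAOf (S : Subgroup G)) : Set G))) :
    Cfsg.HasNormalPComplement p G :=
  Cfsg.Agent.LocalP.npc_of_reduced_section (F := Cfsg.Agent.LocalP.thompsonAFunctor p) (c := True) S
    ⟨hN, fun _ => hC⟩
    (fun X _ => p ≠ 2 ∨ ¬ Cfsg.Involves (Equiv.Perm (Fin 4)) X)
    (fun X _ L hX => hX.imp_right fun hn hi => hn (EvenLocal.involves_subgroup hi))
    (fun X _ M _ hX => hX.imp_right fun hn hi => hn
      (EvenLocal.involves_of_involves_image (A := (⊤ : Subgroup X))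
        ((QuotientGroup.mk' M).comp (⊤ : Subgroup X).subtype)
        (fun q => by
          obtain ⟨x, rfl⟩ := QuotientGroup.mk'_surjective M q
          exact ⟨⟨x, trivial⟩, rfl⟩) hi))
    h
    (fun X _ _ Q K hX hred => Cfsg.Agent.LocalP.thompsonA_reduced_false trivial X Q K hX hred)



/-- Let S be a Sylow p-subgroup of the finite group G and J(S) the subgroup generated by the abelian subgroups of S of largest order. Suppose p is odd, or the symmetric group of degree 4 is not involved in G. If both C_G(Z(S)) and N_G(J(S)) have normal p-complements, then G has a normal p-complement. -/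
theorem result {G : Type*} [Group G] [Finite G] {p : ℕ} [Fact p.Prime] (S : Sylow p G) (h : p ≠ 2 ∨ ¬ Cfsg.Involves (Equiv.Perm (Fin 4)) G) (hC : Cfsg.HasNormalPComplement p ↥(Subgroup.centralizer (((S : Subgroup G) ⊓ Subgroup.centralizer ((S : Subgroup G) : Set G) : Subgroup G) : Set G))) (hN : Cfsg.HasNormalPComplement p ↥(Subgroup.normalizer ((Cfsg.thompsonSubgroupAOf (S : Subgroup G)) : Set G))) : Cfsg.HasNormalPComplement p G := by
  exact npc_aux S h hC hN

end Cfsg.Agent.S2800
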