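import Cfsg.Agent.FusionAlperin.NormalResidual
import Cfsg.Statements.S5141
-- import your own Cfsg.Agent.* helpers here

set_option autoImplicit false
open Cfsg

namespace Cfsg.Agent.S5141

open Cfsg.Agent.FusionAlperin Cfsg.Agent.FusionSys Cfsg.FusionSystem
open Cfsg.Agent.S5119 (InvT autExt_inv autExt_inv' autExt_mul)

theorem invT_of_invariant {Ω : Type*} [Group Ω] {S T : Subgroup Ω} {F : Cfsg.FusionSystem S}
    {E : Cfsg.FusionSystem T} (hE : E.IsInvariantIn F) : InvT F E := by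
  intro β hβ P φ hφ
  obtain ⟨χ, hχ, he⟩ := hE.2.2.1 P (le_S E hφ) φ hφ β hβ
  refine ⟨χ, hχ, fun x h => ?_⟩
  have hPT := le_S E hφ
  have e : (⟨autExt β x, h⟩ : autImage β P) = ⟨(β ⟨x, hPT x.2⟩ : T), ⟨_, x.2, rfl⟩⟩ :=
    Subtype.ext (autExt_of_mem β (hPT x.2))
  rw [e]
  exact (he x (map_mem_S E hφ x) _).trans (autExt_of_mem β (map_mem_S E hφ x)).symm

theorem pElem_congr {Ω : Type*} [Group Ω] {S T : Subgroup Ω} [Finite S] {p : ℕ} [Fact p.Prime]
    (hS : IsPGroup p S) {F : Cfsg.FusionSystem S} (hF : F.IsSaturated p)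
    {E : Cfsg.FusionSystem T} (hE : E.IsInvariantIn F) {R P : Subgroup Ω} (hR : R ≤ T)
    {f : R ≃* P} (hf : IsIso F f) {a : MulAut R} (ha : a ∈ pElemGroup E p R) :
    MulAut.congr f a ∈ pElemGroup E p P := by
  have : pElemGroup E p R ≤
      (pElemGroup E p P).comap (MulAut.congr f).toMonoidHom := by
    rw [pElemGroup, Subgroup.map_le_iff_le_comap, Subgroup.closure_le]
    rintro a ⟨k, hk⟩
    refine ⟨⟨_, autCongr_mem_of_invariant hS hF hE hR hf a.2⟩,
      Subgroup.subset_closure ⟨k, ?_⟩, rfl⟩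
    rw [Subgroup.orderOf_mk, ← hk, ← Subgroup.orderOf_coe a]
    exact MulEquiv.orderOf_eq (MulAut.congr f) _
  exact this ha

theorem residual_invariant {Ω : Type*} [Group Ω] {S T : Subgroup Ω} [Finite S] {p : ℕ}
    [Fact p.Prime] (hS : IsPGroup p S) {F : Cfsg.FusionSystem S} (hF : F.IsSaturated p)
    {E : Cfsg.FusionSystem T} (hE : E.IsInvariantIn F) : InvT F (residualSystem E p) := by
  have hT := hE.2.1
  have hTS := hT.1
  have hI := invT_of_invariant hE
  -- the generated subsystem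
  have h0 : InvT F (centricPElemSystem E p) := by
    intro β hβ P φ hφ
    obtain ⟨χ, hχ, hχe⟩ := hI β hβ P φ hφ.1
    refine ⟨χ, ⟨hχ, fun E' hE' => ?_⟩, hχe⟩
    have hcand : ContainsCentricPElems E p (transportSystem E E' β) := by
      intro Q hQ α hα
      refine (mem_autGroup _ hQ.1).2
        ⟨autGroup_mem_hom E hQ.1 (pElemGroup_le_autGroup E Q hα), ?_⟩
      have hψ := restr_mem F hQ.1 (autGroup_mem_hom F hTS hβ)
      have hr : (restr hQ.1 (T.subtype.comp β.toMonoidHom)).range = autImage β Q :=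
        range_restr hQ.1 _
      have hQ' : E.IsCentric (autImage β Q) := centric_of_tCentric hE.1
        (tCentric_of_isConj hT (tCentric_of_centric hE hQ) ⟨_, hψ, hr⟩)
      have h1 := hE' _ hQ' (pElem_congr hS hF hE hQ.1 (toIso_isIso F hψ hr) hα)
      refine ⟨_, autGroup_mem_hom E' (autImage_le β Q) h1, fun x h => ?_⟩
      have hx : (⟨autExt β x, h⟩ : autImage β Q) = toIso F hψ hr x :=
        Subtype.ext (autExt_of_mem β (hQ.1 x.2))
      show ((MulAut.congr (toIso F hψ hr) α ⟨autExt β x, h⟩ : autImage β Q) : Ω) = _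
      rw [hx, autCongr_apply, MulEquiv.symm_apply_apply]
      exact (autExt_of_mem β (hQ.1 (α x).2)).symm
    obtain ⟨-, c, hc, hce⟩ := hφ.2 _ hcand
    refine mem_hom_congr E' hc fun y => ?_
    obtain ⟨x, hx, hxT, hxy⟩ := exists_autExt_eq β y
    have hy : y = ⟨autExt β (⟨x, hx⟩ : P), autExt_mem_autImage β (le_S E hφ.1) hx⟩ :=
      Subtype.ext hxy.symm
    rw [hy, hχe, hce]
  -- the group of automorphisms
  have hH : ∀ β ∈ F.autGroup T, ∀ η ∈ residualAut E p, β * η * β⁻¹ ∈ residualAut E p := by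
    intro β hβ η hη
    induction hη using Subgroup.closure_induction with
    | mem η hη =>
      obtain ⟨hηE, P, φ, hP, hφ, he⟩ := hη
      refine Subgroup.subset_closure ⟨?_, ?_⟩
      · exact autCongr_mem_of_invariant hS hF hE le_rfl ((mem_autGroup F hTS).1 hβ) hηE
      obtain ⟨χ, hχ, hχe⟩ := h0 β hβ P φ hφ
      have hψ := restr_mem F hP.1 (autGroup_mem_hom F hTS hβ)
      refine ⟨autImage β P, χ, centric_of_tCentric hE.1 (tCentric_of_isConj hT
        (tCentric_of_centric hE hP) ⟨_, hψ, range_restr hP.1 _⟩), hχ, fun y => ?_⟩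
      obtain ⟨x, hx, hxT, hxy⟩ := exists_autExt_eq β y
      have hy : y = ⟨autExt β (⟨x, hx⟩ : P), autExt_mem_autImage β hP.1 hx⟩ :=
        Subtype.ext hxy.symm
      have hβx : autExt β x ∈ T := by rw [autExt_of_mem β hxT]; exact (β _).2
      have hηx : autExt η x ∈ T := by rw [autExt_of_mem η hxT]; exact (η _).2
      rw [hy, hχe, he]
      show autExt β (autExt η x) = autExt (β * η * β⁻¹) (autExt β x)
      rw [autExt_mul _ _ hβx, autExt_inv β hxT, autExt_mul _ _ hxT]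
    | one => simp
    | mul a b _ _ ha hb => simpa [mul_assoc] using mul_mem ha hb
    | inv a _ ha => simpa [mul_assoc] using (residualAut E p).inv_mem ha
  rintro β hβ P φ ⟨hφE, η, hη, φ₀, hφ₀, he⟩
  obtain ⟨χ, hχ, hχe⟩ := hI β hβ P φ hφE
  obtain ⟨χ₀, hχ₀, hχ₀e⟩ := h0 β hβ P φ₀ hφ₀
  refine ⟨χ, ⟨hχ, β * η * β⁻¹, hH β hβ η hη, χ₀, hχ₀, fun y => ?_⟩, hχe⟩
  obtain ⟨x, hx, hxT, hxy⟩ := exists_autExt_eq β y
  have hy : y = ⟨autExt β (⟨x, hx⟩ : P), autExt_mem_autImage β (le_S E hφE) hx⟩ :=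
    Subtype.ext hxy.symm
  have h1 : φ₀ ⟨x, hx⟩ ∈ T := map_mem_S _ hφ₀ _
  have h2 : autExt β (φ₀ ⟨x, hx⟩) ∈ T := by rw [autExt_of_mem β h1]; exact (β _).2
  rw [hy, hχe, hχ₀e, he, autExt_mul _ _ h2, autExt_inv β h1, autExt_mul _ _ h1]


/-- Let F be a saturated fusion system over a finite p-group S and E a weakly normal subsystem of F over T. Then the p'-residual subsystem of E (the least saturated subsystem of E over T of index prime to p) is normal in F. -/
theorem result {Ω : Type*} [Group Ω] {S : Subgroup Ω} [Finite S] (p : ℕ) [Fact p.Prime] (hS : IsPGroup p S) (F : Cfsg.FusionSystem S) (hF : F.IsSaturated p) {T : Subgroup Ω} (E : Cfsg.FusionSystem T) (hE : E.IsWeaklyNormalIn F p) (D : Cfsg.FusionSystem T) (hD : E.IsPPrimeResidual p D) : D.IsNormalIn F p := by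
  obtain ⟨hEs, -, hEi⟩ := hE
  have hT := hEi.2.1
  have hTS := hT.1
  haveI : Finite T := FusionSys.finite_of_le ‹_› hTS
  obtain rfl := residual_unique (hS.to_le hTS) hEs hD
  have hDE := residualSystem_sub (p := p) E
  refine ⟨⟨residual_saturated (hS.to_le hTS) hEs, hF, fun P φ hφ => hEi.1 P (hDE P hφ), hT,
    fun P hPT φ hφ α hα => ?_, fun P hP φ hφ => ?_⟩, fun α hα => ?_⟩
  · obtain ⟨χ, hχ, hχe⟩ := residual_invariant hS hF hEi α hα P φ hφ
    refine ⟨χ, hχ, fun x hφx hαx => ?_⟩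
    have e : (⟨_, hαx⟩ : autImage α P) = ⟨autExt α x, autExt_mem_autImage α hPT x.2⟩ :=
      Subtype.ext (autExt_of_mem α (hPT x.2)).symm
    rw [e, hχe, autExt_of_mem α hφx]
  · obtain ⟨α, hα, e, he, hφe⟩ := hEi.2.2.2 P hP φ hφ
    obtain ⟨γ, hγ, e₀, he₀, hee⟩ := centricPElem_decomp (hS.to_le hTS) hEs he
    refine ⟨α * γ, mul_mem hα ((FusionSys.mem_autGroup F hTS).2
      (hEi.1 T (FusionSys.autGroup_mem_hom E le_rfl hγ))), e₀,
      centricPElem_le_residual E P he₀, fun x hx => ?_⟩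
    rw [hφe x (FusionSys.map_mem_S E he x)]
    refine congrArg (fun w => ((α w : T) : Ω)) (Subtype.ext ?_)
    exact (hee x).trans (autExt_of_mem γ hx)
  · have hαG := (residual_le_good hS hF hEi hEs) T (FusionSys.autGroup_mem_hom _ le_rfl hα)
    have hTc : TCentric F T T := ⟨le_rfl, fun R hR => by
      obtain ⟨χ, hχ, rfl⟩ := hR
      rw [FusionSys.range_eq_of_image_le (F.injective_of_mem hχ)
        (by rintro _ ⟨x, rfl⟩; exact sc_map_mem hT hχ x.2) le_rfl]
      exact FusionSys.centralizerIn_le T⟩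
    obtain ⟨ψ, hψ, hψe, hψc⟩ := hαG.2 hTc
    have hUS : T ⊔ centralizerIn S T ≤ S := sup_le hTS (FusionSys.centralizerIn_le T)
    have : Finite ↥(T ⊔ centralizerIn S T) := FusionSys.finite_of_le ‹_› hUS
    have hval : ∀ x : ↥(T ⊔ centralizerIn S T), (x : Ω) ∈ centralizerIn S T → ψ x ∈ T ⊔ centralizerIn S T := fun x hx => by
      have h1 := (T ⊔ centralizerIn S T).mul_mem (Subgroup.mem_sup_right hx)
        (Subgroup.mem_sup_left (hψc ⟨x, hx⟩))
      rw [mul_inv_cancel_left] at h1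
      exact h1
    have hr : ψ.range = T ⊔ centralizerIn S T :=
      FusionSys.range_eq_of_image_le (F.injective_of_mem hψ) (range_le_sup_of_le ψ
        (fun x hx => Subgroup.mem_sup_left ((hψe ⟨x, hx⟩).symm ▸ (α ⟨x, hx⟩).2)) hval) le_rfl
    refine ⟨_, FusionSys.toIso_mem_autGroup F hψ hr, fun x => hψe x, fun c hc => ?_⟩
    refine ⟨hψc ⟨c, hc⟩, (Subgroup.centralizer _).mul_mem
      ((Subgroup.centralizer _).inv_mem hc.2) (Subgroup.mem_centralizer_iff.2 fun t ht => ?_)⟩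
    obtain ⟨t', ht'⟩ := α.surjective ⟨t, ht⟩
    have e : t = ψ ⟨t', Subgroup.mem_sup_left t'.2⟩ :=
      ((hψe t').trans (congrArg Subtype.val ht')).symm
    show t * ψ c = ψ c * t
    rw [e, ← map_mul, ← map_mul]
    exact congrArg ψ (Subtype.ext (Subgroup.mem_centralizer_iff.1 hc.2 _ t'.2))

end Cfsg.Agent.S5141
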