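import Cfsg.Statements.S2602
import Cfsg.Agent.ClassicalElem.OutPSL

set_option autoImplicit false
open Cfsg

namespace Cfsg.Agent.S2602

/-- Structure of the outer automorphism group of PSL_2(q), q = p^f ≥ 4: it has a normal cyclic subgroup of order gcd(2, q − 1) (diagonal automorphisms) with cyclic quotient of order f (field automorphisms); there is no graph automorphism in dimension 2. -/
theorem result {F : Type*} [Field F] [Fintype F] {p f : ℕ} [Fact p.Prime] (hf : 1 ≤ f) (hF : Fintype.card F = p ^ f) (h4 : 4 ≤ p ^ f) : ∃ φ : Cfsg.Out (Matrix.ProjectiveSpecialLinearGroup (Fin 2) F) →* Multiplicative (ZMod f), Function.Surjective φ ∧ IsCyclic φ.ker ∧ Nat.card φ.ker = Nat.gcd 2 (p ^ f - 1) := by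
  classical
  have hF' : Nat.card F = p ^ f := by rw [Nat.card_eq_fintype_card, hF]
  obtain ⟨ε⟩ := ClassicalElem.exists_ringAut_equiv (F := F) p f hF'
  obtain ⟨ψ, hψ, hker⟩ := ClassicalElem.exists_hom_ker_inndiag (F := F) (n := 2) le_rfl
    ((AutPSL.fieldAut).comp ε.symm.toMonoidHom)
    (fun β => by
      obtain ⟨g, σ, h⟩ := AutPSL.exists_decomp_two β
      exact ⟨g, ε σ, by simpa using h⟩)
    (fun g x h => by
      have := (AutPSL.conj_field_eq_one le_rfl (g := g) (σ := ε.symm x) h).1
      exact ε.symm.injective (this.trans (map_one _).symm))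
  obtain ⟨φ, h1, h2, h3⟩ := ClassicalElem.exists_out_hom le_rfl ψ hψ hker
  exact ⟨φ, h1, h2, by rw [h3, hF']⟩

end Cfsg.Agent.S2602
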