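import Cfsg.Statements.S4481
import Cfsg.Agent.DihBlock.Structure

set_option autoImplicit false
open Cfsg

namespace Cfsg.Agent.S4481

/-- The principal 2-block of a group with dihedral Sylow 2-subgroups. Let G be a finite group whose Sylow 2-subgroup P is dihedral of order 2^n ≥ 8, let σ be an element of P of order 2^(n−1), ζ a primitive 2^(n−1)-th root of unity, and M a maximal ideal of the algebraic integers containing 2. Then the principal 2-block consists of exactly 3 + 2^(n−2) irreducible characters, which can be labelled 1, χ₁, χ₂, χ₃ and χ^(j) for 1 ≤ j ≤ 2^(n−2) − 1 (all distinct), with signs δ₁, δ₂, δ₃ such that for 0 < λ < 2^(n−1): χ₁(σ^λ) = δ₁, χ₂(σ^λ) = δ₂(−1)^(λ+1), χ₃(σ^λ) = δ₃(−1)^(λ+1) and χ^(j)(σ^λ) = δ₁(ζ^(jλ) + ζ^(−jλ)); and for every element ρ of odd order and every j: 1 + δ₁χ₁(ρ) = −δ₂χ₂(ρ) − δ₃χ₃(ρ)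 = δ₁χ^(j)(ρ). -/
theorem result {G : Type*} [Group G] [Finite G] (M : Ideal Cfsg.AlgInt) (hM : Cfsg.IsPModular 2 M) (n : ℕ) (hn : 3 ≤ n) (P : Sylow 2 G) (hP : Nonempty ((P : Subgroup G) ≃* DihedralGroup (2 ^ (n - 1)))) (σ : G) (hσ : σ ∈ (P : Subgroup G)) (hσo : orderOf σ = 2 ^ (n - 1)) (ζ : ℂ) (hζ : IsPrimitiveRoot ζ (2 ^ (n - 1))) : Nat.card (Cfsg.principalBlock M G) = 3 + 2 ^ (n - 2) ∧ ∃ (χ₁ χ₂ χ₃ : Cfsg.IrrCharacter G) (χ' : Fin (2 ^ (n - 2) - 1) → Cfsg.IrrCharacter G) (δ₁ δ₂ δ₃ : ℤ), (δ₁ = 1 ∨ δ₁ = -1) ∧ (δ₂ = 1 ∨ δ₂ = -1) ∧ (δ₃ = 1 ∨ δ₃ = -1) ∧ Function.Injective χ' ∧ (χ₁ : G → ℂ) ≠ (fun _ => 1) ∧ (χ₂ : G → ℂ) ≠ (fun _ => 1) ∧ (χ₃ : G → ℂ) ≠ (fun _ => 1) ∧ χ₁ ≠ χ₂ ∧ χ₁ ≠ χ₃ ∧ χ₂ ≠ χ₃ ∧ (∀ j, χ' j ≠ χ₁ ∧ χ' j ≠ χ₂ ∧ χ' j ≠ χ₃ ∧ (χ' j : G → ℂ) ≠ (fun _ => 1)) ∧ Cfsg.principalBlock M G = {χ : Cfsg.IrrCharacter G | (χ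 : G → ℂ) = (fun _ => 1) ∨ χ = χ₁ ∨ χ = χ₂ ∨ χ = χ₃ ∨ ∃ j, χ = χ' j} ∧ (∀ l : ℕ, 0 < l → l < 2 ^ (n - 1) → (χ₁ : G → ℂ) (σ ^ l) = δ₁ ∧ (χ₂ : G → ℂ) (σ ^ l) = δ₂ * (-1) ^ (l + 1) ∧ (χ₃ : G → ℂ) (σ ^ l) = δ₃ * (-1) ^ (l + 1) ∧ ∀ j : Fin (2 ^ (n - 2) - 1), (χ' j : G → ℂ) (σ ^ l) = δ₁ * (ζ ^ (((j : ℕ) + 1) * l) + (ζ ^ (((j : ℕ) + 1) * l))⁻¹)) ∧ ∀ ρ : G, Odd (orderOf ρ) → ∀ j : Fin (2 ^ (n - 2) - 1), 1 + δ₁ * (χ₁ : G → ℂ) ρ = -δ₂ * (χ₂ : G → ℂ) ρ - δ₃ * (χ₃ : G → ℂ) ρ ∧ 1 + δ₁ * (χ₁ : G → ℂ) ρ = δ₁ * (χ' j : G → ℂ) ρ := by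
  classical
  haveI := Fintype.ofFinite G
  obtain ⟨k, rfl⟩ : ∃ k, n = k + 3 := ⟨n - 3, by omega⟩
  simp only [show k + 3 - 1 = k + 2 by omega, show k + 3 - 2 = k + 1 by omega] at *
  have hm : 2 ^ (k + 2) = 2 * 2 ^ (k + 1) := by ring
  have h4 : 2 ≤ 2 ^ (k + 1) := by
    have := Nat.one_le_two_pow (n := k)
    rw [pow_succ]; omega
  haveI : NeZero (2 ^ (k + 2)) := ⟨by positivity⟩
  obtain ⟨e⟩ := hP
  have hσP : orderOf (e ⟨σ, hσ⟩) = 2 ^ (k + 2) := by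
    rw [MulEquiv.orderOf_eq, ← Subgroup.orderOf_coe, hσo]
  obtain ⟨i, hi⟩ : ∃ i, e ⟨σ, hσ⟩ = DihedralGroup.r i := by
    rcases he : e ⟨σ, hσ⟩ with i | i
    · exact ⟨i, rfl⟩
    · rw [he, DihedralGroup.orderOf_sr] at hσP
      omega
  let τ : (P : Subgroup G) := e.symm (DihedralGroup.sr 0)
  have hinv : τ * ⟨σ, hσ⟩ * τ⁻¹ = (⟨σ, hσ⟩ : (P : Subgroup G))⁻¹ := by
    apply e.injective
    simp [τ, hi]
  have D : DihBlock.Dih P σ (τ : G) (2 ^ (k + 1)) := by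
    refine ⟨hσ, τ.2, ⟨k + 1, rfl⟩, by rw [hσo, hm], congrArg Subtype.val hinv, ?_, ?_, ?_⟩
    · have : τ * τ = 1 := by apply e.injective; simp [τ]
      exact congrArg Subtype.val this
    · intro hmem
      obtain ⟨z, hz⟩ := Subgroup.mem_zpowers_iff.mp hmem
      have hz' : (⟨σ, hσ⟩ : (P : Subgroup G)) ^ z = τ := Subtype.ext (by simpa using hz)
      have := congrArg e hz'
      rw [map_zpow, hi, MulEquiv.apply_symm_apply] at this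
      simp at this
    · rw [Nat.card_congr e.toEquiv, DihedralGroup.nat_card, show k + 3 - 1 = k + 2 by omega, hm]; ring
  obtain ⟨χ₁, χ₂, χ₃, χ', δ₁, δ₂, δ₃, h1, h2, h3, hinj, a1, a2, a3, b12, b13, b23, hd, hpb, hv,
    hreg⟩ := D.block_structure h4 hM (ζ := ζ) (by rw [← hm]; exact hζ)
  have hne : ∀ χ : Cfsg.IrrCharacter G,
      χ ≠ Char.trivialIrr G → (χ : G → ℂ) ≠ (fun _ => 1) := fun χ h e => h (Subtype.ext e)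
  have hset : Cfsg.principalBlock M G = {χ : Cfsg.IrrCharacter G | (χ : G → ℂ) = (fun _ => 1) ∨
      χ = χ₁ ∨ χ = χ₂ ∨ χ = χ₃ ∨ ∃ j, χ = χ' j} := by
    ext χ
    rw [← DihBlock.mem_pb, hpb χ]
    exact or_congr_left ⟨fun e => by rw [e]; rfl, fun e => Subtype.ext e⟩
  refine ⟨?_, χ₁, χ₂, χ₃, χ', δ₁, δ₂, δ₃, h1, h2, h3, hinj, hne _ a1, hne _ a2, hne _ a3, b12, b13,
    b23, fun j => ⟨(hd j).1, (hd j).2.1, (hd j).2.2.1, hne _ (hd j).2.2.2⟩, hset,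
    fun l hl0 hl => hv l hl0 (by rwa [← hm]), fun ρ hρ j => hreg ρ
      (fun h => (Nat.not_even_iff_odd.mpr hρ) (even_iff_two_dvd.mpr h)) j⟩
  have e : DihBlock.pb M G = insert (Char.trivialIrr G) (insert χ₁ (insert χ₂ (insert χ₃
      (Finset.univ.image χ')))) := by
    ext χ
    simp [hpb χ, eq_comm]
  rw [Nat.card_coe_set_eq, show (Cfsg.principalBlock M G).ncard = (DihBlock.pb M G).card from
    Set.ncard_eq_toFinset_card _ _, e,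
    Finset.card_insert_of_notMem (by simp [a1.symm, a2.symm, a3.symm, fun j => (hd j).2.2.2]),
    Finset.card_insert_of_notMem (by simp [b12, b13, fun j => (hd j).1]),
    Finset.card_insert_of_notMem (by simp [b23, fun j => (hd j).2.1]),
    Finset.card_insert_of_notMem (by simp [fun j => (hd j).2.2.1]),
    Finset.card_image_of_injective _ hinj, Finset.card_univ, Fintype.card_fin]
  omega

end Cfsg.Agent.S4481
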