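import Cfsg.Prelude.Def_Blocks
import Cfsg.Agent.Char.Basic

namespace Cfsg.Agent.S0944

theorem result {G : Type*} [Group G] [Finite G] (χ : Cfsg.IrrCharacter G) (u : G) (hu : orderOf u = 2) : ∃ n : ℤ, (χ : G → ℂ) u = (n : ℂ) ∧ (2 : ℤ) ∣ (Cfsg.charDegree (χ : G → ℂ) : ℤ) - n := by
  classical
  obtain ⟨n, ρ, hρ, he⟩ := χ.2
  obtain ⟨ε, hε, hsum⟩ := Cfsg.Agent.Char.exists_character_eq_sum_roots ρ u
  let s : Fin (Module.finrank ℂ (Fin n → ℂ)) → ℤ := fun i => if ε i = 1 then 1 else -1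
  have hs : ∀ i, (s i : ℂ) = ε i := by
    intro i
    rcases sq_eq_one_iff.mp (show ε i ^ 2 = 1 by have := hε i; rwa [hu] at this) with h | h
    · simp [s, h]
    · simp [s, h, show (-1 : ℂ) ≠ 1 by norm_num]
  refine ⟨∑ i, s i, ?_, ?_⟩
  · have := hsum 1
    simp only [pow_one] at this
    rw [← he, this]
    push_cast
    simp [hs]
  · have hdeg : Cfsg.charDegree (χ : G → ℂ) = Module.finrank ℂ (Fin n → ℂ) := by
      rw [Cfsg.charDegree, ← he, ρ.char_one]
      simp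
    rw [hdeg]
    have : (Module.finrank ℂ (Fin n → ℂ) : ℤ) - ∑ i, s i = ∑ i, (1 - s i) := by
      simp [Finset.sum_sub_distrib]
    rw [this]
    refine Finset.dvd_sum fun i _ => ?_
    by_cases h : ε i = 1 <;> simp [s, h]

end Cfsg.Agent.S0944
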