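import Cfsg.Prelude.Def_Blocks
import Cfsg.Agent.Brauer.KleinFour
import Cfsg.Agent.Brauer.RegElement
import Cfsg.Agent.Char.InvolutionCount
import Cfsg.Agent.S0944

set_option autoImplicit false
open Cfsg
open scoped ComplexConjugate

namespace Cfsg.Agent.S0948

open Cfsg.Agent.Brauer

theorem result {G : Type*} [Group G] [Finite G] (M : Ideal Cfsg.AlgInt) (hM : Cfsg.IsPModular 2 M) (P : Sylow 2 G) (hP : IsKleinFour (P : Subgroup G)) (hone : ∀ s t : G, orderOf s = 2 → orderOf t = 2 → IsConj s t) : ∃ ζ₂ ζ₃ ζ₄ : Cfsg.IrrCharacter G, ∃ ε : ℤ, (ε = 1 ∨ ε = -1) ∧ (ζ₂ : G → ℂ) ≠ (fun _ => 1) ∧ (ζ₃ : G → ℂ) ≠ (fun _ => 1) ∧ ζ₂ ≠ ζ₃ ∧ ζ₂ ≠ ζ₄ ∧ ζ₃ ≠ ζ₄ ∧ Cfsg.principalBlock M G = {χ : Cfsg.IrrCharacter G | (χ : G → ℂ) = (fun _ => 1) ∨ χ = ζ₂ ∨ χ = ζ₃ ∨ χ = ζ₄} ∧ (∀ z : G, orderOf z = 2 → (ζ₂ : G → ℂ) z = 1 ∧ (ζ₃ : G → ℂ) z = (ε : ℂ) ∧ (ζ₄ : G → ℂ) z = -1) ∧ (4 : ℤ) ∣ (Cfsg.charDegree (ζ₂ : G → ℂ) : ℤ) - 1 ∧ (4 : ℤ) ∣ (Cfsg.charDegree (ζ₃ : G → ℂ) : ℤ) - ε ∧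 (4 : ℤ) ∣ (Cfsg.charDegree (ζ₄ : G → ℂ) : ℤ) + 1 ∧ ∀ y : G, Odd (orderOf y) → 1 + (ζ₂ : G → ℂ) y + (ε : ℂ) * (ζ₃ : G → ℂ) y - (ζ₄ : G → ℂ) y = 0 := by
  classical
  haveI := Fintype.ofFinite G
  haveI : M.IsPrime := hM.2.1.isPrime
  haveI : Fact (Nat.Prime 2) := ⟨Nat.prime_two⟩
  haveI := hP
  have hcard4 : Nat.card (P : Subgroup G) = 4 := IsKleinFour.card_four
  haveI : Nontrivial (P : Subgroup G) := Finite.one_lt_card_iff_nontrivial.mp (by omega)
  obtain ⟨z₀, hz₀⟩ := exists_ne (1 : (P : Subgroup G))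
  set z : G := (z₀ : G) with hzdef
  have hzP : z ∈ (P : Subgroup G) := z₀.2
  have hz1 : z ≠ 1 := fun h => hz₀ (Subtype.ext h)
  have hzo : orderOf z = 2 := orderOf_eq_prime (by rw [sq]; exact kleinFour_sq hP hzP) hz1
  have hzo' : orderOf z = 2 ^ 1 := by rw [pow_one]; exact hzo
  haveI := Fintype.ofFinite (Subgroup.centralizer ({z} : Set G))
  obtain ⟨N, hNn, hodd, hidx, hregN⟩ :=
    exists_complement_centralizer P hP hzP (Subgroup.centralizer ({z} : Set G)) rfl hz1
  haveI := hNn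
  have hNreg : ∀ y ∈ N, ¬ 2 ∣ orderOf y := fun y hy h =>
    hodd (h.trans (Subgroup.orderOf_dvd_natCard _ hy))
  set B := principalBlock M G with hB
  -- the integral values on the involution
  choose n hn hn2 using fun χ : IrrCharacter G => S0944.result χ z hzo
  have hcol : ∀ y ∈ N, ∀ y' ∈ N,
      ∑ χ ∈ B.toFinset, (χ : G → ℂ) (z * (y : G)) * conj ((χ : G → ℂ) (z * (y' : G))) = 4 := by
    intro y hy y' hy'
    have h := principal_column_section hM hzo' (Subgroup.centralizer ({z} : Set G)) rfl y y'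
      (hNreg y hy) (hNreg y' hy')
    rw [sum_sq_principalBlock_of_complement hM N hodd hidx hy hy', finsum_mem_eq_toFinset_sum] at h
    rw [h]; norm_num
  have hsec : ∀ χ ∈ B, ∀ y ∈ N, (χ : G → ℂ) (z * (y : G)) = n χ := by
    intro χ hχ y hy
    have h11 := hcol y hy y hy
    have h10 := hcol y hy 1 N.one_mem
    have h01 := hcol 1 N.one_mem y hy
    have h00 := hcol 1 N.one_mem 1 N.one_mem
    simp only [OneMemClass.coe_one, mul_one, hn] at h10 h01 h00
    have hs : ((∑ χ ∈ B.toFinset, Complex.normSq ((χ : G → ℂ) (z * (y : G)) - n χ) : ℝ) : ℂ)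
        = 0 := by
      rw [Complex.ofReal_sum]
      simp only [← Complex.mul_conj, map_sub, sub_mul, mul_sub, Finset.sum_sub_distrib]
      rw [h11, h10, h01, h00]; norm_num
    have hs' : ∑ χ ∈ B.toFinset, Complex.normSq ((χ : G → ℂ) (z * (y : G)) - n χ) = 0 := by
      exact_mod_cast hs
    exact sub_eq_zero.mp (Complex.normSq_eq_zero.mp
      ((Finset.sum_eq_zero_iff_of_nonneg fun χ _ => Complex.normSq_nonneg _).mp hs' χ
        (by simpa using hχ)))
  have hsumsq : ∑ χ ∈ B.toFinset, n χ * n χ = 4 := by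
    have h00 := hcol 1 N.one_mem 1 N.one_mem
    simp only [OneMemClass.coe_one, mul_one, hn, map_intCast] at h00
    exact_mod_cast h00
  set T : IrrCharacter G := Char.trivialIrr G with hT
  have hTB : T ∈ B := by
    rw [hB, principalBlock_eq_blockOf_trivial]
    exact Cfsg.Agent.Block.mem_blockOf_self (Char.trivialIrr G)
  have hnT : n T = 1 := by
    have := hn T
    rw [show (T : G → ℂ) z = 1 from rfl] at this
    exact_mod_cast this.symm
  -- every member of the block is nonzero on the involution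
  have hne : ∀ χ ∈ B, n χ ≠ 0 := by
    intro χ hχ h0
    have hχT : χ ≠ T := fun h => by rw [h, hnT] at h0; exact one_ne_zero h0
    have hvan : ∀ g : G, 2 ∣ orderOf g → (χ : G → ℂ) g = 0 := by
      intro g hg
      obtain ⟨c, hc⟩ := isConj_iff.mp (hone _ z (orderOf_pPart_two P hP hg) hzo)
      have hconj := Element.pPart_conj Nat.prime_two c g
      rw [hc] at hconj
      have hcy : Commute z (Element.pComplPart 2 (c * g * c⁻¹)) := by
        rw [← hconj.1]; exact Element.commute_pPart_pComplPart 2 _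
      have hyC : Element.pComplPart 2 (c * g * c⁻¹) ∈ Subgroup.centralizer ({z} : Set G) := by
        rw [Subgroup.mem_centralizer_singleton_iff]; exact hcy.eq.symm
      have hyreg : ¬ 2 ∣ orderOf (⟨_, hyC⟩ : Subgroup.centralizer ({z} : Set G)) := by
        rw [← Subgroup.orderOf_coe]
        exact Nat.prime_two.coprime_iff_not_dvd.mp
          (Nat.coprime_comm.mp (Element.coprime_orderOf_pComplPart Nat.prime_two _))
      have hdec : c * g * c⁻¹ = z * Element.pComplPart 2 (c * g * c⁻¹) := by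
        conv_lhs => rw [← Element.pPart_mul_pComplPart 2 (c * g * c⁻¹), hconj.1]
      have hv := hsec χ hχ _ (hregN _ hyreg)
      rw [← hdec, Char.irr_isClassFunction χ.2 g c, h0, Int.cast_zero] at hv
      exact hv
    have hsum : regSum 2 (χ : G → ℂ) (fun _ => 1) = 0 := by
      have h1 : ∑ x : G, (χ : G → ℂ) x * conj ((T : G → ℂ) x) = 0 := by
        rw [Char.sum_mul_conj_eq_card_mul_classInner, Char.classInner_irr_ne χ.2 T.2
          (fun h => hχT (Subtype.ext h)), mul_zero]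
      rw [regSum, Finset.sum_filter_of_ne]
      · exact h1
      · intro x _ hx hdvd; rw [hvan x hdvd, zero_mul] at hx; exact hx rfl
    have h := (mem_principalBlock_iff_regSum hM χ).mp hχ
    rw [hsum, zero_div] at h
    exact h Cfsg.Agent.Block.memLocalIdeal_zero
  have hn1 : ∀ χ ∈ B, 1 ≤ n χ * n χ := fun χ hχ => by
    rcases lt_or_gt_of_ne (hne χ hχ) with h | h <;> nlinarith
  set S := B.toFinset.erase T with hS
  have hTS : T ∈ B.toFinset := by simpa using hTB
  have hSsum : ∑ χ ∈ S, n χ * n χ = 3 := by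
    rw [← Finset.add_sum_erase _ _ hTS, hnT] at hsumsq
    linarith
  have hSB : ∀ χ ∈ S, χ ∈ B ∧ χ ≠ T := fun χ hχ => by
    rw [hS, Finset.mem_erase, Set.mem_toFinset] at hχ; exact ⟨hχ.2, hχ.1⟩
  have hnpm : ∀ χ ∈ S, n χ = 1 ∨ n χ = -1 := by
    intro χ hχ
    have h1 := Finset.single_le_sum (f := fun ψ => n ψ * n ψ) (fun ψ _ => mul_self_nonneg (n ψ)) hχ
    rw [hSsum] at h1
    have h1' : n χ * n χ ≤ 3 := h1
    have h2 := hne χ (hSB χ hχ).1
    have h3 : n χ ≤ 1 := by nlinarith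
    have h4 : -1 ≤ n χ := by nlinarith
    omega
  have hScard : S.card = 3 := by
    rw [Finset.sum_congr rfl (fun χ hχ => show n χ * n χ = 1 by
      rcases hnpm χ hχ with h | h <;> simp [h])] at hSsum
    have h' : (S.card : ℤ) = 3 := by simpa using hSsum
    exact_mod_cast h'
  -- the relation with the regular columns
  have hrel : ∀ y : G, Odd (orderOf y) → 1 + ∑ χ ∈ S, (n χ : ℂ) * (χ : G → ℂ) y = 0 := by
    intro y hy
    have hy2 : ¬ 2 ∣ orderOf y := fun h => (Nat.not_even_iff_odd.mpr hy) (even_iff_two_dvd.mpr h)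
    have hnc : ¬ IsConj z (Element.pPart 2 y) := by
      rw [(Element.pPart_eq_one Nat.prime_two
        (Nat.coprime_comm.mp (Nat.prime_two.coprime_iff_not_dvd.mpr hy2))).1]
      intro h; exact hz1 (isConj_one_left.mp h)
    have h := principal_column_eq_zero hM hzo' (Subgroup.centralizer ({z} : Set G)) rfl 1
      (by rw [orderOf_one]; norm_num) hnc
    rw [finsum_mem_eq_toFinset_sum] at h
    simp only [OneMemClass.coe_one, mul_one, hn] at h
    have h' := congrArg conj h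
    simp only [map_sum, map_mul, map_intCast, Complex.conj_conj, map_zero] at h'
    rw [← Finset.add_sum_erase _ _ hTS] at h'
    rw [hnT, show (T : G → ℂ) y = 1 from rfl, Int.cast_one, one_mul, ← hS] at h'
    exact h'
  have hdeg : ∀ χ : IrrCharacter G, (χ : G → ℂ) 1 = (charDegree (χ : G → ℂ) : ℂ) ∧
      0 < charDegree (χ : G → ℂ) := fun χ =>
    ⟨(Char.irr_charDegree_spec χ.2).2, (Char.irr_charDegree_spec χ.2).1⟩
  have hrel1 : 1 + ∑ χ ∈ S, n χ * (charDegree (χ : G → ℂ) : ℤ) = 0 := by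
    have h := hrel 1 (by simp)
    rw [Finset.sum_congr rfl (fun χ _ => by rw [(hdeg χ).1])] at h
    exact_mod_cast h
  obtain ⟨a, haS, ha⟩ : ∃ a ∈ S, n a = 1 := by
    by_contra hcon
    push Not at hcon
    have hall : ∀ χ ∈ S, n χ * (charDegree (χ : G → ℂ) : ℤ) ≤ -1 := fun χ hχ => by
      rw [(hnpm χ hχ).resolve_left (hcon χ hχ)]
      have := (hdeg χ).2
      omega
    have := Finset.sum_le_card_nsmul S _ _ hall
    rw [hScard] at this
    simp only [nsmul_eq_mul] at this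
    push_cast at this
    linarith
  obtain ⟨d, hdS, hd⟩ : ∃ d ∈ S, n d = -1 := by
    by_contra hcon
    push Not at hcon
    have : 0 ≤ ∑ χ ∈ S, n χ * (charDegree (χ : G → ℂ) : ℤ) := Finset.sum_nonneg fun χ hχ => by
      rw [(hnpm χ hχ).resolve_right (hcon χ hχ)]; positivity
    linarith
  have had : a ≠ d := fun h => by rw [h, hd] at ha; omega
  obtain ⟨b, hb⟩ : ∃ b, (S.erase a).erase d = {b} := Finset.card_eq_one.mp (by
    rw [Finset.card_erase_of_mem (Finset.mem_erase.mpr ⟨had.symm, hdS⟩),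
      Finset.card_erase_of_mem haS, hScard])
  have hb' : b ∈ (S.erase a).erase d := by rw [hb]; exact Finset.mem_singleton_self b
  simp only [Finset.mem_erase] at hb'
  obtain ⟨hbd, hba, hbS⟩ := hb'
  have hSeq : S = {a, b, d} := by
    rw [← Finset.insert_erase haS, ← Finset.insert_erase (Finset.mem_erase.mpr ⟨had.symm, hdS⟩), hb]
    congr 1
    exact Finset.pair_comm d b
  have hinv : ∀ χ : IrrCharacter G, ∀ s : G, orderOf s = 2 → (χ : G → ℂ) s = n χ := fun χ s hs => by
    rw [← hn χ]; exact Char.isClassFunction_eq_of_isConj (Char.irr_isClassFunction χ.2) (hone s z hs hzo)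
  have hmod : ∀ χ : IrrCharacter G, (4 : ℤ) ∣ (charDegree (χ : G → ℂ) : ℤ) - n χ := by
    intro χ
    haveI := Fintype.ofFinite (P : Subgroup G)
    obtain ⟨m, hm⟩ := exists_sum_subgroup_eq_card_mul (Char.isCharacter_of_irr χ.2) (P : Subgroup G)
    rw [← Finset.add_sum_erase _ _ (Finset.mem_univ (1 : (P : Subgroup G))),
      Finset.sum_congr rfl (g := fun _ => ((n χ : ℤ) : ℂ)) (fun x hx => ?_), Finset.sum_const,
      nsmul_eq_mul, OneMemClass.coe_one, (hdeg χ).1, hcard4] at hm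
    · have hc : (Finset.univ.erase (1 : (P : Subgroup G))).card = 3 := by
        rw [Finset.card_erase_of_mem (Finset.mem_univ _), Finset.card_univ,
          ← Nat.card_eq_fintype_card, hcard4]
      rw [hc] at hm
      have : (charDegree (χ : G → ℂ) : ℤ) + 3 * n χ = 4 * (m : ℤ) := by exact_mod_cast hm
      exact ⟨(m : ℤ) - n χ, by linarith⟩
    · exact hinv χ _ (orderOf_eq_prime (by rw [sq]; exact kleinFour_sq hP x.2)
        fun h => (Finset.mem_erase.mp hx).1 (Subtype.ext h))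
  refine ⟨a, b, d, n b, hnpm b hbS, fun h => (hSB a haS).2 (Subtype.ext h),
    fun h => (hSB b hbS).2 (Subtype.ext h), hba.symm, had, hbd, ?_, ?_, ?_, ?_, ?_, ?_⟩
  · ext χ
    rw [Set.mem_ofPred_eq]
    constructor
    · intro hχ
      by_cases h : χ = T
      · exact Or.inl (congrArg Subtype.val h)
      · have : χ ∈ S := Finset.mem_erase.mpr ⟨h, by simpa using hχ⟩
        rw [hSeq] at this
        simpa using Or.inr (by simpa using this)
    · rintro (h | rfl | rfl | rfl)
      · rw [show χ = T from Subtype.ext h]; exact hTB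
      exacts [(hSB _ haS).1, (hSB _ hbS).1, (hSB _ hdS).1]
  · intro s hs
    rw [hinv a s hs, hinv b s hs, hinv d s hs, ha, hd]
    exact ⟨by norm_num, rfl, by norm_num⟩
  · simpa [ha] using hmod a
  · exact hmod b
  · simpa [hd] using hmod d
  · intro y hy
    have h := hrel y hy
    rw [hSeq, Finset.sum_insert (by simp [hba.symm, had]), Finset.sum_pair hbd, ha, hd] at h
    push_cast at h
    linear_combination h

end Cfsg.Agent.S0948
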