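import Cfsg.Statements.S2140
import Cfsg.Agent.MinIndex50.LinearExc
import Cfsg.Agent.Linear.Orders
import Cfsg.Agent.PermP.ZassCore

set_option autoImplicit false
open Cfsg

namespace Cfsg.Agent.S2140

open Cfsg.Agent Cfsg.Agent.MinIndex50 in
/-- The index bound in `SL_n`. -/
theorem index_bound {F : Type*} [Field F] [Fintype F] (m : ℕ)
    (hexc : ¬ (m + 3 = 4 ∧ Fintype.card F = 2))
    (H : Subgroup (Matrix.SpecialLinearGroup (Fin (m + 3)) F)) (hH : H ≠ ⊤) :
    Fintype.card F ^ (m + 3) - 1 ≤ (Fintype.card F - 1) * H.index := by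
  classical
  set G := Matrix.SpecialLinearGroup (Fin (m + 3)) F
  have h1 : H.index ≠ 1 := fun h => hH (Subgroup.index_eq_one.1 h)
  have h0 : H.index ≠ 0 := Subgroup.index_ne_zero_of_finite
  have hX : Nat.card (G ⧸ H) = H.index := rfl
  obtain ⟨χ, d, hχ, hd, hle, hor⟩ := transitive_degree (F := F) (m := m) (G ⧸ H) (by omega)
  rw [hX] at hle hor
  obtain ⟨d', hd', hb, hdvd, hbig⟩ := irr_degree_ge χ.2 hχ
  obtain rfl : d = d' := by exact_mod_cast hd.symm.trans hd'
  have hiG : H.index ∣ Nat.card G := H.index_dvd_card
  have hq := Fintype.one_lt_card (α := F)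
  by_cases e : (m + 3, Fintype.card F) ≠ (3, 2) ∧ (m + 3, Fintype.card F) ≠ (3, 4) ∧
      (m + 3, Fintype.card F) ≠ (4, 3)
  · have hn4 : (m + 3, Fintype.card F) ≠ (4, 2) := fun h => hexc ⟨(Prod.ext_iff.1 h).1, (Prod.ext_iff.1 h).2⟩
    have hD := hbig e.1 e.2.1 hn4 e.2.2
    have hdvd1 : (Fintype.card F - 1) ∣ Fintype.card F ^ (m + 3) - Fintype.card F := by
      have h1 : (Fintype.card F - 1) ∣ Fintype.card F ^ (m + 3) - 1 := by
        simpa using Nat.sub_dvd_pow_sub_pow (Fintype.card F) 1 (m + 3)
      have h2 := Nat.dvd_sub h1 (dvd_refl (Fintype.card F - 1))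
      rwa [show Fintype.card F ^ (m + 3) - 1 - (Fintype.card F - 1) =
        Fintype.card F ^ (m + 3) - Fintype.card F by omega] at h2
    have hqn : Fintype.card F ≤ Fintype.card F ^ (m + 3) := Nat.le_self_pow (by omega) _
    have h := Nat.mul_le_mul_left (Fintype.card F - 1) ((Nat.add_le_add_right hD 1).trans hle)
    rw [mul_add, Nat.mul_div_cancel' hdvd1, mul_one] at h
    omega
  · have e' : (m + 3 = 3 ∧ Fintype.card F = 2) ∨ (m + 3 = 3 ∧ Fintype.card F = 4) ∨
        (m + 3 = 4 ∧ Fintype.card F = 3) := by
      simp only [ne_eq, Prod.mk.injEq] at e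
      tauto
    rcases e' with ⟨hm, hF⟩ | ⟨hm, hF⟩ | ⟨hm, hF⟩
    · obtain rfl : m = 0 := by omega
      simp only [hF] at hb hor ⊢
      norm_num at hb hor ⊢
      have hN : Nat.card G = 168 := by
        have h := Linear.card_SL_mul (F := F) 3
        simp only [hF, Fin.prod_univ_three] at h
        change _ * Nat.card G = _ at h
        simp only [Fin.isValue, Fin.val_zero, Fin.val_one, Fin.val_two, Fin.coe_ofNat_eq_mod,
          Nat.reduceMod, Nat.reducePow, Nat.reduceSub, Nat.reduceMul] at h
        omega
      rw [hN] at hiG hdvd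
      by_contra! hlt
      have : H.index = 4 := by
        have hkd : H.index = d + 1 := by omega
        have hd1 : d ≤ 6 := by omega
        have hd2 : 0 < d := by omega
        rw [hkd] at hiG ⊢
        interval_cases d <;> omega
      -- a perfect group has no action on four points
      let f : G →* Equiv.Perm (G ⧸ H) := MulAction.toPermHom G (G ⧸ H)
      have hG' : commutator G = ⊤ := Linear.commutator_SL_eq_top (F := F) (ι := Fin 3) (by simp)
      haveI hs : Group.IsSolvable (Equiv.Perm (G ⧸ H)) :=
        PermP.Zass.solvable_perm_le_four (X := G ⧸ H) (by rw [hX]; omega)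
      haveI : Group.IsSolvable f.range := inferInstance
      have hr : f.range = ⊥ := by
        by_contra hne
        haveI : Nontrivial f.range := (Subgroup.nontrivial_iff_ne_bot _).2 hne
        have hlt := Group.IsSolvable.commutator_lt_top_of_nontrivial f.range
        refine hlt.ne ?_
        rw [commutator_def, ← Subgroup.map_top_of_surjective f.rangeRestrict f.rangeRestrict_surjective,
          ← Subgroup.map_commutator, ← commutator_def, hG']
      refine hH (eq_top_iff.2 fun g _ => ?_)
      have hg : f g = 1 := by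
        have : f g ∈ f.range := ⟨g, rfl⟩
        rwa [hr, Subgroup.mem_bot] at this
      have := DFunLike.congr_fun hg (QuotientGroup.mk 1 : G ⧸ H)
      simp [f] at this
      have h2 : g⁻¹ ∈ H := by simpa [-inv_mem_iff] using QuotientGroup.eq.1 this
      simpa using inv_mem h2
    · obtain rfl : m = 0 := by omega
      simp only [hF] at hb hor ⊢
      norm_num at hb hor ⊢
      have hN : Nat.card G = 60480 := by
        have h := Linear.card_SL_mul (F := F) 3
        simp only [hF, Fin.prod_univ_three] at h
        change _ * Nat.card G = _ at h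
        simp only [Fin.isValue, Fin.val_zero, Fin.val_one, Fin.val_two, Fin.coe_ofNat_eq_mod,
          Nat.reduceMod, Nat.reducePow, Nat.reduceSub, Nat.reduceMul] at h
        omega
      rw [hN] at hiG hdvd
      by_contra! hlt
      have : H.index = 16 := by
        have hkd : H.index = d + 1 := by omega
        have hd1 : d ≤ 20 := by omega
        have hd2 : 0 < d := by omega
        rw [hkd] at hiG ⊢
        interval_cases d <;> omega
      have h := H.card_mul_index
      rw [hN, this] at h
      have hdv : 2 ∣ Nat.card H := ⟨1890, by omega⟩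
      exact not_sixteen hF H hdv this
    · obtain rfl : m = 1 := by omega
      simp only [hF] at hb hor ⊢
      norm_num at hb hor ⊢
      have hN : Nat.card G = 12130560 := by
        have h := Linear.card_SL_mul (F := F) 4
        simp only [hF, Fin.prod_univ_four] at h
        change _ * Nat.card G = _ at h
        simp only [Fin.isValue, Fin.val_zero, Fin.val_one, Fin.val_two, Fin.coe_ofNat_eq_mod,
          Nat.reduceMod, Nat.reducePow, Nat.reduceSub, Nat.reduceMul] at h
        omega
      rw [hN] at hiG hdvd
      by_contra! hlt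
      have : H.index = 27 := by
        have hkd : H.index = d + 1 := by omega
        have hd1 : d ≤ 39 := by omega
        have hd2 : 0 < d := by omega
        rw [hkd] at hiG ⊢
        interval_cases d <;> omega
      exact not_twentySeven hF (G ⧸ H) (hX.trans this)

/-- Minimal index of a proper subgroup of the linear groups: for n ≥ 3 and a field F with q elements, (n, q) ≠ (4, 2), every proper subgroup of PSL_n(F) has index at least (q^n − 1)/(q − 1), and some subgroup has exactly that index (the stabiliser of a point of the projective space). -/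
theorem result {F : Type*} [Field F] [Fintype F] {q : ℕ} (hF : Fintype.card F = q) (n : ℕ) (hn : 3 ≤ n) (hexc : ¬ (n = 4 ∧ q = 2)) : (∀ H : Subgroup (Matrix.ProjectiveSpecialLinearGroup (Fin n) F), H ≠ ⊤ → (q ^ n - 1) / (q - 1) ≤ H.index) ∧ (∃ H : Subgroup (Matrix.ProjectiveSpecialLinearGroup (Fin n) F), H.index = (q ^ n - 1) / (q - 1)) := by
  subst hF
  obtain ⟨m, rfl⟩ : ∃ m, n = m + 3 := ⟨n - 3, by omega⟩
  have hq := Fintype.one_lt_card (α := F)
  refine ⟨fun H hH => ?_, ?_⟩
  · have hs : Function.Surjective (QuotientGroup.mk' (Subgroup.center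
        (Matrix.SpecialLinearGroup (Fin (m + 3)) F))) := QuotientGroup.mk'_surjective _
    have h := index_bound m hexc (H.comap (QuotientGroup.mk' _)) (by
      rw [ne_eq, ← Subgroup.comap_top (QuotientGroup.mk' (Subgroup.center
        (Matrix.SpecialLinearGroup (Fin (m + 3)) F)))]
      exact fun e => hH (Subgroup.comap_injective hs e))
    rw [Subgroup.index_comap_of_surjective _ hs] at h
    exact Nat.div_le_of_le_mul h
  · obtain ⟨p⟩ : Nonempty (Projectivization F (Fin (m + 3) → F)) :=
      ⟨Projectivization.mk F (Pi.single 0 1) (Pi.single_ne_zero_iff.2 one_ne_zero)⟩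
    refine ⟨MulAction.stabilizer (Matrix.ProjectiveSpecialLinearGroup (Fin (m + 3)) F) p, ?_⟩
    rw [MulAction.index_stabilizer_of_transitive]
    have h := Projectivization.card F (Fin (m + 3) → F)
    rw [Nat.card_fun, Nat.card_fin, Nat.card_eq_fintype_card (α := F)] at h
    rw [h, Nat.mul_div_cancel _ (by omega)]

end Cfsg.Agent.S2140
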