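import Cfsg.Statements.S0014
import Cfsg.Agent.PGroup.Frattini

set_option autoImplicit false
open Cfsg

namespace Cfsg.Agent.S0014

/-- Burnside's basis Theorem: in a finite p-group whose Frattini quotient has order p ^ n, every generating set contains n elements that already generate, and no set with fewer than n elements generates. -/
theorem result {G : Type*} [Group G] [Finite G] (p n : ℕ) [Fact p.Prime]
    (hG : IsPGroup p G) (hn : (frattini G).index = p ^ n) :
    (∀ S : Finset G, Subgroup.closure (S : Set G) = ⊤ → ∃ T : Finset G, T ⊆ S ∧ T.card = n ∧ Subgroup.closure (T : Set G) = ⊤) ∧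
    (∀ T : Finset G, Subgroup.closure (T : Set G) = ⊤ → n ≤ T.card) := by
  classical
  have hp : p.Prime := Fact.out
  have hlow : ∀ T : Finset G, Subgroup.closure (T : Set G) = ⊤ → n ≤ T.card := fun T hT =>
    (Nat.pow_le_pow_iff_right hp.one_lt).1 (hn ▸ Cfsg.Agent.PGroup.index_frattini_le_pow_card hG hT)
  refine ⟨fun S hS => ?_, hlow⟩
  have key : ∀ S : Finset G, ∃ T : Finset G, T ⊆ S ∧
      Subgroup.closure (S : Set G) ≤ frattini G ⊔ Subgroup.closure (T : Set G) ∧
      Nat.card (frattini G) * p ^ T.card ≤ Nat.card ↥(frattini G ⊔ Subgroup.closure (T : Set G)) := by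
    intro S
    induction S using Finset.induction with
    | empty => exact ⟨∅, subset_rfl, by simp, by simp⟩
    | @insert a S ha ih =>
      obtain ⟨T, hTS, hle, hcard⟩ := ih
      by_cases haT : a ∈ frattini G ⊔ Subgroup.closure (T : Set G)
      · refine ⟨T, hTS.trans (Finset.subset_insert a S), ?_, hcard⟩
        rw [Finset.coe_insert, Subgroup.closure_le, Set.insert_subset_iff]
        exact ⟨haT, Subgroup.subset_closure.trans hle⟩
      · refine ⟨insert a T, Finset.insert_subset_insert a hTS, ?_, ?_⟩
        · rw [Finset.coe_insert, Finset.coe_insert, Subgroup.closure_le, Set.insert_subset_iff]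
          exact ⟨Subgroup.mem_sup_right (Subgroup.subset_closure (Set.mem_insert a _)),
            (Subgroup.subset_closure.trans hle).trans
              (sup_le_sup_left (Subgroup.closure_mono (Set.subset_insert a _)) _)⟩
        · rw [Finset.card_insert_of_notMem (fun h => ha (hTS h)), pow_succ, ← mul_assoc]
          refine (Nat.mul_le_mul_right p hcard).trans ?_
          set X := frattini G ⊔ Subgroup.closure (T : Set G)
          set Y := frattini G ⊔ Subgroup.closure ((insert a T : Finset G) : Set G)
          have hXY : X ≤ Y := sup_le_sup_left (Subgroup.closure_mono (by simp)) _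
          have haY : a ∈ Y := Subgroup.mem_sup_right (Subgroup.subset_closure (by simp))
          have hd : Nat.card X ∣ Nat.card Y := Subgroup.card_dvd_of_le hXY
          obtain ⟨i, hi⟩ := IsPGroup.iff_card.1 (hG.to_subgroup X)
          obtain ⟨j, hj⟩ := IsPGroup.iff_card.1 (hG.to_subgroup Y)
          have hne : Nat.card X ≠ Nat.card Y := fun he =>
            haT ((Subgroup.eq_of_le_of_card_ge hXY he.ge).symm ▸ haY)
          rw [hi, hj] at hd hne ⊢
          rw [← pow_succ]
          refine Nat.pow_le_pow_right hp.pos ?_
          have h5 := (Nat.pow_dvd_pow_iff_le_right hp.one_lt).1 hd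
          have h6 : i ≠ j := fun he => hne (by rw [he])
          omega
  obtain ⟨T, hTS, hle, hcard⟩ := key S
  rw [hS, top_le_iff] at hle
  have hT : Subgroup.closure (T : Set G) = ⊤ :=
    Cfsg.Agent.PGroup.eq_top_of_sup_frattini (by rwa [sup_comm])
  refine ⟨T, hTS, le_antisymm ?_ (hlow T hT), hT⟩
  rw [hle, Subgroup.card_top, ← (frattini G).card_mul_index, hn] at hcard
  exact (Nat.pow_le_pow_iff_right hp.one_lt).1 (Nat.le_of_mul_le_mul_left hcard Nat.card_pos)

end Cfsg.Agent.S0014
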