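import Cfsg.Statements.S0949
import Cfsg.Agent.Invol.HomocyclicTwo

set_option autoImplicit false
open Cfsg

namespace Cfsg.Agent.S0949

universe u

theorem oddCore_eq_bot {G : Type u} [Group G] [Finite G]
    (hO : ∀ N : Subgroup G, N.Normal → Odd (Nat.card N) → N = ⊥) : pPrimeCore 2 G = ⊥ := by
  have : Fact (Nat.Prime 2) := ⟨Nat.prime_two⟩
  exact hO _ inferInstance (Nat.odd_iff.2 (Nat.two_dvd_ne_zero.1 Cores.not_dvd_card_pPrimeCore))

theorem normal_aux {m : ℕ} (hm : 2 ≤ m) : ∀ n, ∀ (G : Type u) [Group G] [Finite G],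
    Nat.card G = n → ∀ P : Sylow 2 G,
      ((P : Subgroup G) ≃* Multiplicative (ZMod (2 ^ m) × ZMod (2 ^ m))) →
        pPrimeCore 2 G = ⊥ → (P : Subgroup G).Normal := by
  intro n
  induction n using Nat.strong_induction_on with
  | _ n ih =>
  intro G _ _ hn P e hO
  subst hn
  have : Fact (Nat.Prime 2) := ⟨Nat.prime_two⟩
  rcases Invol.Homocyclic.normalizer_quotient P e with h | h
  · obtain ⟨Q, K, hK, hKQ⟩ := Transfer.hasNormalPComplement_of_normalizer_le_centralizer P
      (Subgroup.relIndex_eq_one.1 h)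
    have hKodd : ¬ 2 ∣ Nat.card K := by
      rw [← hKQ.index_eq_card]
      exact Q.not_dvd_index
    have hbot : K = ⊥ := le_bot_iff.1 (hO ▸ Cores.le_pPrimeCore_of_not_dvd hK hKodd)
    subst hbot
    have hQ : (Q : Subgroup G) = ⊤ := Subgroup.isComplement'_bot_left.1 hKQ
    haveI : (Q : Subgroup G).Normal := by rw [hQ]; infer_instance
    haveI := Sylow.unique_of_normal Q inferInstance
    rw [Subsingleton.elim P Q]
    infer_instance
  · obtain ⟨K, hK, hPK, hKne⟩ := Invol.Homocyclic.exists_normal_ne_top P e hm h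
    have hlt : Nat.card K < Nat.card G := lt_of_le_of_ne (Subgroup.card_le_card_group _)
      fun he => hKne (Subgroup.eq_top_of_card_eq _ he)
    have hcore : pPrimeCore 2 K = ⊥ := by
      have := Cores.map_subtype_pPrimeCore_eq (p := 2) (N := K)
      rw [hO, inf_bot_eq] at this
      exact (Subgroup.map_eq_bot_iff_of_injective _ K.subtype_injective).1 this
    let PK : Sylow 2 K := P.subtype hPK
    have hcoe : (PK : Subgroup K) = (P : Subgroup G).subgroupOf K := rfl
    have hnorm := ih _ hlt K rfl PK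
      ((MulEquiv.subgroupCongr hcoe).trans ((Subgroup.subgroupOfEquivOfLe hPK).trans e)) hcore
    haveI := Sylow.characteristic_of_normal PK hnorm
    have hmap : ((PK : Subgroup K).map K.subtype) = (P : Subgroup G) := by
      rw [hcoe, Subgroup.map_subgroupOf_eq_of_le hPK]
    rw [← hmap]
    infer_instance

/-- Let the finite group G have a Sylow 2-subgroup P isomorphic to Z/2^m × Z/2^m with m ≥ 2, and suppose G has no nontrivial normal subgroup of odd order. Then P is normal in G, C_G(P) = P, and the index of P is 1 or 3. -/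
theorem result {G : Type*} [Group G] [Finite G] (P : Sylow 2 G) (m : ℕ) (hm : 2 ≤ m) (e : (P : Subgroup G) ≃* Multiplicative (ZMod (2 ^ m) × ZMod (2 ^ m))) (hO : ∀ N : Subgroup G, N.Normal → Odd (Nat.card N) → N = ⊥) : (P : Subgroup G).Normal ∧ Subgroup.centralizer (P : Set G) = (P : Subgroup G) ∧ ((P : Subgroup G).index = 1 ∨ (P : Subgroup G).index = 3) := by
  have hp : Fact (Nat.Prime 2) := ⟨Nat.prime_two⟩
  have hcore : pPrimeCore 2 G = ⊥ := oddCore_eq_bot hO
  haveI hPn : (P : Subgroup G).Normal := normal_aux hm _ G rfl P e hcore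
  set C := Subgroup.centralizer ((P : Subgroup G) : Set G) with hC
  have hPC : (P : Subgroup G) ≤ C := fun x hx y hy => Invol.Homocyclic.commute P e hy hx
  haveI hCn : C.Normal := Subgroup.normal_centralizer
  have hcoreC : pPrimeCore 2 C = ⊥ := by
    have := Cores.map_subtype_pPrimeCore_eq (p := 2) (N := C)
    rw [hcore, inf_bot_eq] at this
    exact (Subgroup.map_eq_bot_iff_of_injective _ C.subtype_injective).1 this
  let PC : Sylow 2 C := P.subtype hPC
  obtain ⟨Q, K, hK, hKQ⟩ := Transfer.hasNormalPComplement_of_normalizer_le_centralizer PC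
    (fun c _ x hx => Subtype.ext (c.2 (x : G) hx))
  have hKodd : ¬ 2 ∣ Nat.card K := by
    rw [← hKQ.index_eq_card]
    exact Q.not_dvd_index
  have hbot : K = ⊥ := le_bot_iff.1 (hcoreC ▸ Cores.le_pPrimeCore_of_not_dvd hK hKodd)
  subst hbot
  have hQ : (Q : Subgroup C) = ⊤ := Subgroup.isComplement'_bot_left.1 hKQ
  have hCP : C = (P : Subgroup G) := by
    refine (Subgroup.eq_of_le_of_card_ge hPC (le_of_eq ?_)).symm
    calc Nat.card C = Nat.card (Q : Subgroup C) := by
          rw [hQ]; exact (Nat.card_congr Subgroup.topEquiv.toEquiv).symm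
      _ = Nat.card (PC : Subgroup C) := by rw [Q.card_eq_multiplicity, PC.card_eq_multiplicity]
      _ = _ := Nat.card_congr (Subgroup.subgroupOfEquivOfLe hPC).toEquiv
  refine ⟨hPn, hCP, ?_⟩
  have hN : Subgroup.normalizer ((P : Subgroup G) : Set G) = ⊤ :=
    Subgroup.normalizer_eq_top_iff.2 hPn
  have hidx : (P : Subgroup G).index = C.relIndex (Subgroup.normalizer ((P : Subgroup G) : Set G)) := by
    rw [hN, Subgroup.relIndex_top_right, hCP]
  rcases Invol.Homocyclic.normalizer_quotient P e with h | h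
  · exact Or.inl (hidx.trans h)
  · exact Or.inr (hidx.trans h.relIndex)

end Cfsg.Agent.S0949
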