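import Cfsg.Statements.S3888
import Mathlib
import Cfsg.Agent.S4143
import Cfsg.Agent.H73.RankTwo.Cube
-- import your own Cfsg.Agent.* helpers here

set_option autoImplicit false
open Cfsg

set_option linter.style.haveILetI false

namespace Cfsg.Agent.S3888

/-- The classification of the p-groups of rank at most two for odd p. Let p be an odd prime and G a group of order p^n with no elementary abelian subgroup of order p³. Then one of the following holds: G is metacyclic; n ≥ 3 and G is generated by elements x, y, z with x^p = y^p = z^(p^(n−2)) = 1, z commuting with x and y, and x⁻¹yx = y z^(p^(n−3)); n ≥ 4 and G is generated by elements x, y, z with x^p = y^p = z^(p^(n−2)) = 1, yz = zy, x⁻¹yx = y z^(s p^(n−3)) and x⁻¹zx = yz, where s = 1 or s is a quadratic non-residue modulo p; or p = 3 and G has maximal class (nilpotency class n − 1). -/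
theorem result {G : Type*} [Group G] [Finite G] {p : ℕ} [Fact p.Prime] (hp : p ≠ 2) (n : ℕ) (hG : Nat.card G = p ^ n)
    (hrk : Cfsg.PRankLE p 2 G) :
    Cfsg.IsMetacyclic G ∨
    (3 ≤ n ∧ ∃ x y z : G, Subgroup.closure ({x, y, z} : Set G) = ⊤ ∧ x ^ p = 1 ∧ y ^ p = 1 ∧ z ^ p ^ (n - 2) = 1 ∧
        x * z = z * x ∧ y * z = z * y ∧ x⁻¹ * y * x = y * z ^ p ^ (n - 3)) ∨
    (4 ≤ n ∧ ∃ (s : ℕ) (x y z : G), (s = 1 ∨ ¬ IsSquare (s : ZMod p)) ∧ Subgroup.closure ({x, y, z} : Set G) = ⊤ ∧
        x ^ p = 1 ∧ y ^ p = 1 ∧ z ^ p ^ (n - 2) = 1 ∧ y * z = z * y ∧ x⁻¹ * y * x = y * z ^ (s * p ^ (n - 3)) ∧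
        x⁻¹ * z * x = y * z) ∨
    (p = 3 ∧ 2 ≤ n ∧ (⊤ : Subgroup G).lowerCentralSeries (n - 2) ≠ ⊥) := by
  have hP : IsPGroup p G := IsPGroup.of_card hG
  have hcube : ∀ U : Subgroup G, U.Normal → Nat.card U = p ^ 3 → (∀ u ∈ U, u ^ p = 1) → _ :=
    fun U hU hc he => Cfsg.Agent.H73.RankTwo.structure_of_cube (hUn := hU) hp hP hrk n hG U hc he
  by_cases h3 : 3 < p
  · by_cases hcyc : IsCyclic G
    · exact Or.inl (Cfsg.Agent.H73.RankTwo.metacyclic_of_cyclic hcyc)
    rcases Cfsg.Agent.FT.BG4.omega_cases h3 hP hrk hcyc with hidx | ⟨E, hE, hE3, -⟩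
    · exact Or.inl (Cfsg.Agent.H73.RankTwo.metacyclic_of_index_agemo_le hp G hP hidx)
    · haveI : E.Normal := ⟨fun x hx g => (hE _).2 (by rw [conj_pow, (hE x).1 hx]; group)⟩
      rcases hcube E inferInstance hE3 (fun u hu => (hE u).1 hu) with h | h
      · exact Or.inr (Or.inl h)
      · exact Or.inr (Or.inr (Or.inl h))
  · rcases Cfsg.Agent.H73.RankTwo.trichotomy hp hP hrk with h | ⟨U, hU, hc, he⟩ | ⟨B, hB, hBn, hBc⟩
    · exact Or.inl h
    · rcases hcube U hU hc he with h | h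
      · exact Or.inr (Or.inl h)
      · exact Or.inr (Or.inr (Or.inl h))
    · refine Or.inr (Or.inr (Or.inr ⟨?_, ?_, ?_⟩))
      · have := (Fact.out : p.Prime).two_le
        omega
      all_goals
        have hn3 : 3 ≤ n := (Nat.pow_le_pow_iff_right (Fact.out : p.Prime).one_lt).1
          (hB ▸ hG ▸ Subgroup.card_le_card_group B)
      · omega
      · have hcl := Cfsg.Agent.S4143.result n hG B hB hBn hBc
        haveI := hP.isNilpotent
        intro hbot
        have := Subgroup.lowerCentralSeries_eq_bot_iff_nilpotencyClass_le.1 hbot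
        omega

end Cfsg.Agent.S3888
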