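import Cfsg.Statements.S2131
import Cfsg.Agent.SporB.J1InvCheck

set_option autoImplicit false
open Cfsg

namespace Cfsg.Agent.S2131

open SporB.J1 SporB.J1.Inv Equiv

set_option maxRecDepth 20000

/-- The value in the table. -/
def IsVal (p : Perm (Fin 5) × Cfsg.Spor.J1) (i : ℕ) : Prop :=
  p.1 = permAt i ∧ ((p.2 : GL (Fin 7) (ZMod 11)) : Matrix (Fin 7) (Fin 7) (ZMod 11)) = toM (codeAt i)

theorem main : ∃ t : ↥Cfsg.Spor.J1, orderOf t = 2 ∧
    Nonempty (↥(Subgroup.centralizer ({t} : Set ↥Cfsg.Spor.J1)) ≃*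
      Multiplicative (ZMod 2) × ↥(alternatingGroup (Fin 5))) := by
  classical
  have hb := base_spec
  simp only [baseOk, Bool.and_eq_true, decide_eq_true_eq, Bool.not_eq_true'] at hb
  obtain ⟨⟨⟨⟨⟨⟨⟨⟨⟨⟨hwa, hwb⟩, hs0⟩, ht2⟩, h0⟩, hp0⟩, hca⟩, hcb⟩, hsa⟩, hsb⟩, ht1⟩ := hb
  obtain ⟨A, hA⟩ := wit_mem hwa
  obtain ⟨B, hB⟩ := wit_mem hwb
  obtain ⟨T, hT⟩ := wit_mem hs0
  have hTv : ((T : GL (Fin 7) (ZMod 11)) : Matrix (Fin 7) (Fin 7) (ZMod 11)) = toM tM := hT
  have hT2 : T ^ 2 = 1 := powOk_spec hT.symm ht2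
  have hTne : T ≠ 1 := by
    intro h
    rw [← hTv, h, show enc (((1 : Cfsg.Spor.J1) : GL (Fin 7) (ZMod 11)) : Matrix (Fin 7) (Fin 7) (ZMod 11)) =
      6277101736848182401506974708411517874814724153223283736577 by decide +kernel, Nat.beq_refl] at ht1
    exact Bool.noConfusion ht1
  have comm : ∀ {x : Cfsg.Spor.J1} {a : M7}, ((x : GL (Fin 7) (ZMod 11)) : Matrix (Fin 7) (Fin 7) (ZMod 11)) = toM a →
      eqb (mul a tM) (mul tM a) = true → x * T = T * x := by
    intro x a hx e
    refine val_inj ?_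
    simp only [Subgroup.coe_mul, Units.val_mul, hx, hTv, ← toM_mul, eqb_eq e]
  have hsteps : ∀ i < 60, stepOk i = true := fun i hi =>
    List.all_eq_true.1 steps_spec i (by simp [List.mem_range'_1, hi])
  let gA : Perm (Fin 5) × Cfsg.Spor.J1 := (pa, A)
  let gB : Perm (Fin 5) × Cfsg.Spor.J1 := (pb, B)
  have step : ∀ i < 60, ∀ p, IsVal p i →
      (∃ j < 60, j = ra.getD i 60 ∧ IsVal (p * gA) j) ∧ (∃ j < 60, j = rb.getD i 60 ∧ IsVal (p * gB) j) := by
    intro i hi p hp
    have h := hsteps i hi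
    simp only [stepOk, Bool.and_eq_true, decide_eq_true_eq] at h
    obtain ⟨⟨⟨⟨⟨⟨h1, h2⟩, h3⟩, h4⟩, h5⟩, h6⟩, -⟩ := h
    refine ⟨⟨_, blt_of h1, rfl, ?_, ?_⟩, ⟨_, blt_of h2, rfl, ?_, ?_⟩⟩
    · rw [← h5, ← hp.1]; rfl
    · show ((((p.2 * A : Cfsg.Spor.J1)) : GL (Fin 7) (ZMod 11)) : Matrix (Fin 7) (Fin 7) (ZMod 11)) = _
      rw [Subgroup.coe_mul, Units.val_mul, hp.2, hA, ← toM_mul, eqb_eq h3]
    · rw [← h6, ← hp.1]; rfl
    · show ((((p.2 * B : Cfsg.Spor.J1)) : GL (Fin 7) (ZMod 11)) : Matrix (Fin 7) (Fin 7) (ZMod 11)) = _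
      rw [Subgroup.coe_mul, Units.val_mul, hp.2, hB, ← toM_mul, eqb_eq h4]
  let S : Subgroup (Perm (Fin 5) × Cfsg.Spor.J1) := Subgroup.closure {gA, gB}
  have hone : IsVal 1 0 := ⟨hp0.symm, by rw [eqb_eq h0, toM_oneM]; rfl⟩
  have hval : ∀ p ∈ S, ∃ i < 60, IsVal p i := by
    intro p hp
    have hp' : p ∈ Submonoid.closure ({gA, gB} : Set (Perm (Fin 5) × Cfsg.Spor.J1)) := by
      rw [← Subgroup.closure_toSubmonoid_of_finite]
      exact hp
    induction hp' using Submonoid.closure_induction_right with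
    | one => exact ⟨0, by norm_num, hone⟩
    | mul_right x hx y hy ih =>
      obtain ⟨i, hi, hiv⟩ := ih (by
        have : x ∈ (Subgroup.closure ({gA, gB} : Set (Perm (Fin 5) × Cfsg.Spor.J1))).toSubmonoid := by
          rw [Subgroup.closure_toSubmonoid_of_finite]; exact hx
        exact this)
      rcases hy with rfl | rfl
      · obtain ⟨j, hj, -, hjv⟩ := (step i hi x hiv).1; exact ⟨j, hj, hjv⟩
      · obtain ⟨j, hj, -, hjv⟩ := (step i hi x hiv).2; exact ⟨j, hj, hjv⟩
  have hall : ∀ i < 60, ∃ p ∈ S, IsVal p i := by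
    intro i
    induction i using Nat.strong_induction_on with
    | _ i ih =>
      intro hi
      rcases Nat.eq_zero_or_pos i with rfl | hpos
      · exact ⟨1, one_mem _, hone⟩
      have h := hsteps i hi
      have e0 : Nat.beq i 0 = false := by
        cases hb : Nat.beq i 0
        · rfl
        · exact absurd (beq_of hb) (by omega)
      simp only [stepOk, Bool.and_eq_true, e0, cond_false] at h
      obtain ⟨-, hlt, hpar⟩ := h
      have hlt := blt_of hlt
      obtain ⟨p, hp, hpv⟩ := ih _ hlt (by omega)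
      cases hc : (par.getD i (0, true)).2 <;> simp only [hc, cond_true, cond_false] at hpar
      · obtain ⟨j, -, hj, hjv⟩ := (step _ (by omega) p hpv).2
        rw [beq_of hpar] at hj
        exact ⟨p * gB, mul_mem hp (Subgroup.subset_closure (by simp)), hj ▸ hjv⟩
      · obtain ⟨j, -, hj, hjv⟩ := (step _ (by omega) p hpv).1
        rw [beq_of hpar] at hj
        exact ⟨p * gA, mul_mem hp (Subgroup.subset_closure (by simp)), hj ▸ hjv⟩
  have cinj : ∀ i < 60, ∀ j < 60, toM (codeAt i) = toM (codeAt j) → i = j := fun i hi j hj e =>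
    List.inj_on_of_nodup_map codes_nodup (by simp [List.mem_range'_1, hi]) (by simp [List.mem_range'_1, hj])
      (by rw [e])
  have pinj : ∀ i < 60, ∀ j < 60, permAt i = permAt j → i = j := fun i hi j hj e =>
    List.inj_on_of_nodup_map perms_nodup (by simp [List.mem_range'_1, hi]) (by simp [List.mem_range'_1, hj])
      (by rw [e])
  have valeq : ∀ p q : S, ∀ i, IsVal p.1 i → IsVal q.1 i → p = q := fun p q i hp hq =>
    Subtype.ext (Prod.ext (hp.1.trans hq.1.symm) (val_inj (hp.2.trans hq.2.symm)))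
  have hev : ∀ p ∈ S, p.1 ∈ alternatingGroup (Fin 5) := by
    have : S ≤ (alternatingGroup (Fin 5)).comap (MonoidHom.fst (Perm (Fin 5)) Cfsg.Spor.J1) := by
      rw [Subgroup.closure_le]
      rintro _ (rfl | rfl)
      · exact Perm.mem_alternatingGroup.2 hsa
      · exact Perm.mem_alternatingGroup.2 hsb
    exact this
  let f : S →* alternatingGroup (Fin 5) :=
    { toFun := fun p => ⟨p.1.1, hev p.1 p.2⟩
      map_one' := rfl
      map_mul' := fun _ _ => rfl }
  have hfi : Function.Injective f := by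
    intro p q h
    obtain ⟨i, hi, hiv⟩ := hval _ p.2
    obtain ⟨j, hj, hjv⟩ := hval _ q.2
    have h' : p.1.1 = q.1.1 := congrArg Subtype.val h
    obtain rfl := pinj i hi j hj (hiv.1.symm.trans (h'.trans hjv.1))
    exact valeq p q i hiv hjv
  have hcard : Nat.card (alternatingGroup (Fin 5)) ≤ Nat.card S := by
    have h60 : Nat.card (alternatingGroup (Fin 5)) = 60 := by
      rw [nat_card_alternatingGroup, Nat.card_fin]; rfl
    choose g hgS hgv using hall
    rw [h60, ← Nat.card_fin 60]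
    refine Nat.card_le_card_of_injective (fun i : Fin 60 => (⟨g i i.2, hgS i i.2⟩ : S)) fun i j h => ?_
    have e : g i i.2 = g j j.2 := congrArg Subtype.val h
    exact Fin.ext (pinj i i.2 j j.2 ((hgv i i.2).1.symm.trans ((congrArg Prod.fst e).trans (hgv j j.2).1)))
  let e : S ≃* alternatingGroup (Fin 5) :=
    MulEquiv.ofBijective f (hfi.bijective_of_nat_card_le hcard)
  have hp2comm : ∀ p ∈ S, p.2 * T = T * p.2 := by
    have : S ≤ (Subgroup.centralizer ({T} : Set Cfsg.Spor.J1)).comap (MonoidHom.snd (Perm (Fin 5)) Cfsg.Spor.J1) := by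
      rw [Subgroup.closure_le]
      rintro _ (rfl | rfl)
      · exact Subgroup.mem_centralizer_singleton_iff.2 (comm hA hca)
      · exact Subgroup.mem_centralizer_singleton_iff.2 (comm hB hcb)
    exact fun p hp => Subgroup.mem_centralizer_singleton_iff.1 (this hp)
  let CT := Subgroup.centralizer ({T} : Set Cfsg.Spor.J1)
  let T' : CT := ⟨T, Subgroup.mem_centralizer_singleton_iff.2 rfl⟩
  have hT'2 : T' * T' = 1 := Subtype.ext (by rw [← pow_two] ; exact hT2)
  let f1 : Multiplicative (ZMod 2) →* CT :=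
    { toFun := fun x => if x = 1 then 1 else T'
      map_one' := if_pos rfl
      map_mul' := by
        intro a b
        have hc : ∀ a : Multiplicative (ZMod 2), a = 1 ∨ a = Multiplicative.ofAdd 1 := by decide
        have hne : Multiplicative.ofAdd (1 : ZMod 2) ≠ 1 := by decide
        have h11 : Multiplicative.ofAdd (1 : ZMod 2) * Multiplicative.ofAdd 1 = 1 := by decide
        rcases hc a with ha | ha <;> rcases hc b with hb | hb <;> subst ha <;> subst hb
        · simp
        · simp [hne]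
        · simp [hne]
        · rw [h11, if_pos rfl, if_neg hne, hT'2] }
  let f2 : alternatingGroup (Fin 5) →* CT :=
    { toFun := fun σ => ⟨((e.symm σ) : Perm (Fin 5) × Cfsg.Spor.J1).2,
        Subgroup.mem_centralizer_singleton_iff.2 (hp2comm _ (e.symm σ).2)⟩
      map_one' := by simp
      map_mul' := fun a b => by simp }
  have hcomm : ∀ x σ, Commute (f1 x) (f2 σ) := by
    intro x σ
    show f1 x * f2 σ = f2 σ * f1 x
    by_cases hx : x = 1
    · simp [hx]
    · have : f1 x = T' := if_neg hx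
      rw [this]
      exact Subtype.ext (hp2comm _ (e.symm σ).2).symm
  let Φ := MonoidHom.noncommCoprod f1 f2 hcomm
  have f2v : ∀ σ, ∃ i < 60, ((((f2 σ : CT) : Cfsg.Spor.J1) : GL (Fin 7) (ZMod 11)) : Matrix (Fin 7) (Fin 7) (ZMod 11)) =
      toM (codeAt i) ∧ (σ : Perm (Fin 5)) = permAt i := by
    intro σ
    obtain ⟨i, hi, hiv⟩ := hval _ (e.symm σ).2
    refine ⟨i, hi, hiv.2, ?_⟩
    rw [← hiv.1]
    exact (congrArg Subtype.val (e.apply_symm_apply σ)).symm
  have f2surj : ∀ i < 60, ∃ σ, ((((f2 σ : CT) : Cfsg.Spor.J1) : GL (Fin 7) (ZMod 11)) : Matrix (Fin 7) (Fin 7) (ZMod 11)) =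
      toM (codeAt i) := by
    intro i hi
    obtain ⟨p, hp, hpv⟩ := hall i hi
    refine ⟨e ⟨p, hp⟩, ?_⟩
    show ((((e.symm (e ⟨p, hp⟩)) : Perm (Fin 5) × Cfsg.Spor.J1).2 : GL (Fin 7) (ZMod 11)) : Matrix (Fin 7) (Fin 7) (ZMod 11)) = _
    rw [e.symm_apply_apply]
    exact hpv.2
  refine ⟨T, orderOf_eq_prime hT2 hTne, ⟨(MulEquiv.ofBijective Φ ⟨?_, fun c => ?_⟩).symm⟩⟩
  · rw [injective_iff_map_eq_one]
    rintro ⟨x, σ⟩ h
    have h' : f1 x * f2 σ = 1 := h
    obtain ⟨i, hi, hiv, hσ⟩ := f2v σ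
    by_cases hx : x = 1
    · subst hx
      rw [map_one, one_mul] at h'
      rw [h'] at hiv
      have : i = 0 := cinj i hi 0 (by norm_num) (hiv.symm.trans hone.2)
      subst this
      exact Prod.ext rfl (Subtype.ext (hσ.trans hp0))
    · exfalso
      have e1 : f2 σ = T' := by
        have : f1 x = T' := if_neg hx
        rw [this] at h'
        calc f2 σ = T' * (T' * f2 σ) := by rw [← mul_assoc, hT'2, one_mul]
          _ = T' := by rw [h', mul_one]
      rw [e1] at hiv
      have := t_not_mem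
      rw [List.contains_eq_mem, decide_eq_false_iff_not] at this
      exact this (List.mem_map.2 ⟨i, by simp [List.mem_range'_1, hi], by rw [← hiv]; exact congrArg enc hTv⟩)
  · have hc : Commute (((c : Cfsg.Spor.J1) : GL (Fin 7) (ZMod 11)) : Matrix (Fin 7) (Fin 7) (ZMod 11)) (toM tM) := by
      rw [← hTv, Commute, SemiconjBy, ← Units.val_mul, ← Units.val_mul, ← Subgroup.coe_mul, ← Subgroup.coe_mul,
        Subgroup.mem_centralizer_singleton_iff.1 c.2]
    obtain ⟨M, hM, hok⟩ := centScan_spec scanT (c : Cfsg.Spor.J1) hc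
    obtain ⟨N, hN, hMN⟩ := List.any_eq_true.1 hok
    rw [eqb_eq hMN] at hM
    rcases List.mem_append.1 hN with hm | hm <;> obtain ⟨i, hi, rfl⟩ := List.mem_map.1 hm <;>
      simp only [List.mem_range'_1] at hi <;> obtain ⟨σ, hσ⟩ := f2surj i (by omega)
    · refine ⟨(1, σ), Subtype.ext (val_inj ?_)⟩
      show ((((f1 1 * f2 σ : CT) : Cfsg.Spor.J1) : GL (Fin 7) (ZMod 11)) : Matrix (Fin 7) (Fin 7) (ZMod 11)) = _
      rw [map_one, one_mul, hσ, hM]
    · refine ⟨(Multiplicative.ofAdd 1, σ), Subtype.ext (val_inj ?_)⟩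
      have hne : Multiplicative.ofAdd (1 : ZMod 2) ≠ 1 := by decide
      have : f1 (Multiplicative.ofAdd 1) = T' := if_neg (t := (1 : CT)) hne
      show ((((f1 (Multiplicative.ofAdd 1) * f2 σ : CT) : Cfsg.Spor.J1) : GL (Fin 7) (ZMod 11)) : Matrix (Fin 7) (Fin 7) (ZMod 11)) = _
      rw [this, Subgroup.coe_mul, Subgroup.coe_mul, Units.val_mul, hσ, hTv, ← toM_mul, hM]


/-- The Janko group J₁ (the group generated by two explicit 7 × 7 matrices over the integers modulo 11) has an involution whose centraliser is isomorphic to the direct product of a group of order 2 with the alternating group of degree 5. -/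
theorem result : ∃ t : ↥Cfsg.Spor.J1, orderOf t = 2 ∧ Nonempty (↥(Subgroup.centralizer ({t} : Set ↥Cfsg.Spor.J1)) ≃* Multiplicative (ZMod 2) × ↥(alternatingGroup (Fin 5))) := by
  exact main

end Cfsg.Agent.S2131
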