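import Cfsg.Statements.S0809
import Cfsg.Agent.PSLTwo25.Klein

set_option autoImplicit false
open Cfsg
open Cfsg.Agent.PSLTwo25

namespace Cfsg.Agent.S0809

/-- In SL_2(q), q odd: any two subgroups of order 4 are conjugate, and the normaliser of a subgroup of order 4 has order 2(q − 1) if q ≡ 1 (mod 4) and 2(q + 1) if q ≡ 3 (mod 4); consequently all involutions of PSL_2(q) are conjugate. -/
theorem result {F : Type*} [Field F] [Fintype F] {q : ℕ} (hF : Fintype.card F = q) (hodd : Odd q) (A : Subgroup (Matrix.SpecialLinearGroup (Fin 2) F)) (hA : Nat.card A = 4) : (∀ B : Subgroup (Matrix.SpecialLinearGroup (Fin 2) F), Nat.card B = 4 → ∃ g : Matrix.SpecialLinearGroup (Fin 2) F, B = A.map (MulAut.conj g).toMonoidHom) ∧ (q % 4 = 1 → Nat.card ↥(Subgroup.normalizer (A : Set (Matrix.SpecialLinearGroup (Fin 2) F))) = 2 * (q - 1)) ∧ (q % 4 = 3 → Nat.card ↥(Subgroup.normalizer (A : Set (Matrix.SpecialLinearGroup (Fin 2) F))) = 2 * (q + 1)) ∧ (∀ x y : Matrix.ProjectiveSpecialLinearGroup (Fin 2) F, orderOf x = 2 → orderOf y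 = 2 → IsConj x y) := by
  classical
  subst hF
  have h2 := Linear.two_ne_zero_of_odd_card hodd
  have gen : ∀ B : Subgroup (Matrix.SpecialLinearGroup (Fin 2) F), Nat.card B = 4 →
      ∃ b, b * b = negS ∧ B = Subgroup.zpowers b ∧
        ∀ x, x ∈ B → x = 1 ∨ x = negS ∨ x = b ∨ x = negS * b := by
    intro B hB
    obtain ⟨b, hbB, hb⟩ : ∃ b ∈ B, b * b ≠ 1 := by
      by_contra hc
      push Not at hc
      have hle : Nat.card B ≤ ({1, negS} : Finset (Matrix.SpecialLinearGroup (Fin 2) F)).card := by
        rw [← Nat.card_eq_finsetCard]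
        exact Nat.card_le_card_of_injective (fun x => (⟨x.1, by
          rcases eq_one_or_negS h2 (hc x.1 x.2) with h | h <;> simp [h]⟩ : ({1, negS} : Finset (Matrix.SpecialLinearGroup (Fin 2) F))))
          (fun x y h => Subtype.ext (by simpa using h))
      have := hle.trans Finset.card_le_two
      omega
    have h4 : b ^ 4 = 1 := by
      have := pow_card_eq_one' (G := B) (x := ⟨b, hbB⟩)
      rw [hB] at this
      simpa using congrArg Subtype.val this
    have hneg : b * b = negS := (eq_one_or_negS h2 (by rw [← h4, pow_succ, pow_succ, pow_succ, pow_one, mul_assoc (b * b)])).resolve_left hb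
    have ho : orderOf b = 4 := orderOf_eq_prime_pow (p := 2) (n := 1)
      (fun h => hb (by rw [← pow_two]; simpa using h)) (by norm_num; exact h4)
    have hBb : B = Subgroup.zpowers b := (Subgroup.eq_of_le_of_card_ge
      (Subgroup.zpowers_le.2 hbB) (by rw [hB, Nat.card_zpowers, ho])).symm
    refine ⟨b, hneg, hBb, fun x hx => ?_⟩
    rw [hBb, mem_zpowers_iff_mem_range_orderOf] at hx
    obtain ⟨k, hk, rfl⟩ := Finset.mem_image.1 hx
    rw [ho, Finset.mem_range] at hk
    have e3 : b ^ 3 = negS * b := by rw [pow_succ, pow_two, hneg]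
    interval_cases k
    · simp
    · simp
    · simp [pow_two, hneg]
    · simp [e3]
  obtain ⟨a, ha, hAa, hAmem⟩ := gen A hA
  refine ⟨fun B hB => ?_, ?_⟩
  · obtain ⟨b, hb, hBb, -⟩ := gen B hB
    obtain ⟨g, hg⟩ := exists_conj_J h2 ha hb
    exact ⟨g, by rw [hAa, hBb, MonoidHom.map_zpowers]; simp [hg]⟩
  have hmemN : ∀ g : Matrix.SpecialLinearGroup (Fin 2) F,
      g ∈ Subgroup.normalizer (A : Set (Matrix.SpecialLinearGroup (Fin 2) F)) ↔
        g * a = a * g ∨ g * a = negS * (a * g) := by
    intro g
    have haA : a ∈ A := hAa ▸ Subgroup.mem_zpowers a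
    constructor
    · intro hg
      have h := hAmem _ ((Subgroup.mem_normalizer_iff.1 hg a).1 haA)
      have hJ := conj_mem_J ha g
      rcases h with h | h | h | h
      · exact absurd (h ▸ hJ) (fun e => negS_ne_one h2 (by simpa using e.symm))
      · exact absurd (h ▸ hJ) (fun e => negS_ne_one h2 (e.symm.trans negS_sq))
      · exact .inl (mul_inv_eq_iff_eq_mul.1 h)
      · exact .inr ((mul_inv_eq_iff_eq_mul.1 h).trans (mul_assoc _ _ _))
    · intro h
      have hmap : A.map (MulAut.conj g).toMonoidHom = A := by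
        refine Subgroup.eq_of_le_of_card_ge ?_ (le_of_eq ?_)
        · conv_lhs => rw [hAa]
          rw [MonoidHom.map_zpowers, Subgroup.zpowers_le, MulEquiv.coe_toMonoidHom, MulAut.conj_apply]
          rcases h with h | h
          · rw [h, mul_inv_cancel_right]; exact haA
          · rw [h, mul_assoc, mul_inv_cancel_right, ← ha]; exact mul_mem (mul_mem haA haA) haA
        · exact Nat.card_congr (Subgroup.equivMapOfInjective A _ (MulAut.conj g).injective).toEquiv
      rw [Subgroup.mem_normalizer_iff]
      intro x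
      constructor
      · intro hx
        exact hmap ▸ Subgroup.mem_map_of_mem (MulAut.conj g).toMonoidHom hx
      · intro hx
        rw [← hmap, Subgroup.mem_map_equiv] at hx
        simpa [mul_assoc] using hx
  have hN : Nat.card ↥(Subgroup.normalizer (A : Set (Matrix.SpecialLinearGroup (Fin 2) F))) =
      2 * Nat.card {c : Matrix.SpecialLinearGroup (Fin 2) F // c * a = a * c} := by
    have hd : Disjoint {g : Matrix.SpecialLinearGroup (Fin 2) F | g * a = a * g}
        {g | g * a = negS * (a * g)} := by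
      rw [Set.disjoint_left]
      intro g h1 h3
      exact negS_mul_ne h2 _ (h3.symm.trans h1)
    have e : (Subgroup.normalizer (A : Set (Matrix.SpecialLinearGroup (Fin 2) F)) :
        Set (Matrix.SpecialLinearGroup (Fin 2) F)) =
        {g | g * a = a * g} ∪ {g | g * a = negS * (a * g)} := Set.ext hmemN
    rw [show Nat.card ↥(Subgroup.normalizer (A : Set (Matrix.SpecialLinearGroup (Fin 2) F))) =
      Nat.card ↥((Subgroup.normalizer (A : Set (Matrix.SpecialLinearGroup (Fin 2) F))) :
        Set (Matrix.SpecialLinearGroup (Fin 2) F)) from rfl, e, Nat.card_coe_set_eq,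
      Set.ncard_union_eq hd, ← Nat.card_coe_set_eq, ← Nat.card_coe_set_eq, two_mul]
    exact congrArg _ (card_inverter h2 ha)
  have hC := card_J_mul_centralizer h2 ha
  rw [card_J h2, Linear.card_SL_two] at hC
  have hq1 := Fintype.one_lt_card (α := F)
  refine ⟨fun hq => ?_, fun hq => ?_, ?_⟩
  · rw [(card_sqrt_neg_one h2).1 hq] at hC
    rw [hN]
    congr 1
    apply Nat.eq_of_mul_eq_mul_left (show 0 < (Fintype.card F - 1 + 2) * Fintype.card F by positivity)
    rw [hC, show Fintype.card F - 1 + 2 = Fintype.card F + 1 by omega]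
    ring
  · rw [(card_sqrt_neg_one h2).2 hq] at hC
    rw [hN]
    congr 1
    apply Nat.eq_of_mul_eq_mul_left (show 0 < (Fintype.card F - 1 + 0) * Fintype.card F by
      have : 0 < Fintype.card F - 1 + 0 := by omega
      positivity)
    rw [hC, Nat.add_zero]
    ring
  · intro x y hx hy
    have key : ∀ z : Matrix.ProjectiveSpecialLinearGroup (Fin 2) F, orderOf z = 2 →
        ∃ t, t * t = negS ∧ QuotientGroup.mk t = z := by
      intro z hz
      obtain ⟨t, rfl⟩ := QuotientGroup.mk_surjective z
      refine ⟨t, lift_involution h2 ?_ ?_, rfl⟩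
      · have hp := pow_orderOf_eq_one (QuotientGroup.mk t : Matrix.ProjectiveSpecialLinearGroup (Fin 2) F)
        rw [hz] at hp
        rw [← pow_two]; exact hp
      · intro h; rw [h, orderOf_one] at hz; exact absurd hz (by norm_num)
    obtain ⟨t, ht, rfl⟩ := key x hx
    obtain ⟨u, hu, rfl⟩ := key y hy
    obtain ⟨g, hg⟩ := exists_conj_J h2 ht hu
    exact MonoidHom.map_isConj (QuotientGroup.mk' _) (isConj_iff.2 ⟨g, hg⟩)

end Cfsg.Agent.S0809
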