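import Cfsg.Statements.S1340
import Cfsg.Agent.Linear.Transvection
import Cfsg.Agent.Components.PComponent
-- import your own Cfsg.Agent.* helpers here

set_option autoImplicit false
open Cfsg

open Subgroup Cfsg.Agent.Components
open Matrix

namespace Cfsg.Agent.S1340

universe u v

/-- `SL_m` is quasisimple unless `m = 2` and `|F| ≤ 3`. -/
theorem isQuasisimple_SL {F : Type*} [Field F] [Fintype F] (m : ℕ) (hm : 2 ≤ m)
    (h : m = 2 → 4 ≤ Nat.card F) :
    Cfsg.IsQuasisimple (SpecialLinearGroup (Fin m) F) := by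
  refine ⟨⟨?_⟩, Linear.isSimpleGroup_PSL_fin m hm h⟩
  rcases hm.eq_or_lt with rfl | hm
  · haveI : Finite F := inferInstance
    obtain ⟨x, hx⟩ : IsCyclic Fˣ := inferInstance
    refine Matrix.SL2.commutator_eq_top (a := (x : F)) x.ne_zero fun h2 => ?_
    have h4 := h rfl
    rw [Nat.card_eq_card_units_add_one F, ← orderOf_eq_card_of_forall_mem_zpowers hx] at h4
    have : orderOf x ≤ 2 := orderOf_le_of_pow_eq_one two_pos (Units.ext (by simpa using h2))
    omega
  · exact Linear.commutator_SL_eq_top (by rw [Fintype.card_fin]; omega)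

/-- Having a suitable involution passes along isomorphisms. -/
theorem transfer {G : Type u} {H : Type v} [Group G] [Finite G] [Group H] [Finite H] (e : G ≃* H) {t : G}
    (ht : orderOf t = 2) (htc : t ∉ center G)
    (hc : Cfsg.HasComponent (↥(centralizer ({t} : Set G)) ⧸ Cfsg.oddCore ↥(centralizer ({t} : Set G)))) :
    ∃ t : H, orderOf t = 2 ∧ t ∉ center H ∧
      Cfsg.HasComponent (↥(centralizer ({t} : Set H)) ⧸ Cfsg.oddCore ↥(centralizer ({t} : Set H))) := by
  refine ⟨e t, by rw [← ht]; exact orderOf_injective e.toMonoidHom e.injective t, fun h => htc ?_, ?_⟩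
  · exact mem_center_iff.2 fun x => e.injective (by rw [map_mul, map_mul]; exact mem_center_iff.1 h (e x))
  have hmap : (centralizer ({t} : Set G)).map e.toMonoidHom = centralizer ({e t} : Set H) := by
    ext y
    constructor
    · rintro ⟨x, hx, rfl⟩
      exact mem_centralizer_singleton_iff.2 (by
        show e x * e t = e t * e x
        rw [← map_mul, ← map_mul, mem_centralizer_singleton_iff.1 hx])
    · intro hy
      refine ⟨e.symm y, mem_centralizer_singleton_iff.2 (e.injective ?_), e.apply_symm_apply y⟩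
      rw [map_mul, map_mul, e.apply_symm_apply]
      exact mem_centralizer_singleton_iff.1 hy
  let f : ↥(centralizer ({t} : Set G)) ≃* ↥(centralizer ({e t} : Set H)) :=
    (e.subgroupMap _).trans (MulEquiv.subgroupCongr hmap)
  obtain ⟨K, hK⟩ := hc
  let q := QuotientGroup.congr (Cfsg.oddCore ↥(centralizer ({t} : Set G)))
    (Cfsg.oddCore ↥(centralizer ({e t} : Set H))) f (Cores.map_pPrimeCore_equiv f)
  exact ⟨_, component_map_equiv q hK⟩

variable {F : Type u} [Field F] [Fintype F] [DecidableEq F] {m : ℕ}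

/-- `A ↦ diag(1, A)`. -/
def blockHom : SpecialLinearGroup (Fin m) F →* GL (Unit ⊕ Fin m) F :=
  MonoidHom.toHomUnits
    { toFun := fun A => Matrix.fromBlocks 1 0 0 (A : Matrix (Fin m) (Fin m) F)
      map_one' := by simp
      map_mul' := fun A B => by simp [Matrix.fromBlocks_multiply] }

theorem blockHom_val (A : SpecialLinearGroup (Fin m) F) :
    (blockHom A : Matrix (Unit ⊕ Fin m) (Unit ⊕ Fin m) F) =
      Matrix.fromBlocks 1 0 0 (A : Matrix (Fin m) (Fin m) F) := rfl

theorem blockHom_injective : Function.Injective (blockHom (F := F) (m := m)) := fun A B h => by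
  have h' := congrArg Units.val h
  rw [blockHom_val, blockHom_val, Matrix.fromBlocks_inj] at h'
  exact Subtype.ext h'.2.2.2

theorem exists_involution_block (h2 : (2 : F) ≠ 0) (hm : 2 ≤ m)
    (h : m = 2 → 4 ≤ Nat.card F) :
    ∃ t : GL (Unit ⊕ Fin m) F, orderOf t = 2 ∧ t ∉ center (GL (Unit ⊕ Fin m) F) ∧
      Cfsg.HasComponent (↥(centralizer ({t} : Set (GL (Unit ⊕ Fin m) F))) ⧸
        Cfsg.oddCore ↥(centralizer ({t} : Set (GL (Unit ⊕ Fin m) F)))) := by
  haveI : Fact (Nat.Prime 2) := ⟨Nat.prime_two⟩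
  haveI : NeZero m := ⟨by omega⟩
  set T : Matrix (Unit ⊕ Fin m) (Unit ⊕ Fin m) F := Matrix.fromBlocks (-1) 0 0 1 with hT
  have hTT : T * T = 1 := by simp [hT, Matrix.fromBlocks_multiply]
  set t : GL (Unit ⊕ Fin m) F := ⟨T, T, hTT, hTT⟩ with ht
  have hne : ∀ x : F, x = -x → x = 0 := fun x hx => by
    rcases mul_eq_zero.1 (show (2 : F) * x = 0 by linear_combination hx) with h' | h'
    · exact absurd h' h2
    · exact h'
  have ht1 : t ≠ 1 := by
    intro he
    have := congrArg (fun g : GL (Unit ⊕ Fin m) F => Units.val g (Sum.inl ()) (Sum.inl ())) he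
    simp [ht, hT] at this
    exact one_ne_zero (hne 1 (by linear_combination -this))
  refine ⟨t, orderOf_eq_prime (by rw [sq]; exact Units.ext hTT) ht1, ?_, ?_⟩
  · intro hc
    set u : GL (Unit ⊕ Fin m) F := ⟨Matrix.fromBlocks 1 (Matrix.of fun _ _ => 1) 0 1,
      Matrix.fromBlocks 1 (Matrix.of fun _ _ => -1) 0 1, by
        simp [Matrix.fromBlocks_multiply]; rw [← Matrix.fromBlocks_one]; congr 1; ext i j; simp, by
        simp [Matrix.fromBlocks_multiply]; rw [← Matrix.fromBlocks_one]; congr 1; ext i j; simp⟩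
      with hu
    have := congrArg (fun g : GL (Unit ⊕ Fin m) F => Units.val g (Sum.inl ()) (Sum.inr 0))
      (mem_center_iff.1 hc u)
    simp [ht, hT, hu, Matrix.fromBlocks_multiply] at this
    exact one_ne_zero (hne 1 (by linear_combination this))
  set C := centralizer ({t} : Set (GL (Unit ⊕ Fin m) F)) with hC
  have hblock : ∀ g ∈ C, ∃ (a : Matrix Unit Unit F) (d : Matrix (Fin m) (Fin m) F),
      g.val = Matrix.fromBlocks a 0 0 d := by
    intro g hg
    set M : Matrix (Unit ⊕ Fin m) (Unit ⊕ Fin m) F := g.val with hM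
    have h1 : M * T = T * M := congrArg Units.val (mem_centralizer_singleton_iff.1 hg)
    rw [← Matrix.fromBlocks_toBlocks M, hT, Matrix.fromBlocks_multiply, Matrix.fromBlocks_multiply,
      Matrix.fromBlocks_inj] at h1
    obtain ⟨-, hb, hc, -⟩ := h1
    simp at hb hc
    refine ⟨M.toBlocks₁₁, M.toBlocks₂₂, ?_⟩
    have hb0 : M.toBlocks₁₂ = 0 := by
      ext i j; exact hne _ (congrFun (congrFun hb i) j)
    have hc0 : M.toBlocks₂₁ = 0 := by
      ext i j; exact hne _ (congrFun (congrFun hc.symm i) j)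
    conv_lhs => rw [← Matrix.fromBlocks_toBlocks M, hb0, hc0]
  set L := (blockHom (F := F) (m := m)).range with hL
  have hLC : L ≤ C := by
    rintro _ ⟨A, rfl⟩
    refine mem_centralizer_singleton_iff.2 (Units.ext ?_)
    show (blockHom A : Matrix _ _ F) * T = T * (blockHom A : Matrix _ _ F)
    simp [blockHom_val, hT, Matrix.fromBlocks_multiply]
  have hconj : ∀ g ∈ C, ∀ l ∈ L, g * l * g⁻¹ ∈ L := by
    rintro g hg _ ⟨A, rfl⟩
    obtain ⟨a, d, hg1⟩ := hblock g hg
    obtain ⟨a', d', hg2⟩ := hblock g⁻¹ (inv_mem hg)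
    have h1 : g.val * (g⁻¹ : GL (Unit ⊕ Fin m) F).val = 1 := g.mul_inv
    rw [hg1, hg2, Matrix.fromBlocks_multiply, ← Matrix.fromBlocks_one, Matrix.fromBlocks_inj] at h1
    obtain ⟨ha, -, -, hd⟩ := h1
    simp at ha hd
    refine ⟨⟨d * (A : Matrix (Fin m) (Fin m) F) * d', ?_⟩, Units.ext ?_⟩
    · rw [Matrix.det_mul, Matrix.det_mul, A.2, mul_one, ← Matrix.det_mul, hd, Matrix.det_one]
    · show Matrix.fromBlocks 1 0 0 (d * (A : Matrix (Fin m) (Fin m) F) * d') =
        g.val * Matrix.fromBlocks 1 0 0 (A : Matrix (Fin m) (Fin m) F) * (g⁻¹).val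
      rw [hg1, hg2, Matrix.fromBlocks_multiply, Matrix.fromBlocks_multiply]
      simp [ha]
  haveI hLn : (L.subgroupOf C).Normal := ⟨fun x hx g => hconj g g.2 x hx⟩
  have hLcomp : Cfsg.IsComponent (L.subgroupOf C) := ⟨hLn.isSubnormal,
    quasisimple_of_mulEquiv ((MonoidHom.ofInjective blockHom_injective).trans
      (subgroupOfEquivOfLe hLC).symm) (isQuasisimple_SL m hm h)⟩
  have hcard : Nat.card (L.subgroupOf C) = Nat.card (SpecialLinearGroup (Fin m) F) := by
    rw [Nat.card_congr (subgroupOfEquivOfLe hLC).toEquiv]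
    exact (Nat.card_congr (MonoidHom.ofInjective blockHom_injective).toEquiv).symm
  obtain ⟨i, j, hij⟩ : ∃ i j : Fin m, i ≠ j :=
    ⟨⟨0, by omega⟩, ⟨1, by omega⟩, by simp [Fin.ext_iff]⟩
  set J : SpecialLinearGroup (Fin m) F :=
    SpecialLinearGroup.diag2n hij (-1) (neg_ne_zero.2 one_ne_zero) with hJ
  have hJ2 : orderOf J = 2 := by
    refine orderOf_eq_prime ?_ ?_
    · rw [sq]
      apply Subtype.ext
      rw [Linear.val_mul, hJ, SpecialLinearGroup.diag2n_coe, Matrix.diagonal_mul_diagonal]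
      ext x y
      rcases eq_or_ne x y with rfl | hxy
      · simp [Matrix.diagonal_apply, Matrix.one_apply]; split_ifs <;> simp
      · simp [Matrix.diagonal_apply, Matrix.one_apply, hxy]
    · intro he
      have := congrArg (fun B : SpecialLinearGroup (Fin m) F => (B : Matrix _ _ F) i i) he
      simp [hJ, SpecialLinearGroup.diag2n_coe, hij] at this
      exact one_ne_zero (hne 1 (by linear_combination -this))
  rcases component_map_surjective hLcomp (QuotientGroup.mk' (Cfsg.oddCore ↥C))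
    (QuotientGroup.mk'_surjective _) with hb | hcq
  · exfalso
    rw [Subgroup.map_eq_bot_iff, QuotientGroup.ker_mk'] at hb
    refine Cores.not_dvd_card_pPrimeCore (G := C) (p := 2) ?_
    refine dvd_trans ?_ (card_dvd_of_le hb)
    rw [hcard, ← hJ2]
    exact orderOf_dvd_natCard J
  · exact ⟨_, hcq⟩

/-- Let F be a finite field of odd order and n ≥ 3 with (n, |F|) ≠ (3, 3). Then GL(n, F) has a non-central involution t such that C(t) / O(C(t)) has a component. -/
theorem result {F : Type*} [Field F] [Fintype F] [DecidableEq F] (hF : Odd (Fintype.card F)) (n : ℕ) (hn : 3 ≤ n) (h33 : ¬ (n = 3 ∧ Fintype.card F = 3)) : ∃ t : Matrix.GeneralLinearGroup (Fin n) F, orderOf t = 2 ∧ t ∉ Subgroup.center (Matrix.GeneralLinearGroup (Fin n) F) ∧ Cfsg.HasComponent (↥(Subgroup.centralizer ({t} : Set (Matrix.GeneralLinearGroup (Fin n) F))) ⧸ Cfsg.oddCore ↥(Subgroup.centralizer ({t} : Set (Matrix.GeneralLinearGroup (Fin n) F)))) := by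
  obtain ⟨m, rfl⟩ : ∃ m, n = m + 1 := ⟨n - 1, by omega⟩
  have h2 : (2 : F) ≠ 0 := by
    intro h0
    obtain ⟨q, hq⟩ := CharP.exists F
    haveI := hq
    obtain ⟨k, hqp, hcard⟩ := FiniteField.card F q
    have hq2 : q ∣ 2 := (CharP.cast_eq_zero_iff F q 2).1 (by exact_mod_cast h0)
    rw [(Nat.prime_dvd_prime_iff_eq hqp Nat.prime_two).1 hq2] at hcard
    rw [hcard, Nat.odd_pow_iff k.ne_zero] at hF
    exact absurd hF (by decide)
  have hq : m = 2 → 4 ≤ Nat.card F := by
    rintro rfl
    rw [Nat.card_eq_fintype_card]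
    have h3 : Fintype.card F ≠ 3 := fun h => h33 ⟨rfl, h⟩
    have h1 : 1 < Fintype.card F := Fintype.one_lt_card
    rcases hF with ⟨k, hk⟩
    omega
  obtain ⟨t, ht, htc, hcomp⟩ := exists_involution_block (F := F) (m := m) h2 (by omega) hq
  let ε : Unit ⊕ Fin m ≃ Fin (m + 1) :=
    (Equiv.sumComm Unit (Fin m)).trans
      ((Equiv.sumCongr (Equiv.refl _) (Equiv.ofUnique Unit (Fin 1))).trans finSumFinEquiv)
  exact transfer (Units.mapEquiv (Matrix.reindexAlgEquiv F F ε).toMulEquiv) ht htc hcomp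

end Cfsg.Agent.S1340
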