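import Cfsg.Statements.S2136
import Cfsg.Agent.Co2Invol.Surj
import Cfsg.Agent.LargeExtra.Pair

set_option autoImplicit false
open Cfsg

namespace Cfsg.Agent.S2136

open Cfsg.Agent.Co2Invol Cfsg.Agent.Leech in
/-- The involution as an element of `Co₂`. -/
def tCo2 : ↥Cfsg.Spor.Co2 :=
  ⟨invT.1, invT.2, Co2Invol.invT_fix vecU_inO⟩

open Cfsg.Agent.Co2Invol Cfsg.Agent.Leech in
/-- The centraliser in `Co0` as the centraliser in `Co₂`. -/
def centEquiv : cent ≃* ↥(Subgroup.centralizer ({tCo2} : Set ↥Cfsg.Spor.Co2)) where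
  toFun g := ⟨⟨(g : Co0).1, (g : Co0).2, (mem_cent.mp g.2).2⟩,
    Subgroup.mem_centralizer_singleton_iff.mpr (Subtype.ext (by
      have h := congrArg Subtype.val (mem_cent.mp g.2).1
      exact h))⟩
  invFun h := ⟨⟨h.1.1, h.1.2.1⟩, mem_cent.mpr ⟨Subtype.ext (by
    have h' := congrArg Subtype.val (Subgroup.mem_centralizer_singleton_iff.mp h.2)
    exact h'), h.1.2.2⟩⟩
  left_inv _ := rfl
  right_inv _ := rfl
  map_mul' _ _ := rfl

/-- The Conway group Co₂ (the stabiliser of a minimal vector of the rank-24 lattice) has an involution whose centraliser C has largest normal 2-subgroup extraspecial of order 2^9 with quotient C / O₂(C) isomorphic to the symplectic group Sp(6, 2) (shape 2^{1+8}Sp(6, 2)). -/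
theorem result : ∃ t : ↥Cfsg.Spor.Co2, orderOf t = 2 ∧ Cfsg.IsExtraspecial 2 (Cfsg.pCore 2 ↥(Subgroup.centralizer ({t} : Set ↥Cfsg.Spor.Co2))) ∧ Nat.card (Cfsg.pCore 2 ↥(Subgroup.centralizer ({t} : Set ↥Cfsg.Spor.Co2))) = 2 ^ 9 ∧ Nonempty (↥(Subgroup.centralizer ({t} : Set ↥Cfsg.Spor.Co2)) ⧸ Cfsg.pCore 2 ↥(Subgroup.centralizer ({t} : Set ↥Cfsg.Spor.Co2)) ≃* Matrix.symplecticGroup (Fin 3) (ZMod 2)) := by
  have e : ↥Co2Invol.rho.ker ≃* ↥(Cfsg.pCore 2 ↥(Subgroup.centralizer ({tCo2} : Set ↥Cfsg.Spor.Co2))) :=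
    ((MulEquiv.subgroupCongr Co2Invol.pCore_cent).symm.trans
      ((Cfsg.pCore 2 Co2Invol.cent).equivMapOfInjective _ centEquiv.injective)).trans
      (MulEquiv.subgroupCongr (Cores.map_pCore_equiv centEquiv))
  have : Finite ↥Co2Invol.rho.ker :=
    Nat.finite_of_card_ne_zero (by rw [Co2Invol.card_ker]; norm_num)
  refine ⟨tCo2, ?_, LargeExtra.isExtraspecial_map_equiv Co2Invol.isExtraspecial_ker e, ?_, ⟨?_⟩⟩
  · refine orderOf_eq_prime ?_ fun h =>
      Co2Invol.invT_ne_one (Subtype.ext (congrArg (fun a : ↥Cfsg.Spor.Co2 => a.1) h))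
    rw [pow_two]
    have h' := congrArg Subtype.val Co2Invol.invT_sq
    exact Subtype.ext h'
  · rw [← Nat.card_congr e.toEquiv, Co2Invol.card_ker]
  · exact (QuotientGroup.congr _ _ centEquiv (by
      rw [← Co2Invol.pCore_cent]; exact Cores.map_pCore_equiv centEquiv)).symm.trans
      Co2Invol.quotEquiv

end Cfsg.Agent.S2136
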