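import Cfsg.Statements.S1535

import Cfsg.Agent.OddChar43.FeitFrob
import Cfsg.Agent.OddChar43.FrobData

set_option autoImplicit false
open Cfsg
open Cfsg.Agent Cfsg.Agent.OddChar43

namespace Cfsg.Agent.S1535

open Cfsg.Agent.CharInd

/-- Let N be a finite group with a proper nontrivial normal subgroup H such that every element commuting with a non-identity element of H lies in H (N is a Frobenius group with kernel H); let e be the index of H and suppose Nat.card H ≠ e + 1. Let S be the set of irreducible characters χ of N with χ h ≠ χ 1 for some h ∈ H, and τ a linear isometry on the integer combinations of S vanishing at 1, with values virtual characters of a finite group G vanishing at 1. Then (S, N minus 1, τ) is coherent, or there is a prime p with Nat.card H a power of p, H non-abelian and [H : [H,H]] ≤ 4e² + 1. -/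
theorem result {N : Type*} [Group N] [Fintype N] {G : Type*} [Group G] [Fintype G] (H : Subgroup N) [H.Normal] (hH1 : H ≠ ⊥) (hH2 : H ≠ ⊤) (hC : ∀ h ∈ H, h ≠ 1 → Subgroup.centralizer ({h} : Set N) ≤ H) (he : Nat.card H ≠ H.index + 1) (τ : (N → ℂ) → (G → ℂ)) (hτ : Cfsg.IsLinearIsometryOn (Cfsg.zspanOn {χ : N → ℂ | Cfsg.IsIrrCharacter N χ ∧ ∃ h ∈ H, χ h ≠ χ 1} {1}ᶜ) τ) (hτ1 : ∀ α ∈ Cfsg.zspanOn {χ : N → ℂ | Cfsg.IsIrrCharacter N χ ∧ ∃ h ∈ H, χ h ≠ χ 1} {1}ᶜ, τ α 1 = 0) : Cfsg.IsCoherent {χ : N → ℂ | Cfsg.IsIrrCharacter N χ ∧ ∃ h ∈ H, χ h ≠ χ 1} {1}ᶜ τ ∨ ∃ p : ℕ, p.Prime ∧ (∃ m : ℕ, Nat.card H = p ^ m) ∧ ¬ IsMulCommutative H ∧ (⁅H, H⁆.subgroupOf H).index ≤ 4 * H.index ^ 2 + 1 := by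
  classical
  haveI : Fintype H := Fintype.ofFinite H
  set S : Set (N → ℂ) := {χ : N → ℂ | Cfsg.IsIrrCharacter N χ ∧ ∃ h ∈ H, χ h ≠ χ 1} with hS
  by_cases hexc : ∃ p : ℕ, p.Prime ∧ (∃ m : ℕ, Nat.card H = p ^ m) ∧ ¬ IsMulCommutative H ∧
      (⁅H, H⁆.subgroupOf H).index ≤ 4 * H.index ^ 2 + 1
  · exact Or.inr hexc
  refine Or.inl ?_
  have hcm : ⁅H, H⁆.subgroupOf H = commutator H := by
    have e : (commutator H).map H.subtype = ⁅H, H⁆ := by
      rw [commutator_def, Subgroup.map_commutator, ← MonoidHom.range_eq_map, Subgroup.range_subtype]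
    rw [← e, Subgroup.subgroupOf, Subgroup.comap_map_eq_self_of_injective H.subtype_injective]
  rw [hcm] at hexc
  haveI hnil := kernel_isNilpotent H (lt_top_iff_ne_top.2 hH2) hC
  haveI : Nontrivial H := (Subgroup.nontrivial_iff_ne_bot H).2 hH1
  have he0 : 0 < H.index := Nat.pos_of_ne_zero H.index_ne_zero_of_finite
  let ι : Cfsg.IrrCharacter H → (N → ℂ) := fun θ => Cfsg.indFun H (θ : H → ℂ)
  have hι : ∀ θ ∈ ntIrr H, ι θ ∈ S := by
    intro θ hθ
    have hne := (mem_ntIrr H).1 hθ
    have hi := indFun_irr_of_fpf H hC θ.2 hne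
    refine ⟨hi, ?_⟩
    by_contra hk
    push Not at hk
    have h1 := irr_self hi
    rw [classInner_indFun_right H _ (Char.irr_isClassFunction hi)] at h1
    have hres : (fun n : H => Cfsg.indFun H (θ : H → ℂ) n) =
        (Cfsg.indFun H (θ : H → ℂ) 1) • fun _ : H => (1 : ℂ) := funext fun n => by simpa using hk n n.2
    rw [hres, CharInd.classInner_smul_left, irr_ne Char.isIrrCharacter_const_one θ.2 (Ne.symm hne),
      mul_zero] at h1
    exact zero_ne_one h1
  have hSeq : ((ntIrr H).image ι : Set (N → ℂ)) = S := by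
    refine Set.Subset.antisymm ?_ ?_
    · intro χ hχ
      obtain ⟨θ, hθ, rfl⟩ := Finset.mem_image.1 hχ
      exact hι θ hθ
    · rintro χ ⟨hχ, hker⟩
      obtain ⟨θ, hθ, hne, rfl⟩ := exists_eq_indFun_of_fpf H hC hχ hker
      exact Finset.mem_image.2 ⟨⟨θ, hθ⟩, (mem_ntIrr H).2 hne, rfl⟩
  have hSm : ∀ χ ∈ (ntIrr H).image ι, χ ∈ S := fun χ h => hSeq ▸ Finset.mem_coe.2 h
  let A : ℕ → Finset (N → ℂ) := fun n => ((ntIrr H).image ι).filter fun χ => degNat χ ≤ n
  have hAS : ∀ n, (A n : Set (N → ℂ)) ⊆ S := fun n χ h =>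
    hSm χ (Finset.mem_filter.1 h).1
  have hdeg : ∀ χ ∈ (ntIrr H).image ι, ∃ θ ∈ ntIrr H, ι θ = χ ∧
      degNat χ = H.index * degNat (θ : H → ℂ) := fun χ h => by
    obtain ⟨θ, hθ, rfl⟩ := Finset.mem_image.1 h
    exact ⟨θ, hθ, rfl, degNat_indFun H θ⟩
  have hmono : ∀ {X : Finset (N → ℂ)}, (X : Set (N → ℂ)) ⊆ S →
      Cfsg.IsLinearIsometryOn (Cfsg.zspanOn (X : Set (N → ℂ)) {1}ᶜ) τ ∧
      ∀ α ∈ Cfsg.zspanOn (X : Set (N → ℂ)) {1}ᶜ, τ α 1 = 0 := fun h =>
    ⟨iso_mono (zspanOn_mono h _) hτ, fun α hα => hτ1 α (zspanOn_mono h _ hα)⟩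
  -- the members of least degree
  have hbase : Cfsg.IsCoherent (A H.index : Set (N → ℂ)) {1}ᶜ τ ∧ (A H.index).Nonempty := by
    have hA : A H.index = ((ntIrr H).filter fun θ : Cfsg.IrrCharacter H =>
        degNat (θ : H → ℂ) = 1).image ι := by
      ext χ
      simp only [A, Finset.mem_filter, Finset.mem_image]
      constructor
      · rintro ⟨⟨θ, hθ, rfl⟩, hle⟩
        simp only [ι, degNat_indFun] at hle
        refine ⟨θ, ⟨hθ, ?_⟩, rfl⟩
        have := degNat_pos θ.2
        rcases Nat.lt_or_ge 1 (degNat (θ : H → ℂ)) with h | h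
        · have := Nat.mul_lt_mul_of_pos_left h he0
          omega
        · omega
      · rintro ⟨θ, ⟨hθ, h1⟩, rfl⟩
        exact ⟨⟨θ, hθ, rfl⟩, le_of_eq (by simp [ι, degNat_indFun, h1])⟩
    have hcount := card_eq_index_mul H hC (P := fun θ => degNat θ = 1)
      (fun θ _ h x => (degNat_conjChar H x θ).trans h)
    have hlin : ((ntIrr H).filter fun θ : Cfsg.IrrCharacter H => degNat (θ : H → ℂ) = 1).card + 1 =
        (commutator H).index := by
      rw [← card_linear_filter H]
      have hmem : (⟨fun _ => 1, Char.isIrrCharacter_const_one⟩ : Cfsg.IrrCharacter H) ∈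
          Finset.univ.filter fun θ : Cfsg.IrrCharacter H => degNat (θ : H → ℂ) = 1 :=
        Finset.mem_filter.2 ⟨Finset.mem_univ _, degNat_one_fun H⟩
      rw [← Finset.card_erase_add_one hmem]
      congr 2
      ext θ
      simp [mem_ntIrr, Subtype.ext_iff]
    obtain ⟨θ₁, hθ₁, hθ₁d⟩ := exists_linear_ne_one (X := H)
    have hpos : 1 ≤ (A H.index).card := Finset.card_pos.2 ⟨ι θ₁, hA ▸ Finset.mem_image_of_mem _
      (Finset.mem_filter.2 ⟨(mem_ntIrr H).2 hθ₁, hθ₁d⟩)⟩
    have h2 : 2 ≤ (A H.index).card := by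
      by_contra hlt
      refine linear_count_ne H hC hH1 he hexc ?_
      have h1 : (A H.index).card = 1 := by omega
      rw [hA] at h1
      have h3 : ((ntIrr H).filter fun θ : Cfsg.IrrCharacter H => degNat (θ : H → ℂ) = 1).card =
          H.index * (((ntIrr H).filter fun θ : Cfsg.IrrCharacter H =>
            degNat (θ : H → ℂ) = 1).image ι).card := by convert hcount
      rw [← hlin, h3, h1, mul_one]
    refine ⟨coherent_equal_degree (A H.index) (fun y hy => (hAS _ hy).1) H.index ?_ h2 τ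
      (hmono (hAS _)).1 (hmono (hAS _)).2, Finset.card_pos.1 hpos⟩
    intro y hy
    rw [hA] at hy
    obtain ⟨θ, hθ, rfl⟩ := Finset.mem_image.1 hy
    rw [degNat_eq (Char.isCharacter_of_irr (hι θ (Finset.mem_filter.1 hθ).1).1)]
    simp [ι, degNat_indFun, (Finset.mem_filter.1 hθ).2]
  obtain ⟨hbase, ψ, hψ⟩ := hbase
  have hψd : degNat ψ = H.index := by
    obtain ⟨θ, -, -, hθ⟩ := hdeg ψ (Finset.mem_filter.1 hψ).1
    refine le_antisymm (Finset.mem_filter.1 hψ).2 ?_
    rw [hθ]
    exact Nat.le_mul_of_pos_right _ (degNat_pos θ.2)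
  -- climbing the degrees
  have hall : ∀ n, H.index ≤ n → Cfsg.IsCoherent (A n : Set (N → ℂ)) {1}ᶜ τ := by
    intro n hn
    induction n, hn using Nat.le_induction with
    | base => exact hbase
    | succ n hn ih =>
      have key : ∀ B : Finset (N → ℂ),
          B ⊆ ((ntIrr H).image ι).filter (fun χ => degNat χ = n + 1) →
          Cfsg.IsCoherent ((A n ∪ B : Finset (N → ℂ)) : Set (N → ℂ)) {1}ᶜ τ := by
        intro B
        induction B using Finset.induction_on with
        | empty => intro _; rwa [Finset.union_empty]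
        | insert χ B hχB ihB =>
          intro hB
          obtain ⟨hχ, hB'⟩ := Finset.insert_subset_iff.1 hB
          obtain ⟨hχm, hχd⟩ := Finset.mem_filter.1 hχ
          have hsub : ((A n ∪ B : Finset (N → ℂ)) : Set (N → ℂ)) ⊆ S := fun ξ h => by
            rcases Finset.mem_union.1 h with g | g
            · exact hAS n g
            · exact hSm ξ (Finset.mem_filter.1 (hB' g)).1
          have hins : ((insert χ (A n ∪ B) : Finset (N → ℂ)) : Set (N → ℂ)) ⊆ S := fun ξ h => by
            rcases Finset.mem_insert.1 h with rfl | g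
            · exact hSm _ hχm
            · exact hsub g
          rw [Finset.union_insert]
          have hnot : χ ∉ A n ∪ B := fun h => by
            rcases Finset.mem_union.1 h with g | g
            · have := (Finset.mem_filter.1 g).2
              omega
            · exact hχB g
          obtain ⟨θ, hθ, -, hθd⟩ := hdeg χ hχm
          have h2 : 2 ≤ degNat (θ : H → ℂ) := by
            by_contra hlt
            have h1 : degNat (θ : H → ℂ) = 1 := by have := degNat_pos θ.2; omega
            rw [h1, mul_one] at hθd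
            omega
          refine coherent_insert (A n ∪ B) χ (fun ξ h => (hsub h).1) (hSm χ hχm).1 hnot degNat
            (fun ξ h => degNat_eq (Char.isCharacter_of_irr (hins h).1)) τ (hmono hins).1
            (hmono hins).2 (ihB hB') ψ
            (Finset.mem_union_left _ (Finset.mem_filter.2 ⟨(Finset.mem_filter.1 hψ).1,
              le_trans hψd.le hn⟩)) (by rw [hψd, hθd]; exact dvd_mul_right _ _) ?_
          obtain ⟨s, hs⟩ : ∃ s : ℕ → Prop, s = fun k => k < degNat (θ : H → ℂ) := ⟨_, rfl⟩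
          subst hs
          have hle : ∑ ξ ∈ ((ntIrr H).filter fun η : Cfsg.IrrCharacter H =>
              degNat (η : H → ℂ) < degNat (θ : H → ℂ)).image ι, degNat ξ ^ 2 ≤
              ∑ ξ ∈ A n ∪ B, degNat ξ ^ 2 := by
            refine Finset.sum_le_sum_of_subset fun ξ h => Finset.mem_union_left _ ?_
            obtain ⟨η, hη, rfl⟩ := Finset.mem_image.1 h
            obtain ⟨hηT, hηd⟩ := Finset.mem_filter.1 hη
            refine Finset.mem_filter.2 ⟨Finset.mem_image_of_mem _ hηT, ?_⟩
            have := Nat.mul_lt_mul_of_pos_left hηd he0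
            simp only [ι, degNat_indFun]
            omega
          have hsq : H.index * ∑ ξ ∈ ((ntIrr H).filter fun η : Cfsg.IrrCharacter H =>
              degNat (η : H → ℂ) < degNat (θ : H → ℂ)).image ι, degNat ξ ^ 2 =
              H.index ^ 2 * ∑ η ∈ (ntIrr H).filter (fun η : Cfsg.IrrCharacter H =>
                degNat (η : H → ℂ) < degNat (θ : H → ℂ)), degNat (η : H → ℂ) ^ 2 := by
            convert sum_image_sq H hC (fun k => k < degNat (θ : H → ℂ))
          have hw : 2 * H.index * degNat (θ : H → ℂ) <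
              ∑ η ∈ (ntIrr H).filter (fun η : Cfsg.IrrCharacter H =>
                degNat (η : H → ℂ) < degNat (θ : H → ℂ)), degNat (η : H → ℂ) ^ 2 := by
            convert feit_weight H hC hexc θ.2 h2
          rw [pow_two, mul_assoc] at hsq
          have hsq' := mul_left_cancel₀ he0.ne' hsq
          have := Nat.mul_lt_mul_of_pos_left hw he0
          rw [hψd, hθd]
          nlinarith
      have := key _ (Finset.Subset.refl _)
      have e : A (n + 1) = A n ∪ ((ntIrr H).image ι).filter (fun χ => degNat χ = n + 1) := by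
        ext χ
        simp only [A, Finset.mem_union, Finset.mem_filter]
        constructor
        · rintro ⟨h1, h2⟩
          rcases Nat.lt_or_ge n (degNat χ) with h | h
          · exact Or.inr ⟨h1, by omega⟩
          · exact Or.inl ⟨h1, h⟩
        · rintro (⟨h1, h2⟩ | ⟨h1, h2⟩) <;> exact ⟨h1, by omega⟩
      rw [e]
      exact this
  obtain ⟨M, hM⟩ : ∃ M, M = H.index + ∑ χ ∈ (ntIrr H).image ι, degNat χ := ⟨_, rfl⟩
  have hfull : A M = (ntIrr H).image ι := Finset.filter_true_of_mem fun χ h => by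
    have := Finset.single_le_sum (f := fun χ : N → ℂ => degNat χ) (fun _ _ => Nat.zero_le _) h
    omega
  have := hall M (by omega)
  rwa [hfull, hSeq] at this

end Cfsg.Agent.S1535
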