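import Cfsg.Statements.S4207
import Cfsg.Agent.H77.AutFrattini

set_option autoImplicit false
open Cfsg

namespace Cfsg.Agent.S4207

open Cfsg.Agent.H77.AutFrattini

/-- Let `P` be a group of order `p^n` whose Frattini subgroup has index `p^r`. Then any group of automorphisms of `P` each of which induces the identity on the Frattini quotient has order dividing `p^(r(n-r))`; in particular it is a `p`-group. -/
theorem result {P : Type*} [Group P] [Finite P] {p n r : ℕ} [Fact p.Prime] (hP : Nat.card P = p ^ n) (hr : (frattini P).index = p ^ r) (A : Subgroup (MulAut P)) (hA : ∀ α ∈ A, ∀ x : P, α x * x⁻¹ ∈ frattini P) : Nat.card A ∣ p ^ (r * (n - r)) := by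
  obtain ⟨f, hf⟩ := exists_gen hP hr
  let T := {t : Fin r → P // ∀ i, (t i : P ⧸ frattini P) = (f i : P ⧸ frattini P)}
  have hmem : ∀ (α : A) (t : T) i, (((α : MulAut P) (t.1 i) : P) : P ⧸ frattini P) = (f i : P ⧸ frattini P) := by
    intro α t i
    rw [← t.2 i, QuotientGroup.eq_iff_div_mem, div_eq_mul_inv]
    exact hA α α.2 (t.1 i)
  let act : MulAction A T :=
    { smul := fun α t => ⟨fun i => (α : MulAut P) (t.1 i), hmem α t⟩
      one_smul := fun t => rfl
      mul_smul := fun α β t => rfl }
  have hfree : ∀ t : T, ∀ α : A, α • t = t → α = 1 := by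
    intro t α h
    refine Subtype.ext (aut_ext_of_closure (S := Set.range t.1) ?_ (α : MulAut P) 1 ?_)
    · rw [closure_eq_top_iff]
      have := (closure_eq_top_iff f).1 hf
      simpa only [t.2] using this
    · rintro _ ⟨i, rfl⟩
      exact congrFun (congrArg Subtype.val h) i
  have h1 := card_dvd_of_free hfree
  rwa [card_fiber, card_frattini hP hr, ← pow_mul, mul_comm] at h1

end Cfsg.Agent.S4207
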