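import Cfsg.Statements.S4189
import Mathlib
import Cfsg.Agent.S4207
import Cfsg.Agent.TwoGroups.Recognition

set_option autoImplicit false
open Cfsg

namespace Cfsg.Agent.S4189

open scoped commutatorElement

/-- Let P be a finite non-abelian 2-group whose commutator subgroup has index 4 and whose automorphism group is not a 2-group (some automorphism has order that is not a power of 2). Then P is isomorphic to the quaternion group of order 8. -/
theorem result {P : Type*} [Group P] [Finite P] (hP : IsPGroup 2 P) (hna : ¬ IsMulCommutative P) (h4 : (commutator P).index = 4) (haut : ¬ IsPGroup 2 (MulAut P)) : Nonempty (P ≃* QuaternionGroup 2) := by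
  classical
  have : Fact (Nat.Prime 2) := ⟨Nat.prime_two⟩
  have hnilp := hP.isNilpotent
  have hle : commutator P ≤ frattini P := Cfsg.Agent.PGroup.commutator_le_frattini hP
  obtain ⟨n, hn⟩ := IsPGroup.iff_card.1 hP
  obtain ⟨r, hr⟩ := hP.index (frattini P)
  have hr2 : r = 2 := by
    have hd : (frattini P).index ∣ 4 := h4 ▸ Subgroup.index_dvd_of_le hle
    rw [hr, show (4 : ℕ) = 2 ^ 2 by norm_num, Nat.pow_dvd_pow_iff_le_right (by norm_num)] at hd
    by_contra hne
    have hsmall : r ≤ 1 := by omega
    obtain ⟨f, hf⟩ := Cfsg.Agent.H77.AutFrattini.exists_gen hn hr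
    have hfc : ∀ i j, Commute (f i) (f j) := fun i j => by
      obtain ⟨i, hi⟩ := i
      obtain ⟨j, hj⟩ := j
      obtain rfl : i = j := by omega
      exact Commute.refl _
    apply hna
    refine ⟨⟨fun x y => ?_⟩⟩
    have h2 : x ∈ Subgroup.closure (Set.range f) := hf ▸ Subgroup.mem_top x
    induction h2 using Subgroup.closure_induction with
    | mem a ha =>
      obtain ⟨i, rfl⟩ := ha
      have h3 : y ∈ Subgroup.centralizer ({f i} : Set P) := by
        have : Subgroup.closure (Set.range f) ≤ Subgroup.centralizer ({f i} : Set P) := by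
          rw [Subgroup.closure_le]
          rintro _ ⟨j, rfl⟩
          exact Subgroup.mem_centralizer_singleton_iff.2 (hfc j i).eq
        exact this (hf ▸ Subgroup.mem_top y)
      exact (Subgroup.mem_centralizer_singleton_iff.1 h3).symm
    | one => simp
    | mul a b _ _ ha hb => exact (Commute.mul_left (show Commute a y from ha) (show Commute b y from hb)).eq
    | inv a _ ha => exact (show Commute a y from ha).inv_left.eq
  subst hr2
  have hΦ : frattini P = commutator P :=
    (Subgroup.eq_of_le_of_card_ge hle (le_of_eq (by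
      have e1 := (frattini P).card_mul_index
      have e2 := (commutator P).card_mul_index
      rw [hr] at e1; rw [h4] at e2; omega))).symm
  -- an automorphism of odd prime order
  obtain ⟨q, hq, hqd, hq2⟩ : ∃ q, q.Prime ∧ q ∣ Nat.card (MulAut P) ∧ q ≠ 2 := by
    by_contra hc
    push Not at hc
    apply haut
    exact IsPGroup.of_card (Nat.eq_prime_pow_of_unique_prime_dvd Nat.card_pos.ne' (fun {d} hd hdd => hc d hd hdd))
  have : Fact q.Prime := ⟨hq⟩
  obtain ⟨α, hα⟩ := exists_prime_orderOf_dvd_card' q hqd
  let Q := P ⧸ frattini P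
  have hQcard : Nat.card Q = 4 := by rw [← Subgroup.index_eq_card, hr]; norm_num
  have hαΦ : ∀ x, x ∈ frattini P → α x ∈ frattini P := by
    intro x hx
    have h1 := Subgroup.Characteristic.fixed (H := frattini P) inferInstance α
    rw [← h1] at hx
    exact hx
  let β : Q →* Q := QuotientGroup.map _ _ α.toMonoidHom hαΦ
  have hnt : ∃ x : P, β (x : Q) ≠ (x : Q) := by
    by_contra hc
    push Not at hc
    have hd := Cfsg.Agent.S4207.result hn hr (Subgroup.zpowers α) (by
      intro γ hγ x
      obtain ⟨k, rfl⟩ := (mem_powers_iff_mem_zpowers (x := α)).2 hγ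
      clear hγ
      show (α ^ k) x * x⁻¹ ∈ frattini P
      induction k generalizing x with
      | zero => simp
      | succ k ih =>
        have h1 : (α ^ (k + 1)) x = α ((α ^ k) x) := by rw [pow_succ']; rfl
        have h2 := hc ((α ^ k) x)
        rw [← div_eq_mul_inv, ← QuotientGroup.eq_iff_div_mem]
        have h3 : ((α ((α ^ k) x) : P) : Q) = β (((α ^ k) x : P) : Q) := rfl
        have h4 := ih x
        rw [← div_eq_mul_inv, ← QuotientGroup.eq_iff_div_mem] at h4
        rw [h1, h3, h2, h4])
    rw [Nat.card_zpowers, hα] at hd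
    exact hq2 ((Nat.prime_dvd_prime_iff_eq hq Nat.prime_two).1 (hq.dvd_of_dvd_pow hd))
  have hβinj : Function.Injective β := by
    have hs : Function.Surjective β := by
      intro z
      obtain ⟨x, rfl⟩ := QuotientGroup.mk_surjective z
      exact ⟨((α.symm x : P) : Q), congrArg (fun y : P => (y : Q)) (α.apply_symm_apply x)⟩
    exact (Finite.injective_iff_surjective).2 hs
  have hiter : ∀ (x : P) (k : ℕ), β^[k] (x : Q) = (((α ^ k) x : P) : Q) := by
    intro x k
    induction k with
    | zero => rfl
    | succ k ih => rw [Function.iterate_succ_apply', ih, pow_succ']; rfl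
  have hper : ∀ z : Q, β^[q] z = z := by
    intro z
    obtain ⟨x, rfl⟩ := QuotientGroup.mk_surjective z
    rw [hiter, ← hα, pow_orderOf_eq_one]; rfl
  -- the automorphism permutes the three nontrivial cosets transitively
  have htrans : ∀ a b : Q, a ≠ 1 → b ≠ 1 → ∃ k : ℕ, β^[k] a = b := by
    have : Fintype Q := Fintype.ofFinite Q
    have hnofix : ∀ a : Q, a ≠ 1 → β a ≠ a := by
      intro a ha hfix
      obtain ⟨x, hx⟩ := hnt
      have hxa : (x : Q) ≠ a := fun h => hx (h ▸ hfix)
      have hx1 : (x : Q) ≠ 1 := fun h => hx (by rw [h, map_one])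
      have hb1 : β (x : Q) ≠ 1 := fun h => hx1 (hβinj (h.trans β.map_one.symm))
      have hba : β (x : Q) ≠ a := fun h => hxa (hβinj (h.trans hfix.symm))
      have hcard : ({1, a, (x : Q), β (x : Q)} : Finset Q).card = 4 := by
        simp [ha.symm, hx1.symm, hb1.symm, hxa.symm, hba.symm, hx.symm]
      have hall : ({1, a, (x : Q), β (x : Q)} : Finset Q) = Finset.univ :=
        Finset.eq_univ_of_card _ (by rw [hcard, ← Nat.card_eq_fintype_card, hQcard])
      have h2 : β (β (x : Q)) = (x : Q) := by
        have hm := Finset.mem_univ (β (β (x : Q)))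
        rw [← hall] at hm
        simp only [Finset.mem_insert, Finset.mem_singleton] at hm
        rcases hm with h | h | h | h
        · exact absurd (hβinj (h.trans β.map_one.symm)) hb1
        · exact absurd (hβinj (h.trans hfix.symm)) hba
        · exact h
        · exact absurd (hβinj h) hx
      obtain ⟨j, rfl⟩ : ∃ j, q = 2 * j + 1 := hq.odd_of_ne_two hq2
      have h3 : ∀ j, β^[2 * j] (x : Q) = x := by
        intro j
        induction j with
        | zero => rfl
        | succ j ih => rw [show 2 * (j + 1) = 2 + 2 * j by ring, Function.iterate_add_apply, ih]; exact h2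
      have h4' := hper (x : Q)
      rw [Function.iterate_succ_apply', h3] at h4'
      exact hx h4'
    intro a b ha hb
    have hb1 : β a ≠ 1 := fun h => ha (hβinj (h.trans β.map_one.symm))
    have hb2 : β (β a) ≠ 1 := fun h => hb1 (hβinj (h.trans β.map_one.symm))
    have hne : β (β a) ≠ a := by
      intro h2
      obtain ⟨j, rfl⟩ : ∃ j, q = 2 * j + 1 := hq.odd_of_ne_two hq2
      have h3 : ∀ j, β^[2 * j] a = a := by
        intro j
        induction j with
        | zero => rfl
        | succ j ih => rw [show 2 * (j + 1) = 2 + 2 * j by ring, Function.iterate_add_apply, ih]; exact h2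
      have h4' := hper a
      rw [Function.iterate_succ_apply', h3] at h4'
      exact hnofix a ha h4'
    have hcard : ({1, a, β a, β (β a)} : Finset Q).card = 4 := by
      simp [ha.symm, hb1.symm, hb2.symm, (hnofix a ha).symm, hne.symm, (hnofix (β a) hb1).symm]
    have hall : ({1, a, β a, β (β a)} : Finset Q) = Finset.univ :=
      Finset.eq_univ_of_card _ (by rw [hcard, ← Nat.card_eq_fintype_card, hQcard])
    have hm := Finset.mem_univ b
    rw [← hall] at hm
    simp only [Finset.mem_insert, Finset.mem_singleton] at hm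
    rcases hm with h | h | h | h
    · exact absurd h hb
    · exact ⟨0, h.symm⟩
    · exact ⟨1, h.symm⟩
    · exact ⟨2, h.symm⟩
  -- the lower central series
  set G3 : Subgroup P := (⊤ : Subgroup P).lowerCentralSeries 2 with hG3def
  set G4 : Subgroup P := (⊤ : Subgroup P).lowerCentralSeries 3 with hG4def
  have hG2 : (⊤ : Subgroup P).lowerCentralSeries 1 = commutator P := Subgroup.top_lowerCentralSeries_one
  have hc3 : ⁅commutator P, (⊤ : Subgroup P)⁆ = G3 := by
    rw [hG3def, Subgroup.lowerCentralSeries_succ, hG2]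
  have hc4 : ⁅G3, (⊤ : Subgroup P)⁆ = G4 := (Subgroup.lowerCentralSeries_succ _ 2).symm
  have : G3.Normal := hc3 ▸ inferInstance
  have : G4.Normal := hc4 ▸ inferInstance
  have hG3le : G3 ≤ commutator P := hc3 ▸ Subgroup.commutator_le_left _ _
  have hG4le : G4 ≤ G3 := hc4 ▸ Subgroup.commutator_le_left _ _
  have hstab : ∀ m, (⊤ : Subgroup P).lowerCentralSeries (m + 1) = (⊤ : Subgroup P).lowerCentralSeries m →
      (⊤ : Subgroup P).lowerCentralSeries m = ⊥ := by
    intro m hm
    obtain ⟨N, hN⟩ := Subgroup.nilpotent_iff_lowerCentralSeries.1 hnilp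
    have : ∀ j, (⊤ : Subgroup P).lowerCentralSeries (m + j) = (⊤ : Subgroup P).lowerCentralSeries m := by
      intro j
      induction j with
      | zero => rfl
      | succ j ih =>
        rw [← add_assoc, Subgroup.lowerCentralSeries_succ, ih, ← Subgroup.lowerCentralSeries_succ, hm]
    rw [← this N, ← le_bot_iff, ← hN]
    exact Subgroup.lowerCentralSeries_antitone _ (Nat.le_add_left N m)
  have hc2ne : commutator P ≠ ⊥ := by
    intro hb
    apply hna
    refine ⟨⟨fun x y => commutatorElement_eq_one_iff_commute.1 ?_⟩⟩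
    have hm := Subgroup.commutator_mem_commutator (Subgroup.mem_top x) (Subgroup.mem_top y)
    rw [← commutator_def, hb] at hm
    exact Subgroup.mem_bot.1 hm
  let π := QuotientGroup.mk' G3
  have hzc : ∀ z ∈ commutator P, ∀ x : P, π z * π x = π x * π z := by
    intro z hz x
    refine commutatorElement_eq_one_iff_commute.1 ?_
    rw [← map_commutatorElement]
    exact (QuotientGroup.eq_one_iff _).2 (hc3 ▸ Subgroup.commutator_mem_commutator hz (Subgroup.mem_top x))
  -- squares of elements of the derived subgroup lie in `G3`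
  have hsq_comm : ∀ x y : P, ⁅x, y⁆ ^ 2 ∈ G3 := by
    intro x y
    have hx2 : x ^ 2 ∈ commutator P := hΦ ▸ Cfsg.Agent.PGroup.pow_mem_frattini hP x
    have hm : ⁅x, y⁆ ∈ commutator P :=
      Subgroup.commutator_mem_commutator (Subgroup.mem_top _) (Subgroup.mem_top _)
    have e : π ⁅x ^ 2, y⁆ = 1 := by
      rw [map_commutatorElement]
      exact commutatorElement_eq_one_iff_commute.2 (hzc _ hx2 y)
    have e2 : ⁅x ^ 2, y⁆ = x * ⁅x, y⁆ * x⁻¹ * ⁅x, y⁆ := by
      rw [commutatorElement_def, commutatorElement_def, sq]; group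
    rw [e2, map_mul, map_mul, map_mul, ← hzc _ hm x, map_inv, mul_inv_cancel_right, ← map_mul] at e
    rw [sq]
    exact (QuotientGroup.eq_one_iff _).1 e
  obtain ⟨f, hf⟩ := Cfsg.Agent.H77.AutFrattini.exists_gen hn hr
  set a := f 0 with ha_def
  set b := f 1 with hb_def
  set c := ⁅a, b⁆ with hc_def
  have hcm : c ∈ commutator P := Subgroup.commutator_mem_commutator (Subgroup.mem_top _) (Subgroup.mem_top _)
  have hgen : ∀ K : Subgroup P, a ∈ K → b ∈ K → K = ⊤ := by
    intro K ha hb
    rw [eq_top_iff, ← hf, Subgroup.closure_le]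
    rintro _ ⟨i, rfl⟩
    fin_cases i
    · exact ha
    · exact hb
  -- the derived subgroup modulo `G3`
  have hder : ∀ z ∈ commutator P, z ∈ G3 ∨ z * c⁻¹ ∈ G3 := by
    have hc2 : c * c ∈ G3 := by rw [← sq]; exact hsq_comm a b
    let N : Subgroup P :=
      { carrier := {z | z ∈ commutator P ∧ (z ∈ G3 ∨ z * c⁻¹ ∈ G3)}
        one_mem' := ⟨one_mem _, Or.inl (one_mem _)⟩
        mul_mem' := fun {x y} hx hy => ⟨mul_mem hx.1 hy.1, by
          rcases hx.2 with h1 | h1 <;> rcases hy.2 with h2 | h2
          · exact Or.inl (mul_mem h1 h2)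
          · exact Or.inr (by rw [mul_assoc]; exact mul_mem h1 h2)
          · refine Or.inr ?_
            have : x * y * c⁻¹ = (x * c⁻¹) * (c * y * c⁻¹) := by group
            rw [this]; exact mul_mem h1 (Subgroup.Normal.conj_mem inferInstance _ h2 _)
          · refine Or.inl ?_
            have : x * y = (x * c⁻¹) * (c * (y * c⁻¹) * c⁻¹) * (c * c) := by group
            rw [this]
            exact mul_mem (mul_mem h1 (Subgroup.Normal.conj_mem inferInstance _ h2 _)) hc2⟩
        inv_mem' := fun {x} hx => ⟨inv_mem hx.1, by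
          rcases hx.2 with h1 | h1
          · exact Or.inl (inv_mem h1)
          · refine Or.inr ?_
            have : x⁻¹ * c⁻¹ = c⁻¹ * (x * c⁻¹)⁻¹ * c * (c * c)⁻¹ := by group
            rw [this]
            refine mul_mem ?_ (inv_mem hc2)
            simpa using Subgroup.Normal.conj_mem (H := G3) inferInstance _ (inv_mem h1) c⁻¹⟩ }
    have hN3 : G3 ≤ N := fun z hz => ⟨hG3le hz, Or.inl hz⟩
    have hcN : c ∈ N := ⟨hcm, Or.inr (by simp)⟩
    have hNn : N.Normal := ⟨fun z hz g => by
      have h5 : g * z * g⁻¹ * z⁻¹ ∈ G3 := by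
        rw [← QuotientGroup.eq_one_iff]
        change π (g * z * g⁻¹ * z⁻¹) = 1
        rw [map_mul, map_mul, map_mul, ← hzc z hz.1 g, map_inv, mul_inv_cancel_right, map_inv, mul_inv_cancel]
      simpa using N.mul_mem (hN3 h5) hz⟩
    have hcab : ∀ x y : P, ⁅x, y⁆ ∈ N := by
      have key : ∀ x y : P, Commute (QuotientGroup.mk' N x) (QuotientGroup.mk' N y) := by
        have hab : Commute (QuotientGroup.mk' N a) (QuotientGroup.mk' N b) := by
          apply commutatorElement_eq_one_iff_commute.1
          rw [← map_commutatorElement]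
          exact (QuotientGroup.eq_one_iff _).2 hcN
        have step : ∀ x : P, Commute (QuotientGroup.mk' N a) (QuotientGroup.mk' N x) ∧
            Commute (QuotientGroup.mk' N b) (QuotientGroup.mk' N x) := by
          intro x
          have := hgen ((Subgroup.centralizer ({QuotientGroup.mk' N a, QuotientGroup.mk' N b} : Set (P ⧸ N))).comap (QuotientGroup.mk' N))
            (by rw [Subgroup.mem_comap, Subgroup.mem_centralizer_iff]; rintro _ (rfl | rfl); exacts [rfl, hab.eq.symm])
            (by rw [Subgroup.mem_comap, Subgroup.mem_centralizer_iff]; rintro _ (rfl | rfl); exacts [hab.eq, rfl])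
          have hx := this.symm ▸ Subgroup.mem_top x
          rw [Subgroup.mem_comap, Subgroup.mem_centralizer_iff] at hx
          exact ⟨hx _ (Or.inl rfl), hx _ (Or.inr rfl)⟩
        intro x y
        have := hgen ((Subgroup.centralizer ({QuotientGroup.mk' N y} : Set (P ⧸ N))).comap (QuotientGroup.mk' N))
          (by rw [Subgroup.mem_comap, Subgroup.mem_centralizer_singleton_iff]; exact (step y).1.eq)
          (by rw [Subgroup.mem_comap, Subgroup.mem_centralizer_singleton_iff]; exact (step y).2.eq)
        have hx := this.symm ▸ Subgroup.mem_top x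
        rw [Subgroup.mem_comap, Subgroup.mem_centralizer_singleton_iff] at hx
        exact hx
      intro x y
      rw [← QuotientGroup.eq_one_iff]
      change QuotientGroup.mk' N ⁅x, y⁆ = 1
      rw [map_commutatorElement]
      exact commutatorElement_eq_one_iff_commute.2 (key x y)
    intro z hz
    have : commutator P ≤ N := by
      rw [commutator_def, Subgroup.commutator_le]
      exact fun x _ y _ => hcab x y
    exact (this hz).2
  have hsq_der : ∀ z ∈ commutator P, π z * π z = 1 := by
    intro z hz
    have hc2 : π c * π c = 1 := by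
      rw [← map_mul, ← sq]; exact (QuotientGroup.eq_one_iff _).2 (hsq_comm a b)
    rcases hder z hz with h | h
    · rw [show π z = 1 from (QuotientGroup.eq_one_iff _).2 h, one_mul]
    · have : π (z * c⁻¹) = 1 := (QuotientGroup.eq_one_iff _).2 h
      rw [map_mul, map_inv, mul_inv_eq_one] at this
      rw [this, hc2]
  have hsqc : ∀ x y : P, (x : Q) = (y : Q) → π (x ^ 2) = π (y ^ 2) := by
    intro x y hxy
    rw [QuotientGroup.eq, hΦ] at hxy
    have hy : y = x * (x⁻¹ * y) := by group
    rw [hy]
    generalize x⁻¹ * y = z at hxy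
    rw [map_pow, map_pow, map_mul, (Commute.mul_pow (hzc z hxy x).symm 2), sq (π z), hsq_der z hxy, mul_one]
  -- every element outside the Frattini subgroup squares to the nontrivial class
  have hnot : ∀ x : P, x ∉ frattini P → x ^ 2 ∉ G3 := by
    intro x hx hx2
    have hall : ∀ y : P, π (y ^ 2) = 1 := by
      intro y
      by_cases hy : y ∈ frattini P
      · rw [hsqc y 1 (((QuotientGroup.eq_one_iff y).2 hy).trans rfl), one_pow, map_one]
      have hx' : (x : Q) ≠ 1 := fun h => hx ((QuotientGroup.eq_one_iff x).1 h)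
      have hy' : (y : Q) ≠ 1 := fun h => hy ((QuotientGroup.eq_one_iff y).1 h)
      obtain ⟨k, hk⟩ := htrans x y hx' hy'
      rw [hiter] at hk
      rw [← hsqc _ _ hk, ← map_pow (α ^ k)]
      refine (QuotientGroup.eq_one_iff _).2 ?_
      have := Subgroup.Characteristic.fixed (H := G3) inferInstance (α ^ k)
      exact (SetLike.ext_iff.1 this (x ^ 2)).2 hx2
    have hcc : commutator P ≤ G3 := by
      rw [commutator_def, Subgroup.commutator_le]
      intro u _ v _
      rw [← QuotientGroup.eq_one_iff]
      change π ⁅u, v⁆ = 1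
      rw [map_commutatorElement]
      have h1 : ∀ w : P, π w * π w = 1 := fun w => by rw [← map_mul, ← sq]; exact hall w
      apply commutatorElement_eq_one_iff_commute.2
      have h2 := h1 (u * v)
      rw [map_mul] at h2
      calc π u * π v = (π u * π v)⁻¹ := (inv_eq_of_mul_eq_one_right h2).symm
        _ = (π v)⁻¹ * (π u)⁻¹ := mul_inv_rev _ _
        _ = π v * π u := by rw [inv_eq_of_mul_eq_one_right (h1 u), inv_eq_of_mul_eq_one_right (h1 v)]
    refine hc2ne ?_
    rw [← hG2]
    refine hstab 1 ?_
    rw [← hG3def, hG2]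
    exact le_antisymm hG3le hcc
  have hsqeq : ∀ x : P, x ∉ frattini P → x ^ 2 * c⁻¹ ∈ G3 := fun x hx =>
    (hder _ (hΦ ▸ Cfsg.Agent.PGroup.pow_mem_frattini hP x)).resolve_left (hnot x hx)
  -- hence the class is two
  have hG3 : G3 = ⊥ := by
    refine hstab 2 (le_antisymm hG4le ?_)
    let π4 := QuotientGroup.mk' G4
    have hz3 : ∀ z ∈ G3, ∀ x : P, Commute (π4 z) (π4 x) := fun z hz x => by
      refine commutatorElement_eq_one_iff_commute.1 ?_
      rw [← map_commutatorElement]
      exact (QuotientGroup.eq_one_iff _).2 (hc4 ▸ Subgroup.commutator_mem_commutator hz (Subgroup.mem_top x))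
    have hout : ∀ x : P, x ∉ frattini P → Commute (π4 c) (π4 x) := by
      intro x hx
      have h1 : Commute (π4 (x ^ 2 * c⁻¹)) (π4 x) := hz3 _ (hsqeq x hx) x
      have h2 : Commute (π4 x ^ 2) (π4 x) := (Commute.refl _).pow_left 2
      have h3 : π4 c = (π4 (x ^ 2 * c⁻¹))⁻¹ * π4 x ^ 2 := by
        rw [map_mul, map_pow, map_inv, mul_inv_rev, inv_inv, inv_mul_cancel_right]
      rw [h3]
      exact h1.inv_left.mul_left h2
    have hK := hgen ((Subgroup.centralizer ({π4 c} : Set (P ⧸ G4))).comap π4)
      (by
        rw [Subgroup.mem_comap, Subgroup.mem_centralizer_singleton_iff]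
        by_cases ha : a ∈ frattini P
        · exfalso
          have := hgen (frattini P ⊔ Subgroup.zpowers b) (Subgroup.mem_sup_left ha)
            (Subgroup.mem_sup_right (Subgroup.mem_zpowers b))
          have hb : Subgroup.zpowers b = ⊤ := frattini_nongenerating (by rwa [sup_comm])
          apply hna
          exact ⟨⟨fun u v => by
            obtain ⟨i, hi⟩ := hb.symm ▸ Subgroup.mem_top u
            obtain ⟨j, hj⟩ := hb.symm ▸ Subgroup.mem_top v
            rw [← hi, ← hj]; exact ((Commute.refl b).zpow_zpow i j).eq⟩⟩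
        · exact (hout a ha).symm.eq)
      (by
        rw [Subgroup.mem_comap, Subgroup.mem_centralizer_singleton_iff]
        by_cases hb : b ∈ frattini P
        · exfalso
          have := hgen (frattini P ⊔ Subgroup.zpowers a) (Subgroup.mem_sup_right (Subgroup.mem_zpowers a))
            (Subgroup.mem_sup_left hb)
          have ha : Subgroup.zpowers a = ⊤ := frattini_nongenerating (by rwa [sup_comm])
          apply hna
          exact ⟨⟨fun u v => by
            obtain ⟨i, hi⟩ := ha.symm ▸ Subgroup.mem_top u
            obtain ⟨j, hj⟩ := ha.symm ▸ Subgroup.mem_top v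
            rw [← hi, ← hj]; exact ((Commute.refl a).zpow_zpow i j).eq⟩⟩
        · exact (hout b hb).symm.eq)
    rw [← hG3def]
    nth_rewrite 1 [← hc3]
    rw [Subgroup.commutator_le]
    intro z hz x _
    rw [← QuotientGroup.eq_one_iff]
    change π4 ⁅z, x⁆ = 1
    rw [map_commutatorElement]
    apply commutatorElement_eq_one_iff_commute.2
    have hcx : Commute (π4 c) (π4 x) := by
      have hx := hK.symm ▸ Subgroup.mem_top x
      rw [Subgroup.mem_comap, Subgroup.mem_centralizer_singleton_iff] at hx
      exact (show Commute (π4 x) (π4 c) from hx).symm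
    rcases hder z hz with h | h
    · exact hz3 z h x
    · have : Commute (π4 (z * c⁻¹) * π4 c) (π4 x) := (hz3 _ h x).mul_left hcx
      rwa [← map_mul, inv_mul_cancel_right] at this
  have hc1 : c ≠ 1 := by
    intro h
    apply hc2ne
    rw [eq_bot_iff]
    intro z hz
    rcases hder z hz with h' | h' <;> rw [hG3, Subgroup.mem_bot] at h'
    · exact h'
    · rw [h, inv_one, mul_one] at h'; exact h'
  have hcc : c * c = 1 := by
    have := hsq_comm a b
    rwa [hG3, Subgroup.mem_bot, sq] at this
  have hder' : ∀ z ∈ commutator P, z = 1 ∨ z = c := fun z hz => by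
    rcases hder z hz with h | h <;> rw [hG3, Subgroup.mem_bot] at h
    · exact Or.inl h
    · exact Or.inr (mul_inv_eq_one.1 h)
  have hcard : Nat.card P = 4 * 2 := by
    rw [← (commutator P).card_mul_index, h4]
    have : Nat.card (commutator P) = 2 := by
      rw [Nat.card_eq_two_iff]
      refine ⟨1, ⟨c, hcm⟩, fun h => hc1 (congrArg Subtype.val h).symm, ?_⟩
      ext z
      simp only [Set.mem_insert_iff, Set.mem_singleton_iff, Set.mem_univ, iff_true]
      exact (hder' z.1 z.2).imp (fun h => Subtype.ext h) (fun h => Subtype.ext h)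
    rw [this]
  have haΦ : a ∉ frattini P := by
    intro ha
    apply hc1
    have h1 : c ∈ G3 := hc3 ▸ Subgroup.commutator_mem_commutator (hΦ ▸ ha) (Subgroup.mem_top b)
    rwa [hG3, Subgroup.mem_bot] at h1
  have hbΦ : b ∉ frattini P := by
    intro hb
    apply hc1
    have h1 : ⁅b, a⁆ ∈ G3 := hc3 ▸ Subgroup.commutator_mem_commutator (hΦ ▸ hb) (Subgroup.mem_top a)
    rw [hG3, Subgroup.mem_bot] at h1
    rw [hc_def, ← commutatorElement_inv, h1, inv_one]
  have hasq : a * a = c := by
    have := hsqeq a haΦ
    rwa [hG3, Subgroup.mem_bot, mul_inv_eq_one, sq] at this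
  have hbsq : b * b = c := by
    have := hsqeq b hbΦ
    rwa [hG3, Subgroup.mem_bot, mul_inv_eq_one, sq] at this
  refine Cfsg.Agent.TwoGroups.equiv_quaternion_of_generators (a := a) (b := b) ?_ hcard ?_ ?_ ?_
  · rw [show 2 * 2 = 2 ^ (1 + 1) by norm_num]
    refine orderOf_eq_prime_pow ?_ ?_
    · simp only [pow_one, sq, hasq]; exact hc1
    · rw [show 2 ^ (1 + 1) = 2 * 2 by norm_num, pow_mul, sq, sq, hasq, hcc]
  · intro hb
    obtain ⟨k, hk⟩ := hb
    apply hc1
    rw [hc_def, ← hk]
    exact commutatorElement_eq_one_iff_commute.2 ((Commute.refl a).zpow_right k)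
  · rw [hbsq, sq, hasq]
  · have h1 : ⁅b, a⁆ = c := by
      rw [← commutatorElement_inv, ← hc_def]; exact inv_eq_of_mul_eq_one_right hcc
    rw [commutatorElement_def] at h1
    calc b * a * b⁻¹ = b * a * b⁻¹ * a⁻¹ * a := by group
      _ = a * a * a := by rw [h1, hasq]
      _ = a⁻¹ := by
        apply eq_inv_of_mul_eq_one_left
        calc a * a * a * a = (a * a) * (a * a) := by group
          _ = 1 := by rw [hasq, hcc]

end Cfsg.Agent.S4189
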