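import Cfsg.Statements.S0667
import Cfsg.Agent.Stability.ZJ
import Cfsg.Agent.Stability.PStable

set_option autoImplicit false
open Cfsg

namespace Cfsg.Agent.S0667

/-- Glauberman's Theorem in the p-constrained, p-stable vocabulary: for odd p such a group is the product of its largest normal subgroup of order prime to p with the normalizer of Z(J(P)), and Z(J(P)) is normal when that p'-subgroup is trivial. -/
theorem result {G : Type*} [Group G] [Finite G] {p : ℕ} [Fact p.Prime] (hp : p ≠ 2) (hc : Cfsg.IsPConstrained p G) (hs : Cfsg.IsPStable p G) (P : Sylow p G) : Cfsg.pPrimeCore p G ⊔ Subgroup.normalizer (Cfsg.centerThompsonAOf ((P : Subgroup G)) : Set G) = ⊤ ∧ (Cfsg.pPrimeCore p G = ⊥ → (Cfsg.centerThompsonAOf ((P : Subgroup G))).Normal) := by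
  have hnormal : ∀ {H : Type _} [Group H] [Finite H], Cfsg.IsPConstrained p H → Cfsg.IsPStable p H →
      Cfsg.pPrimeCore p H = ⊥ → ∀ R : Sylow p H, (Cfsg.centerThompsonAOf (R : Subgroup H)).Normal := by
    intro H _ _ hc' hs' hO R
    have h := (Stability.abFamily p H).sInf_normal hp (CharTwo.cfcon_of_isPConstrained hc' hO)
      (fun Q _ hQ => Stability.isPStableOn_of_isPStable hs' hQ) R
    rw [Modules.centerThompsonAOf_eq_centralizer, ← Modules.sInf_maxAbIn_eq]
    exact h
  refine ⟨?_, fun hO => hnormal hc hs hO P⟩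
  set π := QuotientGroup.mk' (Cfsg.pPrimeCore p G) with hπ
  have hbar : (Cfsg.centerThompsonAOf ((P : Subgroup G).map π)).Normal := by
    have := hnormal ((CharTwo.isPConstrained_iff_of_surjective π
      (QuotientGroup.mk'_surjective _) CharTwo.mk_ker_coprime).1 hc)
      ((Stability.isPStable_iff_quotient hs.2.1).1 hs) Cores.pPrimeCore_quotient_pPrimeCore_eq_bot
      (P.mapSurjective (f := π) (QuotientGroup.mk'_surjective _))
    exact this
  have hmap : (Cfsg.centerThompsonAOf (P : Subgroup G)).map π =
      Cfsg.centerThompsonAOf ((P : Subgroup G).map π) := by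
    have hinj : Function.Injective (π.comp (P : Subgroup G).subtype) := by
      rw [injective_iff_map_eq_one]
      intro x hx
      exact Subtype.ext (Tech.eq_one_of_mem_pPrimeCore_of_isPGroup P.2 x.2
        ((QuotientGroup.eq_one_iff _).1 hx))
    have h1 := Modules.map_centerThompsonAOf (f := (P : Subgroup G).subtype)
      (Subgroup.subtype_injective _) ⊤
    have h2 := Modules.map_centerThompsonAOf hinj ⊤
    rw [← MonoidHom.range_eq_map, Subgroup.range_subtype] at h1
    rw [← Subgroup.map_map, h1, ← Subgroup.map_map, ← MonoidHom.range_eq_map,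
      Subgroup.range_subtype] at h2
    exact h2
  have hN := CharTwo.map_normalizer_mk (O := Cfsg.pPrimeCore p G) Cores.pPrimeCore_coprime
    (P.2.to_le (Modules.centerThompsonAOf_le _) :
      IsPGroup p (Cfsg.centerThompsonAOf (P : Subgroup G)))
  rw [← hπ, hmap] at hN
  haveI := hbar
  rw [Subgroup.normalizer_eq_top (Cfsg.centerThompsonAOf ((P : Subgroup G).map π))] at hN
  have h3 := congrArg (Subgroup.comap π) hN
  rw [Subgroup.comap_map_eq, hπ, QuotientGroup.ker_mk', Subgroup.comap_top, sup_comm] at h3
  exact h3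

end Cfsg.Agent.S0667
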