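import Cfsg.Statements.S3071
import Cfsg.Agent.EvenLocal.ZJFree.Main

set_option autoImplicit false
open Cfsg

namespace Cfsg.Agent.S3071

/-- Let p be an odd prime and S a Sylow p-subgroup of the finite group G such that, for every subgroup P with Z(S) ≤ P ≤ S, the normalizer N_G(P) has no section isomorphic to SL₂(p). Let J(S) be the subgroup generated by the abelian subgroups of S of largest order. Then two elements of S are conjugate in G if and only if they are conjugate in N_G(Z(J(S))). -/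
theorem result {G : Type*} [Group G] [Finite G] {p : ℕ} [Fact p.Prime]
    (hp : p ≠ 2) (S : Sylow p G)
    (hfree : ∀ P : Subgroup G, (S : Subgroup G) ⊓ Subgroup.centralizer ((S : Subgroup G) : Set G) ≤ P → P ≤ S →
      ¬ ∃ (H K : Subgroup G) (hK : (K.subgroupOf H).Normal), H ≤ Subgroup.normalizer (P : Set G) ∧
        Nonempty ((H ⧸ K.subgroupOf H) ≃* Matrix.SpecialLinearGroup (Fin 2) (ZMod p))) :
    ∀ x ∈ S, ∀ y ∈ S, (∃ g : G, g * x * g⁻¹ = y) ↔
      ∃ n ∈ Subgroup.normalizer (Cfsg.centerThompsonAOf (S : Subgroup G) : Set G), n * x * n⁻¹ = y := by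
  have hFree : EvenLocal.ZJFree.Free p G := by
    intro S' Q hQ1 hQ2 K hK f hf
    obtain ⟨g, hg⟩ := Fusion.exists_cj_sylow S' S
    have hP1 : (S : Subgroup G) ⊓ Subgroup.centralizer ((S : Subgroup G) : Set G) ≤ Fusion.cj g Q := by
      intro z hz
      rw [Fusion.mem_cj]
      refine hQ1 ⟨Fusion.mem_cj.mp (hg ▸ hz.1), Subgroup.mem_centralizer_iff.mpr fun w hw => ?_⟩
      have hw' : g * w * g⁻¹ ∈ (S : Subgroup G) := hg ▸ Fusion.conj_mem_cj.mpr hw
      have h1 := Subgroup.mem_centralizer_iff.mp hz.2 _ hw'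
      calc w * (g⁻¹ * z * g) = g⁻¹ * (g * w * g⁻¹ * z) * g := by group
        _ = g⁻¹ * z * g * w := by rw [h1]; group
    refine hfree (Fusion.cj g Q) hP1 ((Fusion.cj_mono g hQ2).trans hg.le) ?_
    set K' := K.map (MulAut.conj g).toMonoidHom with hK'
    let f' : K' →* Matrix.SpecialLinearGroup (Fin 2) (ZMod p) :=
      f.comp (K.equivMapOfInjective (MulAut.conj g).toMonoidHom (MulAut.conj g).injective).symm.toMonoidHom
    have hf' : Function.Surjective f' := hf.comp (MulEquiv.surjective _)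
    have hsub : (f'.ker.map K'.subtype).subgroupOf K' = f'.ker :=
      Subgroup.comap_map_eq_self_of_injective K'.subtype_injective f'.ker
    refine ⟨K', f'.ker.map K'.subtype, hsub.symm ▸ f'.normal_ker, ?_, ?_⟩
    · refine (Subgroup.map_mono hK).trans ?_
      exact (Fusion.cj_normalizer g Q).le
    · haveI : ((f'.ker.map K'.subtype).subgroupOf K').Normal := hsub.symm ▸ f'.normal_ker
      exact ⟨(QuotientGroup.quotientMulEquivOfEq hsub).trans
        (QuotientGroup.quotientKerEquivOfSurjective f' hf')⟩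
  intro x hx y hy
  refine ⟨?_, fun ⟨n, _, hn⟩ => ⟨n, hn⟩⟩
  rintro ⟨g, hg⟩
  have h := EvenLocal.ZJFree.fusIn_free hp G hFree S
  rw [CF.fam_singleton] at h
  obtain ⟨m, hm, he⟩ := CF.agree_of_fusIn_singleton h (Subgroup.zpowers_le.mpr hx)
    (Subgroup.mem_top g) (CF.cj_zpowers_le (by rw [hg]; exact hy))
  refine ⟨m, ?_, (he x (Subgroup.mem_zpowers x)).trans hg⟩
  have := hm.2
  rwa [CF.Nz, Cfsg.Agent.S2794.induced_zjFun] at this

end Cfsg.Agent.S3071
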