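import Cfsg.Statements.S5185
import Mathlib
import Cfsg.Agent.H73.Resistant.Basic
import Cfsg.Agent.H73.SmallEssential.SLTwo
import Cfsg.Agent.H73.SmallEssential.Cubic
-- import your own Cfsg.Agent.* helpers here

set_option autoImplicit false
set_option linter.style.haveILetI false
universe u
open Cfsg

namespace Cfsg.Agent.S5185

/-- Let F be a saturated fusion system over a finite p-group S and H an essential subgroup of order p². Then H is elementary abelian (isomorphic to C_p × C_p) and its F-automorphism group contains a subgroup isomorphic to SL(2,p). -/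
theorem result {Ω : Type u} [Group Ω] {S : Subgroup Ω} [Finite S] (p : ℕ) [Fact p.Prime] (hS : IsPGroup p S)
    (F : Cfsg.FusionSystem S) (hF : F.IsSaturated p) (H : Subgroup Ω) (hH : F.IsEssential p H) (hcard : Nat.card H = p ^ 2) :
    Cfsg.IsElementaryAbelian p H ∧
      ∃ K : Subgroup ↥(F.autGroup H), Nonempty (↥K ≃* Matrix.SpecialLinearGroup (Fin 2) (ZMod p)) := by
  haveI : Finite H := FusionSys.finite_of_le ‹_› hH.1.1
  have hcomm : ∀ a b : H, a * b = b * a := IsPGroup.commutative_of_card_eq_prime_sq hcard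
  have hexp : ∀ a : H, a ^ p = 1 :=
    H73.SmallEssential.abelian_cube_exp hS hF hH hcomm (Or.inl hcard)
  refine ⟨⟨⟨⟨hcomm⟩⟩, fun a ha => congrArg Subtype.val (hexp ⟨a, ha⟩)⟩, ?_⟩
  obtain ⟨g, hg, hgH⟩ := H73.SmallEssential.exists_norm_notMem hS hF hH
  set c := H.normalizerMonoidHom ⟨g, hg.2⟩ with hc
  have hcS : c ∈ autInducedBy S H := FusionSys.mem_autInducedBy.2 ⟨g, hg.1, fun _ => rfl⟩
  have hcA : c ∈ F.autGroup H := FusionSys.autInducedBy_le_autGroup F hH.1.1 hcS
  set P₁ := Subgroup.zpowers c with hP₁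
  have hP₁p : IsPGroup p P₁ :=
    (FusionSys.isPGroup_autInducedBy hS H).to_le (Subgroup.zpowers_le.2 hcS)
  have hnotinn : c ∉ Inn H := fun h =>
    hgH ((FusionAlperin.autInducedBy_mem_inn_iff hH.1 hg).1 h)
  have hcard1 : Nat.card P₁ = p := by
    obtain ⟨Ψ, hΨ⟩ := H73.SmallEssential.exists_embedding hcomm hexp hcard
    obtain ⟨k, hk⟩ := IsPGroup.iff_card.1 hP₁p
    have hle := H73.SmallEssential.card_le_of_isPGroup (hP₁p.map Ψ)
    rw [Subgroup.card_map_of_injective hΨ, hk] at hle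
    refine le_antisymm (hk ▸ hle) (hk ▸ Nat.le_self_pow ?_ p)
    rintro rfl
    rw [pow_zero, Nat.card_zpowers, orderOf_eq_one_iff] at hk
    exact hnotinn (hk ▸ Subgroup.one_mem _)
  obtain ⟨α, hα, hne⟩ : ∃ α ∈ F.autGroup H, P₁.map (MulAut.conj α).toMonoidHom ≠ P₁ := by
    by_contra! hall
    exact hnotinn (FusionAlperin.noOuterPNormal_of_essential hH P₁ (Subgroup.zpowers_le.2 hcA)
      (fun α hα n hn => (hall α hα).le ⟨n, hn, rfl⟩) hP₁p (Subgroup.mem_zpowers c))
  refine H73.SmallEssential.exists_SL_two hcomm hexp hcard (F.autGroup H)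
    (P₁.map (MulAut.conj α).toMonoidHom) P₁ ?_ (Subgroup.zpowers_le.2 hcA) ?_ hcard1 hne
  · rintro _ ⟨n, hn, rfl⟩
    exact Subgroup.mul_mem _ (Subgroup.mul_mem _ hα (Subgroup.zpowers_le.2 hcA hn))
      (Subgroup.inv_mem _ hα)
  · rw [Subgroup.card_map_of_injective (MulAut.conj α).injective, hcard1]

end Cfsg.Agent.S5185
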