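import Cfsg.Agent.Brauer.PrincipalRestriction
import Cfsg.Agent.Brauer.Inflation
import Cfsg.Agent.Lib.Element
import Cfsg.Agent.Char.Nilpotent
import Cfsg.Agent.Char.Linear

set_option autoImplicit false
set_option linter.style.haveILetI false
set_option maxHeartbeats 800000
open Cfsg
open scoped ComplexConjugate

namespace Cfsg.Agent.S4937

open Cfsg.Agent.Block Cfsg.Agent.Brauer Cfsg.Agent.Brauer.PrincipalRes
open Cfsg.Agent.Element (pPart pComplPart)

universe u

variable {G : Type u} [Group G] [Fintype G] {p : ℕ} {M : Ideal AlgInt}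

/-- Membership in the principal block from the restrictions to the subgroups `N⟨v⟩`. -/
theorem mem_principal_of_local (hM : IsPModular p M) (N : Subgroup G) [N.Normal]
    (χ : IrrCharacter G)
    (h : ∀ v : G, ¬ p ∣ orderOf v → ∃ ξ ∈ principalBlock M (N ⊔ Subgroup.zpowers v : Subgroup G),
      ∀ y, (ξ : (N ⊔ Subgroup.zpowers v : Subgroup G) → ℂ) y = (χ : G → ℂ) y) :
    χ ∈ principalBlock M G := by
  classical
  haveI : M.IsPrime := hM.2.1.isPrime
  refine sameBlock_of_regular hM ⟨_, CharInd.irr_one_const⟩ χ fun v hv => ?_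
  obtain ⟨ξ, hξ, hξχ⟩ := h v hv
  obtain ⟨H, hH⟩ : ∃ H, H = (Subgroup.centralizer ({(v : G ⧸ N)} : Set (G ⧸ N))).comap
      (QuotientGroup.mk' N) := ⟨_, rfl⟩
  obtain ⟨J, hJ⟩ : ∃ J, J = N ⊔ Subgroup.zpowers v := ⟨_, rfl⟩
  subst hJ
  have hCH : Subgroup.centralizer ({v} : Set G) ≤ H := hH ▸ centralizer_le_comap_mk N v
  have hvH : v ∈ H := hCH (Subgroup.mem_centralizer_singleton_iff.2 rfl)
  have hJc : N ⊔ Subgroup.zpowers v =
      (Subgroup.zpowers (v : G ⧸ N)).comap (QuotientGroup.mk' N) := by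
    rw [← QuotientGroup.mk'_apply, ← MonoidHom.map_zpowers, Subgroup.comap_map_eq,
      QuotientGroup.ker_mk', sup_comm]
  have hJH : N ⊔ Subgroup.zpowers v ≤ H := by
    refine sup_le (fun n hn => ?_) (by simpa using hvH)
    rw [hH, Subgroup.mem_comap, Subgroup.mem_centralizer_singleton_iff, QuotientGroup.mk'_apply,
      (QuotientGroup.eq_one_iff n).2 hn, one_mul, mul_one]
  haveI : ((N ⊔ Subgroup.zpowers v).subgroupOf H).Normal := by
    refine ⟨fun y hy c => ?_⟩
    rw [Subgroup.mem_subgroupOf, hJc, Subgroup.mem_comap, Subgroup.mem_zpowers_iff] at hy ⊢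
    obtain ⟨i, hi⟩ := hy
    refine ⟨i, ?_⟩
    have hc : Commute (QuotientGroup.mk' N (c : G)) (v : G ⧸ N) := by
      have h := c.2
      simp only [hH] at h
      exact Subgroup.mem_centralizer_singleton_iff.1 h
    push_cast
    rw [map_mul, map_mul, map_inv, ← hi, (hc.zpow_right i).eq, mul_inv_cancel_right]
  haveI := Fintype.ofFinite H
  haveI := Fintype.ofFinite ((N ⊔ Subgroup.zpowers v).subgroupOf H)
  obtain ⟨ξ', hξ'⟩ : ∃ ξ', ξ' = irrComp (Subgroup.subgroupOfEquivOfLe hJH) ξ := ⟨_, rfl⟩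
  have hξ'B : ξ' ∈ principalBlock M ((N ⊔ Subgroup.zpowers v).subgroupOf H) :=
    hξ' ▸ mem_principal_comp _ hξ
  have hξ'χ : (fun y : (N ⊔ Subgroup.zpowers v).subgroupOf H => (χ : G → ℂ) (y : H)) =
      (ξ' : (N ⊔ Subgroup.zpowers v).subgroupOf H → ℂ) := by
    funext y
    rw [hξ', coe_irrComp, Function.comp_apply, hξχ]
    rfl
  have hχH : IsIrrCharacter H (fun x : H => (χ : G → ℂ) x) :=
    CharDeep.isIrr_of_comp (CharInd.isCharacter_res H (Char.isCharacter_of_irr χ.2))
      ((N ⊔ Subgroup.zpowers v).subgroupOf H).subtype (hξ'χ ▸ ξ'.2 : IsIrrCharacter _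
        (fun y : (N ⊔ Subgroup.zpowers v).subgroupOf H => (χ : G → ℂ) (y : H)))
  obtain ⟨one, hone⟩ : ∃ one : IrrCharacter ((N ⊔ Subgroup.zpowers v).subgroupOf H),
      (one : (N ⊔ Subgroup.zpowers v).subgroupOf H → ℂ) = fun _ => 1 := ⟨⟨_, CharInd.irr_one_const⟩, rfl⟩
  have honeB : one ∈ principalBlock M ((N ⊔ Subgroup.zpowers v).subgroupOf H) := by
    show SameBlock M (fun _ : (N ⊔ Subgroup.zpowers v).subgroupOf H => (1 : ℂ))
      (one : (N ⊔ Subgroup.zpowers v).subgroupOf H → ℂ)
    rw [hone]; exact sameBlock_refl _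
  have hvJ : (⟨v, hvH⟩ : H) ∈ (N ⊔ Subgroup.zpowers v).subgroupOf H :=
    Subgroup.mem_sup_right (Subgroup.mem_zpowers v)
  have e1 := centralChar_eq_inducedCentralChar ((N ⊔ Subgroup.zpowers v).subgroupOf H) hχH ξ'.2
    (by rw [hξ'χ, CharInd.classInner_irr_self ξ'.2]; exact one_ne_zero) ⟨_, hvJ⟩
  have e2 := centralChar_eq_inducedCentralChar ((N ⊔ Subgroup.zpowers v).subgroupOf H)
    (χ := fun _ : H => (1 : ℂ)) CharInd.irr_one_const one.2
    (by rw [hone, CharInd.classInner_irr_self CharInd.irr_one_const]; exact one_ne_zero) ⟨_, hvJ⟩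
  have h3 := inducedCentralChar_congr ((N ⊔ Subgroup.zpowers v).subgroupOf H) isPBlock_principal
    honeB hξ'B ⟨v, hvH⟩
  change MemLocalIdeal M (centralChar (fun _ : G => (1 : ℂ)) v - centralChar (χ : G → ℂ) v)
  have key : ∀ f : G → ℂ, centralChar f v =
      (H.index : ℂ) * centralChar (fun x : H => f x) ⟨v, hvH⟩ := by
    intro f
    have hidx : (Subgroup.centralizer ({v} : Set G)).index =
        (Subgroup.centralizer ({⟨v, hvH⟩} : Set H)).index * H.index := by
      rw [← Subgroup.index_map_subtype]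
      congr 1
      ext c
      constructor
      · intro hc
        refine ⟨⟨c, hCH hc⟩, ?_, rfl⟩
        rw [SetLike.mem_coe, Subgroup.mem_centralizer_singleton_iff]
        exact Subtype.ext (Subgroup.mem_centralizer_singleton_iff.1 hc)
      · rintro ⟨c, hc, rfl⟩
        rw [SetLike.mem_coe, Subgroup.mem_centralizer_singleton_iff] at hc
        rw [Subgroup.mem_centralizer_singleton_iff]
        exact congrArg Subtype.val hc
    simp only [centralChar, hidx, OneMemClass.coe_one]
    push_cast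
    ring
  rw [key, key, ← mul_sub]
  refine memLocalIdeal_mul_left (memLocalRing_natCast _) ?_
  rw [e1, e2]
  exact h3

/-- In a nilpotent group the products of `p`-elements are `p`-elements and the products of
`p'`-elements are `p'`-elements. -/
theorem nilpotent_mul {E : Type u} [Group E] [Finite E] [Group.IsNilpotent E] {p : ℕ} (hp : p.Prime)
    {a b : E} : ((∃ i, orderOf a = p ^ i) → (∃ j, orderOf b = p ^ j) → ∃ k, orderOf (a * b) = p ^ k) ∧
    ((orderOf a).Coprime p → (orderOf b).Coprime p → (orderOf (a * b)).Coprime p) := by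
  haveI : Fact p.Prime := ⟨hp⟩
  obtain ⟨P⟩ : Nonempty (Sylow p E) := inferInstance
  haveI : (P : Subgroup E).Normal := inferInstance
  have hmem : ∀ x : E, (∃ i, orderOf x = p ^ i) → x ∈ (P : Subgroup E) := by
    rintro x ⟨i, hi⟩
    refine Element.mem_of_coprime_index ?_
    rw [hi]
    exact (hp.coprime_iff_not_dvd.2 P.not_dvd_index).pow_left i
  refine ⟨fun ha hb => Element.orderOf_eq_pow_of_mem_isPGroup P.isPGroup'
    (mul_mem (hmem a ha) (hmem b hb)), fun ha hb => ?_⟩
  obtain ⟨K, hK⟩ := Subgroup.exists_right_complement'_of_coprime (N := (P : Subgroup E)) P.card_coprime_index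
  have hKi : K.index = Nat.card (P : Subgroup E) := hK.index_eq_card
  have hKc : (Nat.card K).Coprime p := by
    rw [hK.symm.index_eq_card.symm]
    exact (hp.coprime_iff_not_dvd.2 P.not_dvd_index).symm
  haveI : K.Normal := by
    refine ⟨fun k hk c => ?_⟩
    obtain ⟨⟨u, k'⟩, huk, -⟩ := hK.existsUnique c
    have hk2 : (k' : E) * k * (k' : E)⁻¹ ∈ K := mul_mem (mul_mem k'.2 hk) (inv_mem k'.2)
    have hc : Commute (u : E) ((k' : E) * k * (k' : E)⁻¹) := by
      refine Char.nilpotent_commute_of_coprime ?_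
      obtain ⟨i, hi⟩ := Element.orderOf_eq_pow_of_mem_isPGroup P.isPGroup' u.2
      rw [hi]
      exact ((Element.coprime_orderOf_of_mem hKc hk2).symm).pow_left i
    rw [← huk]
    simp only [mul_inv_rev]
    have : (u : E) * (k' : E) * k * ((k' : E)⁻¹ * (u : E)⁻¹) = (k' : E) * k * (k' : E)⁻¹ := by
      calc (u : E) * (k' : E) * k * ((k' : E)⁻¹ * (u : E)⁻¹)
          = (u : E) * ((k' : E) * k * (k' : E)⁻¹) * (u : E)⁻¹ := by group
        _ = _ := by rw [hc.eq, mul_inv_cancel_right]
    rw [this]; exact hk2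
  have hKm : ∀ x : E, (orderOf x).Coprime p → x ∈ K := by
    intro x hx
    refine Element.mem_of_coprime_index ?_
    obtain ⟨i, hi⟩ := IsPGroup.iff_card.1 P.isPGroup'
    rw [hKi, hi]
    exact hx.pow_right i
  exact Element.coprime_orderOf_of_mem hKc (mul_mem (hKm a ha) (hKm b hb))

variable [hp : Fact p.Prime] (N : Subgroup G) [N.Normal] [Fintype N]

/-- The hypotheses of S4937. -/
structure Data (M : Ideal AlgInt) (θ : IrrCharacter N) (ψ : IrrCharacter G) : Prop where
  cover : ∀ L : Subgroup G, N ≤ L → ¬ p ∣ N.relIndex L → Cover p (N.subgroupOf L)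
  mem : θ ∈ principalBlock M N
  ext : ∀ n : N, (ψ : G → ℂ) n = (θ : N → ℂ) n

variable {N} {θ : IrrCharacter N} {ψ : IrrCharacter G}

theorem Data.irr_res (D : Data (p := p) N M θ ψ) (L : Subgroup G) (h : N ≤ L) {f : L → ℂ}
    (hf : ∀ n : N, f ⟨n, h n.2⟩ = (θ : N → ℂ) n) :
    IsIrrCharacter (N.subgroupOf L) (fun n : N.subgroupOf L => f n) := by
  convert Char.isIrrCharacter_comp_mulEquiv θ.2 (Subgroup.subgroupOfEquivOfLe h) using 1
  funext n
  exact hf (Subgroup.subgroupOfEquivOfLe h n)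

/-- The canonical extension and the linear character relating it to `ψ`. -/
theorem Data.exists_factor (D : Data (p := p) N M θ ψ) (hM : IsPModular p M) (L : Subgroup G)
    (h : N ≤ L) (hL : ¬ p ∣ N.relIndex L) :
    ∃ (ξ : IrrCharacter L) (f : L →* ℂˣ), ξ ∈ principalBlock M L ∧
      (∀ n : N, (ξ : L → ℂ) ⟨n, h n.2⟩ = (θ : N → ℂ) n) ∧ (∀ n : L, (n : G) ∈ N → f n = 1) ∧
      ∀ y : L, (ψ : G → ℂ) y = (f y : ℂ) * (ξ : L → ℂ) y := by
  classical
  haveI := Fintype.ofFinite L
  haveI := Fintype.ofFinite (N.subgroupOf L)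
  obtain ⟨ξ, hξ, hres⟩ := exists_ext hM (N.subgroupOf L) (D.cover L h hL)
    (mem_principal_comp (Subgroup.subgroupOfEquivOfLe h) D.mem)
  have hξθ : ∀ n : N, (ξ : L → ℂ) ⟨n, h n.2⟩ = (θ : N → ℂ) n :=
    fun n => congrFun hres ⟨⟨n, h n.2⟩, n.2⟩
  have hψL : IsIrrCharacter L (fun y : L => (ψ : G → ℂ) y) :=
    CharDeep.isIrr_of_comp (CharInd.isCharacter_res L (Char.isCharacter_of_irr ψ.2))
      (N.subgroupOf L).subtype (D.irr_res L h (f := fun y : L => (ψ : G → ℂ) y) fun n => D.ext n)
  have he : (fun r : N.subgroupOf L => (ψ : G → ℂ) ((r : L) : G)) =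
      fun r : N.subgroupOf L => (ξ : L → ℂ) r := by
    funext r
    exact (D.ext ⟨_, r.2⟩).trans (hξθ ⟨_, r.2⟩).symm
  obtain ⟨β, hβ, hinv, hψ⟩ := CharDeep.exists_factor (N.subgroupOf L) ξ.2 (D.irr_res L h hξθ) hψL
    (by rw [he, CharInd.classInner_irr_self (D.irr_res L h hξθ)]; exact one_ne_zero)
  have hβ1 : β 1 = 1 := by
    have h1 := congrFun hψ 1
    simp only [Pi.mul_apply, OneMemClass.coe_one] at h1
    have h2 := D.ext 1
    have h3 := hξθ 1
    simp only [OneMemClass.coe_one] at h2 h3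
    have h4 : (ξ : L → ℂ) 1 = (θ : N → ℂ) 1 := h3
    rw [h2, h4] at h1
    exact mul_right_cancel₀ (Char.irr_one_ne_zero θ.2) (h1.symm.trans (one_mul _).symm)
  obtain ⟨f, hf⟩ := Char.exists_monoidHom_of_degree_one (Char.isCharacter_of_irr hβ) hβ1
  refine ⟨ξ, f, hξ, hξθ, fun n hn => Units.ext ?_, fun y => ?_⟩
  · have := hinv ⟨n, hn⟩ 1
    simp only [mul_one, hβ1] at this
    simpa [hf] using this
  · have := congrFun hψ y
    simpa [hf] using this

/-- Cancellation of twists. -/
theorem cancel (hM : IsPModular p M) {L : Type u} [Group L] [Fintype L] {N : Subgroup L}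
    [N.Normal] (hN : Cover p N) {ξ : IrrCharacter L} (hξ : ξ ∈ principalBlock M L) (f f' : L →* ℂˣ)
    (hf : ∀ n ∈ N, f n = 1) (hf' : ∀ n ∈ N, f' n = 1)
    (h : ∀ y, (f y : ℂ) * (ξ : L → ℂ) y = (f' y : ℂ) * (ξ : L → ℂ) y) : f = f' := by
  have e := twist_trivial hM hN ξ.2 (normed_of_mem hM hξ) (normed_of_mem hM hξ)
    (Char.isIrrCharacter_monoidHom (f / f')) (fun n g => by
      rw [map_mul, MonoidHom.div_apply, hf _ n.2, hf' _ n.2, div_one, one_mul]) (by
      funext y
      rw [Pi.mul_apply, MonoidHom.div_apply, Units.val_div_eq_div_val, div_mul_eq_mul_div, h,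
        mul_div_cancel_left₀ _ (f' y).ne_zero])
  refine MonoidHom.ext fun y => div_eq_one.1 (Units.ext ?_)
  simpa using congrFun e y

theorem relIndex_sup_zpowers (g : G) :
    N.relIndex (N ⊔ Subgroup.zpowers g) ∣ orderOf g := by
  have h := Subgroup.relIndex_ker (f := QuotientGroup.mk' N) (K := N ⊔ Subgroup.zpowers g)
  rw [QuotientGroup.ker_mk'] at h
  rw [h, Subgroup.map_sup, QuotientGroup.map_mk'_self, bot_sup_eq, MonoidHom.map_zpowers,
    Nat.card_zpowers]
  exact orderOf_map_dvd _ g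

/-- The main construction. -/
theorem Data.exists_char (D : Data (p := p) N M θ ψ) (hM : IsPModular p M) :
    ∃ χ : IrrCharacter G, (∀ n : N, (χ : G → ℂ) n = (θ : N → ℂ) n) ∧
      ∀ v : G, ¬ p ∣ orderOf v →
        ∃ ξ ∈ principalBlock M (N ⊔ Subgroup.zpowers v : Subgroup G),
          ∀ y, (ξ : (N ⊔ Subgroup.zpowers v : Subgroup G) → ℂ) y = (χ : G → ℂ) y := by
  classical
  haveI : M.IsPrime := hM.2.1.isPrime
  have hp' : p.Prime := hp.out
  choose ξ f hξ hξθ hfN hψ using D.exists_factor hM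
  have hreg : ∀ g : G, ¬ p ∣ orderOf (pComplPart p g) := fun g =>
    hp'.coprime_iff_not_dvd.1 (Element.coprime_orderOf_pComplPart hp' g).symm
  have hJ : ∀ g : G, ¬ p ∣ N.relIndex (N ⊔ Subgroup.zpowers (pComplPart p g)) := fun g hd =>
    hreg g (hd.trans (relIndex_sup_zpowers _))
  let lam : G → ℂ := fun g => (f _ le_sup_left (hJ g)
    ⟨pComplPart p g, Subgroup.mem_sup_right (Subgroup.mem_zpowers _)⟩ : ℂ)
  -- comparison of two levels
  have hcompat : ∀ (L : Subgroup G) (h : N ≤ L) (hL) (L' : Subgroup G) (h' : N ≤ L') (hL')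
      (hle : L' ≤ L) (y : L'), f L h hL (Subgroup.inclusion hle y) = f L' h' hL' y := by
    intro L h hL L' h' hL' hle
    haveI := Fintype.ofFinite L'
    haveI := Fintype.ofFinite (N.subgroupOf L')
    obtain ⟨g, hg⟩ : ∃ g : L' → ℂ, g = fun x => (ξ L h hL : L → ℂ) (Subgroup.inclusion hle x) :=
      ⟨_, rfl⟩
    have hgθ : ∀ n : N, g ⟨n, h' n.2⟩ = (θ : N → ℂ) n := fun n => by rw [hg]; exact hξθ L h hL n
    have hgi : IsIrrCharacter L' g := CharDeep.isIrr_of_comp
      (hg ▸ Char.isCharacter_comp (Char.isCharacter_of_irr (ξ L h hL).2) (Subgroup.inclusion hle))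
      (N.subgroupOf L').subtype (D.irr_res L' h' hgθ)
    have hgn : Normed p M g := by
      intro v hv
      have h1 := normed_of_mem hM (hξ L h hL) (Subgroup.inclusion hle v) fun hd => ?_
      · rw [hg]; simpa using h1
      · have h2 : (Subgroup.centralizer ({Subgroup.inclusion hle v} : Set L)).index * L.index ∣
            (Subgroup.centralizer ({v} : Set L')).index * L'.index := by
          rw [← Subgroup.index_map_subtype, ← Subgroup.index_map_subtype]
          refine Subgroup.index_dvd_of_le ?_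
          rintro _ ⟨c, hc, rfl⟩
          refine ⟨Subgroup.inclusion hle c, ?_, rfl⟩
          rw [SetLike.mem_coe, Subgroup.mem_centralizer_singleton_iff] at hc ⊢
          simp only [← map_mul, hc]
        rw [← Subgroup.relIndex_mul_index hle, ← mul_assoc] at h2
        have h3 := Nat.dvd_of_mul_dvd_mul_right (Nat.pos_of_ne_zero Subgroup.index_ne_zero_of_finite) h2
        rcases hp'.dvd_mul.1 (hd.trans h3) with h4 | h4
        · exact hv h4
        · exact hL (h4.trans (Dvd.intro_left _ (Subgroup.relIndex_mul_relIndex N L' L h' hle)))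
    have e := eq_of_restrict_eq hM (D.cover L' h' hL') (ξ L' h' hL').2 hgi
      (normed_of_mem hM (hξ L' h' hL')) hgn (D.irr_res L' h' (hξθ L' h' hL')) (by
        rw [show (fun n : N.subgroupOf L' => g n) =
          fun n : N.subgroupOf L' => (ξ L' h' hL' : L' → ℂ) n from
            funext fun n => (hgθ ⟨_, n.2⟩).trans (hξθ L' h' hL' ⟨_, n.2⟩).symm,
          CharInd.classInner_irr_self (D.irr_res L' h' (hξθ L' h' hL'))]
        exact one_ne_zero)
    have hc := cancel hM (D.cover L' h' hL') (hξ L' h' hL')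
      ((f L h hL).comp (Subgroup.inclusion hle)) (f L' h' hL')
      (fun n hn => hfN L h hL _ hn) (fun n hn => hfN L' h' hL' _ hn) fun y => by
        rw [MonoidHom.comp_apply, ← hψ L' h' hL' y, ← congrFun e y, hg]
        exact (hψ L h hL (Subgroup.inclusion hle y)).symm
    exact fun y => DFunLike.congr_fun hc y
  -- value on a level
  have hlamL : ∀ (L : Subgroup G) (h : N ≤ L) (hL) (y : L), lam y = (f L h hL y : ℂ) := by
    intro L h hL y
    have hmem : pComplPart p (y : G) ∈ L :=
      Subgroup.zpowers_le.2 y.2 (Element.pComplPart_mem_zpowers p (y : G))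
    have hmemp : pPart p (y : G) ∈ L :=
      Subgroup.zpowers_le.2 y.2 (Element.pPart_mem_zpowers p (y : G))
    have hN : pPart p (y : G) ∈ N := by
      have h1 : (⟨pPart p (y : G), hmemp⟩ : L) ∈ N.subgroupOf L := by
        refine Element.mem_of_coprime_index ?_
        rw [← Subgroup.orderOf_coe]
        obtain ⟨k, hk⟩ : ∃ k, orderOf (pPart p (y : G)) = p ^ k :=
          ⟨_, Element.orderOf_pPart_eq_pow hp' _⟩
        rw [hk]
        exact (hp'.coprime_iff_not_dvd.2 hL).pow_left k
      exact h1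
    have hle : N ⊔ Subgroup.zpowers (pComplPart p (y : G)) ≤ L := sup_le h (by simpa using hmem)
    have h2 := hcompat L h hL _ le_sup_left (hJ (y : G)) hle
      ⟨pComplPart p (y : G), Subgroup.mem_sup_right (Subgroup.mem_zpowers _)⟩
    show ((f _ le_sup_left (hJ (y : G)) _ : ℂˣ) : ℂ) = _
    rw [← h2]
    congr 1
    have hy : y = (⟨pPart p (y : G), hmemp⟩ : L) * ⟨pComplPart p (y : G), hmem⟩ :=
      Subtype.ext (Element.pPart_mul_pComplPart p (y : G)).symm
    conv_rhs => rw [hy, map_mul, hfN L h hL _ hN, one_mul]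
    rfl
  have hlam1 : lam 1 = 1 := by
    rw [show (1 : G) = ((1 : (N ⊔ Subgroup.zpowers (pComplPart p (1 : G)) : Subgroup G)) : G) from rfl,
      hlamL _ le_sup_left (hJ 1), map_one, Units.val_one]
  have hcl : IsClassFunction G lam := by
    intro g x
    obtain ⟨J, hJe⟩ : ∃ J, J = N ⊔ Subgroup.zpowers (pComplPart p g) := ⟨_, rfl⟩
    have hNJ : N ≤ J := hJe ▸ le_sup_left
    have hLJ : ¬ p ∣ N.relIndex J := hJe ▸ hJ g
    have hgJ : pComplPart p g ∈ J := hJe ▸ Subgroup.mem_sup_right (Subgroup.mem_zpowers _)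
    have hconj : pComplPart p (x * g * x⁻¹) = x * pComplPart p g * x⁻¹ := by
      have := (Element.map_pPart hp' (MulAut.conj x).toMonoidHom g).2
      simpa using this.symm
    have hJ' : N ⊔ Subgroup.zpowers (pComplPart p (x * g * x⁻¹)) =
        J.map (MulAut.conj x).toMonoidHom := by
      rw [hJe, Subgroup.map_sup, MonoidHom.map_zpowers, hconj]
      congr 1
      exact (Subgroup.mem_normalizer_iff_map_conj_eq.1
        (by rw [Subgroup.normalizer_eq_top_iff.2 ‹N.Normal›]; trivial)).symm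
    let e : J ≃* (N ⊔ Subgroup.zpowers (pComplPart p (x * g * x⁻¹)) : Subgroup G) :=
      ((MulAut.conj x).subgroupMap J).trans (MulEquiv.subgroupCongr hJ'.symm)
    have he : ∀ y : J, ((e y : (N ⊔ Subgroup.zpowers (pComplPart p (x * g * x⁻¹)) : Subgroup G)) : G)
        = x * y * x⁻¹ := fun y => rfl
    haveI := Fintype.ofFinite J
    haveI := Fintype.ofFinite (N.subgroupOf J)
    obtain ⟨φ, hφ⟩ : ∃ φ, φ = irrComp e (ξ _ le_sup_left (hJ (x * g * x⁻¹))) := ⟨_, rfl⟩
    have hφB : φ ∈ principalBlock M J := hφ ▸ mem_principal_comp e (hξ _ _ _)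
    have hres : (fun n : N.subgroupOf J => (φ : J → ℂ) n) =
        fun n : N.subgroupOf J => (ξ J hNJ hLJ : J → ℂ) n := by
      funext n
      rw [hφ, coe_irrComp, Function.comp_apply]
      have e1 := hξθ _ le_sup_left (hJ (x * g * x⁻¹)) ⟨x * ((n : J) : G) * x⁻¹,
        ‹N.Normal›.conj_mem _ n.2 x⟩
      rw [← D.ext] at e1
      have e3 : (ψ : G → ℂ) (x * ((n : J) : G) * x⁻¹) = (ψ : G → ℂ) ((n : J) : G) :=
        Char.irr_isClassFunction ψ.2 _ x
      have e2 := hξθ J hNJ hLJ ⟨_, n.2⟩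
      rw [← D.ext] at e2
      exact ((congrArg _ (Subtype.ext (he (n : J)))).trans e1).trans (e3.trans e2.symm)
    have heq := eq_of_restrict_eq hM (D.cover J hNJ hLJ) (ξ J hNJ hLJ).2 φ.2
      (normed_of_mem hM (hξ _ _ _)) (normed_of_mem hM hφB) (D.irr_res J hNJ (hξθ J hNJ hLJ))
      (by rw [hres, CharInd.classInner_irr_self (D.irr_res J hNJ (hξθ J hNJ hLJ))]; exact one_ne_zero)
    have hc := cancel hM (D.cover J hNJ hLJ) (hξ J hNJ hLJ) (f J hNJ hLJ)
      ((f _ le_sup_left (hJ (x * g * x⁻¹))).comp e.toMonoidHom) (fun n hn => hfN J hNJ hLJ n hn)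
      (fun n hn => hfN _ _ _ _ (by
        show x * (n : G) * x⁻¹ ∈ N
        exact ‹N.Normal›.conj_mem _ hn x))
      fun y => by
        rw [← hψ J hNJ hLJ y, ← congrFun heq y, hφ, coe_irrComp, Function.comp_apply,
          MonoidHom.comp_apply, MulEquiv.coe_toMonoidHom, ← hψ _ le_sup_left (hJ (x * g * x⁻¹)) (e y),
          he, Char.irr_isClassFunction ψ.2]
    have h2 := DFunLike.congr_fun hc ⟨pComplPart p g, hgJ⟩
    show ((f _ le_sup_left (hJ (x * g * x⁻¹)) _ : ℂˣ) : ℂ) = ((f _ le_sup_left (hJ g) _ : ℂˣ) : ℂ)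
    subst hJe
    rw [h2]
    simp only [MonoidHom.comp_apply, MulEquiv.coe_toMonoidHom]
    congr 2
    exact Subtype.ext (hconj.trans (he ⟨_, hgJ⟩).symm)
  have hgen : IsGeneralizedCharacter G lam := by
    let S : AddSubgroup (G → ℂ) :=
      { carrier := {f | IsGeneralizedCharacter G f}
        add_mem' := fun ha hb => CharInd.genChar_add ha hb
        zero_mem' := CharInd.genChar_zero
        neg_mem' := fun ha => CharInd.genChar_neg ha }
    refine CharDeep.mem_of_forall_elementary hcl S fun q E η hq hE hη => ?_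
    apply CharInd.genChar_indFun
    refine CharInd.genChar_mul (CharInd.genChar_of_isCharacter hη) ?_
    haveI := Char.isNilpotent_of_isElementary hq hE
    have hmem : ∀ y : E, pComplPart p (y : G) ∈ E := fun y =>
      Subgroup.zpowers_le.2 y.2 (Element.pComplPart_mem_zpowers p (y : G))
    have hmemp : ∀ y : E, pPart p (y : G) ∈ E := fun y =>
      Subgroup.zpowers_le.2 y.2 (Element.pPart_mem_zpowers p (y : G))
    have hmul : ∀ a b : E, pComplPart p ((a : G) * b) = pComplPart p (a : G) * pComplPart p (b : G) := by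
      intro a b
      have hc : ∀ (a b : E), Commute (pPart p (a : G)) (pComplPart p (b : G)) := by
        intro a b
        have := Char.nilpotent_commute_of_coprime (a := (⟨_, hmemp a⟩ : E)) (b := ⟨_, hmem b⟩) (by
          rw [← Subgroup.orderOf_coe, ← Subgroup.orderOf_coe]
          obtain ⟨k, hk⟩ : ∃ k, orderOf (pPart p (a : G)) = p ^ k :=
            ⟨_, Element.orderOf_pPart_eq_pow hp' _⟩
          rw [hk]
          exact ((Element.coprime_orderOf_pComplPart hp' (b : G)).symm).pow_left k)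
        exact congrArg Subtype.val this.eq
      have hcomp : ((pComplPart p (a : G) * pComplPart p (b : G))) =
          ((⟨_, hmem a⟩ * ⟨_, hmem b⟩ : E) : G) := rfl
      obtain ⟨k, hk⟩ := (nilpotent_mul (E := E) hp' (a := ⟨_, hmemp a⟩) (b := ⟨_, hmemp b⟩)).1
        ⟨_, by rw [← Subgroup.orderOf_coe]; exact Element.orderOf_pPart_eq_pow hp' _⟩
        ⟨_, by rw [← Subgroup.orderOf_coe]; exact Element.orderOf_pPart_eq_pow hp' _⟩
      have hco := (nilpotent_mul (E := E) hp' (a := ⟨_, hmem a⟩) (b := ⟨_, hmem b⟩)).2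
        (by rw [← Subgroup.orderOf_coe]; exact Element.coprime_orderOf_pComplPart hp' _)
        (by rw [← Subgroup.orderOf_coe]; exact Element.coprime_orderOf_pComplPart hp' _)
      rw [← Subgroup.orderOf_coe] at hk hco
      refine ((Element.eq_pPart hp' (g := (a : G) * b) ?_ ?_ hk hco).2).symm
      · exact ((hc a a).mul_right (hc a b)).mul_left ((hc b a).mul_right (hc b b))
      · show pPart p (a : G) * pPart p (b : G) * (pComplPart p (a : G) * pComplPart p (b : G)) = _
        conv_rhs => rw [← Element.pPart_mul_pComplPart p (a : G), ← Element.pPart_mul_pComplPart p (b : G)]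
        rw [mul_assoc, ← mul_assoc (pPart p (b : G)), (hc b a).eq, mul_assoc, mul_assoc]
    let π : E →* G :=
      { toFun := fun y => pComplPart p (y : G)
        map_one' := by
          have := Element.pPart_eq_one hp' (g := (1 : G)) (by rw [orderOf_one]; exact Nat.coprime_one_left _)
          exact this.2
        map_mul' := fun a b => hmul a b }
    have hπE : ¬ p ∣ Nat.card π.range := fun hd => by
      obtain ⟨r, hr⟩ := exists_prime_orderOf_dvd_card' p hd
      obtain ⟨y, hy⟩ := r.2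
      refine hreg (y : G) ?_
      rw [show pComplPart p (y : G) = (r : G) from hy, Subgroup.orderOf_coe, hr]
    have hL : ¬ p ∣ N.relIndex (N ⊔ π.range) := by
      have h := Subgroup.relIndex_ker (f := QuotientGroup.mk' N) (K := N ⊔ π.range)
      rw [QuotientGroup.ker_mk'] at h
      rw [h, Subgroup.map_sup, QuotientGroup.map_mk'_self, bot_sup_eq]
      exact fun hd => hπE (hd.trans (Subgroup.card_map_dvd _ _))
    have e : (fun y : E => lam y) = fun y : E =>
        (((f (N ⊔ π.range) le_sup_left hL).comp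
          ((Subgroup.inclusion (le_sup_right : π.range ≤ N ⊔ π.range)).comp π.rangeRestrict)) y : ℂ) := by
      funext y
      rw [MonoidHom.comp_apply, ← hlamL (N ⊔ π.range) le_sup_left hL]
      show ((f _ le_sup_left (hJ (y : G)) _ : ℂˣ) : ℂ) = lam (pComplPart p (y : G))
      exact (hlamL _ le_sup_left (hJ (y : G)) _).symm
    rw [e]
    exact CharInd.genChar_irr (Char.isIrrCharacter_monoidHom _)
  have hnorm : classInner lam lam = 1 := by
    have hone : ∀ g, lam g * conj (lam g) = 1 := by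
      intro g
      show ((f _ le_sup_left (hJ g) _ : ℂˣ) : ℂ) * conj _ = 1
      rw [Complex.mul_conj, Complex.normSq_eq_norm_sq]
      have hu : IsOfFinOrder ((f _ le_sup_left (hJ g)
          ⟨pComplPart p g, Subgroup.mem_sup_right (Subgroup.mem_zpowers _)⟩ : ℂˣ) : ℂ) := by
        exact (Units.coeHom ℂ).isOfFinOrder ((f _ le_sup_left (hJ g)).isOfFinOrder (isOfFinOrder_of_finite _))
      rw [hu.norm_eq_one]
      simp
    simp only [classInner, hone, Finset.sum_const, Finset.card_univ, nsmul_eq_mul, mul_one,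
      ← Nat.card_eq_fintype_card]
    exact inv_mul_cancel₀ (Nat.cast_ne_zero.2 Nat.card_pos.ne')
  have hirr := CharInd.genChar_norm_one_pos hgen hnorm (by rw [hlam1]; simp)
  obtain ⟨Lam, hLam⟩ := Char.exists_monoidHom_of_degree_one (Char.isCharacter_of_irr hirr) hlam1
  refine ⟨⟨_, Char.isIrrCharacter_mul_monoidHom ψ.2 Lam⁻¹⟩, fun n => ?_, fun v hv => ?_⟩
  · have h1 : lam (n : G) = 1 := by
      rw [show (n : G) = ((⟨n, Subgroup.mem_sup_left n.2⟩ :
        (N ⊔ Subgroup.zpowers (pComplPart p (1 : G)) : Subgroup G)) : G) from rfl,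
        hlamL _ le_sup_left (hJ 1), hfN (N ⊔ Subgroup.zpowers (pComplPart p (1 : G))) le_sup_left (hJ 1)
        ⟨n, Subgroup.mem_sup_left n.2⟩ n.2, Units.val_one]
    rw [hLam] at h1
    show _ = (θ : N → ℂ) n
    simp [h1, D.ext n]
  · have hL : ¬ p ∣ N.relIndex (N ⊔ Subgroup.zpowers v) := fun hd =>
      hv (hd.trans (relIndex_sup_zpowers v))
    refine ⟨ξ _ le_sup_left hL, hξ _ _ _, fun y => ?_⟩
    have h1 := hlamL _ le_sup_left hL y
    rw [hLam] at h1
    show _ = _
    simp only [MonoidHom.inv_apply, Units.val_inv_eq_inv_val, h1, hψ _ le_sup_left hL y]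
    field_simp


/-- Let G be a finite group, p a prime, M a maximal ideal of the algebraic integers containing p, N a normal subgroup of G and P a Sylow p-subgroup of N such that G = N·C_G(P). Let θ be an irreducible character in the principal p-block of N that is the restriction of some irreducible character of G. Then θ is the restriction of an irreducible character χ of G lying in the principal p-block of G such that, for every subgroup J of G containing N, the restriction of χ to J is an irreducible character of J lying in the principal p-block of J. -/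
theorem result {G : Type*} [Group G] [Finite G] (p : ℕ) [Fact p.Prime] (M : Ideal Cfsg.AlgInt) (hM : Cfsg.IsPModular p M) (N : Subgroup G) [N.Normal] (P : Sylow p ↥N)
    (hcov : N ⊔ Subgroup.centralizer (((P : Subgroup ↥N).map N.subtype : Subgroup G) : Set G) = ⊤)
    (θ : Cfsg.IrrCharacter ↥N) (hθ : θ ∈ Cfsg.principalBlock M ↥N)
    (hext : ∃ ψ : Cfsg.IrrCharacter G, ∀ x : ↥N, (ψ : G → ℂ) x = (θ : ↥N → ℂ) x) :
    ∃ χ : Cfsg.IrrCharacter G, χ ∈ Cfsg.principalBlock M G ∧ (∀ x : ↥N, (χ : G → ℂ) x = (θ : ↥N → ℂ) x) ∧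
      ∀ J : Subgroup G, N ≤ J → ∃ ξ : Cfsg.IrrCharacter ↥J, ξ ∈ Cfsg.principalBlock M ↥J ∧ ∀ y : ↥J, (ξ : ↥J → ℂ) y = (χ : G → ℂ) y := by
  classical
  haveI : Fact p.Prime := ‹_›
  haveI := Fintype.ofFinite G
  haveI := Fintype.ofFinite N
  obtain ⟨ψ, hψ⟩ := hext
  have hcover : ∀ L : Subgroup G, N ≤ L → ¬ p ∣ N.relIndex L → Cover p (N.subgroupOf L) := by
    intro L hNL hidx
    refine ⟨hidx, fun g => ?_⟩
    have hg : (g : G) ∈ N ⊔ Subgroup.centralizer (((P : Subgroup ↥N).map N.subtype : Subgroup G) : Set G) :=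
      hcov ▸ Subgroup.mem_top _
    obtain ⟨n, hn, c, hc, hgc⟩ := Subgroup.mem_sup_of_normal_left.1 hg
    refine ⟨⟨n⁻¹, hNL (inv_mem hn)⟩, inv_mem hn, fun hd => ?_⟩
    have hle : ((P : Subgroup ↥N).map N.subtype).subgroupOf L ≤
        Subgroup.centralizer ({(⟨n⁻¹, hNL (inv_mem hn)⟩ : L) * g} : Set L) := by
      intro x hx
      rw [Subgroup.mem_centralizer_singleton_iff]
      refine Subtype.ext ?_
      show (x : G) * (n⁻¹ * (g : G)) = n⁻¹ * (g : G) * x
      rw [← hgc, inv_mul_cancel_left]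
      exact Subgroup.mem_centralizer_iff.1 hc x hx
    have h1 := hd.trans (Subgroup.index_dvd_of_le hle)
    change p ∣ ((P : Subgroup ↥N).map N.subtype).relIndex L at h1
    rw [← Subgroup.relIndex_mul_relIndex _ N L (Subgroup.map_subtype_le _) hNL,
      Subgroup.relIndex, Subgroup.subgroupOf,
      Subgroup.comap_map_eq_self_of_injective N.subtype_injective] at h1
    rcases (Fact.out : p.Prime).dvd_mul.1 h1 with h | h
    · exact P.not_dvd_index (by simpa using h)
    · exact hidx h
  have D : Data (p := p) N M θ ψ := ⟨hcover, hθ, hψ⟩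
  obtain ⟨χ, hχN, hloc⟩ := D.exists_char hM
  refine ⟨χ, mem_principal_of_local hM N χ hloc, hχN, fun J hJ => ?_⟩
  haveI := Fintype.ofFinite J
  haveI := Fintype.ofFinite (N.subgroupOf J)
  have hirr : IsIrrCharacter J (fun y : J => (χ : G → ℂ) y) :=
    CharDeep.isIrr_of_comp (CharInd.isCharacter_res J (Char.isCharacter_of_irr χ.2))
      (N.subgroupOf J).subtype (D.irr_res J hJ (f := fun y : J => (χ : G → ℂ) y) hχN)
  refine ⟨⟨_, hirr⟩, mem_principal_of_local hM (N.subgroupOf J) _ fun v hv => ?_, fun y => rfl⟩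
  obtain ⟨ξ, hξ, hξχ⟩ := hloc (v : G) (by rwa [Subgroup.orderOf_coe])
  have he : (N.subgroupOf J ⊔ Subgroup.zpowers v).map J.subtype = N ⊔ Subgroup.zpowers (v : G) := by
    rw [Subgroup.map_sup, Subgroup.subgroupOf_map_subtype, inf_eq_left.2 hJ, MonoidHom.map_zpowers]
    rfl
  let e : (N.subgroupOf J ⊔ Subgroup.zpowers v : Subgroup J) ≃* (N ⊔ Subgroup.zpowers (v : G) : Subgroup G) :=
    (Subgroup.equivMapOfInjective _ J.subtype J.subtype_injective).trans (MulEquiv.subgroupCongr he)
  refine ⟨irrComp e ξ, mem_principal_comp e hξ, fun y => ?_⟩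
  rw [coe_irrComp, Function.comp_apply, hξχ]
  rfl

end Cfsg.Agent.S4937
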