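import Cfsg.Statements.S0213
import Cfsg.Agent.Invol.Counting

set_option autoImplicit false
open Cfsg

namespace Cfsg.Agent.S0213

theorem conj_count {G : Type*} [Group G] [Finite G] (a b x z : G) (hxz : IsConj x z) :
    Nat.card {p : G × G // IsConj a p.1 ∧ IsConj b p.2 ∧ z ∈ Subgroup.zpowers (p.1 * p.2)} =
      Nat.card {p : G × G // IsConj a p.1 ∧ IsConj b p.2 ∧ x ∈ Subgroup.zpowers (p.1 * p.2)} := by
  obtain ⟨c, rfl⟩ := isConj_iff.1 hxz
  have hmem : ∀ (e u v w : G), u ∈ Subgroup.zpowers (v * w) →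
      e * u * e⁻¹ ∈ Subgroup.zpowers (e * v * e⁻¹ * (e * w * e⁻¹)) := fun e u v w h => by
    obtain ⟨k, rfl⟩ := h
    refine ⟨k, ?_⟩
    simp only
    rw [show e * v * e⁻¹ * (e * w * e⁻¹) = e * (v * w) * e⁻¹ by group, conj_zpow]
  refine Nat.card_congr
    { toFun := fun p => ⟨(c⁻¹ * p.1.1 * c, c⁻¹ * p.1.2 * c), ?_, ?_, ?_⟩
      invFun := fun p => ⟨(c * p.1.1 * c⁻¹, c * p.1.2 * c⁻¹), ?_, ?_, hmem c _ _ _ p.2.2.2⟩
      left_inv := fun p => Subtype.ext (Prod.ext (by simp [mul_assoc]) (by simp [mul_assoc]))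
      right_inv := fun p => Subtype.ext (Prod.ext (by simp [mul_assoc]) (by simp [mul_assoc])) }
  · exact p.2.1.trans (isConj_iff.2 ⟨c⁻¹, by group⟩)
  · exact p.2.2.1.trans (isConj_iff.2 ⟨c⁻¹, by group⟩)
  · have := hmem c⁻¹ _ _ _ p.2.2.2
    simpa [mul_assoc] using this
  · exact p.2.1.trans (Invol.isConj_conj c _)
  · exact p.2.2.1.trans (Invol.isConj_conj c _)

/-- Thompson Order Formula, two-class case: if every involution of the finite group G is conjugate to exactly one of the non-conjugate involutions x₁, x₂, and nᵢ is the number of pairs (u, v) with u conjugate to x₁, v conjugate to x₂ and xᵢ in the cyclic group generated by uv, then |G| = |C(x₂)| n₁ + |C(x₁)| n₂. -/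
theorem result {G : Type*} [Group G] [Finite G] (x₁ x₂ : G) (h₁ : orderOf x₁ = 2) (h₂ : orderOf x₂ = 2) (hnc : ¬ IsConj x₁ x₂) (hall : ∀ t : G, orderOf t = 2 → IsConj x₁ t ∨ IsConj x₂ t) : Nat.card G = Nat.card (Subgroup.centralizer ({x₂} : Set G)) * Nat.card {p : G × G // IsConj x₁ p.1 ∧ IsConj x₂ p.2 ∧ x₁ ∈ Subgroup.zpowers (p.1 * p.2)} + Nat.card (Subgroup.centralizer ({x₁} : Set G)) * Nat.card {p : G × G // IsConj x₁ p.1 ∧ IsConj x₂ p.2 ∧ x₂ ∈ Subgroup.zpowers (p.1 * p.2)} := by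
  classical
  have : Fintype G := Fintype.ofFinite G
  set A := {u : G // IsConj x₁ u}
  set B := {u : G // IsConj x₂ u}
  let n : G → ℕ := fun z =>
    Nat.card {p : G × G // IsConj x₁ p.1 ∧ IsConj x₂ p.2 ∧ z ∈ Subgroup.zpowers (p.1 * p.2)}
  let Z := {z : G // orderOf z = 2}
  have h2 : ∀ p : {p : G × G // IsConj x₁ p.1 ∧ IsConj x₂ p.2},
      ∃! z : Z, z.1 ∈ Subgroup.zpowers (p.1.1 * p.1.2) := by
    rintro ⟨⟨u, v⟩, hu, hv⟩
    have hu2 := (Invol.orderOf_eq_of_isConj hu).symm.trans h₁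
    have hv2 := (Invol.orderOf_eq_of_isConj hv).symm.trans h₂
    have he := Invol.even_of_not_isConj hu2 hv2 fun h => hnc (hu.trans (h.trans hv.symm))
    refine ⟨⟨_, Invol.pow_half_eq_two (orderOf_pos _) he⟩, Subgroup.npow_mem_zpowers _ _, ?_⟩
    rintro ⟨z, hz⟩ hzm
    apply Subtype.ext
    obtain ⟨k, rfl⟩ := hzm
    obtain ⟨m, hm⟩ := he
    have h1 : (u * v) ^ (k + k) = 1 := by
      simp only at hz
      rw [zpow_add, Invol.inv_mul_self hz]
    rw [← orderOf_dvd_iff_zpow_eq_one, hm] at h1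
    push_cast at h1
    obtain ⟨j, hj⟩ := h1
    have hk : k = (m : ℤ) * j := by linarith
    simp only at hz ⊢
    simp only at hm
    rw [show orderOf (u * v) / 2 = m by omega, ← zpow_natCast]
    rcases Int.even_or_odd j with ⟨i, rfl⟩ | ⟨i, rfl⟩
    · exfalso
      have : (u * v) ^ k = 1 := orderOf_dvd_iff_zpow_eq_one.1 ⟨i, by rw [hm, hk]; push_cast; ring⟩
      rw [this, orderOf_one] at hz
      omega
    · rw [hk, show (m : ℤ) * (2 * i + 1) = ((orderOf (u * v) : ℕ) : ℤ) * i + m by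
        rw [hm]; push_cast; ring, zpow_add, zpow_mul, zpow_natCast, pow_orderOf_eq_one, one_zpow,
        one_mul]
  have e1 : A × B ≃ Σ z : Z, {p : G × G // IsConj x₁ p.1 ∧ IsConj x₂ p.2 ∧
      z.1 ∈ Subgroup.zpowers (p.1 * p.2)} :=
    { toFun := fun q => ⟨(h2 ⟨(q.1.1, q.2.1), q.1.2, q.2.2⟩).choose, (q.1.1, q.2.1), q.1.2, q.2.2,
        (h2 ⟨(q.1.1, q.2.1), q.1.2, q.2.2⟩).choose_spec.1⟩
      invFun := fun s => (⟨s.2.1.1, s.2.2.1⟩, ⟨s.2.1.2, s.2.2.2.1⟩)
      left_inv := fun q => rfl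
      right_inv := fun s => by
        obtain ⟨z, ⟨u, v⟩, hu, hv, hz⟩ := s
        obtain rfl := ((h2 ⟨(u, v), hu, hv⟩).choose_spec.2 z hz)
        rfl }
  have hsum : Nat.card A * Nat.card B = Nat.card A * n x₁ + Nat.card B * n x₂ := by
    rw [← Nat.card_prod, Nat.card_congr e1, Nat.card_sigma]
    show ∑ z : Z, n z.1 = _
    rw [← Finset.sum_filter_add_sum_filter_not Finset.univ (fun z : Z => IsConj x₁ z.1)]
    congr 1
    · rw [Finset.sum_const_nat (m := n x₁) fun z hz => ?_]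
      · congr 1
        rw [← Fintype.card_subtype, ← Nat.card_eq_fintype_card]
        exact Nat.card_congr
          { toFun := fun z => ⟨z.1.1, z.2⟩
            invFun := fun a => ⟨⟨a.1, (Invol.orderOf_eq_of_isConj a.2).symm.trans h₁⟩, a.2⟩
            left_inv := fun z => rfl
            right_inv := fun a => rfl }
      · exact conj_count x₁ x₂ x₁ z.1 (Finset.mem_filter.1 hz).2
    · rw [Finset.sum_const_nat (m := n x₂) fun z hz => ?_]
      · congr 1
        rw [← Fintype.card_subtype, ← Nat.card_eq_fintype_card]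
        exact Nat.card_congr
          { toFun := fun z => ⟨z.1.1, (hall z.1.1 z.1.2).resolve_left z.2⟩
            invFun := fun a => ⟨⟨a.1, (Invol.orderOf_eq_of_isConj a.2).symm.trans h₂⟩,
              fun h => hnc (h.trans a.2.symm)⟩
            left_inv := fun z => rfl
            right_inv := fun a => rfl }
      · exact conj_count x₁ x₂ x₂ z.1 ((hall z.1 z.2).resolve_left (Finset.mem_filter.1 hz).2)
  have hA := Invol.card_isConj_mul x₁
  have hB := Invol.card_isConj_mul x₂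
  set c₁ := Nat.card (Subgroup.centralizer ({x₁} : Set G))
  set c₂ := Nat.card (Subgroup.centralizer ({x₂} : Set G))
  apply Nat.eq_of_mul_eq_mul_left (Nat.card_pos (α := G))
  calc Nat.card G * Nat.card G = Nat.card A * Nat.card B * (c₁ * c₂) := by
        nth_rewrite 1 [← hA]; rw [← hB]; ring
    _ = (Nat.card A * n x₁ + Nat.card B * n x₂) * (c₁ * c₂) := by rw [hsum]
    _ = Nat.card A * c₁ * (c₂ * n x₁) + Nat.card B * c₂ * (c₁ * n x₂) := by ring
    _ = Nat.card G * (c₂ * n x₁) + Nat.card G * (c₁ * n x₂) := by rw [hA, hB]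
    _ = _ := (Nat.mul_add _ _ _).symm

end Cfsg.Agent.S0213
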