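import Cfsg.Statements.S3681


set_option autoImplicit false
open Cfsg

namespace Cfsg.Agent.S3681

/-- Bochert's bound for primitive groups. Let a finite group G act faithfully and primitively on a finite set Ω with n elements, and suppose the image of G in the symmetric group of Ω does not contain the alternating group of Ω. Then |G| · ⌊(n + 1)/2⌋! ≤ n!, that is, the index of G in the symmetric group is at least ⌊(n + 1)/2⌋!. -/
theorem result {G Ω : Type*} [Group G] [Finite G] [MulAction G Ω] [FaithfulSMul G Ω] [Fintype Ω] [DecidableEq Ω]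
    (hprim : MulAction.IsPreprimitive G Ω) (hA : ¬ alternatingGroup Ω ≤ (MulAction.toPermHom G Ω).range) :
    Nat.card G * Nat.factorial ((Fintype.card Ω + 1) / 2) ≤ Nat.factorial (Fintype.card Ω) := by
  classical
  have hai : ∀ (f : Equiv.Perm Ω) (x : Ω), f (f⁻¹ x) = x := fun f x => f.apply_symm_apply x
  have hia : ∀ (f : Equiv.Perm Ω) (x : Ω), f⁻¹ (f x) = x := fun f x => f.symm_apply_apply x
  set n := Fintype.card Ω
  let K := (MulAction.toPermHom G Ω).range
  have hinj : Function.Injective (MulAction.toPermHom G Ω) := MulAction.toPerm_injective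
  have hKcard : Nat.card G = Nat.card K :=
    Nat.card_congr (MonoidHom.ofInjective hinj).toEquiv
  haveI hKprim : MulAction.IsPreprimitive K Ω := by
    haveI := hprim
    let φ : G → K := fun g => ⟨MulAction.toPermHom G Ω g, g, rfl⟩
    let f : Ω →ₑ[φ] Ω := ⟨id, fun g x => rfl⟩
    exact MulAction.IsPreprimitive.of_surjective (f := f) Function.surjective_id
  -- a base of minimal size
  let S := (Finset.univ : Finset (Finset Ω)).filter fun Δ => ∀ k ∈ K, (∀ x ∈ Δ, k x = x) → k = 1
  have hS : S.Nonempty := ⟨Finset.univ, by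
    simp only [S, Finset.mem_filter, Finset.mem_univ, true_and]
    exact fun k _ h => Equiv.ext fun x => h x trivial⟩
  obtain ⟨Δ, hΔ, hmin⟩ := S.exists_min_image Finset.card hS
  simp only [S, Finset.mem_filter, Finset.mem_univ, true_and] at hΔ
  have hbound : Nat.card K ≤ n.descFactorial Δ.card := by
    have : n.descFactorial Δ.card = Nat.card (↥Δ ↪ Ω) := by
      rw [Nat.card_eq_fintype_card, Fintype.card_embedding_eq, Fintype.card_coe]
    rw [this]
    refine Nat.card_le_card_of_injective (fun k : K => ⟨fun x : ↥Δ => (k : Equiv.Perm Ω) x,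
      fun x y hxy => Subtype.ext ((k : Equiv.Perm Ω).injective hxy)⟩) ?_
    intro k l hkl
    apply Subtype.ext
    have h1 := hΔ ((l : Equiv.Perm Ω)⁻¹ * k) (mul_mem (inv_mem l.2) k.2) fun x hx => by
      have : (k : Equiv.Perm Ω) x = (l : Equiv.Perm Ω) x := DFunLike.congr_fun hkl ⟨x, hx⟩
      rw [Equiv.Perm.mul_apply, this, hia]
    exact (inv_mul_eq_one.1 h1).symm
  have hhalf : (n + 1) / 2 ≤ n - Δ.card := by
    by_contra hlt
    apply hA
    have hcompl : (Finset.univ \ Δ).card = n - Δ.card := by
      rw [Finset.card_sdiff_of_subset (Finset.subset_univ _), Finset.card_univ]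
    have hlt2 : (Finset.univ \ Δ).card < Δ.card := by
      have := Δ.card_le_univ
      omega
    obtain ⟨g, hg, hgfix, hg1⟩ : ∃ g ∈ K, (∀ x ∈ Finset.univ \ Δ, g x = x) ∧ g ≠ 1 := by
      by_contra hc
      push Not at hc
      have := hmin (Finset.univ \ Δ) (by simp only [S, Finset.mem_filter, Finset.mem_univ, true_and]; exact hc)
      omega
    have hgfix' : ∀ x, x ∉ Δ → g x = x := fun x hx => hgfix x (by simp [hx])
    obtain ⟨a, hga⟩ : ∃ a, g a ≠ a := by
      by_contra hc
      push Not at hc
      exact hg1 (Equiv.ext hc)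
    have haΔ : a ∈ Δ := by
      by_contra h
      exact hga (hgfix' a h)
    obtain ⟨h, hh, hhfix, hh1⟩ : ∃ h ∈ K, (∀ x ∈ Δ.erase a, h x = x) ∧ h ≠ 1 := by
      by_contra hc
      push Not at hc
      have := hmin (Δ.erase a) (by simp only [S, Finset.mem_filter, Finset.mem_univ, true_and]; exact hc)
      have := Finset.card_erase_lt_of_mem haΔ
      omega
    have hhfix' : ∀ x ∈ Δ, x ≠ a → h x = x := fun x hx hxa => hhfix x (Finset.mem_erase.2 ⟨hxa, hx⟩)
    have hha : h a ≠ a := fun he => hh1 (hΔ h hh fun x hx => by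
      rcases eq_or_ne x a with rfl | hxa
      · exact he
      · exact hhfix' x hx hxa)
    set b := h a with hb
    set c := g a with hc
    have hbΔ : b ∉ Δ := fun hbm => hha (h.injective (hhfix' b hbm hha))
    have hcΔ : c ∈ Δ := by
      by_contra h'
      exact hga (g.injective (hgfix' c h'))
    have hbc : b ≠ c := fun e => hbΔ (e ▸ hcΔ)
    have heq : g * h * g⁻¹ * h⁻¹ = Equiv.swap a b * Equiv.swap a c := by
      ext y
      simp only [Equiv.Perm.mul_apply]
      by_cases hyΔ : y ∈ Δ
      · by_cases hya : y = a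
        · subst hya
          have h1 : h⁻¹ y ∉ Δ := by
            intro hm
            by_cases he : h⁻¹ y = y
            · exact hha (by rw [hb]; nth_rw 1 [← he]; exact hai _ _)
            · have := hhfix' _ hm he
              rw [hai] at this
              exact he this.symm
          have h2 : g⁻¹ (h⁻¹ y) = h⁻¹ y := Equiv.Perm.inv_eq_iff_eq.2 (hgfix' _ h1).symm
          rw [h2, hai, ← hc, Equiv.swap_apply_left,
            Equiv.swap_apply_of_ne_of_ne hga hbc.symm]
        · have h1 : h⁻¹ y = y := Equiv.Perm.inv_eq_iff_eq.2 (hhfix' y hyΔ hya).symm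
          rw [h1]
          by_cases hyc : y = c
          · subst hyc
            rw [hc, hia, ← hb, hgfix' b hbΔ, Equiv.swap_apply_right,
              Equiv.swap_apply_left]
          · have h2 : g⁻¹ y ∈ Δ := by
              by_contra hm
              have := hgfix' _ hm
              rw [hai] at this
              exact hm (this ▸ hyΔ)
            have h3 : g⁻¹ y ≠ a := fun he => hyc (by rw [hc, ← he, hai])
            rw [hhfix' _ h2 h3, hai, Equiv.swap_apply_of_ne_of_ne hya hyc,
              Equiv.swap_apply_of_ne_of_ne hya (fun e : y = b => hbΔ (e ▸ hyΔ))]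
      · have hyc : y ≠ c := fun e => hyΔ (e ▸ hcΔ)
        have hya : y ≠ a := fun e => hyΔ (e ▸ haΔ)
        by_cases hyb : y = b
        · subst hyb
          have h1 : g⁻¹ a ∈ Δ := by
            by_contra hm
            have := hgfix' _ hm
            rw [hai] at this
            exact hm (this ▸ haΔ)
          have h2 : g⁻¹ a ≠ a := fun e => hga (by rw [hc]; nth_rw 1 [← e]; exact hai _ _)
          rw [hb, hia, hhfix' _ h1 h2, hai, ← hb,
            Equiv.swap_apply_of_ne_of_ne hya hyc, Equiv.swap_apply_right]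
        · have h0 : h⁻¹ y ≠ a := fun e => hyb (by rw [hb, ← e, hai])
          have h1 : h⁻¹ y ∉ Δ := fun hm => by
            have := hhfix' _ hm h0
            rw [hai] at this
            exact hyΔ (this ▸ hm)
          have h2 : g⁻¹ (h⁻¹ y) = h⁻¹ y := Equiv.Perm.inv_eq_iff_eq.2 (hgfix' _ h1).symm
          rw [h2, hai, hgfix' y hyΔ, Equiv.swap_apply_of_ne_of_ne hya hyc,
            Equiv.swap_apply_of_ne_of_ne hya hyb]
    exact Equiv.Perm.alternatingGroup_le_of_isPreprimitive_of_isThreeCycle_mem hKprim
      (g := g * h * g⁻¹ * h⁻¹) (heq ▸ Equiv.Perm.isThreeCycle_swap_mul_swap_same (Ne.symm hha) (Ne.symm hga) hbc)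
      (mul_mem (mul_mem (mul_mem hg hh) (inv_mem hg)) (inv_mem hh))
  calc Nat.card G * Nat.factorial ((n + 1) / 2) ≤ n.descFactorial Δ.card * Nat.factorial (n - Δ.card) :=
        Nat.mul_le_mul (hKcard ▸ hbound) (Nat.factorial_le hhalf)
    _ = Nat.factorial n := by rw [mul_comm, Nat.factorial_mul_descFactorial Δ.card_le_univ]

end Cfsg.Agent.S3681
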