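import Cfsg.Statements.S3620
import Cfsg.Agent.PrimStruct.Marggraff
-- import your own Cfsg.Agent.* helpers here

set_option autoImplicit false
open Cfsg

set_option linter.style.haveILetI false

namespace Cfsg.Agent.S3620

/-- Let G act faithfully on a finite set in such a way that every non-trivial normal subgroup of G is transitive (G is quasiprimitive). Let Γ be a subset with more than one point and fewer than half of the points, such that the pointwise stabilizer of the complement of Γ acts transitively on Γ. Then G induces every even permutation of the set (G is the alternating or the symmetric group). -/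
theorem result {G Ω : Type*} [Group G] [Finite G] [MulAction G Ω] [FaithfulSMul G Ω] [Fintype Ω] [DecidableEq Ω]
    (hqp : ∀ N : Subgroup G, N.Normal → N ≠ ⊥ → MulAction.IsPretransitive ↥N Ω)
    (Γ : Set Ω) (hΓ1 : 1 < Γ.ncard) (hΓ2 : 2 * Γ.ncard < Fintype.card Ω)
    (hJ : MulAction.IsPretransitive ↥(fixingSubgroup G Γᶜ) ↥(SubMulAction.ofFixingSubgroup G Γᶜ)) :
    ∀ σ : Equiv.Perm Ω, Equiv.Perm.sign σ = 1 → ∃ x : G, (MulAction.toPerm x : Equiv.Perm Ω) = σ := by
  classical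
  intro σ hσ
  haveI : Nontrivial Ω := by
    obtain ⟨x, -, y, -, hxy⟩ := (Set.one_lt_ncard_iff_nontrivial).mp hΓ1
    exact ⟨x, y, hxy⟩
  set K := fixingSubgroup G Γᶜ with hKdef
  have hKfix : ∀ k ∈ K, ∀ x, x ∉ Γ → k • x = x := fun k hk x hx =>
    (mem_fixingSubgroup_iff G).mp hk x hx
  have hKmem : ∀ k ∈ K, ∀ x ∈ Γ, k • x ∈ Γ := fun k hk x hx => by
    by_contra hn
    have h1 := hKfix k hk _ hn
    exact hn (by rw [smul_left_cancel k h1]; exact hx)
  have hKtr : ∀ x ∈ Γ, ∀ y ∈ Γ, ∃ k ∈ K, k • x = y := by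
    intro x hx y hy
    obtain ⟨⟨k, hk⟩, he⟩ := MulAction.exists_smul_eq K
      (⟨x, fun h => h hx⟩ : SubMulAction.ofFixingSubgroup G Γᶜ)
      (⟨y, fun h => h hy⟩ : SubMulAction.ofFixingSubgroup G Γᶜ)
    exact ⟨k, hk, congrArg Subtype.val he⟩
  obtain ⟨x₀, hx₀, y₀, hy₀, hxy⟩ := (Set.one_lt_ncard_iff_nontrivial).mp hΓ1
  obtain ⟨k₀, hk₀, hk₀x⟩ := hKtr x₀ hx₀ y₀ hy₀
  have hk₀1 : k₀ ≠ 1 := fun e => hxy (by rw [← hk₀x, e, one_smul])
  haveI htransG : MulAction.IsPretransitive G Ω := by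
    haveI := hqp ⊤ inferInstance (fun e => hk₀1 ((Subgroup.mem_bot).mp (e ▸ Subgroup.mem_top k₀)))
    exact ⟨fun x y => by
      obtain ⟨g, hg⟩ := MulAction.exists_smul_eq (⊤ : Subgroup G) x y
      exact ⟨g, hg⟩⟩
  obtain ⟨M, hM, hle⟩ := (eq_top_or_exists_le_coatom (MulAction.stabilizer G x₀)).resolve_left
    (fun e => by
      have h1 : k₀ ∈ MulAction.stabilizer G x₀ := e ▸ Subgroup.mem_top _
      exact hxy ((show k₀ • x₀ = x₀ from h1).symm.trans hk₀x))
  choose t ht using fun x : Ω => MulAction.exists_smul_eq G x₀ x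
  let π : Ω → G ⧸ M := fun x => (t x : G ⧸ M)
  have hπ : ∀ (g : G) (x : Ω), π (g • x) = g • π x := by
    intro g x
    refine (QuotientGroup.eq (s := M)).mpr (hle ?_)
    change ((t (g • x))⁻¹ * (g * t x)) • x₀ = x₀
    rw [mul_smul, mul_smul, ht, inv_smul_eq_iff, ht]
  have hsurj : Function.Surjective π := fun c => by
    induction c using QuotientGroup.induction_on with
    | _ g =>
      refine ⟨g • x₀, (QuotientGroup.eq (s := M)).mpr (hle ?_)⟩
      change ((t (g • x₀))⁻¹ * g) • x₀ = x₀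
      rw [mul_smul, inv_smul_eq_iff, ht]
  haveI : FaithfulSMul G (G ⧸ M) := by
    have hcore : M.normalCore = ⊥ := by
      by_contra hne
      haveI := hqp M.normalCore inferInstance hne
      refine hM.1 (eq_top_iff.mpr fun g _ => ?_)
      obtain ⟨⟨u, hu⟩, hux⟩ := MulAction.exists_smul_eq M.normalCore x₀ (g • x₀)
      have h1 : u⁻¹ * g ∈ M := hle (show (u⁻¹ * g) • x₀ = x₀ by
        rw [mul_smul, inv_smul_eq_iff]; exact hux.symm)
      simpa using M.mul_mem (M.normalCore_le hu) h1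
    refine ⟨fun {g h} he => ?_⟩
    have h1 : h⁻¹ * g ∈ M.normalCore := by
      intro a
      have h2 : (h⁻¹ * g) • ((a⁻¹ : G) : G ⧸ M) = ((a⁻¹ : G) : G ⧸ M) := by
        rw [mul_smul, he, inv_smul_smul]
      have h3 := (QuotientGroup.eq (s := M)).mp h2.symm
      simpa [mul_assoc] using h3
    rw [hcore, Subgroup.mem_bot, inv_mul_eq_one] at h1
    exact h1.symm
  haveI : Nontrivial (G ⧸ M) := by
    rw [← Finite.one_lt_card_iff_nontrivial, ← Subgroup.index]
    exact Subgroup.one_lt_index_of_ne_top hM.1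
  have hprim : MulAction.IsPreprimitive G (G ⧸ M) := by
    rw [← MulAction.isCoatom_stabilizer_iff_preprimitive G ((1 : G) : G ⧸ M),
      MulAction.stabilizer_quotient]
    exact hM
  haveI : Fintype (G ⧸ M) := Fintype.ofFinite _
  have hfib : ∀ c c' : G ⧸ M, Nat.card {x // π x = c} = Nat.card {x // π x = c'} := by
    intro c c'
    obtain ⟨g, rfl⟩ := MulAction.exists_smul_eq G c c'
    exact Nat.card_congr ((MulAction.toPerm g).subtypeEquiv fun x => by
      simp only [MulAction.toPerm_apply, hπ, smul_left_cancel_iff])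
  obtain ⟨c₀, hc₀⟩ : ∃ c : G ⧸ M, k₀ • c ≠ c := by
    by_contra hall
    push Not at hall
    exact hk₀1 (eq_of_smul_eq_smul (α := G ⧸ M) fun c => by rw [one_smul]; exact hall c)
  obtain ⟨z, hz⟩ := hsurj c₀
  have hmoved : ∀ w, π w = c₀ → w ∈ Γ := fun w hw => by
    by_contra hn
    exact hc₀ (by rw [← hw, ← hπ, hKfix k₀ hk₀ w hn])
  have hsat : ∀ x ∈ Γ, ∀ y, π y = π x → y ∈ Γ := by
    intro x hx y hy
    obtain ⟨h, hh, hhz⟩ := hKtr z (hmoved z hz) x hx
    have h1 : h⁻¹ • y ∈ Γ := hmoved _ (by rw [hπ, hy, ← hhz, ← hπ, inv_smul_smul, hz])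
    simpa using hKmem h hh _ h1
  let Γ' : Finset (G ⧸ M) := (Finset.univ.filter (· ∈ Γ)).image π
  have hΓ' : ∀ x, π x ∈ Γ' ↔ x ∈ Γ := fun x => by
    simp only [Γ', Finset.mem_image, Finset.mem_filter, Finset.mem_univ, true_and]
    exact ⟨fun ⟨y, hy, he⟩ => hsat y hy x he.symm, fun hx => ⟨x, hx, rfl⟩⟩
  have hk : 1 < Γ'.card := by
    refine Finset.one_lt_card.mpr ⟨c₀, hz ▸ (hΓ' z).mpr (hmoved z hz), k₀ • c₀, ?_, hc₀.symm⟩
    rw [← hz, ← hπ]
    exact (hΓ' _).mpr (hKmem k₀ hk₀ z (hmoved z hz))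
  have hn : 2 * Γ'.card < Fintype.card (G ⧸ M) := by
    set d := Nat.card {x // π x = c₀}
    have h1 : Fintype.card Ω = Fintype.card (G ⧸ M) * d := by
      rw [← Nat.card_eq_fintype_card, Nat.card_congr (Equiv.sigmaFiberEquiv π).symm, Nat.card_sigma,
        Finset.sum_const_nat (fun c _ => hfib c c₀), Finset.card_univ]
    have h2 : Γ.ncard = Γ'.card * d := by
      rw [← Nat.card_coe_set_eq, Nat.card_congr ((Equiv.subtypeEquivRight fun x => (hΓ' x).symm).trans
          (Equiv.sigmaSubtypeFiberEquivSubtype π fun x => (Iff.rfl : π x ∈ Γ' ↔ π x ∈ Γ')).symm),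
        Nat.card_sigma, Finset.sum_const_nat (fun c _ => hfib _ c₀), Finset.card_univ, Fintype.card_coe]
    rw [h1, h2, ← mul_assoc] at hΓ2
    exact Nat.lt_of_mul_lt_mul_right hΓ2
  have hJ' : ∀ x y, π x ∈ Γ' → π y ∈ Γ' → ∃ g : G, (∀ w, π w ∉ Γ' → g • w = w) ∧ g • x = y := by
    intro x y hx hy
    obtain ⟨k, hk, hkx⟩ := hKtr x ((hΓ' x).mp hx) y ((hΓ' y).mp hy)
    exact ⟨k, fun w hw => hKfix k hk w fun h => hw ((hΓ' w).mpr h), hkx⟩
  have hinj : Function.Injective π := PrimStruct.fibres_trivial π hπ hsurj hprim Γ' hk hn hJ'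
  let e : Ω ≃ G ⧸ M := Equiv.ofBijective π ⟨hinj, hsurj⟩
  have hJs : Suborbit.IsJordanSet G Γ' := by
    intro x hx y hy
    obtain ⟨u, rfl⟩ := hsurj x
    obtain ⟨v, rfl⟩ := hsurj y
    obtain ⟨g, hg, hgu⟩ := hJ' u v hx hy
    refine ⟨g, fun w hw => ?_, by rw [← hπ, hgu]⟩
    obtain ⟨w', rfl⟩ := hsurj w
    rw [← hπ, hg w' hw]
  obtain ⟨g, hg⟩ := PrimStruct.alternating_le_range hprim Γ' hJs hk hn (x := e.permCongr σ)
    (by rw [Equiv.Perm.mem_alternatingGroup, Equiv.Perm.sign_permCongr, hσ])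
  refine ⟨g, Equiv.ext fun x => hinj ?_⟩
  rw [MulAction.toPerm_apply, hπ]
  have := congrArg (fun τ : Equiv.Perm (G ⧸ M) => τ (π x)) hg
  simp only [MulAction.toPermHom_apply, MulAction.toPerm_apply, Equiv.permCongr_apply] at this
  rw [this, show e.symm (π x) = x from e.symm_apply_apply x]
  rfl

end Cfsg.Agent.S3620
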