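import Cfsg.Statements.S2431
import Cfsg.Agent.Spec.TorusTwo
-- import your own Cfsg.Agent.* helpers here

set_option autoImplicit false
open Cfsg

namespace Cfsg.Agent.S2431

set_option maxHeartbeats 1600000 in
/-- Let F be a finite field with q elements, q odd, and S a Sylow 2-subgroup of SL₂ over F. The centraliser of S is the centre of SL₂ (of order 2); S is its own normaliser when q ≡ ±1 mod 8, and has index 3 in its normaliser when q ≡ ±3 mod 8. -/
theorem result {F : Type*} [Field F] [Fintype F] (hodd : Odd (Fintype.card F)) (S : Sylow 2 (Matrix.SpecialLinearGroup (Fin 2) F)) :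
    Subgroup.centralizer ((S : Subgroup (Matrix.SpecialLinearGroup (Fin 2) F)) : Set (Matrix.SpecialLinearGroup (Fin 2) F)) = Subgroup.center (Matrix.SpecialLinearGroup (Fin 2) F) ∧
    ((Fintype.card F % 8 = 1 ∨ Fintype.card F % 8 = 7) →
      Subgroup.normalizer ((S : Subgroup (Matrix.SpecialLinearGroup (Fin 2) F)) : Set (Matrix.SpecialLinearGroup (Fin 2) F)) = (S : Subgroup (Matrix.SpecialLinearGroup (Fin 2) F))) ∧
    ((Fintype.card F % 8 = 3 ∨ Fintype.card F % 8 = 5) →
      Nat.card (Subgroup.normalizer ((S : Subgroup (Matrix.SpecialLinearGroup (Fin 2) F)) : Set (Matrix.SpecialLinearGroup (Fin 2) F))) = 3 * Nat.card S) := by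
  classical
  have h2 : (2 : F) ≠ 0 := Linear.two_ne_zero_of_odd_card hodd
  obtain ⟨k, hk, ⟨e⟩⟩ := Linear.sylow_two_SL_two_quaternion hodd S
  haveI : NeZero (2 ^ k) := ⟨by positivity⟩
  haveI : Fact (Nat.Prime 2) := ⟨Nat.prime_two⟩
  let f : QuaternionGroup (2 ^ k) →* Matrix.SpecialLinearGroup (Fin 2) F :=
    (S : Subgroup (Matrix.SpecialLinearGroup (Fin 2) F)).subtype.comp e.symm.toMonoidHom
  have hinj : Function.Injective f := fun u v h => e.symm.injective (Subtype.ext h)
  have hfS : ∀ u, f u ∈ (S : Subgroup (Matrix.SpecialLinearGroup (Fin 2) F)) := fun u => (e.symm u).2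
  have hsurj : ∀ y ∈ (S : Subgroup (Matrix.SpecialLinearGroup (Fin 2) F)), ∃ u, f u = y := fun y hy =>
    ⟨e ⟨y, hy⟩, congrArg Subtype.val (e.symm_apply_apply ⟨y, hy⟩)⟩
  set i := f (QuaternionGroup.a 1) with hi_def
  set j := f (QuaternionGroup.xa 0) with hj_def
  have hoi : orderOf i = 2 * 2 ^ k := (orderOf_injective f hinj _).trans QuaternionGroup.orderOf_a_one
  have hk2 : 2 ≤ 2 ^ k := by
    calc 2 = 2 ^ 1 := (pow_one 2).symm
      _ ≤ 2 ^ k := Nat.pow_le_pow_right two_pos hk
  have hoj : orderOf j = 4 := (orderOf_injective f hinj _).trans (QuaternionGroup.orderOf_xa 0)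
  have hconj : j * i = i⁻¹ * j := by
    rw [hi_def, hj_def, ← map_inv, ← map_mul, ← map_mul]
    congr 1
    show QuaternionGroup.xa (0 + 1) = QuaternionGroup.xa (0 - -1)
    simp
  have hnsq : ∀ z : Matrix.SpecialLinearGroup (Fin 2) F, z * z ≠ 1 → Spec.Two.NS (z : Matrix (Fin 2) (Fin 2) F) := by
    intro z hz c hc
    apply hz
    have h1 := z.2
    rw [hc, Matrix.det_smul, Fintype.card_fin, Matrix.det_one, mul_one] at h1
    apply Subtype.ext
    show (z : Matrix (Fin 2) (Fin 2) F) * (z : Matrix (Fin 2) (Fin 2) F) = 1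
    rw [hc, smul_mul_smul_comm, ← pow_two, h1, one_smul, Matrix.one_mul]
  have hii : i * i ≠ 1 := by
    intro h
    have := Nat.le_of_dvd two_pos (orderOf_dvd_of_pow_eq_one (show i ^ 2 = 1 by rw [pow_two, h]))
    omega
  have hins := hnsq i hii
  have hji : j * i ≠ i * j := by
    intro h
    rw [hconj] at h
    apply hii
    have := mul_right_cancel h
    conv_lhs => arg 1; rw [← this]
    exact inv_mul_cancel i
  -- the centraliser
  have hscal : ∀ h : Matrix.SpecialLinearGroup (Fin 2) F, h * i = i * h → h * j = j * h →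
      h ∈ Subgroup.center (Matrix.SpecialLinearGroup (Fin 2) F) := by
    intro h hhi hhj
    by_cases hz : ∃ z : F, (h : Matrix (Fin 2) (Fin 2) F) = z • (1 : Matrix (Fin 2) (Fin 2) F)
    · obtain ⟨z, hz⟩ := hz
      rw [Subgroup.mem_center_iff]
      intro y
      apply Subtype.ext
      show (y : Matrix (Fin 2) (Fin 2) F) * (h : Matrix (Fin 2) (Fin 2) F) =
        (h : Matrix (Fin 2) (Fin 2) F) * (y : Matrix (Fin 2) (Fin 2) F)
      rw [hz, Matrix.mul_smul, Matrix.smul_mul, Matrix.mul_one, Matrix.one_mul]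
    · push Not at hz
      exfalso
      have hC := Spec.Two.centralizer_eq_of_commute i h hins hz hhi
      have : j ∈ Subgroup.centralizer ({i} : Set (Matrix.SpecialLinearGroup (Fin 2) F)) :=
        hC ▸ Subgroup.mem_centralizer_singleton_iff.2 hhj.symm
      exact hji (Subgroup.mem_centralizer_singleton_iff.1 this)
  have hcardS : Nat.card (S : Subgroup (Matrix.SpecialLinearGroup (Fin 2) F)) = 4 * 2 ^ k := by
    rw [Nat.card_congr e.toEquiv, Nat.card_eq_fintype_card, QuaternionGroup.card]
  have hnorm_le : (S : Subgroup (Matrix.SpecialLinearGroup (Fin 2) F)) ≤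
      Subgroup.normalizer ((S : Subgroup (Matrix.SpecialLinearGroup (Fin 2) F)) : Set (Matrix.SpecialLinearGroup (Fin 2) F)) :=
    Subgroup.le_normalizer
  -- a two-element of the normaliser lies in `S`
  have htwo : ∀ h ∈ Subgroup.normalizer ((S : Subgroup (Matrix.SpecialLinearGroup (Fin 2) F)) : Set (Matrix.SpecialLinearGroup (Fin 2) F)),
      (∃ l : ℕ, h ^ (2 ^ l) = 1) → h ∈ (S : Subgroup (Matrix.SpecialLinearGroup (Fin 2) F)) := by
    intro h hh hl
    obtain ⟨l, hl⟩ := hl
    have hp : IsPGroup 2 (Subgroup.zpowers h) := by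
      obtain ⟨m, -, hm⟩ := (Nat.dvd_prime_pow Nat.prime_two).1 (orderOf_dvd_of_pow_eq_one hl)
      exact IsPGroup.of_card (n := m) (by rw [Nat.card_zpowers, hm])
    have hsup := hp.to_sup_of_normal_right' S.2 (Subgroup.zpowers_le.2 hh)
    have heq := S.3 hsup le_sup_right
    exact heq ▸ (le_sup_left : Subgroup.zpowers h ≤ _) (Subgroup.mem_zpowers h)
  have hdvd : 2 ^ (Nat.card (Matrix.SpecialLinearGroup (Fin 2) F)).factorization 2 = 4 * 2 ^ k :=
    (Sylow.card_eq_multiplicity S).symm.trans hcardS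
  have hG := Linear.card_SL_two (F := F)
  set q := Fintype.card F with hq
  have hq1 : 1 < q := Fintype.one_lt_card
  have hsq : (q - 1) * (q + 1) + 1 = q * q := by
    obtain ⟨m, hm⟩ := Nat.exists_eq_add_of_le hq1.le
    rw [hm, Nat.add_sub_cancel_left]; ring
  refine ⟨?_, fun h8 => ?_, fun h8 => ?_⟩
  · apply le_antisymm
    · intro h hh
      exact hscal h (Subgroup.mem_centralizer_iff.1 hh i (hfS _)).symm
        (Subgroup.mem_centralizer_iff.1 hh j (hfS _)).symm
    · exact Subgroup.center_le_centralizer _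
  · -- `q ≡ ±1 mod 8`
    have hk4 : 4 ≤ 2 ^ k := by
      have h16 : 2 ^ 4 ∣ Nat.card (Matrix.SpecialLinearGroup (Fin 2) F) := by
        rw [hG, mul_assoc]
        refine Dvd.dvd.mul_left ?_ q
        obtain ⟨m, hm⟩ : ∃ m, q = 8 * m + 1 ∨ q = 8 * m + 7 := ⟨q / 8, by omega⟩
        rcases hm with hm | hm <;> rw [hm]
        · exact ⟨m * (4 * m + 1), by rw [Nat.add_sub_cancel]; ring⟩
        · exact ⟨(4 * m + 3) * (m + 1), by rw [show 8 * m + 7 - 1 = 8 * m + 6 by omega]; ring⟩
      have := Nat.pow_le_pow_right two_pos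
        ((Nat.Prime.pow_dvd_iff_le_factorization Nat.prime_two Nat.card_pos.ne').1 h16)
      rw [hdvd] at this
      omega
    refine le_antisymm ?_ hnorm_le
    intro h hh
    have hh' := Subgroup.mem_normalizer_iff.1 hh
    have hit : (i : Matrix (Fin 2) (Fin 2) F).trace ^ 2 ≠ 4 := by
      intro h4
      have hd : orderOf i ∣ Nat.card (Subgroup.centralizer ({i} : Set (Matrix.SpecialLinearGroup (Fin 2) F))) :=
        Subgroup.orderOf_dvd_natCard _ (Subgroup.mem_centralizer_singleton_iff.2 rfl)
      rw [Spec.Two.card_centralizer_eq i hins, Spec.Two.card_qf_parabolic h4, ← hq, hoi] at hd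
      have hco : Nat.Coprime (2 * 2 ^ k) q := by
        rw [← pow_succ']
        exact Nat.Coprime.pow_left _ (Nat.prime_two.coprime_iff_not_dvd.2 (by
          obtain ⟨t, ht⟩ := hodd; omega))
      have hd' := hco.dvd_of_dvd_mul_right hd
      have hle : Nat.card {s : F // s ^ 2 = 1} ≤ 2 := by
        rw [Nat.card_congr (Equiv.subtypeEquivRight (fun s => show s ^ 2 = 1 ↔ s ∈ ({1, -1} : Finset F) by
          simp [sq_eq_one_iff])), Nat.card_eq_finsetCard]
        exact Finset.card_le_two
      haveI : Nonempty {s : F // s ^ 2 = 1} := ⟨⟨1, one_pow 2⟩⟩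
      have := Nat.le_of_dvd Nat.card_pos hd'
      omega
    -- the image of `i` is a power of `i`
    obtain ⟨u, hu⟩ := hsurj _ ((hh' i).1 (hfS _))
    have hou : orderOf u = 2 * 2 ^ k := by
      have e1 : orderOf (h * i * h⁻¹) = orderOf i := (MulAut.conj h).orderOf_eq i
      rw [← orderOf_injective f hinj, hu, e1, hoi]
    have hcomm : (h * i * h⁻¹) * i = i * (h * i * h⁻¹) := by
      rcases u with v | v
      · rw [← hu, hi_def, ← map_mul, ← map_mul]
        congr 1
        show QuaternionGroup.a (v + 1) = QuaternionGroup.a (1 + v)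
        rw [add_comm]
      · rw [QuaternionGroup.orderOf_xa] at hou; omega
    obtain ⟨-, -, hinv⟩ := Spec.Two.natCard_normalizer_torus h2 i hit
    have key : ∀ h' : Matrix.SpecialLinearGroup (Fin 2) F,
        h' ∈ Subgroup.normalizer ((S : Subgroup (Matrix.SpecialLinearGroup (Fin 2) F)) : Set (Matrix.SpecialLinearGroup (Fin 2) F)) →
        h' * i = i * h' → h' ∈ (S : Subgroup (Matrix.SpecialLinearGroup (Fin 2) F)) := by
      intro h' hh'N hc
      have hC : h' ∈ Subgroup.centralizer ({i} : Set (Matrix.SpecialLinearGroup (Fin 2) F)) :=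
        Subgroup.mem_centralizer_singleton_iff.2 hc
      haveI := Spec.Two.isCyclic_centralizer i hit
      have hjN : j ∈ Subgroup.normalizer ((Subgroup.centralizer ({i} : Set (Matrix.SpecialLinearGroup (Fin 2) F))) : Set (Matrix.SpecialLinearGroup (Fin 2) F)) := by
        have hjinv : j * i⁻¹ = i * j := by
          calc j * i⁻¹ = i * (i⁻¹ * j) * i⁻¹ := by group
            _ = i * (j * i) * i⁻¹ := by rw [hconj]
            _ = i * j := by group
        have hfix : ∀ y, y * i = i * y → (j * y * j⁻¹) * i = i * (j * y * j⁻¹) ∧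
            (j⁻¹ * y * j) * i = i * (j⁻¹ * y * j) := by
          intro y hy
          have hyinv : y * i⁻¹ = i⁻¹ * y := (Commute.inv_right hy).eq
          have h1 : j⁻¹ * i = i⁻¹ * j⁻¹ := by
            calc j⁻¹ * i = j⁻¹ * (i * j) * j⁻¹ := by group
              _ = j⁻¹ * (j * i⁻¹) * j⁻¹ := by rw [hjinv]
              _ = i⁻¹ * j⁻¹ := by group
          constructor
          · calc (j * y * j⁻¹) * i = j * y * (j⁻¹ * i) := by group
              _ = j * (y * i⁻¹) * j⁻¹ := by rw [h1]; group
              _ = (j * i⁻¹) * y * j⁻¹ := by rw [hyinv]; group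
              _ = i * (j * y * j⁻¹) := by rw [hjinv]; group
          · calc (j⁻¹ * y * j) * i = j⁻¹ * y * (j * i) := by group
              _ = j⁻¹ * (y * i⁻¹) * j := by rw [hconj]; group
              _ = (j⁻¹ * i⁻¹) * y * j := by rw [hyinv]; group
              _ = i * (j⁻¹ * y * j) := by
                have h3 : j⁻¹ * i⁻¹ = i * j⁻¹ := by
                  calc j⁻¹ * i⁻¹ = j⁻¹ * (i⁻¹ * j) * j⁻¹ := by group
                    _ = j⁻¹ * (j * i) * j⁻¹ := by rw [hconj]
                    _ = i * j⁻¹ := by group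
                rw [h3]; group
        rw [Subgroup.mem_normalizer_iff]
        intro y
        simp only [Subgroup.mem_centralizer_singleton_iff]
        refine ⟨fun hy => (hfix y hy).1, fun hy => ?_⟩
        have := (hfix _ hy).2
        rwa [show j⁻¹ * (j * y * j⁻¹) * j = y by group] at this
      have hjC : j ∉ Subgroup.centralizer ({i} : Set (Matrix.SpecialLinearGroup (Fin 2) F)) :=
        fun hm => hji (Subgroup.mem_centralizer_singleton_iff.1 hm)
      have hjh := (hinv j hjN hjC).2 h' hC
      have hsq2 : h' * h' ∈ (S : Subgroup (Matrix.SpecialLinearGroup (Fin 2) F)) := by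
        have h3 : h' * j * h'⁻¹ ∈ (S : Subgroup (Matrix.SpecialLinearGroup (Fin 2) F)) :=
          (Subgroup.mem_normalizer_iff.1 hh'N j).1 (hfS _)
        have h4 : h' * h' = (h' * j * h'⁻¹) * j⁻¹ := by
          calc h' * h' = h' * (h'⁻¹)⁻¹ := by rw [inv_inv]
            _ = h' * (j * h' * j⁻¹)⁻¹ := by rw [hjh]
            _ = (h' * j * h'⁻¹) * j⁻¹ := by group
        rw [h4]
        exact mul_mem h3 (inv_mem (hfS _))
      obtain ⟨l, hl⟩ := S.2 ⟨_, hsq2⟩
      refine htwo h' hh'N ⟨l + 1, ?_⟩
      rw [pow_succ', pow_mul, pow_two]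
      exact congrArg Subtype.val hl
    have htr : ((h * i * h⁻¹ : Matrix.SpecialLinearGroup (Fin 2) F) : Matrix (Fin 2) (Fin 2) F).trace =
        (i : Matrix (Fin 2) (Fin 2) F).trace := by
      show ((h : Matrix (Fin 2) (Fin 2) F) * (i : Matrix (Fin 2) (Fin 2) F) *
        ((h⁻¹ : Matrix.SpecialLinearGroup (Fin 2) F) : Matrix (Fin 2) (Fin 2) F)).trace = _
      rw [Matrix.trace_mul_cycle, ← Matrix.SpecialLinearGroup.coe_mul h⁻¹ h, inv_mul_cancel,
        Matrix.SpecialLinearGroup.coe_one, Matrix.one_mul]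
    rcases Spec.Two.eq_or_eq_inv h2 i _ hit hcomm htr with e1 | e1
    · exact key h hh (mul_inv_eq_iff_eq_mul.1 e1)
    · have h1 := key (j * h) (mul_mem (hnorm_le (hfS _)) hh) (by
        calc j * h * i = j * (h * i * h⁻¹) * h := by group
          _ = j * i⁻¹ * h := by rw [e1]
          _ = i * (i⁻¹ * j) * i⁻¹ * h := by group
          _ = i * (j * i) * i⁻¹ * h := by rw [hconj]
          _ = i * (j * h) := by group)
      have h5 := mul_mem (inv_mem (hfS (QuaternionGroup.xa 0))) h1
      rwa [← hj_def, inv_mul_cancel_left] at h5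
  · -- `q ≡ ±3 mod 8`
    obtain rfl : k = 1 := by
      by_contra hk1
      have h4 : 4 ≤ 2 ^ k := by
        calc 4 = 2 ^ 2 := rfl
          _ ≤ 2 ^ k := Nat.pow_le_pow_right two_pos (by omega)
      have h16 : 2 ^ 4 ∣ Nat.card (Matrix.SpecialLinearGroup (Fin 2) F) := by
        refine (Nat.Prime.pow_dvd_iff_le_factorization Nat.prime_two Nat.card_pos.ne').2 ?_
        by_contra hlt
        have := Nat.pow_le_pow_right two_pos (show (Nat.card (Matrix.SpecialLinearGroup (Fin 2) F)).factorization 2 ≤ 3 by omega)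
        omega
      rw [hG, mul_assoc] at h16
      have h16' : 16 ∣ (q - 1) * (q + 1) :=
        (Nat.Coprime.pow_left 4 (Nat.prime_two.coprime_iff_not_dvd.2 (by omega))).dvd_of_dvd_mul_left h16
      obtain ⟨m, hm⟩ : ∃ m, q = 8 * m + 3 ∨ q = 8 * m + 5 := ⟨q / 8, by omega⟩
      obtain ⟨c, hc⟩ := h16'
      rcases hm with hm | hm <;> rw [hm] at hsq <;> rw [hm] at hc <;> ring_nf at hsq hc <;> omega
    clear hk hk2
    replace hoi : orderOf i = 4 := by rw [hoi]; rfl
    replace hcardS : Nat.card (S : Subgroup (Matrix.SpecialLinearGroup (Fin 2) F)) = 8 := by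
      rw [hcardS]; rfl
    set I : Matrix (Fin 2) (Fin 2) F := (i : Matrix (Fin 2) (Fin 2) F) with hI
    set J : Matrix (Fin 2) (Fin 2) F := (j : Matrix (Fin 2) (Fin 2) F) with hJ
    have hneg : ∀ z : Matrix.SpecialLinearGroup (Fin 2) F, orderOf z = 4 →
        (z : Matrix (Fin 2) (Fin 2) F) * (z : Matrix (Fin 2) (Fin 2) F) = -1 := by
      intro z hz
      have h1 : z * z ≠ 1 := by
        intro h
        have := Nat.le_of_dvd two_pos (orderOf_dvd_of_pow_eq_one (show z ^ 2 = 1 by rw [pow_two, h]))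
        omega
      have h4 : (z * z) * (z * z) = 1 := by
        rw [← pow_two, ← pow_two, ← pow_mul]
        have h5 := pow_orderOf_eq_one z
        rw [hz] at h5
        exact h5
      have := Linear.eq_neg_one_of_mul_self h2 h1 h4
      exact this
    have hII : I * I = -1 := hneg i hoi
    have hJJ : J * J = -1 := hneg j hoj
    have hinvI : ((i⁻¹ : Matrix.SpecialLinearGroup (Fin 2) F) : Matrix (Fin 2) (Fin 2) F) = -I := by
      have h1 : I * -I = 1 := by rw [Matrix.mul_neg, hII, neg_neg]
      calc ((i⁻¹ : Matrix.SpecialLinearGroup (Fin 2) F) : Matrix (Fin 2) (Fin 2) F)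
          = ((i⁻¹ : Matrix.SpecialLinearGroup (Fin 2) F) : Matrix (Fin 2) (Fin 2) F) * (I * -I) := by
            rw [h1, Matrix.mul_one]
        _ = -I := by
            rw [← Matrix.mul_assoc, hI, ← Matrix.SpecialLinearGroup.coe_mul, inv_mul_cancel,
              Matrix.SpecialLinearGroup.coe_one, Matrix.one_mul]
    have hJI : J * I = -(I * J) := by
      have := congrArg (fun y : Matrix.SpecialLinearGroup (Fin 2) F => (y : Matrix (Fin 2) (Fin 2) F)) hconj
      simp only [Matrix.SpecialLinearGroup.coe_mul, hinvI, Matrix.neg_mul] at this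
      exact this
    have hJI' : ∀ X : Matrix (Fin 2) (Fin 2) F, J * (I * X) = -(I * (J * X)) := fun X => by
      rw [← Matrix.mul_assoc, hJI, Matrix.neg_mul, Matrix.mul_assoc]
    have hII' : ∀ X : Matrix (Fin 2) (Fin 2) F, I * (I * X) = -X := fun X => by
      rw [← Matrix.mul_assoc, hII, Matrix.neg_mul, Matrix.one_mul]
    have hJJ' : ∀ X : Matrix (Fin 2) (Fin 2) F, J * (J * X) = -X := fun X => by
      rw [← Matrix.mul_assoc, hJJ, Matrix.neg_mul, Matrix.one_mul]
    set H : Matrix (Fin 2) (Fin 2) F := (2⁻¹ : F) • (-1 + I + J + I * J) with hH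
    have hH2 : H * H = -1 - H := by
      have hsum : (-1 + I + J + I * J) * (-1 + I + J + I * J) =
          (-2 : F) • (1 : Matrix (Fin 2) (Fin 2) F) + (-2 : F) • (I + J + I * J) := by
        simp only [Matrix.add_mul, Matrix.mul_add, Matrix.neg_mul, Matrix.mul_neg, Matrix.one_mul,
          Matrix.mul_one, Matrix.mul_assoc, hII, hJJ, hJI, hII', hJI', neg_neg, smul_add]
        module
      rw [hH, smul_mul_smul_comm, hsum]
      ext a b
      by_cases hab : a = b <;> simp [Matrix.one_apply, hab] <;> field_simp <;> ring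
    have hHdet : H.det = 1 := by
      have hH3 : H * H * H = 1 := by
        rw [hH2, Matrix.sub_mul, Matrix.neg_mul, Matrix.one_mul, hH2]; abel
      have htrI : I.trace = 0 ∧ J.trace = 0 ∧ (I * J).trace = 0 := by
        have hz : ∀ X : Matrix (Fin 2) (Fin 2) F, X.det = 1 → X * X = -1 → X.trace = 0 := by
          intro X hX1 hX
          by_contra ht
          have hdeq : X.trace • X = 0 := by
            have hch : X * X = X.trace • X - X.det • (1 : Matrix (Fin 2) (Fin 2) F) := by
              ext a b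
              fin_cases a <;> fin_cases b <;>
                simp [Matrix.mul_apply, Fin.sum_univ_two, Matrix.det_fin_two, Matrix.trace_fin_two] <;> ring
            rw [hX, hX1, one_smul] at hch
            have hh := hch.symm
            rwa [sub_eq_neg_self] at hh
          have := (smul_eq_zero.1 hdeq).resolve_left ht
          rw [this] at hX1
          simp at hX1
        refine ⟨hz I i.2 hII, hz J j.2 hJJ, hz _ (by rw [Matrix.det_mul, hI, hJ, i.2, j.2, mul_one]) ?_⟩
        simp only [Matrix.mul_assoc, hJI', hII', hJJ, Matrix.mul_neg, Matrix.mul_one, neg_neg, hII]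
      have htr : H.trace = -1 := by
        rw [hH, Matrix.trace_smul, Matrix.trace_add, Matrix.trace_add, Matrix.trace_add, Matrix.trace_neg,
          htrI.1, htrI.2.1, htrI.2.2, Matrix.trace_one, Fintype.card_fin, smul_eq_mul]
        field_simp
        ring
      have hch : H * H = H.trace • H - H.det • (1 : Matrix (Fin 2) (Fin 2) F) := by
        ext a b
        fin_cases a <;> fin_cases b <;>
          simp [Matrix.mul_apply, Fin.sum_univ_two, Matrix.det_fin_two, Matrix.trace_fin_two] <;> ring
      rw [hH2, htr, neg_one_smul] at hch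
      have h00 := congrFun (congrFun hch 0) 0
      simp at h00
      linear_combination h00
    let h : Matrix.SpecialLinearGroup (Fin 2) F := Spec.Two.mk H hHdet
    have hhi : h * i = (i * j) * h := by
      apply Subtype.ext
      show H * I = I * J * H
      rw [hH, Matrix.smul_mul, Matrix.mul_smul]
      congr 1
      simp only [Matrix.add_mul, Matrix.mul_add, Matrix.neg_mul, Matrix.mul_neg, Matrix.one_mul,
        Matrix.mul_one, Matrix.mul_assoc, hII, hJJ, hJI, hII', hJI', hJJ', neg_neg]
      abel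
    have hhj : h * j = i * h := by
      apply Subtype.ext
      show H * J = I * H
      rw [hH, Matrix.smul_mul, Matrix.mul_smul]
      congr 1
      simp only [Matrix.add_mul, Matrix.mul_add, Matrix.neg_mul, Matrix.mul_neg, Matrix.one_mul,
        Matrix.mul_one, Matrix.mul_assoc, hII, hJJ, hJI, hII', hJI', hJJ', neg_neg]
      abel
    set N := Subgroup.normalizer ((S : Subgroup (Matrix.SpecialLinearGroup (Fin 2) F)) : Set (Matrix.SpecialLinearGroup (Fin 2) F)) with hN
    have hgen : ∀ u : QuaternionGroup (2 ^ 1), u ∈ ({1, QuaternionGroup.a 1 * QuaternionGroup.a 1,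
        QuaternionGroup.a 1, (QuaternionGroup.a 1)⁻¹, QuaternionGroup.xa 0, (QuaternionGroup.xa 0)⁻¹,
        QuaternionGroup.a 1 * QuaternionGroup.xa 0, (QuaternionGroup.a 1 * QuaternionGroup.xa 0)⁻¹} :
          Finset (QuaternionGroup (2 ^ 1))) := by decide
    have hel : ∀ y ∈ (S : Subgroup (Matrix.SpecialLinearGroup (Fin 2) F)),
        y = 1 ∨ y = i * i ∨ y = i ∨ y = i⁻¹ ∨ y = j ∨ y = j⁻¹ ∨ y = i * j ∨ y = (i * j)⁻¹ := by
      intro y hy
      obtain ⟨u, rfl⟩ := hsurj y hy
      have := hgen u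
      simp only [Finset.mem_insert, Finset.mem_singleton] at this
      rcases this with e | e | e | e | e | e | e | e <;> subst e
      · exact Or.inl (map_one f)
      · exact Or.inr (Or.inl (map_mul f _ _))
      · exact Or.inr (Or.inr (Or.inl rfl))
      · exact Or.inr (Or.inr (Or.inr (Or.inl (map_inv f _))))
      · exact Or.inr (Or.inr (Or.inr (Or.inr (Or.inl rfl))))
      · exact Or.inr (Or.inr (Or.inr (Or.inr (Or.inr (Or.inl (map_inv f _))))))
      · exact Or.inr (Or.inr (Or.inr (Or.inr (Or.inr (Or.inr (Or.inl (map_mul f _ _)))))))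
      · exact Or.inr (Or.inr (Or.inr (Or.inr (Or.inr (Or.inr (Or.inr ((map_inv f _).trans
          (congrArg (·⁻¹) (map_mul f _ _)))))))))
    have hiS := hfS (QuaternionGroup.a 1)
    have hjS := hfS (QuaternionGroup.xa 0)
    rw [← hi_def] at hiS
    rw [← hj_def] at hjS
    have hci : h * i * h⁻¹ = i * j := by rw [hhi, mul_inv_cancel_right]
    have hcj : h * j * h⁻¹ = i := by rw [hhj, mul_inv_cancel_right]
    have hhN : h ∈ N := by
      rw [hN, Subgroup.mem_normalizer_iff]
      have himg : ∀ y ∈ (S : Subgroup (Matrix.SpecialLinearGroup (Fin 2) F)),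
          h * y * h⁻¹ ∈ (S : Subgroup (Matrix.SpecialLinearGroup (Fin 2) F)) := by
        intro y hy
        have hA : h * i * h⁻¹ ∈ (S : Subgroup (Matrix.SpecialLinearGroup (Fin 2) F)) :=
          hci ▸ mul_mem hiS hjS
        have hB : h * j * h⁻¹ ∈ (S : Subgroup (Matrix.SpecialLinearGroup (Fin 2) F)) := hcj ▸ hiS
        rcases hel y hy with e | e | e | e | e | e | e | e <;> subst e
        · simp
        · rw [show h * (i * i) * h⁻¹ = (h * i * h⁻¹) * (h * i * h⁻¹) by group]; exact mul_mem hA hA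
        · exact hA
        · rw [show h * i⁻¹ * h⁻¹ = (h * i * h⁻¹)⁻¹ by group]; exact inv_mem hA
        · exact hB
        · rw [show h * j⁻¹ * h⁻¹ = (h * j * h⁻¹)⁻¹ by group]; exact inv_mem hB
        · rw [show h * (i * j) * h⁻¹ = (h * i * h⁻¹) * (h * j * h⁻¹) by group]; exact mul_mem hA hB
        · rw [show h * (i * j)⁻¹ * h⁻¹ = ((h * i * h⁻¹) * (h * j * h⁻¹))⁻¹ by group]
          exact inv_mem (mul_mem hA hB)
      exact fun y => ⟨himg y, fun hy => by
        have hh3 : h * h * h = 1 := Subtype.ext (by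
          show H * H * H = 1
          rw [hH2, Matrix.sub_mul, Matrix.neg_mul, Matrix.one_mul, hH2]; abel)
        have h5 := himg _ (himg _ hy)
        have : h * (h * (h * y * h⁻¹) * h⁻¹) * h⁻¹ = y := by
          calc h * (h * (h * y * h⁻¹) * h⁻¹) * h⁻¹ = (h * h * h) * y * (h * h * h)⁻¹ := by group
            _ = y := by rw [hh3]; group
        rwa [this] at h5⟩
    have hh3 : h ^ 3 = 1 := by
      rw [pow_succ, pow_two]
      apply Subtype.ext
      show H * H * H = 1
      rw [hH2, Matrix.sub_mul, Matrix.neg_mul, Matrix.one_mul, hH2]; abel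
    have hne1 : h ≠ 1 := by
      intro e1
      rw [e1, one_mul, mul_one] at hhj
      exact hji (by rw [hhj])
    have hhS : ∀ d : ℕ, d < 3 → h ^ d ∈ (S : Subgroup (Matrix.SpecialLinearGroup (Fin 2) F)) → d = 0 := by
      intro d hd hmem
      haveI : Fact (Nat.Prime 3) := ⟨Nat.prime_three⟩
      have ho : orderOf h = 3 := orderOf_eq_prime hh3 hne1
      have h1 : orderOf (h ^ d) ∣ 8 := by
        have := Subgroup.orderOf_dvd_natCard (S : Subgroup (Matrix.SpecialLinearGroup (Fin 2) F)) hmem
        rwa [hcardS] at this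
      have h3 : orderOf (h ^ d) ∣ 3 := ho ▸ orderOf_pow_dvd d
      have h4 := orderOf_eq_one_iff.1 (Nat.dvd_one.1 (Nat.dvd_gcd h1 h3))
      have := orderOf_dvd_of_pow_eq_one h4
      rw [ho] at this
      omega
    -- classes of the three cyclic subgroups of order four
    let T : Matrix.SpecialLinearGroup (Fin 2) F → Matrix.SpecialLinearGroup (Fin 2) F → Prop :=
      fun y z => y = z ∨ y = z⁻¹
    have hord : ∀ n ∈ N, ∀ y ∈ (S : Subgroup (Matrix.SpecialLinearGroup (Fin 2) F)), orderOf y = 4 →
        T (n * y * n⁻¹) i ∨ T (n * y * n⁻¹) j ∨ T (n * y * n⁻¹) (i * j) := by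
      intro n hn y hy hy4
      have ho : orderOf (n * y * n⁻¹) = 4 := ((MulAut.conj n).orderOf_eq y).trans hy4
      rcases hel _ ((Subgroup.mem_normalizer_iff.1 hn y).1 hy) with e1 | e1 | e1 | e1 | e1 | e1 | e1 | e1
      · rw [e1, orderOf_one] at ho; omega
      · exfalso
        rw [e1] at ho
        have : (i * i) ^ 2 = 1 := by
          have h5 := pow_orderOf_eq_one i
          rw [hoi] at h5
          rw [← pow_two, ← pow_mul]; exact h5
        have := Nat.le_of_dvd two_pos (orderOf_dvd_of_pow_eq_one this)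
        omega
      · exact Or.inl (Or.inl e1)
      · exact Or.inl (Or.inr e1)
      · exact Or.inr (Or.inl (Or.inl e1))
      · exact Or.inr (Or.inl (Or.inr e1))
      · exact Or.inr (Or.inr (Or.inl e1))
      · exact Or.inr (Or.inr (Or.inr e1))
    have hkey : ∀ n ∈ N, T (n * i * n⁻¹) i → n ∈ (S : Subgroup (Matrix.SpecialLinearGroup (Fin 2) F)) := by
      intro n hn hni
      rcases hord n hn j hjS hoj with hj1 | hj1 | hj1
      · exfalso
        apply hji
        have hc : Commute i (n * j * n⁻¹) := by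
          rcases hj1 with e | e <;> rw [e]
          exact (Commute.refl i).inv_right
        have hc' : Commute (n * i * n⁻¹) (n * j * n⁻¹) := by
          rcases hni with e | e <;> rw [e]
          · exact hc
          · exact hc.inv_left
        have := congrArg (fun y => n⁻¹ * y * n) hc'.eq
        simp [mul_assoc] at this
        exact this.symm
      · -- fixing both classes
        obtain ⟨s, hs, hs1, hs2⟩ : ∃ s ∈ (S : Subgroup (Matrix.SpecialLinearGroup (Fin 2) F)),
            (s * n) * i * (s * n)⁻¹ = i ∧ (s * n) * j * (s * n)⁻¹ = j := by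
          have hiji : i * j * i⁻¹ = j⁻¹ := by
            apply Subtype.ext
            show I * J * ((i⁻¹ : Matrix.SpecialLinearGroup (Fin 2) F) : Matrix (Fin 2) (Fin 2) F) = _
            rw [hinvI, Matrix.mul_neg, Matrix.mul_assoc, hJI, Matrix.mul_neg, neg_neg, hII']
            have h1 : J * -J = 1 := by rw [Matrix.mul_neg, hJJ, neg_neg]
            calc -J = ((j⁻¹ * j : Matrix.SpecialLinearGroup (Fin 2) F) : Matrix (Fin 2) (Fin 2) F) * -J := by
                  rw [inv_mul_cancel, Matrix.SpecialLinearGroup.coe_one, Matrix.one_mul]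
              _ = _ := by rw [Matrix.SpecialLinearGroup.coe_mul, Matrix.mul_assoc, ← hJ, h1, Matrix.mul_one]
          have hjij : j * i * j⁻¹ = i⁻¹ := by rw [hconj, mul_inv_cancel_right]
          rcases hni with a1 | a1 <;> rcases hj1 with b1 | b1
          · exact ⟨1, one_mem _, by rwa [one_mul], by rwa [one_mul]⟩
          · refine ⟨i, hiS, ?_, ?_⟩
            · rw [show i * n * i * (i * n)⁻¹ = i * (n * i * n⁻¹) * i⁻¹ by group, a1]; group
            · rw [show i * n * j * (i * n)⁻¹ = i * (n * j * n⁻¹) * i⁻¹ by group, b1,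
                show i * j⁻¹ * i⁻¹ = (i * j * i⁻¹)⁻¹ by group, hiji, inv_inv]
          · refine ⟨j, hjS, ?_, ?_⟩
            · rw [show j * n * i * (j * n)⁻¹ = j * (n * i * n⁻¹) * j⁻¹ by group, a1,
                show j * i⁻¹ * j⁻¹ = (j * i * j⁻¹)⁻¹ by group, hjij, inv_inv]
            · rw [show j * n * j * (j * n)⁻¹ = j * (n * j * n⁻¹) * j⁻¹ by group, b1]; group
          · refine ⟨i * j, mul_mem hiS hjS, ?_, ?_⟩
            · rw [show i * j * n * i * (i * j * n)⁻¹ = i * (j * (n * i * n⁻¹) * j⁻¹) * i⁻¹ by group, a1,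
                show j * i⁻¹ * j⁻¹ = (j * i * j⁻¹)⁻¹ by group, hjij, inv_inv]
              group
            · rw [show i * j * n * j * (i * j * n)⁻¹ = i * (j * (n * j * n⁻¹) * j⁻¹) * i⁻¹ by group, b1,
                show i * (j * j⁻¹ * j⁻¹) * i⁻¹ = (i * j * i⁻¹)⁻¹ by group, hiji, inv_inv]
        have hcen := hscal (s * n) (mul_inv_eq_iff_eq_mul.1 hs1) (mul_inv_eq_iff_eq_mul.1 hs2)
        have hsn : s * n ∈ (S : Subgroup (Matrix.SpecialLinearGroup (Fin 2) F)) := by
          refine htwo _ (mul_mem (hnorm_le hs) hn) ⟨1, ?_⟩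
          rw [pow_one, pow_two]
          obtain ⟨r, hr, hre⟩ := Matrix.SpecialLinearGroup.mem_center_iff.1 hcen
          apply Subtype.ext
          show ((s * n : Matrix.SpecialLinearGroup (Fin 2) F) : Matrix (Fin 2) (Fin 2) F) *
            ((s * n : Matrix.SpecialLinearGroup (Fin 2) F) : Matrix (Fin 2) (Fin 2) F) = 1
          rw [← hre, ← map_mul, ← pow_two]
          rw [show r ^ 2 = 1 by simpa using hr, map_one]
        simpa using mul_mem (inv_mem hs) hsn
      · -- an odd power swaps two classes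
        exfalso
        have hnc : ∀ y z, T (n * y * n⁻¹) z → T (n * y⁻¹ * n⁻¹) z := by
          intro y z hyz
          rw [show n * y⁻¹ * n⁻¹ = (n * y * n⁻¹)⁻¹ by group]
          rcases hyz with e1 | e1 <;> rw [e1]
          · exact Or.inr rfl
          · exact Or.inl (inv_inv z)
        have hiji : i * (i * j) = j⁻¹ ∧ i⁻¹ * (i * j) = j := by
          refine ⟨?_, by group⟩
          apply Subtype.ext
          show I * (I * J) = _
          rw [hII']
          have h1 : J * -J = 1 := by rw [Matrix.mul_neg, hJJ, neg_neg]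
          calc -J = ((j⁻¹ * j : Matrix.SpecialLinearGroup (Fin 2) F) : Matrix (Fin 2) (Fin 2) F) * -J := by
                rw [inv_mul_cancel, Matrix.SpecialLinearGroup.coe_one, Matrix.one_mul]
            _ = _ := by rw [Matrix.SpecialLinearGroup.coe_mul, Matrix.mul_assoc, ← hJ, h1, Matrix.mul_one]
        have hk' : T (n * (i * j) * n⁻¹) j := by
          have hmix : ∀ a b, T a i → T b (i * j) → T (a * b) j := by
            intro a b ha hb
            have e3 : i * (i * j)⁻¹ = j⁻¹ * (i⁻¹ * i⁻¹)⁻¹ ∨ True := Or.inr trivial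
            rcases ha with rfl | rfl <;> rcases hb with rfl | rfl
            · exact Or.inr hiji.1
            · left
              have e4 : i * j * i⁻¹ = j⁻¹ := by
                apply Subtype.ext
                show I * J * ((i⁻¹ : Matrix.SpecialLinearGroup (Fin 2) F) : Matrix (Fin 2) (Fin 2) F) = _
                rw [hinvI, Matrix.mul_neg, Matrix.mul_assoc, hJI, Matrix.mul_neg, neg_neg,
                  ← hiji.1, Matrix.SpecialLinearGroup.coe_mul, Matrix.SpecialLinearGroup.coe_mul]
              calc i * (i * j)⁻¹ = (i * j * i⁻¹)⁻¹ := by group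
                _ = j := by rw [e4, inv_inv]
            · exact Or.inl hiji.2
            · right
              calc i⁻¹ * (i * j)⁻¹ = (i * j * i)⁻¹ := by group
                _ = (i * (i⁻¹ * j))⁻¹ := by rw [mul_assoc, hconj]
                _ = j⁻¹ := by group
          rw [show n * (i * j) * n⁻¹ = (n * i * n⁻¹) * (n * j * n⁻¹) by group]
          exact hmix _ _ hni hj1
        have hswap : ∀ t : ℕ, (Even t → T (n ^ t * j * (n ^ t)⁻¹) j) ∧
            (Odd t → T (n ^ t * j * (n ^ t)⁻¹) (i * j)) := by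
          intro t
          induction t with
          | zero => exact ⟨fun _ => Or.inl (by simp), fun h => absurd h (by simp)⟩
          | succ t ih =>
            have hstep : n ^ (t + 1) * j * (n ^ (t + 1))⁻¹ = n * (n ^ t * j * (n ^ t)⁻¹) * n⁻¹ := by
              rw [pow_succ']; group
            rw [hstep]
            rcases Nat.even_or_odd t with ht | ht
            · refine ⟨fun h => absurd ht.add_one (Nat.not_odd_iff_even.2 h), fun _ => ?_⟩
              rcases ih.1 ht with e1 | e1 <;> rw [e1]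
              · exact hj1
              · exact hnc _ _ hj1
            · refine ⟨fun _ => ?_, fun h => absurd ht.add_one (Nat.not_even_iff_odd.2 h)⟩
              rcases ih.2 ht with e1 | e1 <;> rw [e1]
              · exact hk'
              · exact hnc _ _ hk'
        obtain ⟨l, m, hm, hlm⟩ := Nat.exists_eq_two_pow_mul_odd (orderOf_pos n).ne'
        have hmS : n ^ m ∈ (S : Subgroup (Matrix.SpecialLinearGroup (Fin 2) F)) :=
          htwo _ (pow_mem hn m) ⟨l, by rw [← pow_mul, mul_comm, ← hlm, pow_orderOf_eq_one]⟩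
        -- an element of `S` fixes every class
        have hfix : T (n ^ m * j * (n ^ m)⁻¹) j := by
          have : ∀ u : QuaternionGroup (2 ^ 1), u * QuaternionGroup.xa 0 * u⁻¹ = QuaternionGroup.xa 0 ∨
              u * QuaternionGroup.xa 0 * u⁻¹ = (QuaternionGroup.xa 0)⁻¹ := by decide
          obtain ⟨u, hu⟩ := hsurj _ hmS
          rw [← hu]
          rcases this u with e1 | e1
          · exact Or.inl (by rw [hj_def, ← map_inv, ← map_mul, ← map_mul, e1])
          · exact Or.inr (by rw [hj_def, ← map_inv f u, ← map_mul, ← map_mul, e1, map_inv])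
        have hne : QuaternionGroup.xa (0 : ZMod (2 * 2 ^ 1)) ≠ QuaternionGroup.a 1 * QuaternionGroup.xa 0 ∧
            QuaternionGroup.xa (0 : ZMod (2 * 2 ^ 1)) ≠ (QuaternionGroup.a 1 * QuaternionGroup.xa 0)⁻¹ ∧
            (QuaternionGroup.xa (0 : ZMod (2 * 2 ^ 1)))⁻¹ ≠ QuaternionGroup.a 1 * QuaternionGroup.xa 0 ∧
            (QuaternionGroup.xa (0 : ZMod (2 * 2 ^ 1)))⁻¹ ≠ (QuaternionGroup.a 1 * QuaternionGroup.xa 0)⁻¹ := by
          decide
        rcases hfix with e1 | e1 <;> rcases (hswap m).2 hm with e3 | e3 <;>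
          rw [e1, hi_def, hj_def] at e3 <;> simp only [← map_mul, ← map_inv] at e3
        exacts [hne.1 (hinj e3), hne.2.1 (hinj e3), hne.2.2.1 (hinj e3), hne.2.2.2 (hinj e3)]
    have hcover : ∀ n ∈ N, ∃ l : Fin 3, (h ^ (l : ℕ))⁻¹ * n ∈ (S : Subgroup (Matrix.SpecialLinearGroup (Fin 2) F)) := by
      intro n hn
      have hinvh : ∀ y, h⁻¹ * (h * y * h⁻¹) * h = y := fun y => by group
      have hTc : ∀ g y z : Matrix.SpecialLinearGroup (Fin 2) F, T y z → T (g * y * g⁻¹) (g * z * g⁻¹) := by
        intro g y z hyz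
        rcases hyz with rfl | rfl
        · exact Or.inl rfl
        · exact Or.inr (by group)
      rcases hord n hn i hiS hoi with hc | hc | hc
      · exact ⟨0, by simpa using hkey n hn hc⟩
      · refine ⟨2, hkey _ (mul_mem (inv_mem (pow_mem hhN _)) hn) ?_⟩
        show T ((h ^ 2)⁻¹ * n * i * ((h ^ 2)⁻¹ * n)⁻¹) i
        have h2i : (h ^ 2)⁻¹ = h := inv_eq_of_mul_eq_one_right (by rw [← pow_succ]; exact hh3)
        rw [h2i, show h * n * i * (h * n)⁻¹ = h * (n * i * n⁻¹) * h⁻¹ by group]
        have h5 := hTc h _ _ hc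
        rwa [hcj] at h5
      · refine ⟨1, hkey _ (mul_mem (inv_mem (pow_mem hhN _)) hn) ?_⟩
        show T ((h ^ 1)⁻¹ * n * i * ((h ^ 1)⁻¹ * n)⁻¹) i
        rw [pow_one, show h⁻¹ * n * i * (h⁻¹ * n)⁻¹ = h⁻¹ * (n * i * n⁻¹) * h⁻¹⁻¹ by group]
        have := hTc h⁻¹ _ _ hc
        rwa [← hci, show h⁻¹ * (h * i * h⁻¹) * h⁻¹⁻¹ = i by group] at this
    have hbij : Function.Bijective (fun x : Fin 3 × (S : Subgroup (Matrix.SpecialLinearGroup (Fin 2) F)) =>
        (⟨h ^ (x.1 : ℕ) * x.2.1, mul_mem (pow_mem hhN _) (hnorm_le x.2.2)⟩ : N)) := by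
      constructor
      · intro x y hxy
        have hxy' : h ^ (x.1 : ℕ) * x.2.1 = h ^ (y.1 : ℕ) * y.2.1 := congrArg Subtype.val hxy
        have hsame : x.1 = y.1 := by
          have main : ∀ a b : Fin 3, ∀ u v : (S : Subgroup (Matrix.SpecialLinearGroup (Fin 2) F)),
              (a : ℕ) ≤ b → h ^ (a : ℕ) * u.1 = h ^ (b : ℕ) * v.1 → a = b := by
            intro a b u v hab he
            rw [← Nat.sub_add_cancel hab, add_comm, pow_add, mul_assoc] at he
            have he' := mul_left_cancel he
            have : h ^ ((b : ℕ) - a) = u.1 * v.1⁻¹ := by rw [he']; group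
            have := hhS _ (by omega) (this ▸ mul_mem u.2 (inv_mem v.2))
            exact Fin.ext (by omega)
          rcases le_total (x.1 : ℕ) y.1 with hle | hle
          · exact main _ _ _ _ hle hxy'
          · exact (main _ _ _ _ hle hxy'.symm).symm
        exact Prod.ext hsame (Subtype.ext (mul_left_cancel (hsame ▸ hxy' :
          h ^ (y.1 : ℕ) * x.2.1 = h ^ (y.1 : ℕ) * y.2.1)))
      · intro n
        obtain ⟨l, hl⟩ := hcover n.1 n.2
        exact ⟨(l, ⟨_, hl⟩), Subtype.ext (mul_inv_cancel_left _ _)⟩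
    rw [← Nat.card_congr (Equiv.ofBijective _ hbij), Nat.card_prod, Nat.card_fin]

end Cfsg.Agent.S2431
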