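import Cfsg.Statements.S3820


set_option autoImplicit false
open Cfsg

namespace Cfsg.Agent.S3820

theorem map_conj_map {G : Type*} [Group G] (a b : G) (H : Subgroup G) :
    (H.map (MulAut.conj b).toMonoidHom).map (MulAut.conj a).toMonoidHom =
      H.map (MulAut.conj (a * b)).toMonoidHom := by
  rw [Subgroup.map_map, map_mul]; rfl

theorem map_conj_one {G : Type*} [Group G] (H : Subgroup G) :
    H.map (MulAut.conj (1 : G)).toMonoidHom = H := by
  rw [map_one]; exact Subgroup.map_id H

theorem map_conj_eq_iff {G : Type*} [Group G] (H : Subgroup G) (g : G) :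
    H.map (MulAut.conj g).toMonoidHom = H ↔ g ∈ Subgroup.normalizer (H : Set G) := by
  rw [Subgroup.mem_normalizer_iff, SetLike.ext_iff]
  constructor
  · intro h x
    rw [← h (g * x * g⁻¹), Subgroup.mem_map_equiv]
    simp [mul_assoc]
  · intro h x
    rw [Subgroup.mem_map_equiv, MulAut.conj_symm_apply]
    have := h (g⁻¹ * x * g)
    simpa [mul_assoc] using this

/-- Call a subgroup H of G pronormal if H and gHg⁻¹ are conjugate inside ⟨H, gHg⁻¹⟩ for every g ∈ G. Let S ≤ H ≤ G be subgroups of a finite group with S pronormal in G (for instance S a Sylow subgroup). Then H is pronormal in G if and only if H and gHg⁻¹ are conjugate inside ⟨H, gHg⁻¹⟩ for every g ∈ N_G(S). In particular H is pronormal whenever N_G(S) ≤ H. -/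
theorem result {G : Type*} [Group G] [Finite G] (S H : Subgroup G) (hSH : S ≤ H)
    (hS : Cfsg.IsPronormal S) :
    Cfsg.IsPronormal H ↔
      ∀ g ∈ Subgroup.normalizer (S : Set G), ∃ w ∈ H ⊔ H.map (MulAut.conj g).toMonoidHom,
        H.map (MulAut.conj g).toMonoidHom = H.map (MulAut.conj w).toMonoidHom := by
  refine ⟨fun h g _ => h g, fun h g => ?_⟩
  obtain ⟨x, hx, hxeq⟩ := hS g
  have hn : x⁻¹ * g ∈ Subgroup.normalizer (S : Set G) := by
    rw [← map_conj_eq_iff, ← map_conj_map, hxeq, map_conj_map, inv_mul_cancel]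
    exact map_conj_one S
  obtain ⟨w, hw, hweq⟩ := h _ hn
  have hxJ : x ∈ H ⊔ H.map (MulAut.conj g).toMonoidHom :=
    sup_le_sup hSH (Subgroup.map_mono hSH) hx
  have hle : H.map (MulAut.conj (x⁻¹ * g)).toMonoidHom ≤ H ⊔ H.map (MulAut.conj g).toMonoidHom := by
    rw [← map_conj_map]
    rintro _ ⟨y, hy, rfl⟩
    show x⁻¹ * y * x⁻¹⁻¹ ∈ _
    exact mul_mem (mul_mem (inv_mem hxJ) (Subgroup.mem_sup_right hy)) (by rw [inv_inv]; exact hxJ)
  refine ⟨x * w, mul_mem hxJ (sup_le le_sup_left hle hw), ?_⟩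
  rw [← map_conj_map x w, ← hweq, map_conj_map, mul_inv_cancel_left]

end Cfsg.Agent.S3820
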