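import Cfsg.Statements.S3861
import Mathlib
import Cfsg.Agent.Cores.Basic
import Cfsg.Agent.Invol.BaerSuzuki
import Cfsg.Agent.H73.RealLift
-- import your own Cfsg.Agent.* helpers here

set_option autoImplicit false
open Cfsg

namespace Cfsg.Agent.S3861

/-- A finite group G has no non-identity element of odd order that is conjugate to its inverse if and only if the Sylow 2-subgroups of G are normal. -/
theorem result {G : Type*} [Group G] [Finite G] (P : Sylow 2 G) : (∀ x : G, x ≠ 1 → Odd (orderOf x) → ¬ IsConj x x⁻¹) ↔ (P : Subgroup G).Normal := by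
  classical
  constructor
  · intro h
    set N := Cfsg.pCore 2 G with hN
    have hNp : IsPGroup 2 N := Cfsg.Agent.Cores.pCore_isPGroup
    suffices hodd : ¬ 2 ∣ Nat.card (G ⧸ N) by
      have hle : (P : Subgroup G) ≤ N := by
        intro y hy
        rw [← QuotientGroup.eq_one_iff, ← orderOf_eq_one_iff]
        obtain ⟨k, hk⟩ := IsPGroup.iff_orderOf.1 P.isPGroup' ⟨y, hy⟩
        rw [Subgroup.orderOf_mk] at hk
        have h1 : orderOf (QuotientGroup.mk y : G ⧸ N) ∣ 2 ^ k := hk ▸ orderOf_map_dvd (QuotientGroup.mk' N) y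
        exact Nat.dvd_one.1 (((Nat.prime_two.coprime_iff_not_dvd.2 hodd).pow_left k) ▸
          Nat.dvd_gcd h1 (_root_.orderOf_dvd_natCard _))
      have hPN : (P : Subgroup G) = N := le_antisymm hle (Cfsg.Agent.Cores.pCore_le_sylow P)
      rw [hPN]; infer_instance
    intro h2
    obtain ⟨t, ht⟩ := exists_prime_orderOf_dvd_card' (G := G ⧸ N) 2 h2
    obtain ⟨y, hy1, hyodd, hyt⟩ := Cfsg.Agent.Invol.exists_inverted_odd t ht (fun M hM hMp htM => by
      have := Cfsg.Agent.Cores.le_pCore (p := 2) hM hMp htM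
      rw [Cfsg.Agent.Cores.pCore_quotient_pCore_eq_bot, Subgroup.mem_bot] at this
      rw [this, orderOf_one] at ht
      omega)
    obtain ⟨q, hq, hqd⟩ := Nat.exists_prime_and_dvd (mt orderOf_eq_one_iff.1 hy1)
    haveI := Fact.mk hq
    have hq2 : q ≠ 2 := fun h' => (Nat.not_even_iff_odd.2 hyodd) (even_iff_two_dvd.2 (h' ▸ hqd))
    have hreal : IsConj (y ^ (orderOf y / q)) (y ^ (orderOf y / q))⁻¹ :=
      isConj_iff.2 ⟨t, by rw [← conj_pow, hyt, inv_pow]⟩
    obtain ⟨z, hz, hzr⟩ := Cfsg.Agent.H73.exists_real_lift N (q := q) (fun hd => by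
      obtain ⟨k, hk⟩ := hNp.exists_card_eq
      rw [hk] at hd
      exact hq2 ((Nat.prime_dvd_prime_iff_eq hq Nat.prime_two).1 (hq.dvd_of_dvd_pow hd)))
      _ (orderOf_pow_orderOf_div (orderOf_pos y).ne' hqd) hreal
    refine h z (fun h1 => ?_) ?_ hzr
    · rw [h1, orderOf_one] at hz; exact hq.ne_one hz.symm
    · rw [hz]; exact hq.odd_of_ne_two hq2
  · intro hn x hx1 hxodd hxr
    obtain ⟨g, hg⟩ := isConj_iff.1 hxr
    obtain ⟨u, w, huw, hcomm, ⟨k, hk⟩, hwd, hw2⟩ :=
      Cfsg.Agent.H73.exists_rep_pow_split (x := g) 2 Nat.prime_two (orderOf_pos g).ne'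
    have hpg : ∀ z : G, (∃ j, orderOf z = 2 ^ j) → z ∈ (P : Subgroup G) := by
      intro z hz
      obtain ⟨a, ha⟩ := Cfsg.Agent.H73.exists_conj_mem_sylow P hz
      simpa [mul_assoc] using hn.conj_mem _ ha a⁻¹
    have hu : (QuotientGroup.mk u : G ⧸ (P : Subgroup G)) = 1 := (QuotientGroup.eq_one_iff u).2 (hpg u ⟨k, hk⟩)
    haveI := hn
    set X := (QuotientGroup.mk x : G ⧸ (P : Subgroup G))
    set T := (QuotientGroup.mk g : G ⧸ (P : Subgroup G))
    have hT : T * X * T⁻¹ = X⁻¹ := by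
      show _ = _
      rw [← QuotientGroup.mk_inv, ← QuotientGroup.mk_mul, ← QuotientGroup.mk_mul, hg, QuotientGroup.mk_inv]
    have hTodd : Odd (orderOf T) := by
      have : T = QuotientGroup.mk w := by
        show QuotientGroup.mk g = _
        rw [← huw, QuotientGroup.mk_mul, hu, one_mul]
      rw [this, ← Nat.not_even_iff_odd, even_iff_two_dvd]
      exact fun hd => hw2 (hd.trans (orderOf_map_dvd (QuotientGroup.mk' (P : Subgroup G)) w))
    have hiter : ∀ i : ℕ, T ^ (2 * i + 1) * X * (T ^ (2 * i + 1))⁻¹ = X⁻¹ := by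
      intro i
      induction i with
      | zero => simpa using hT
      | succ i ih =>
        have hT' : T * X⁻¹ * T⁻¹ = X := by rw [← conj_inv, hT, inv_inv]
        calc T ^ (2 * (i + 1) + 1) * X * (T ^ (2 * (i + 1) + 1))⁻¹
            = T * (T * (T ^ (2 * i + 1) * X * (T ^ (2 * i + 1))⁻¹) * T⁻¹) * T⁻¹ := by
              rw [show 2 * (i + 1) + 1 = 2 * i + 1 + 1 + 1 by ring, pow_succ', pow_succ']; group
          _ = _ := by rw [ih, hT', hT]
    obtain ⟨i, hi⟩ := hTodd
    have h2 := hiter i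
    rw [← hi, pow_orderOf_eq_one, one_mul, inv_one, mul_one] at h2
    have h3 : X ^ 2 = 1 := by
      rw [pow_two]; nth_rewrite 1 [h2]; exact inv_mul_cancel X
    have hxP : x ^ 2 ∈ (P : Subgroup G) := by
      rwa [← QuotientGroup.eq_one_iff, QuotientGroup.mk_pow]
    obtain ⟨j, hj⟩ := IsPGroup.iff_orderOf.1 P.isPGroup' ⟨_, hxP⟩
    rw [Subgroup.orderOf_mk] at hj
    have h4 : orderOf (x ^ 2) = orderOf x := Nat.Coprime.orderOf_pow hxodd.coprime_two_right
    rw [h4] at hj
    have hj0 : j = 0 := by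
      by_contra hj0
      rw [hj] at hxodd
      exact (Nat.not_even_iff_odd.2 hxodd) (even_iff_two_dvd.2 (dvd_pow_self 2 hj0))
    rw [hj0, pow_zero, orderOf_eq_one_iff] at hj
    exact hx1 hj

end Cfsg.Agent.S3861
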