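import Cfsg.Agent.ReeG2.Base

set_option autoImplicit false
open Cfsg

namespace Cfsg.Agent.S1154

open Cfsg.Agent.ReeG2 Cfsg.Lie

theorem result {K : Type*} [Field K] [Fintype K] {m : ℕ} (hm : 1 ≤ m) (hK : Fintype.card K = 3 ^ (2 * m + 1)) :
    Nat.card {u : ↥(Cfsg.Lie.chevG2.posUnipotent K ⊓ Cfsg.Lie.twistedG2 K (3 ^ m)) // orderOf u = 3} = (3 ^ (2 * m + 1)) ^ 2 - 1 := by
  classical
  haveI := ChevTw.charG2 hK
  haveI : Fact (Nat.Prime 3) := ⟨Nat.prime_three⟩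
  have key : ∀ t u v : K, orderOf (⟨uEl K m t u v, uEl_mem K hK t u v⟩ :
      ↥(chevG2.posUnipotent K ⊓ twistedG2 K (3 ^ m))) = 3 ↔ t = 0 ∧ (u, v) ≠ 0 := by
    intro t u v
    rw [Subgroup.orderOf_mk]
    have hc := reeEl_cube (GS K) (ChevTw.pow_twice hK) t u v
    constructor
    · intro h
      have h1 : uEl K m t u v ^ 3 = 1 := by rw [← h]; exact pow_orderOf_eq_one _
      rw [hc] at h1
      obtain ⟨-, -, h2⟩ := uEl_eq_one K hK h1
      have ht : t = 0 := by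
        by_contra ht
        exact mul_ne_zero (pow_ne_zero _ (pow_ne_zero _ ht)) (pow_ne_zero _ ht) (neg_eq_zero.1 h2)
      refine ⟨ht, fun h0 => ?_⟩
      obtain ⟨rfl, rfl⟩ := Prod.mk_eq_zero.1 h0
      rw [ht, uEl_one K hK, orderOf_one] at h
      omega
    · rintro ⟨rfl, hne⟩
      refine orderOf_eq_prime ?_ ?_
      · rw [hc, show -(((0 : K) ^ 3 ^ m) ^ 3 * (0 : K) ^ 2) = 0 by simp]
        exact uEl_one K hK
      · intro h
        obtain ⟨-, hu, hv⟩ := uEl_eq_one K hK h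
        exact hne (by rw [hu, hv]; rfl)
  have e : {p : K × K // p ≠ 0} ≃ {u : ↥(chevG2.posUnipotent K ⊓ twistedG2 K (3 ^ m)) // orderOf u = 3} := by
    refine Equiv.ofBijective (fun p => ⟨⟨uEl K m 0 p.1.1 p.1.2, uEl_mem K hK _ _ _⟩,
      (key _ _ _).2 ⟨rfl, p.2⟩⟩) ⟨?_, ?_⟩
    · intro p p' h
      obtain ⟨-, h1, h2⟩ := uEl_inj K hK (congrArg (fun z => (z.1 : GL chevG2.Idx K)) h)
      exact Subtype.ext (Prod.ext h1 h2)
    · rintro ⟨⟨g, hg⟩, h⟩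
      obtain ⟨t, u, v, rfl⟩ := (mem_U_iff K hK g).1 hg
      obtain ⟨rfl, hne⟩ := (key t u v).1 h
      exact ⟨⟨(u, v), hne⟩, rfl⟩
  rw [← Nat.card_congr e, Nat.card_eq_fintype_card, Fintype.card_subtype_compl, Fintype.card_prod,
    Fintype.card_subtype_eq, hK, pow_two]

end Cfsg.Agent.S1154
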