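import Cfsg.Statements.S0071
import Cfsg.Agent.Transfer.Frobenius
-- import your own Cfsg.Agent.* helpers here

set_option autoImplicit false
open Cfsg

namespace Cfsg.Agent.S0071

/-- The Frobenius normal p-complement Theorem states that a Sylow p-subgroup has a normal complement exactly when, for each of its subgroups Q, every element of the normalizer of Q of order prime to p centralizes Q. -/
theorem result {G : Type*} [Group G] [Finite G] {p : ℕ} [Fact p.Prime] (P : Sylow p G) : (∃ N : Subgroup G, N.Normal ∧ N.IsComplement' (P : Subgroup G)) ↔ ∀ Q : Subgroup G, Q ≤ (P : Subgroup G) → ∀ g ∈ Subgroup.normalizer (Q : Set G), Nat.Coprime (orderOf g) p → g ∈ Subgroup.centralizer (Q : Set G) := by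
  rw [← Cfsg.Agent.Transfer.hasNormalPComplement_iff_exists P]
  refine ⟨fun h Q hQ g hg hgo =>
      Cfsg.Agent.Transfer.centralize_of_hasNormalPComplement h Q (P.2.to_le hQ) hg hgo, fun h =>
    Cfsg.Agent.Transfer.hasNormalPComplement_of_coprime_centralize fun Q hQ _ g hg hgo => ?_⟩
  obtain ⟨R, hR⟩ := hQ.exists_le_sylow
  obtain ⟨u, hu⟩ := MulAction.exists_smul_eq G R P
  let φ := (MulAut.conj u).toMonoidHom
  have hle : Q.map φ ≤ (P : Subgroup G) := by
    rintro - ⟨x, hx, rfl⟩
    rw [← hu]
    exact ⟨x, hR hx, rfl⟩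
  have hn : φ g ∈ Subgroup.normalizer ((Q.map φ : Subgroup G) : Set G) := by
    have := Subgroup.le_normalizer_map φ (Subgroup.mem_map_of_mem φ hg)
    rwa [Subgroup.coe_map]
  have ho : Nat.Coprime (orderOf (φ g)) p := hgo.coprime_dvd_left (orderOf_map_dvd φ g)
  have hc := h _ hle (φ g) hn ho
  refine Subgroup.mem_centralizer_iff.mpr fun x hx => (MulAut.conj u).injective ?_
  have := Subgroup.mem_centralizer_iff.mp hc (φ x) (Subgroup.mem_map_of_mem φ hx)
  simpa [φ] using this

end Cfsg.Agent.S0071
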