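import Cfsg.Statements.S0420
import Cfsg.Agent.Recog.OrderM11.Main

set_option autoImplicit false
open scoped Pointwise
open Cfsg

namespace Cfsg.Agent.S0420

/-- Simple groups of order 7920 are all isomorphic to the concrete smallest Mathieu group. -/
theorem result {G : Type*} [Group G] [Finite G] (hG : Cfsg.IsM11 G) (d : Finset Cfsg.GolayPt) (hd : d ∈ Cfsg.dodecads) (p : Cfsg.GolayPt) (hp : p ∈ d) : Nonempty (G ≃* ↥(MulAction.stabilizer Cfsg.M24 d ⊓ MulAction.stabilizer Cfsg.M24 p)) := by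
  obtain ⟨a⟩ := (Recog.OrderM11.Hyp.mk hG.1 hG.2).nonempty_equiv_M11
  obtain ⟨b⟩ := (Recog.OrderM11.Hyp.mk
    ((Cfsg.Agent.Golay.stabilizerInfEquiv₂ Cfsg.M24 d p).symm.isSimpleGroup_congr.mp
      (Cfsg.Agent.Golay.isSimpleGroup_inf_dodecad_point hd hp))
    ((Nat.card_congr (Cfsg.Agent.Golay.stabilizerInfEquiv₂ Cfsg.M24 d p).toEquiv).trans
      (Cfsg.Agent.Golay.card_inf_stabilizer_dodecad_point hd hp))).nonempty_equiv_M11
  exact ⟨a.trans b.symm⟩

end Cfsg.Agent.S0420
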