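import Cfsg.Statements.S0448
import Cfsg.Agent.J1Order.Config
import Cfsg.Agent.J1Order.Mult

set_option autoImplicit false
open Cfsg

namespace Cfsg.Agent.S0448

open scoped ComplexConjugate
open Cfsg.Agent.J1Order

/-- Janko's first group: a finite simple group with a 2-central involution whose centraliser is isomorphic to (cyclic of order 2) × (alternating group of degree 5) has order 175560. -/
theorem result {G : Type*} [Group G] [Finite G] [IsSimpleGroup G] (t : G) (ht : Cfsg.IsTwoCentralInvolution t) (e : Subgroup.centralizer ({t} : Set G) ≃* Multiplicative (ZMod 2) × alternatingGroup (Fin 5)) : Cfsg.IsJ1 G := by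
  classical
  refine ⟨inferInstance, ?_⟩
  letI := Fintype.ofFinite G
  let h : Hyp t := ⟨ht, e⟩
  set I : ℤ := ((Subgroup.centralizer ({t} : Set G)).index : ℤ) with hIdef
  choose d0 hd0 hd0' using fun χ : IrrCharacter G => Char.irr_one_pos χ.2
  choose c0 hc0 using fun (i : Fin 4) (χ : IrrCharacter G) =>
    Char.classInner_generalized_int (h.f_genChar i) (Char.isGeneralizedCharacter_of_irr χ.2)
  let d : IrrCharacter G → ℤ := fun χ => (d0 χ : ℤ)
  let v : IrrCharacter G → ℤ := fun χ => 4 * c0 0 χ + 3 * c0 1 χ + 3 * c0 2 χ - 5 * c0 3 χ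
  have hd : ∀ χ : IrrCharacter G, (χ : G → ℂ) 1 = (d χ : ℂ) := fun χ => by simp [d, hd0']
  have hv : ∀ χ : IrrCharacter G, (χ : G → ℂ) t = (v χ : ℂ) := fun χ => by
    have h1 := h.value_t (Char.irr_isClassFunction χ.2)
    simp only [hc0] at h1
    have h2 := congrArg conj h1
    rw [Complex.conj_conj] at h2
    rw [← h2]
    simp [v, map_ofNat]
  have hq : ∀ χ : IrrCharacter G, (χ : G → ℂ) (h.emb (ε, x0)) = ((c0 0 χ + c0 3 χ : ℤ) : ℂ) := by
    intro χ
    have h1 := h.value_tx (Char.irr_isClassFunction χ.2)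
    simp only [hc0] at h1
    have h2 := congrArg conj h1
    rw [Complex.conj_conj] at h2
    rw [← h2]
    simp
  have expand : ∀ (i : Fin 4) (y : G), h.f i y = ∑ χ : IrrCharacter G, (c0 i χ : ℂ) * (χ : G → ℂ) y := by
    intro i y
    conv_lhs => rw [Char.eq_sum_classInner_smul (h.f_class i)]
    simp only [Finset.sum_apply, Pi.smul_apply, smul_eq_mul, hc0]
  let o : IrrCharacter G := Char.trivialIrr G
  have hcfg : Cfg o d v c0 I := by
    refine ⟨fun χ => by simpa [d] using hd0 χ, ?_, ?_, ?_, ?_, fun _ => rfl, ?_, ?_, ?_, ?_, ?_⟩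
    · have h1 := hd o
      have h2 : (o : G → ℂ) 1 = 1 := rfl
      rw [h2] at h1
      exact_mod_cast h1.symm
    · intro i
      have h1 := hc0 i o
      have h2 : (o : G → ℂ) = fun _ => (1 : ℂ) := rfl
      rw [h2, h.inner_f_one] at h1
      have h3 : ((c0 i o : ℤ) : ℂ) = ((![0, 1, 1, 1] i : ℤ) : ℂ) := by
        rw [← h1]; fin_cases i <;> simp
      exact_mod_cast h3
    · intro i j
      have h1 := h.inner_ff i j
      rw [Char.classInner_eq_sum_mul_conj (h.f_class i)] at h1
      simp only [hc0, map_intCast] at h1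
      have h3 : ((∑ χ, c0 i χ * c0 j χ : ℤ) : ℂ) =
          (((![![2, 0, 0, 0], ![0, 4, 2, 2], ![0, 2, 4, 2], ![0, 2, 2, 4]] i j : ℤ)) : ℂ) := by
        push_cast
        rw [h1]
        fin_cases i <;> fin_cases j <;> simp [Hyp.gram]
      exact_mod_cast h3
    · intro i
      have h1 := expand i 1
      rw [h.f_eq_zero i (one_pow 15)] at h1
      simp only [hd] at h1
      exact_mod_cast h1.symm
    · intro i
      have h1 := h.order_eq i
      simp only [hc0, hd, hv] at h1
      have h3 : (((I : ℚ) * ∑ χ, ((v χ * v χ * c0 i χ : ℤ) : ℚ) / d χ : ℚ) : ℂ) =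
          (((![0, 1200, 1200, 720] i : ℚ)) : ℂ) := by
        push_cast
        rw [show ((I : ℂ)) = ((Subgroup.centralizer ({t} : Set G)).index : ℂ) by simp [I], h1]
        fin_cases i <;> simp [Hyp.rhs]
      exact_mod_cast h3
    · intro χ
      obtain ⟨n, hn⟩ := h.mult8 (Char.isCharacter_of_irr χ.2)
      rw [hd, hv] at hn
      exact ⟨n, by exact_mod_cast hn⟩
    · have h1 := Char.sum_irr_degree_sq (G := G)
      simp only [hd, h.card_G, sq] at h1
      exact_mod_cast h1
    · simp only [I]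
      exact_mod_cast Nat.pos_of_ne_zero Subgroup.index_ne_zero_of_finite
    · have := h.odd_index
      omega
  rcases hcfg.outcome with hI | ⟨x, p, q, ⟨dx, vx, qx, cx⟩, ⟨dp, vp, qp, cp⟩, ⟨dq, vq, qq, cq⟩,
    ⟨hxo, hpo, hqo, hxp, hxq, hpq⟩, hzero⟩
  · rw [h.card_G]
    omega
  exfalso
  -- the elements of order three
  set P : IrrCharacter G → ℂ := fun χ => (χ : G → ℂ) (h.emb (1, x0)) with hP
  have hsum : (0 : ℂ) = 1 - P x - P p + P q := by
    have h15 : h.emb (1, x0) ^ 15 = 1 := by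
      rw [← map_pow, Prod.pow_mk, one_pow, pow15_eq x0 (by rw [cls_x0]; decide), ← Prod.one_eq_mk,
        map_one]
    have h1 := expand 3 (h.emb (1, x0))
    rw [h.f_eq_zero 3 h15] at h1
    rw [← Finset.sum_subset (Finset.subset_univ ({o, x, p, q} : Finset (IrrCharacter G)))
      (fun w _ hw => by
        simp only [Finset.mem_insert, Finset.mem_singleton, not_or] at hw
        rw [hzero w hw.1 hw.2.1 hw.2.2.1 hw.2.2.2]; simp),
      Finset.sum_insert (by simp [hxo.symm, hpo.symm, hqo.symm]),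
      Finset.sum_insert (by simp [hxp, hxq]), Finset.sum_pair hpq, hcfg.co, cx, cp, cq] at h1
    have h2 : P o = 1 := rfl
    simp at h1
    simp only [hP] at h2 ⊢
    rw [h2] at h1
    linear_combination h1
  obtain ⟨n1, hn1⟩ := h.mult24 (Char.isCharacter_of_irr x.2)
  obtain ⟨n3, hn3⟩ := h.mult12 (Char.isCharacter_of_irr p.2)
  obtain ⟨n2, hn2⟩ := h.mult24w (Char.isCharacter_of_irr q.2)
  rw [hd, hv, hq, dx, vx, qx] at hn1
  rw [hd, hv, hq, dp, vp, qp] at hn3
  rw [hd, hv, hq, dq, vq, qq] at hn2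
  have hfin : ((3 * n1 + 3 + 6 * n3 + 1 + 3 * n2 : ℕ) : ℂ) = ((1 : ℕ) : ℂ) := by
    simp only [hP] at hsum
    push_cast at hn1 hn2 hn3 ⊢
    linear_combination hsum - hn1 / 8 - hn3 / 2 - hn2 / 8
  have : 3 * n1 + 3 + 6 * n3 + 1 + 3 * n2 = 1 := Nat.cast_injective hfin
  omega

end Cfsg.Agent.S0448
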