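import Cfsg.Statements.S0540
import Cfsg.Agent.Subnormal.Join

set_option autoImplicit false
open Pointwise
open Cfsg

namespace Cfsg.Agent.S0540

/-- A uniqueness lemma of zipper type. Let A be a subgroup of a finite group G and U a nonempty family of subgroups. For V in U write S(V) for the set of conjugates of A that lie in V and are subnormal in V. Assume: A belongs to S(V) for every V in U; a member of some S(W) that lies in V belongs to S(V); and for all V, W in U the normalizer of the join of S(V) ∩ S(W) lies in some member of U. Then U has a greatest element. -/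
theorem result {G : Type*} [Group G] [Finite G] (A : Subgroup G) (U : Set (Subgroup G)) (hU : U.Nonempty) (S : Subgroup G → Set (Subgroup G)) (hS : ∀ V B : Subgroup G, B ∈ S V ↔ (∃ g : G, B = MulAut.conj g • A) ∧ B ≤ V ∧ (B.subgroupOf V).IsSubnormal) (h1 : ∀ V ∈ U, A ∈ S V) (h2 : ∀ V ∈ U, ∀ W ∈ U, ∀ B ∈ S W, B ≤ V → B ∈ S V) (h3 : ∀ V ∈ U, ∀ W ∈ U, ∃ X ∈ U, Subgroup.normalizer ((sSup (S V ∩ S W) : Subgroup G) : Set G) ≤ X) : ∃ M ∈ U, ∀ V ∈ U, V ≤ M := by
  classical
  have hconjS : ∀ V, ∀ v ∈ V, ∀ B ∈ S V, MulAut.conj v • B ∈ S V := by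
    intro V v hv B hB
    obtain ⟨⟨g, rfl⟩, hle, hsn⟩ := (hS V B).1 hB
    have hV : MulAut.conj v • V = V := Coprime.conj_smul_eq_of_mem hv
    refine (hS V _).2 ⟨⟨v * g, Coprime.conj_smul_conj_smul A v g⟩,
      (Coprime.conj_smul_mono hle v).trans hV.le, ?_⟩
    have e : (MulAut.conj v • MulAut.conj g • A).subgroupOf V =
        MulAut.conj (⟨v, hv⟩ : V) • (MulAut.conj g • A).subgroupOf V := by
      apply Subgroup.map_injective V.subtype_injective
      rw [Coprime.map_subtype_conj_smul, Subgroup.map_subgroupOf_eq_of_le hle,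
        Subgroup.map_subgroupOf_eq_of_le ((Coprime.conj_smul_mono hle v).trans hV.le)]
    rw [e]
    exact hsn.smul (MulAut.conj (⟨v, hv⟩ : V))
  -- if `S V` is contained in `S W`, `V` normalises the join of the common part
  have hnorm : ∀ V W, S V ⊆ S W → V ≤ Subgroup.normalizer ((sSup (S V ∩ S W) : Subgroup G) : Set G) := by
    intro V W hsub v hv
    rw [Set.inter_eq_left.2 hsub]
    have hle' : MulAut.conj v • sSup (S V) ≤ sSup (S V) := by
      rw [← inv_inv v, Coprime.conj_inv_smul_le]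
      refine sSup_le fun B hB => ?_
      rw [← Coprime.conj_inv_smul_le, inv_inv]
      exact le_sSup (hconjS V v hv B hB)
    exact Coprime.conj_smul_eq_self_iff.1
      (Subgroup.eq_of_le_of_card_ge hle' (Coprime.card_conj_smul _ v).ge)
  -- a member of `S V` outside a proper part normalises the join of that part
  have hstep : ∀ V (T : Set (Subgroup G)), T ⊂ S V →
      ∃ B ∈ S V, B ∉ T ∧ B ≤ Subgroup.normalizer ((sSup T : Subgroup G) : Set G) := by
    intro V T hT
    have hsn : ∀ B ∈ S V, B ≤ V := fun B hB => ((hS V B).1 hB).2.1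
    obtain ⟨hTsub, hTne⟩ := hT
    let S' : Set (Subgroup V) := {X | X.map V.subtype ∈ S V}
    let T' : Set (Subgroup V) := {X | X.map V.subtype ∈ T}
    have hT' : T' ⊂ S' := by
      refine ⟨fun X hX => hTsub hX, fun h => hTne fun B hB => ?_⟩
      have hB' : B.subgroupOf V ∈ S' := by
        show _ ∈ S V
        rwa [Subgroup.map_subgroupOf_eq_of_le (hsn B hB)]
      have h' := h hB'
      change _ ∈ T at h'
      rwa [Subgroup.map_subgroupOf_eq_of_le (hsn B hB)] at h'
    obtain ⟨X, hX, hX0, hXn⟩ := SubnormalLib.exists_normalizing_member (S := S') (S₀ := T')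
      (fun X hX => by
        have h := ((hS V _).1 hX).2.2
        rwa [Subgroup.subgroupOf, Subgroup.comap_map_eq_self_of_injective V.subtype_injective] at h)
      (fun X hX v => by
        show _ ∈ S V
        rw [Coprime.map_subtype_conj_smul]
        exact hconjS V v v.2 _ hX) hT'
    refine ⟨X.map V.subtype, hX, hX0, ?_⟩
    have hJ : (sSup T' : Subgroup V).map V.subtype = sSup T := by
      refine le_antisymm (Subgroup.map_le_iff_le_comap.2 (sSup_le fun Y hY => ?_))
        (sSup_le fun B hB => ?_)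
      · exact Subgroup.map_le_iff_le_comap.1 (le_sSup hY)
      · rw [← Subgroup.map_subgroupOf_eq_of_le (hsn B (hTsub hB))]
        refine Subgroup.map_mono (le_sSup ?_)
        show _ ∈ T
        rwa [Subgroup.map_subgroupOf_eq_of_le (hsn B (hTsub hB))]
    rw [← hJ]
    exact (Subgroup.map_mono hXn).trans (Subgroup.le_normalizer_map _)
  have hmax : ∀ X ∈ U, ∃ Y ∈ U, X ≤ Y ∧ ∀ Z ∈ U, Y ≤ Z → Z = Y := by
    intro X hX
    obtain ⟨Y, hXY, hY⟩ := Finite.exists_le_maximal (p := fun K => K ∈ U) hX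
    exact ⟨Y, hY.1, hXY, fun Z hZ hYZ => le_antisymm (hY.2 hZ hYZ) hYZ⟩
  suffices huniq : ∀ V ∈ U, (∀ Z ∈ U, V ≤ Z → Z = V) →
      ∀ W ∈ U, (∀ Z ∈ U, W ≤ Z → Z = W) → V = W by
    obtain ⟨V0, hV0⟩ := hU
    obtain ⟨M, hM, -, hMmax⟩ := hmax V0 hV0
    refine ⟨M, hM, fun V hV => ?_⟩
    obtain ⟨Y, hY, hVY, hYmax⟩ := hmax V hV
    exact hVY.trans (huniq Y hY hYmax M hM hMmax).le
  by_contra hcon
  push Not at hcon
  let P : Set (Subgroup G × Subgroup G) :=
    {q | q.1 ∈ U ∧ q.2 ∈ U ∧ (∀ Z ∈ U, q.1 ≤ Z → Z = q.1) ∧ (∀ Z ∈ U, q.2 ≤ Z → Z = q.2) ∧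
      q.1 ≠ q.2}
  have hP : P.Nonempty := by
    obtain ⟨V, hV, hVm, W, hW, hWm, hne⟩ := hcon
    exact ⟨(V, W), hV, hW, hVm, hWm, hne⟩
  obtain ⟨⟨V, W⟩, hVW, hbest⟩ :=
    Set.exists_max_image P (fun q => (S q.1 ∩ S q.2).ncard) (Set.toFinite P) hP
  obtain ⟨hV, hW, hVm, hWm, hne⟩ := hVW
  -- a proper common part forces the normaliser of its join into that member
  have hside : ∀ V' ∈ U, (∀ Z ∈ U, V' ≤ Z → Z = V') → ∀ T : Set (Subgroup G),
      T = S V ∩ S W → T ⊂ S V' →
      Subgroup.normalizer ((sSup T : Subgroup G) : Set G) ≤ V' := by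
    intro V' hV' hV'm T hT hlt
    obtain ⟨X, hX, hNX⟩ := h3 V hV W hW
    rw [← hT] at hNX
    obtain ⟨Y, hY, hXY, hYm⟩ := hmax X hX
    obtain ⟨B, hB, hBT, hBn⟩ := hstep V' T hlt
    by_contra hnot
    have hYV : V' ≠ Y := fun e => hnot (e ▸ hNX.trans hXY)
    have hlt' : T ⊂ S V' ∩ S Y := by
      refine ⟨fun C hC => ⟨hlt.1 hC, ?_⟩, fun h => hBT (h ⟨hB, ?_⟩)⟩
      · exact h2 Y hY V' hV' C (hlt.1 hC)
          ((le_sSup hC).trans (Subgroup.le_normalizer.trans (hNX.trans hXY)))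
      · exact h2 Y hY V' hV' B hB (hBn.trans (hNX.trans hXY))
    have h := hbest (V', Y) ⟨hV', hY, hV'm, hYm, hYV⟩
    have h' := Set.ncard_lt_ncard hlt' (Set.toFinite _)
    simp only at h
    rw [hT] at h'
    omega
  by_cases hWsub : S W ⊆ S V
  · by_cases hVsub : S V ⊆ S W
    · obtain ⟨X, hX, hNX⟩ := h3 V hV W hW
      have e1 := hVm X hX ((hnorm V W hVsub).trans hNX)
      have e2 := hWm X hX ((hnorm W V hWsub).trans (Set.inter_comm (S W) (S V) ▸ hNX))
      exact hne (e1.symm.trans e2)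
    · have h : S V ∩ S W ⊂ S V := ⟨Set.inter_subset_left, fun h => hVsub fun C hC => (h hC).2⟩
      have hN := hside V hV hVm _ rfl h
      have hWV : W ≤ V := (hnorm W V hWsub).trans (Set.inter_comm (S W) (S V) ▸ hN)
      exact hne (hWm V hV hWV)
  · have h : S V ∩ S W ⊂ S W := ⟨Set.inter_subset_right, fun h => hWsub fun C hC => (h hC).1⟩
    have hN := hside W hW hWm _ rfl h
    by_cases hVsub : S V ⊆ S W
    · exact hne.symm (hVm W hW ((hnorm V W hVsub).trans hN))
    · have h' : S V ∩ S W ⊂ S V := ⟨Set.inter_subset_left, fun h => hVsub fun C hC => (h hC).2⟩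
      obtain ⟨B, hB, hBT, hBn⟩ := hstep V _ h'
      exact hBT ⟨hB, h2 W hW V hV B hB (hBn.trans hN)⟩

end Cfsg.Agent.S0540
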