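import Cfsg.Statements.S0647
import Mathlib.GroupTheory.Subgroup.Centralizer

set_option autoImplicit false
open Cfsg

namespace Cfsg.Agent.S0647

/-- For a nonempty family of maximal abelian subgroups of a finite group, the intersection of the family is the centre of the subgroup it generates, which is also the full centralizer of that subgroup. -/
theorem result {S : Type*} [Group S] [Finite S] (𝒜 : Set (Subgroup S)) (hne : 𝒜.Nonempty) (hab : ∀ A ∈ 𝒜, IsMulCommutative A) (hmax : ∀ A ∈ 𝒜, ∀ B : Subgroup S, IsMulCommutative B → A ≤ B → B = A) : sInf 𝒜 = sSup 𝒜 ⊓ Subgroup.centralizer ((sSup 𝒜 : Subgroup S) : Set S) ∧ sInf 𝒜 = Subgroup.centralizer ((sSup 𝒜 : Subgroup S) : Set S) := by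
  obtain ⟨A₀, hA₀⟩ := hne
  have hpair : ∀ A ∈ 𝒜, ∀ a ∈ A, ∀ b ∈ A, a * b = b * a := fun A hA a ha b hb => by
    have := hab A hA
    exact congrArg Subtype.val (mul_comm' (⟨a, ha⟩ : A) ⟨b, hb⟩)
  have h2 : sInf 𝒜 = Subgroup.centralizer ((sSup 𝒜 : Subgroup S) : Set S) := by
    refine le_antisymm ?_ (le_sInf fun A hA x hx => ?_)
    · rw [Subgroup.le_centralizer_iff]
      refine sSup_le fun A hA a ha x hx => ?_
      exact hpair A hA x (Subgroup.mem_sInf.1 hx A hA) a ha
    · have hx' : ∀ a ∈ A, a * x = x * a := fun a ha => hx a (Subgroup.mem_sSup_of_mem hA ha)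
      set T : Set S := insert x (A : Set S)
      have hTcomm : ∀ u ∈ T, ∀ v ∈ T, u * v = v * u := by
        rintro u (rfl | hu) v (rfl | hv)
        · rfl
        · exact (hx' v hv).symm
        · exact hx' u hu
        · exact hpair A hA u hu v hv
      have hBc : IsMulCommutative (Subgroup.closure T) := Subgroup.isMulCommutative_closure hTcomm
      have := hmax A hA _ hBc (fun a ha => Subgroup.subset_closure (Set.mem_insert_of_mem x ha))
      exact this ▸ Subgroup.subset_closure (Set.mem_insert x _)
  refine ⟨le_antisymm (le_inf ?_ h2.le) (inf_le_right.trans h2.ge), h2⟩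
  exact (sInf_le hA₀).trans (le_sSup hA₀)

end Cfsg.Agent.S0647
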