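import Cfsg.Statements.S0651
import Cfsg.Agent.Stability.ZJ

set_option autoImplicit false
open Cfsg

namespace Cfsg.Agent.S0651

/-- For odd p and D normal in the p-group S, the abelian subgroups of D of largest order satisfy the replacement property: a class-2 normal subgroup B of S with a member containing [B, B] but not B normalizes some such member. -/
theorem result {S : Type*} [Group S] [Finite S] {p : ℕ} [Fact p.Prime] (hS : IsPGroup p S) (hp : p ≠ 2) (D : Subgroup S) [D.Normal] : ∀ (B : Subgroup S) [B.Normal], ⁅⁅B, B⁆, B⁆ = ⊥ → (∃ U ∈ (Set.image (fun A : Subgroup ↥D => A.map D.subtype) (Cfsg.maxAbelianSubgroups ↥D)), ⁅B, B⁆ ≤ U ∧ ¬ B ≤ U) → ∃ A ∈ (Set.image (fun A : Subgroup ↥D => A.map D.subtype) (Cfsg.maxAbelianSubgroups ↥D)), ⁅B, B⁆ ≤ A ∧ ¬ B ≤ A ∧ B ≤ Subgroup.normalizer (A : Set S) := by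
  intro B _ _ hex
  have key : Set.image (fun A : Subgroup ↥D => A.map D.subtype) (Cfsg.maxAbelianSubgroups ↥D) =
      (Stability.abFamily p S).mem D := by
    ext A
    constructor
    · rintro ⟨A', hA', rfl⟩
      exact (Modules.mem_maxAbelianSubgroups_iff D A').1 hA'
    · intro hA
      have h : (A.subgroupOf D).map D.subtype = A := Subgroup.map_subgroupOf_eq_of_le hA.1
      exact ⟨A.subgroupOf D, (Modules.mem_maxAbelianSubgroups_iff D _).2 (by rw [h]; exact hA), h⟩
  rw [key] at hex ⊢
  exact (Stability.abFamily p S).exists_normalized hp (S := ⊤) (hS.to_subgroup ⊤) le_top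
    (fun g _ => by rw [Subgroup.normalizer_eq_top]; trivial) le_top
    (fun g _ => by rw [Subgroup.normalizer_eq_top]; trivial) hex

end Cfsg.Agent.S0651
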