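import Cfsg.Statements.S0654
import Cfsg.Agent.Stability.ZJ

set_option autoImplicit false
open Cfsg

namespace Cfsg.Agent.S0654

/-- The ZJ-Theorem for the elementary-abelian Thompson subgroup: for an odd prime p, a finite group G with C_G(O_p(G)) ≤ O_p(G) acting p-stably on its normal p-subgroups, and a Sylow p-subgroup S of G, the subgroup generated by the elements of order dividing p in Z(J_e(S)) is characteristic in G. -/
theorem result {G : Type*} [Group G] [Finite G] {p : ℕ} [Fact p.Prime] (hp : p ≠ 2) (hc : Subgroup.centralizer (Cfsg.pCore p G : Set G) ≤ Cfsg.pCore p G) (hst : ∀ (P : Subgroup G) [P.Normal], IsPGroup p P → Cfsg.IsPStableOn p P) (S : Sylow p G) : ((Cfsg.omegaCenterThompson p ↥(S : Subgroup G)).map (S : Subgroup G).subtype).Characteristic := by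
  have key : ∀ P : Subgroup G, (Cfsg.omegaCenterThompson p ↥P).map P.subtype =
      Cfsg.omegaOne p (Cfsg.centerThompsonOf p P) := fun P => by
    rw [Cfsg.omegaCenterThompson, Modules.map_omegaOne P.subtype_injective,
      Modules.map_inf_centralizer P.subtype_injective]
    rfl
  rw [key]
  refine Stability.characteristic_of_natural (fun P => Cfsg.omegaOne p (Cfsg.centerThompsonOf p P))
    (fun e P => ?_) S ?_
  · 
    rw [Modules.map_omegaOne e.injective,
      Modules.map_centerThompsonOf (f := e.toMonoidHom) e.injective]
  · 
    rw [Modules.omegaOne_centerThompsonOf_eq]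
    exact (Stability.elemFamily p G).sInf_normal hp hc hst S

end Cfsg.Agent.S0654
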