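import Cfsg.Statements.S0655
import Mathlib.GroupTheory.Subgroup.Centralizer

set_option autoImplicit false
open Cfsg

namespace Cfsg.Agent.S0655

/-- In a p-group the intersection of all elementary abelian subgroups of largest order is the subgroup generated by the elements of order dividing p in the centre (equivalently the centralizer) of the elementary-version Thompson subgroup. -/
theorem result {S : Type*} [Group S] [Finite S] {p : ℕ} [Fact p.Prime] (hS : IsPGroup p S) : sInf (Cfsg.maxElementaryAbelianSubgroups p S) = Cfsg.omegaCenterThompson p S ∧ Cfsg.omegaCenterThompson p S = Cfsg.omegaOne p (Subgroup.centralizer (Cfsg.thompsonSubgroup p S : Set S)) := by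
  set 𝒜 := Cfsg.maxElementaryAbelianSubgroups p S
  set J := Cfsg.thompsonSubgroup p S with hJ
  obtain ⟨A₀, hA₀⟩ : 𝒜.Nonempty := by
    obtain ⟨A, hA, hmax⟩ := (Set.toFinite {A : Subgroup S | Cfsg.IsElementaryAbelian p A}).exists_maximalFor
      (fun A : Subgroup S => Nat.card A) _ ⟨⊥, ⟨⟨fun a b => Subsingleton.elim _ _⟩⟩, fun a ha => by
        rw [Subgroup.mem_bot.1 ha, one_pow]⟩
    exact ⟨A, hA, fun B hB => le_of_not_gt fun h => absurd (hmax hB h.le) (Nat.not_le.2 h)⟩
  have hA : ∀ A ∈ 𝒜, ∀ x : S, x ∈ Subgroup.centralizer (J : Set S) → x ^ p = 1 → x ∈ A := by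
    rintro A ⟨⟨hAc, hAp⟩, hmax⟩ x hx hxp
    have hx' : ∀ a ∈ A, a * x = x * a := fun a ha =>
      hx a (Subgroup.mem_sSup_of_mem (⟨⟨hAc, hAp⟩, hmax⟩ : A ∈ 𝒜) ha)
    set T : Set S := insert x (A : Set S)
    have hTcomm : ∀ u ∈ T, ∀ v ∈ T, u * v = v * u := by
      rintro u (rfl | hu) v (rfl | hv)
      · rfl
      · exact (hx' v hv).symm
      · exact hx' u hu
      · exact congrArg Subtype.val (mul_comm' (⟨u, hu⟩ : A) ⟨v, hv⟩)
    have hBc : IsMulCommutative (Subgroup.closure T) := Subgroup.isMulCommutative_closure hTcomm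
    have hBp : ∀ b ∈ Subgroup.closure T, b ^ p = 1 := by
      intro b hb
      induction hb using Subgroup.closure_induction with
      | mem z hz =>
        rcases hz with rfl | hz
        · exact hxp
        · exact hAp z hz
      | one => exact one_pow p
      | mul u v hu hv hu' hv' =>
        have hc : Commute u v := congrArg Subtype.val (mul_comm' (⟨u, hu⟩ : Subgroup.closure T) ⟨v, hv⟩)
        rw [hc.mul_pow, hu', hv', one_mul]
      | inv u _ hu' => rw [inv_pow, hu', inv_one]
    have hle : A ≤ Subgroup.closure T := fun a ha => Subgroup.subset_closure (Set.mem_insert_of_mem x ha)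
    rw [Subgroup.eq_of_le_of_card_ge hle (hmax _ ⟨hBc, hBp⟩)]
    exact Subgroup.subset_closure (Set.mem_insert x _)
  have h1 : sInf 𝒜 ≤ Cfsg.omegaCenterThompson p S := by
    intro x hx
    refine Subgroup.subset_closure ⟨⟨Subgroup.mem_sSup_of_mem hA₀ (Subgroup.mem_sInf.1 hx A₀ hA₀), ?_⟩,
      hA₀.1.2 x (Subgroup.mem_sInf.1 hx A₀ hA₀)⟩
    have hle : J ≤ Subgroup.centralizer ({x} : Set S) := sSup_le fun A hA' a ha y hy => by
      rw [Set.mem_singleton_iff.1 hy]
      have := hA'.1.1
      exact congrArg Subtype.val (mul_comm' (⟨x, Subgroup.mem_sInf.1 hx A hA'⟩ : A) ⟨a, ha⟩)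
    exact fun j hj => ((hle hj) x (Set.mem_singleton x)).symm
  have h2 : Cfsg.omegaCenterThompson p S ≤ Cfsg.omegaOne p (Subgroup.centralizer (J : Set S)) :=
    Subgroup.closure_mono fun x hx => ⟨hx.1.2, hx.2⟩
  have h3 : Cfsg.omegaOne p (Subgroup.centralizer (J : Set S)) ≤ sInf 𝒜 :=
    (Subgroup.closure_le _).2 fun x hx => Subgroup.mem_sInf.2 fun A hA' => hA A hA' x hx.1 hx.2
  exact ⟨le_antisymm h1 (h2.trans h3), le_antisymm h2 (h3.trans h1)⟩

end Cfsg.Agent.S0655
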