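import Cfsg.Statements.S0678
import Cfsg.Agent.Perm.PrimeSign
import Cfsg.Agent.Sharply.SimpleCrit

set_option autoImplicit false
open Cfsg

namespace Cfsg.Agent.S0678

/-- A non-solvable transitive permutation group on 7 points that does not contain the alternating group is a simple group of order 168. -/
theorem result {α : Type*} [Fintype α] [DecidableEq α] (hα : Fintype.card α = 7) (G : Subgroup (Equiv.Perm α)) [MulAction.IsPretransitive G α] (hG : ¬ Group.IsSolvable G) (hA : ¬ alternatingGroup α ≤ G) : Nat.card G = 168 ∧ IsSimpleGroup G := by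
  haveI : Fact (Nat.Prime 7) := ⟨by norm_num⟩
  obtain ⟨G₀, hle, hleA, htr, hs, hor⟩ := PermLib.alternating_part (p := 7) (by norm_num) hα G hG
  haveI := htr
  have hneg : Equiv.Perm.sign (Equiv.neg (ZMod 7)) = -1 := by decide +kernel
  obtain ⟨P₀⟩ : Nonempty (Sylow 7 G₀) := inferInstance
  have hodd := PermLib.odd_normalizer_of_le_alternating (by norm_num) hneg hα G₀ hleA P₀
  obtain ⟨n, d, hN, hd, hd1, hn7, hn1, hc, hfac, hpp⟩ := PermLib.card_data hα G₀ hs P₀
  have hd3 : d = 3 := by
    rw [hN] at hodd
    have hd' := Nat.le_of_dvd (by norm_num) hd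
    rw [Nat.odd_iff] at hodd
    interval_cases d <;> omega
  subst hd3
  have h7 : (7 : ℕ).factorial = 5040 := by decide
  rw [h7] at hfac
  norm_num at hfac hpp
  have hn : n = 8 := by
    have h1 : n * 21 ≤ 5040 := Nat.le_of_dvd (by norm_num) hfac
    have hA' : ¬ (5040 ≤ 2 * Nat.card G₀) := fun h => hA
      ((PermLib.alternatingGroup_le_of_card G₀ (by rw [hα, h7]; exact h)).trans hle)
    rw [hc] at hA'
    have h2 : n < 120 := by omega
    obtain ⟨c, hc'⟩ := hfac
    obtain ⟨e, he⟩ := hpp
    have h3 : n ∣ 240 := ⟨c, by linarith⟩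
    interval_cases n <;> omega
  subst hn
  have hG₀ : Nat.card G₀ = 168 := by rw [hc]
  have hGcard : Nat.card G = 168 := by
    rcases hor with h | h
    · rw [← h, hG₀]
    exfalso
    rw [hG₀] at h
    obtain ⟨P⟩ : Nonempty (Sylow 7 G) := inferInstance
    obtain ⟨n, d, hN, hd, hd1, hn7, hn1, hc, -, -⟩ := PermLib.card_data hα G hG P
    rw [h] at hc
    have hd' := Nat.le_of_dvd (by norm_num) hd
    have hd6 : d = 6 := by interval_cases d <;> omega
    subst hd6
    have heven : Even (Nat.card (Subgroup.normalizer ((P : Subgroup G) : Set G))) := by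
      rw [hN]; decide
    obtain ⟨e, σ, t, he, -, ht, ht1, hte⟩ :=
      PermLib.exists_coords_of_even_normalizer (by norm_num) hα P heven
    haveI h3 := PermLib.three_pretransitive_of_reflection hα hG e he ht ht1 hte
    haveI : Nonempty (Fin 3 ↪ α) := Function.Embedding.nonempty_of_card_le (by simp [hα])
    have h4 := @PermLib.card_dvd_card G (Fin 3 ↪ α) _ _ h3 _
    rw [h, Nat.card_eq_fintype_card, Fintype.card_embedding_eq, Fintype.card_fin, hα] at h4
    exact absurd h4 (by decide)
  refine ⟨hGcard, ?_⟩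
  haveI : MulAction.IsPreprimitive G α := MulAction.IsPreprimitive.of_prime_card (by
    rw [Nat.card_eq_fintype_card, hα]; norm_num)
  haveI : Nonempty α := by rw [← Fintype.card_pos_iff, hα]; norm_num
  refine Sharply.isSimpleGroup_of_normalizer_card (p := 7) (q := 3) (by norm_num) (by norm_num)
    (by rw [hGcard]; norm_num) (by rw [hGcard]; norm_num) (fun N hN hNb => ?_) fun P => ?_
  · haveI := hN
    haveI := PermLib.isPretransitive_of_normal_ne_bot (α := α) hNb
    rw [← hα, ← Nat.card_eq_fintype_card]
    exact PermLib.card_dvd_card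
  · obtain ⟨n, d, hN, hd, hd1, hn7, hn1, hc, -, -⟩ := PermLib.card_data hα G hG P
    rw [hGcard] at hc
    have hd' := Nat.le_of_dvd (by norm_num) hd
    have hd3 : d = 3 := by interval_cases d <;> omega
    rw [hN, hd3]

end Cfsg.Agent.S0678
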