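import Cfsg.Statements.S0742

import Cfsg.Agent.PermB.ZassPrelude
import Cfsg.Agent.PermB.Recognition

set_option autoImplicit false
open Cfsg

namespace Cfsg.Agent.S0742

/-- A finite Zassenhaus group of degree `n + 1` with two-point stabilisers of even order `d` satisfying `2d ≤ n - 1` has `n = p^f` for an odd prime `p` and is isomorphic to `PSL(2, p^f)`. -/
theorem result {G Ω : Type*} [Group G] [Finite G] [MulAction G Ω] [Fintype Ω] (hZ : Cfsg.IsZassenhausGroup G Ω) {a b : Ω} (hab : a ≠ b) (heven : Even (Nat.card ↥(MulAction.stabilizer G a ⊓ MulAction.stabilizer G b))) (hd : 2 * Nat.card ↥(MulAction.stabilizer G a ⊓ MulAction.stabilizer G b) ≤ Fintype.card Ω - 2) : ∃ (p f : ℕ) (K : Type) (_ : Field K) (_ : Fintype K), p.Prime ∧ p ≠ 2 ∧ Fintype.card K = p ^ f ∧ Fintype.card Ω = p ^ f + 1 ∧ Nonempty (G ≃* Matrix.ProjectiveSpecialLinearGroup (Fin 2) K) := by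
  classical
  have hz := PermB.zData_of_isZassenhausGroup hZ
  have h3 := PermB.three_le_card_of_isZassenhausGroup hZ
  rw [← Nat.card_eq_fintype_card] at hd
  have h1 : Nat.card Ω - 2 ≤ 2 * Nat.card ↥(MulAction.stabilizer G a ⊓ MulAction.stabilizer G b) :=
    hz.card_sub_two_le_two_mul hab h3 heven
  have hd' : 2 * Nat.card (PermB.ZData.H2 (G := G) a b) + 2 = Nat.card Ω := by
    have : 2 * Nat.card ↥(MulAction.stabilizer G a ⊓ MulAction.stabilizer G b) = Nat.card Ω - 2 := by
      omega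
    show 2 * Nat.card ↥(MulAction.stabilizer G a ⊓ MulAction.stabilizer G b) + 2 = Nat.card Ω
    omega
  obtain ⟨N, hN, hNc, -, -⟩ := hz.exists_kernel_of_even hab h3 heven
  -- every element interchanging `a` and `b` is an involution with a fixed point
  have hcount := hz.two_mul_card_swappers hab h3 heven
  set S : Set G := {t : G | t • a = b ∧ t • b = a}
  have hsub : {t : G | t * t = 1 ∧ t ≠ 1 ∧ (∃ x : Ω, t • x = x) ∧ t • a = b} ⊆ S :=
    fun t ⟨e1, _, _, e2⟩ => ⟨e2, by rw [← e2, ← mul_smul, e1, one_smul]⟩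
  have hle := PermB.ZData.ncard_swappers_le (a := a) (b := b) (S := S) fun t ht => ht
  have heq := Set.eq_of_subset_of_ncard_le hsub (by omega) (Set.toFinite _)
  have hall : ∀ t : G, t • a = b → t • b = a → t * t = 1 ∧ ∃ x : Ω, t • x = x := by
    intro t h h'
    have ht : t ∈ S := ⟨h, h'⟩
    rw [← heq] at ht
    exact ⟨ht.1, ht.2.2.1⟩
  obtain ⟨s, -, hsa, hsb⟩ := hz.exists_involution_swap hab
  obtain ⟨hss, c, hsc⟩ := hall s hsa hsb
  have hca : c ≠ a := fun e => hab (by rw [← hsa]; rw [e] at hsc; exact hsc.symm)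
  have hcb : c ≠ b := fun e => hab.symm (by rw [← hsb]; rw [e] at hsc; exact hsc.symm)
  have hinv : ∀ h ∈ PermB.ZData.H2 (G := G) a b, s * h * s⁻¹ = h⁻¹ := by
    intro h hh
    have hh' := PermB.ZData.mem_H2.1 hh
    have e := (hall (s * h) (by rw [mul_smul, hh'.1, hsa]) (by rw [mul_smul, hh'.2, hsb])).1
    rw [inv_eq_of_mul_eq_one_right hss, eq_inv_iff_mul_eq_one]
    calc s * h * s * h = (s * h) * (s * h) := by group
      _ = 1 := e
  obtain ⟨K, iK, iF, hK, hchar, hiso⟩ :=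
    PermB.exists_mulEquiv_psl hz hN hab hca hcb hNc hsa hsb hsc hinv hd' heven
  obtain ⟨f, hp, hf⟩ := FiniteField.card K (ringChar K)
  refine ⟨ringChar K, f, K, iK, iF, hp, hchar, hf, ?_, hiso⟩
  rw [← Nat.card_eq_fintype_card, ← hK, hf]

end Cfsg.Agent.S0742
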