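import Cfsg.Agent.ReeG2.Cosets

set_option autoImplicit false
open Cfsg

namespace Cfsg.Agent.S1155

theorem result {K : Type*} [Field K] [Fintype K] {m : ℕ} (hm : 1 ≤ m) (hK : Fintype.card K = 3 ^ (2 * m + 1))
    (P Q : Sylow 3 ↥(Cfsg.Lie.twistedG2 K (3 ^ m))) (hPQ : P ≠ Q) : (P : Subgroup ↥(Cfsg.Lie.twistedG2 K (3 ^ m))) ⊓ (Q : Subgroup ↥(Cfsg.Lie.twistedG2 K (3 ^ m))) = ⊥ :=
  ReeG2.sylow_three_ti K hK P Q hPQ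

end Cfsg.Agent.S1155
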