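import Cfsg.Agent.ReeG2.Central

set_option autoImplicit false
open Cfsg

namespace Cfsg.Agent.S1156

theorem result {K : Type*} [Field K] [Fintype K] {m : ℕ} (hm : 1 ≤ m) (hK : Fintype.card K = 3 ^ (2 * m + 1))
    {p : ℕ} [Fact p.Prime] (hp : 3 < p) (P : Sylow p ↥(Cfsg.Lie.twistedG2 K (3 ^ m))) : IsCyclic (P : Subgroup ↥(Cfsg.Lie.twistedG2 K (3 ^ m))) :=
  haveI := ChevTw.charG2 hK
  ReeG2.sylow_cyclic K hK hp P

end Cfsg.Agent.S1156
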