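import Cfsg.Statements.S1172
import Cfsg.Agent.ProdFusion.Product
-- import your own Cfsg.Agent.* helpers here

set_option autoImplicit false
open Cfsg

namespace Cfsg.Agent.S1172

/-- Let G be a finite group with no nontrivial normal subgroup of odd order and no proper normal subgroup of odd index, whose Sylow 2-subgroup S is not commutative and is the internal direct product of two subgroups each isomorphic to a dihedral group of order at least 4 and each strongly closed in S with respect to G (product fusion). Then G is the internal direct product of two normal subgroups G₁, G₂, and S is the internal direct product of dihedral subgroups R₁ ≤ G₁ and R₂ ≤ G₂ of odd index in G₁ and G₂ respectively (so R_i is a Sylow 2-subgroup of G_i). -/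
theorem result {G : Type*} [Group G] [Finite G] (hO : Cfsg.oddCore G = ⊥) (hO' : ∀ N : Subgroup G, N.Normal → Odd N.index → N = ⊤) (S : Sylow 2 G) (hS : ¬ IsMulCommutative (S : Subgroup G)) (S₁ S₂ : Subgroup G) (hprod : Cfsg.IsInternalDirectProduct S₁ S₂ (S : Subgroup G)) (m₁ m₂ : ℕ) (hm₁ : 2 ≤ m₁) (hm₂ : 2 ≤ m₂) (e₁ : S₁ ≃* DihedralGroup m₁) (e₂ : S₂ ≃* DihedralGroup m₂) (hcl₁ : Cfsg.IsStronglyClosed S₁ (S : Subgroup G)) (hcl₂ : Cfsg.IsStronglyClosed S₂ (S : Subgroup G)) : ∃ G₁ G₂ : Subgroup G, G₁.Normal ∧ G₂.Normal ∧ Cfsg.IsInternalDirectProduct G₁ G₂ ⊤ ∧ ∃ R₁ R₂ : Subgroup G, Cfsg.IsInternalDirectProduct R₁ R₂ (S : Subgroup G) ∧ (∃ n₁, 2 ≤ n₁ ∧ Nonempty (R₁ ≃* DihedralGroup n₁)) ∧ (∃ n₂, 2 ≤ n₂ ∧ Nonempty (R₂ ≃* DihedralGroup n₂)) ∧ R₁ ≤ G₁ ∧ R₂ ≤ G₂ ∧ Odd (R₁.relIndex G₁) ∧ Odd (R₂.relIndex G₂) := by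
  obtain ⟨h1, h2, hc, hd, hs⟩ := hprod
  have h : Cfsg.Agent.ProdFusion.Ctx S S₁ S₂ := ⟨hcl₁, hcl₂, hc, hd⟩
  obtain ⟨hcomm, hinf, htop⟩ :=
    Cfsg.Agent.ProdFusion.product_decomposition hO hO' S S₁ S₂ h hs
  haveI hN1 : (Subgroup.normalClosure (S₁ : Set G)).Normal := Subgroup.normalClosure_normal
  haveI hN2 : (Subgroup.normalClosure (S₂ : Set G)).Normal := Subgroup.normalClosure_normal
  have key : ∀ (A B : Subgroup G), A ⊔ B = (S : Subgroup G) →
      (∀ a ∈ A, ∀ b ∈ B, a * b = b * a) →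
      Subgroup.normalClosure (A : Set G) ⊓ Subgroup.normalClosure (B : Set G) = ⊥ →
      Odd (A.relIndex (Subgroup.normalClosure (A : Set G))) := by
    intro A B hAB hcAB hI
    haveI : (Subgroup.normalClosure (A : Set G)).Normal := Subgroup.normalClosure_normal
    have e : (S : Subgroup G) ⊓ Subgroup.normalClosure (A : Set G) = A := by
      refine le_antisymm (fun x hx => ?_) (le_inf (hAB ▸ le_sup_left) Subgroup.subset_normalClosure)
      obtain ⟨a, ha, b, hb, rfl⟩ := Cfsg.Agent.Coprime.exists_mul_of_mem_sup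
        (show A ≤ Subgroup.normalizer (B : Set G) from fun a ha =>
          Subgroup.centralizer_le_normalizer (B : Set G)
            (Subgroup.mem_centralizer_iff.2 fun b hb => (hcAB a ha b hb).symm))
        (show x ∈ A ⊔ B by rw [hAB]; exact hx.1)
      have h3 := (Subgroup.normalClosure (A : Set G)).mul_mem
        (inv_mem (Subgroup.subset_normalClosure ha)) hx.2
      rw [inv_mul_cancel_left] at h3
      have h4 : b ∈ (⊥ : Subgroup G) := hI ▸ ⟨h3, Subgroup.subset_normalClosure hb⟩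
      rw [Subgroup.mem_bot.1 h4, mul_one]
      exact ha
    have h5 := Cfsg.Agent.ProdFusion.odd_relIndex_of_normal S (Subgroup.normalClosure (A : Set G))
    rwa [← Subgroup.inf_relIndex_right, e] at h5
  refine ⟨_, _, hN1, hN2, ⟨le_top, le_top, fun a ha b hb => ?_, hinf, htop⟩,
    S₁, S₂, ⟨h1, h2, hc, hd, hs⟩, ⟨m₁, hm₁, ⟨e₁⟩⟩, ⟨m₂, hm₂, ⟨e₂⟩⟩,
    Subgroup.subset_normalClosure, Subgroup.subset_normalClosure,
    key S₁ S₂ hs hc hinf,
    key S₂ S₁ (by rw [sup_comm]; exact hs) (fun a ha b hb => (hc b hb a ha).symm)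
      (by rw [inf_comm]; exact hinf)⟩
  exact (Subgroup.mem_centralizer_iff.1
    (Subgroup.commutator_eq_bot_iff_le_centralizer.1 hcomm ha) b hb).symm

end Cfsg.Agent.S1172
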