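import Cfsg.Statements.S1249
import Cfsg.Agent.TwoFusion.Basic

set_option autoImplicit false
open Cfsg

namespace Cfsg.Agent.S1249

/-- Let P and Q be Sylow p-subgroups of the finite group G both containing the subgroup A. If A is strongly closed in P, then A is strongly closed in Q. -/
theorem result {G : Type*} [Group G] [Finite G] {p : ℕ} [Fact p.Prime] (P Q : Sylow p G) (A : Subgroup G) (hAQ : A ≤ Q) (hA : Cfsg.IsStronglyClosed A (P : Subgroup G)) : Cfsg.IsStronglyClosed A (Q : Subgroup G) := by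
  obtain ⟨hAP, hc⟩ := hA
  obtain ⟨g, hg⟩ := MulAction.exists_smul_eq G P Q
  subst hg
  have key : ∀ x ∈ A, g⁻¹ * x * g ∈ A := fun x hx => by
    have := hc x hx g⁻¹ (by simpa using TwoFusion.sylow_smul_mem.1 (hAQ hx))
    simpa using this
  have heq : A.map (MulAut.conj g⁻¹).toMonoidHom = A := by
    apply Subgroup.eq_of_le_of_card_ge
    · rintro x ⟨a, ha, rfl⟩
      simpa using key a ha
    · rw [TwoFusion.card_map_conj]
  refine ⟨hAQ, fun x hx h hh => ?_⟩
  have h1 := hc x hx (g⁻¹ * h) (by simpa [mul_assoc] using TwoFusion.sylow_smul_mem.1 hh)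
  rw [← heq, TwoFusion.mem_map_conj_iff] at h1
  simpa [mul_assoc] using h1

end Cfsg.Agent.S1249
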