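import Cfsg.Statements.S1250
import Cfsg.Agent.TwoFusion.Basic

set_option autoImplicit false
open Cfsg

namespace Cfsg.Agent.S1250

/-- Let S be a Sylow p-subgroup of the finite group G, A ≤ S strongly closed in S, and N a normal subgroup. Then the image of A in G ⧸ N is strongly closed in the image of S (which is a Sylow p-subgroup of G ⧸ N). -/
theorem result {G : Type*} [Group G] [Finite G] {p : ℕ} [Fact p.Prime] (S : Sylow p G) (A : Subgroup G) (hA : Cfsg.IsStronglyClosed A (S : Subgroup G)) (N : Subgroup G) [N.Normal] : Cfsg.IsStronglyClosed (A.map (QuotientGroup.mk' N)) ((S : Subgroup G).map (QuotientGroup.mk' N)) := by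
  obtain ⟨hAS, hc⟩ := hA
  refine ⟨Subgroup.map_mono hAS, ?_⟩
  intro x hx g' hg'
  obtain ⟨a, ha, rfl⟩ := hx
  obtain ⟨g, rfl⟩ := QuotientGroup.mk'_surjective N g'
  have e : QuotientGroup.mk' N g * QuotientGroup.mk' N a * (QuotientGroup.mk' N g)⁻¹
      = QuotientGroup.mk' N (g * a * g⁻¹) := by simp
  rw [e] at hg' ⊢
  rw [← Subgroup.mem_comap, Subgroup.comap_map_eq, QuotientGroup.ker_mk'] at hg'
  have hap : IsPGroup p (Subgroup.zpowers (g * a * g⁻¹)) := by
    have h1 : IsPGroup p (((Subgroup.zpowers a)).map (MulAut.conj g).toMonoidHom) :=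
      (S.isPGroup'.to_le (Subgroup.zpowers_le.2 (hAS ha))).map _
    rwa [MonoidHom.map_zpowers] at h1
  obtain ⟨k, hk, hkS⟩ := TwoFusion.exists_conj_le_sylow_of_le S (K := (S : Subgroup G) ⊔ N)
    le_sup_left hap (Subgroup.zpowers_le.2 hg')
  have hA' : k * (g * a * g⁻¹) * k⁻¹ ∈ A := by
    have h2 := hkS _ (Subgroup.mem_zpowers _)
    have := hc a ha (k * g) (by simpa [mul_assoc] using h2)
    simpa [mul_assoc] using this
  obtain ⟨s, hs, n, hn, rfl⟩ := Subgroup.mem_sup_of_normal_right.1 hk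
  have e2 : QuotientGroup.mk' N (g * a * g⁻¹)
      = QuotientGroup.mk' N (s⁻¹ * ((s * n) * (g * a * g⁻¹) * (s * n)⁻¹) * s) := by
    have : QuotientGroup.mk' N n = 1 := (QuotientGroup.eq_one_iff n).2 hn
    simp only [map_mul, map_inv, this]
    group
  rw [e2]
  refine Subgroup.mem_map_of_mem _ ?_
  have h3 := hc _ hA' s⁻¹ (by
    simpa using mul_mem (mul_mem (inv_mem hs) (hAS hA')) hs)
  simpa using h3

end Cfsg.Agent.S1250
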