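import Cfsg.Statements.S1292
import Cfsg.Agent.Components.Local
open Subgroup Cfsg.Agent.Components
open scoped commutatorElement
-- import your own Cfsg.Agent.* helpers here

set_option autoImplicit false
open Cfsg

namespace Cfsg.Agent.S1292

/-- Let G be a finite group such that F*(C_G(t)) = O_2(C_G(t)) for every involution t. Then F*(N_G(T)) = O_2(N_G(T)) for every nontrivial 2-subgroup T of G. -/
theorem result {G : Type*} [Group G] [Finite G] (h : ∀ t : G, orderOf t = 2 → Cfsg.generalizedFittingSubgroup ↥(Subgroup.centralizer ({t} : Set G)) = Cfsg.pCore 2 ↥(Subgroup.centralizer ({t} : Set G))) (T : Subgroup G) (hT : IsPGroup 2 ↥T) (hT1 : T ≠ ⊥) : Cfsg.generalizedFittingSubgroup ↥(Subgroup.normalizer (T : Set G)) = Cfsg.pCore 2 ↥(Subgroup.normalizer (T : Set G)) := by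
  have : Nontrivial T := (nontrivial_iff_ne_bot T).mpr hT1
  have hZ : Nontrivial (Subgroup.center T) := hT.center_nontrivial
  obtain ⟨z, hz⟩ := exists_prime_orderOf_dvd_card' 2
    (G := Subgroup.center T) (by
      obtain ⟨n, hn⟩ := IsPGroup.iff_card.mp (hT.to_subgroup (Subgroup.center T))
      rw [hn]
      refine dvd_pow_self 2 fun h0 => ?_
      rw [h0, pow_zero] at hn
      exact absurd hn (Finite.one_lt_card).ne')
  set t : G := ((z : T) : G) with ht
  have ht2 : orderOf t = 2 := by rw [ht, Subgroup.orderOf_coe, Subgroup.orderOf_coe, hz]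
  have hzc : ∀ x ∈ T, x * t = t * x := fun x hx =>
    congrArg Subtype.val (mem_center_iff.mp z.2 ⟨x, hx⟩)
  rw [genFitting_eq_pCore_iff]
  refine centralizer_pCore_le_local (Y := centralizer {t}) hT (centralizer_le_normalizer _) le_rfl
    (Or.inl le_normalizer) (centralizer_le (Set.singleton_subset_iff.mpr (z : T).2)) ?_
    (genFitting_eq_pCore_iff.mp (h t ht2))
  refine le_trans (fun x hx => ?_) le_normalizer
  exact mem_centralizer_singleton_iff.mpr (hzc x hx)

end Cfsg.Agent.S1292
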