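import Cfsg.Statements.S1293
import Cfsg.Agent.Components.Local
import Cfsg.Agent.Cores.Fitting
open Subgroup Cfsg.Agent.Components
open scoped commutatorElement
-- import your own Cfsg.Agent.* helpers here

set_option autoImplicit false
open Cfsg

namespace Cfsg.Agent.S1293

/-- Let G be finite with L_{p'}(G) = 1, and H = N_G(P) for a nontrivial p-subgroup P. Then L_{p'}(H) = 1 and O_{p'}(H) ≤ O_{p'}(G). -/
theorem result {G : Type*} [Group G] [Finite G] (p : ℕ) [Fact p.Prime] (hL : Cfsg.pLayer p G = ⊥) (P : Subgroup G) (hP : IsPGroup p ↥P) (hP1 : P ≠ ⊥) : Cfsg.pLayer p ↥(Subgroup.normalizer (P : Set G)) = ⊥ ∧ (Cfsg.pPrimeCore p ↥(Subgroup.normalizer (P : Set G))).map (Subgroup.normalizer (P : Set G)).subtype ≤ Cfsg.pPrimeCore p G := by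
  classical
  set O := Cfsg.pPrimeCore p G with hO
  set π := QuotientGroup.mk' O with hπ
  set H := Subgroup.normalizer (P : Set G) with hH
  have hE : Cfsg.layer (G ⧸ O) = ⊥ := pLayer_eq_bot_iff.mp hL
  have hO1 : Cfsg.pPrimeCore p (G ⧸ O) = ⊥ := Cores.pPrimeCore_quotient_pPrimeCore_eq_bot
  have hG : centralizer (Cfsg.pCore p (G ⧸ O) : Set (G ⧸ O)) ≤ Cfsg.pCore p (G ⧸ O) := by
    have hF : Cfsg.generalizedFittingSubgroup (G ⧸ O) ≤ Cfsg.pCore p (G ⧸ O) := by
      rw [Cfsg.generalizedFittingSubgroup, hE, bot_sup_eq, Cores.fittingSubgroup_eq_iSup_pCore]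
      refine iSup_le fun q => ?_
      by_cases hqp : (q : ℕ) = p
      · rw [hqp]
      · have : Fact (q : ℕ).Prime := Fact.mk q.2
        refine le_trans ?_ bot_le
        rw [← hO1]
        refine Cores.le_pPrimeCore inferInstance ?_
        obtain ⟨n, hn⟩ := IsPGroup.iff_card.mp (Cores.pCore_isPGroup (p := (q : ℕ)) (G := G ⧸ O))
        rw [hn]
        exact Nat.Coprime.pow_left _ ((Nat.coprime_primes q.2 (Fact.out : p.Prime)).mpr hqp)
    exact (centralizer_le hF).trans (centralizer_genFitting_le.trans hF)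
  have hcop : (Nat.card P).Coprime (Nat.card O) := by
    obtain ⟨n, hn⟩ := IsPGroup.iff_card.mp hP
    rw [hn]
    exact Nat.Coprime.pow_left _ Cores.pPrimeCore_coprime.symm
  have hs : Group.IsSolvable P := by
    have := hP.isNilpotent
    infer_instance
  have hbar : centralizer (Cfsg.pCore p (H.map π) : Set (H.map π)) ≤ Cfsg.pCore p (H.map π) := by
    refine centralizer_pCore_le_local (hP.map π) ?_ (le_normalizer_map _)
      (Or.inl (map_mono le_normalizer)) (Y := ⊤) le_top (le_top.trans (le_normalizer (H := ⊤))) ?_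
    · rw [hπ, Coprime.centralizer_map_mk' P O hcop (Or.inl hs)]
      exact map_mono (centralizer_le_normalizer _)
    intro c hc
    have hmap := Cores.map_pCore_equiv (p := p) (Subgroup.topEquiv (G := G ⧸ O))
    have hc' : (c : G ⧸ O) ∈ centralizer (Cfsg.pCore p (G ⧸ O) : Set (G ⧸ O)) := by
      intro v hv
      rw [← hmap] at hv
      obtain ⟨w, hw, rfl⟩ := hv
      exact congrArg Subtype.val (hc w hw)
    have := hG hc'
    rw [← hmap] at this
    obtain ⟨w, hw, hwc⟩ := this
    exact (Subtype.ext hwc : w = c) ▸ hw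
  have hObar : Cfsg.pPrimeCore p (H.map π) = ⊥ := by
    rw [← le_bot_iff, ← Cores.pCore_inf_pPrimeCore (p := p) (G := H.map π)]
    exact le_inf ((le_centralizer_iff.mp Cores.pCore_commute_pPrimeCore).trans hbar) le_rfl
  have hEbar : Cfsg.layer (H.map π) = ⊥ := by
    have hF := genFitting_eq_pCore_iff.mpr hbar
    have hle : Cfsg.layer (H.map π) ≤ Cfsg.pCore p (H.map π) := hF ▸ layer_le_genFitting
    have := (Cores.pCore_isPGroup (p := p) (G := H.map π)).isNilpotent
    have : Group.IsSolvable (Cfsg.layer (H.map π)) :=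
      Group.isSolvable_of_isSolvable_injective (f := Subgroup.inclusion hle)
        (Subgroup.inclusion_injective hle)
    exact eq_bot_of_perfect_solvable layer_commutator_self
  set f := π.subgroupMap H with hf
  have hsurj : Function.Surjective f := π.subgroupMap_surjective H
  have hle : Cfsg.pPrimeCore p H ≤ f.ker := by
    intro x hx
    rw [MonoidHom.mem_ker, ← mem_bot, ← hObar]
    exact Cores.map_pPrimeCore_le_of_surjective f hsurj ⟨x, hx, rfl⟩
  have hker : ∀ x : H, x ∈ f.ker ↔ (x : G) ∈ O := by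
    intro x
    rw [MonoidHom.mem_ker, Subtype.ext_iff]
    exact QuotientGroup.eq_one_iff _
  have hge : f.ker ≤ Cfsg.pPrimeCore p H := by
    refine Cores.le_pPrimeCore inferInstance ?_
    refine Nat.Coprime.coprime_dvd_left ?_ (Cores.pPrimeCore_coprime (p := p) (G := G))
    rw [show f.ker = O.comap H.subtype from Subgroup.ext hker]
    exact card_comap_dvd_of_injective _ _ H.subtype_injective
  refine ⟨?_, ?_⟩
  · rw [pLayer_eq_bot_iff]
    let e : H ⧸ Cfsg.pPrimeCore p H ≃* H.map π :=
      (QuotientGroup.quotientMulEquivOfEq (le_antisymm hle hge)).trans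
        (QuotientGroup.quotientKerEquivOfSurjective f hsurj)
    have := layer_map_equiv e.symm
    rw [hEbar, Subgroup.map_bot] at this
    exact this.symm
  · rintro _ ⟨x, hx, rfl⟩
    exact (hker x).mp (hle hx)

end Cfsg.Agent.S1293
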