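import Cfsg.Statements.S1322
import Cfsg.Agent.S0215
import Cfsg.Agent.Components.Trichotomy
import Cfsg.Agent.Components.LBalance
import Cfsg.Agent.S0205

set_option autoImplicit false
open Cfsg

namespace Cfsg.Agent.S1322

/-- Let G be finite with L_{2'}(G) = E(G), t an involution and L ≤ C_G(t) a component of C_G(t). Then there is a component D of G with: L = D; or L < D and D = ⁅D, ⟨t⟩⁆; or tDt⁻¹ ≠ D and L is the layer of C_{D ⊔ tDt⁻¹}(t). -/
theorem result {G : Type*} [Group G] [Finite G] (hL2 : Cfsg.pLayer 2 G = Cfsg.layer G) (t : G) (ht : orderOf t = 2) (L : Subgroup G) (hLt : L ≤ Subgroup.centralizer ({t} : Set G)) (hL : Cfsg.IsComponent (L.subgroupOf (Subgroup.centralizer ({t} : Set G)))) : ∃ D : Subgroup G, Cfsg.IsComponent D ∧ (L = D ∨ (L < D ∧ D = ⁅D, Subgroup.zpowers t⁆) ∨ (D.map (MulAut.conj t).toMonoidHom ≠ D ∧ L = (Cfsg.layer ↥((D ⊔ D.map (MulAut.conj t).toMonoidHom) ⊓ Subgroup.centralizer ({t} : Set G))).map ((D ⊔ D.map (MulAut.conj t).toMonoidHom)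 ⊓ Subgroup.centralizer ({t} : Set G)).subtype)) := by
  have ht2 : t * t = 1 := by rw [← pow_two, ← ht, pow_orderOf_eq_one]
  set C := Subgroup.centralizer ({t} : Set G) with hC
  have hd : 2 ∣ Nat.card ↥(L.subgroupOf C) := by
    by_contra h
    exact Components.quasisimple_not_solvable hL.2
      (Cfsg.Agent.S0205.result (Nat.odd_iff.mpr (Nat.two_dvd_ne_zero.mp h)))
  have hLE : L ≤ Cfsg.layer G := by
    rw [← hL2]
    refine le_trans ?_ (Components.pLayer_centralizer_le
      (fun P t h1 h2 h3 => Cfsg.Agent.S0215.result P t h1 h2 h3)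
      (Components.isPGroup_two_zpowers ht2) (by rw [ht2]; exact Subgroup.one_mem _))
    rw [← Subgroup.map_subgroupOf_eq_of_le hLt]
    exact Subgroup.map_mono (Components.pComponent_le_pLayer
      (Components.component_isPComponent hL hd))
  obtain ⟨D, hD, -, h | h | ⟨h1, -, -, h2⟩⟩ :=
    Components.component_trichotomy ht2 hLt hL hLE
  · exact ⟨D, hD, Or.inl h⟩
  · exact ⟨D, hD, Or.inr (Or.inl h)⟩
  · exact ⟨D, hD, Or.inr (Or.inr ⟨h1, h2⟩)⟩

end Cfsg.Agent.S1322
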