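import Cfsg.Statements.S1323
import Cfsg.Agent.Recog.AltStandard

set_option autoImplicit false
open Cfsg

namespace Cfsg.Agent.S1323

/-- For n ≥ 9, the subgroup of the alternating group on Fin n fixing each of the points 0, 1, 2, 3 is a standard subgroup. -/
theorem result (n : ℕ) (h4 : 4 ≤ n) (hn : 9 ≤ n) : Cfsg.IsStandardSubgroup (⨅ i : Fin 4, MulAction.stabilizer ↥(alternatingGroup (Fin n)) (Fin.castLE h4 i : Fin n)) := by
  classical
  set s : Finset (Fin n) := Finset.univ.map (Fin.castLEEmb h4) with hs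
  have h : (⨅ i : Fin 4, MulAction.stabilizer ↥(alternatingGroup (Fin n)) (Fin.castLE h4 i : Fin n)) =
      Cfsg.Agent.Recog.AltStd.altOn sᶜ := by
    ext g
    rw [Subgroup.mem_iInf, Cfsg.Agent.Recog.AltStd.mem_altOn]
    simp only [Finset.mem_compl, not_not, hs, Finset.mem_map, Finset.mem_univ, true_and]
    exact ⟨by rintro hg x ⟨i, rfl⟩; exact hg i, fun hg i => hg _ ⟨i, rfl⟩⟩
  rw [h]
  exact Cfsg.Agent.Recog.AltStd.isStandard_fixing_four (by simp [hs]) (by simpa using hn)

end Cfsg.Agent.S1323
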