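import Cfsg.Statements.S1339
import Cfsg.Agent.Components.FStar

set_option autoImplicit false
open Cfsg

namespace Cfsg.Agent.S1339

open Matrix

variable {F : Type*} [Field F] [Fintype F] {ι : Type*} [Fintype ι] [DecidableEq ι]

theorem eq_zero_or_one (hF : Fintype.card F = 2) (a : F) : a = 0 ∨ a = 1 := by
  classical
  by_contra h
  push Not at h
  have := Finset.card_le_univ ({0, 1, a} : Finset F)
  rw [Finset.card_insert_of_notMem (by simp [h.1.symm]),
    Finset.card_insert_of_notMem (by simp [h.2.symm]), Finset.card_singleton, hF] at this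
  omega

theorem two_eq_zero (hF : Fintype.card F = 2) : (2 : F) = 0 := by
  rcases eq_zero_or_one hF (-1 : F) with h | h
  · simp at h
  · rw [← one_add_one_eq_two]; nth_rewrite 1 [← h]; ring

theorem single_mul_apply' (i j : ι) (M : Matrix ι ι F) (a b : ι) :
    (Matrix.single i j (1 : F) * M) a b = if a = i then M j b else 0 := by
  by_cases h : a = i
  · subst h; simp
  · simp [h]

theorem mul_single_apply' (i j : ι) (M : Matrix ι ι F) (a b : ι) :
    (M * Matrix.single i j (1 : F)) a b = if b = j then M a i else 0 := by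
  by_cases h : b = j
  · subst h; simp
  · simp [h]

/-- The centraliser condition of the transvection in matrix entries. -/
theorem comm_iff (i j : ι) (M : Matrix ι ι F) :
    M * Matrix.single i j 1 = Matrix.single i j 1 * M ↔
      M i i = M j j ∧ (∀ a, a ≠ i → M a i = 0) ∧ ∀ b, b ≠ j → M j b = 0 := by
  constructor
  · intro h
    have h' := fun a b => congrFun (congrFun h a) b
    simp only [single_mul_apply', mul_single_apply'] at h'
    refine ⟨by simpa using h' i j, fun a ha => by simpa [ha] using h' a j, fun b hb => ?_⟩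
    have := h' i b
    simp [hb] at this
    exact this.symm
  · rintro ⟨h1, h2, h3⟩
    ext a b
    rw [single_mul_apply', mul_single_apply']
    split_ifs with hb ha ha
    · subst hb ha; exact h1
    · exact h2 a ha
    · exact (h3 b hb).symm
    · rfl

/-- Let F be a field with 2 elements, n ≥ 3, and t ∈ SL(n, F) a transvection (t = 1 + E_{ij}, i ≠ j). Then the generalized Fitting subgroup of C(t) is O_2(C(t)). -/
theorem result {F : Type*} [Field F] [Fintype F] [DecidableEq F] (hF : Fintype.card F = 2) (n : ℕ) (hn : 3 ≤ n) (i j : Fin n) (hij : i ≠ j) (t : Matrix.SpecialLinearGroup (Fin n) F) (ht : (t : Matrix (Fin n) (Fin n) F) = Matrix.transvection i j 1) : Cfsg.generalizedFittingSubgroup ↥(Subgroup.centralizer ({t} : Set (Matrix.SpecialLinearGroup (Fin n) F))) = Cfsg.pCore 2 ↥(Subgroup.centralizer ({t} : Set (Matrix.SpecialLinearGroup (Fin n) F))) := by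
  classical
  have : Fact (Nat.Prime 2) := ⟨Nat.prime_two⟩
  clear hn
  set C := Subgroup.centralizer ({t} : Set (Matrix.SpecialLinearGroup (Fin n) F))
  refine Components.genFitting_eq_pCore_of_centralizer_le ?_
  let M : C → Matrix (Fin n) (Fin n) F := fun x => (x.1 : Matrix (Fin n) (Fin n) F)
  have hMmul : ∀ x y : C, M (x * y) = M x * M y := fun x y => rfl
  have hmem : ∀ g : Matrix.SpecialLinearGroup (Fin n) F, g ∈ C ↔
      (g : Matrix (Fin n) (Fin n) F) * Matrix.single i j 1 =
        Matrix.single i j 1 * (g : Matrix (Fin n) (Fin n) F) := by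
    intro g
    rw [Subgroup.mem_centralizer_singleton_iff, show g * t = t * g ↔ ((g * t : Matrix.SpecialLinearGroup (Fin n) F) : Matrix (Fin n) (Fin n) F) = (t * g : Matrix.SpecialLinearGroup (Fin n) F) from Subtype.ext_iff,
      Matrix.SpecialLinearGroup.coe_mul, Matrix.SpecialLinearGroup.coe_mul, ht,
      Matrix.transvection, Matrix.mul_add, Matrix.add_mul, Matrix.mul_one, Matrix.one_mul,
      add_right_inj]
  have hC : ∀ x : C, M x i i = 1 ∧ M x j j = 1 ∧ (∀ a, a ≠ i → M x a i = 0) ∧
      ∀ b, b ≠ j → M x j b = 0 := by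
    intro x
    obtain ⟨h1, h2, h3⟩ := (comm_iff i j (M x)).mp ((hmem x.1).mp x.2)
    have h0 : M x i i ≠ 0 := by
      intro h0
      have hd := Matrix.det_eq_zero_of_column_eq_zero (A := M x) i fun a => by
        by_cases ha : a = i
        · rw [ha]; exact h0
        · exact h2 a ha
      rw [show (M x).det = 1 from x.1.2] at hd
      exact one_ne_zero hd
    have h := (eq_zero_or_one hF _).resolve_left h0
    exact ⟨h, h1 ▸ h, h2, h3⟩
  let Q : Subgroup C :=
    { carrier := {x | ∀ a b, a ≠ i → b ≠ j → M x a b = if a = b then 1 else 0}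
      one_mem' := fun a b _ _ => Matrix.one_apply
      mul_mem' := by
        intro x y hx hy a b ha hb
        rw [hMmul, Matrix.mul_apply, Finset.sum_eq_single a]
        · by_cases haj : a = j
          · subst haj
            rw [(hC x).2.1, one_mul, (hC y).2.2.2 b hb, if_neg hb.symm]
          · rw [hx a a ha haj, hy a b ha hb, if_pos rfl, one_mul]
        · intro c _ hca
          by_cases hcj : c = j
          · subst hcj
            rw [(hC y).2.2.2 b hb, mul_zero]
          · rw [hx a c ha hcj, if_neg hca.symm, zero_mul]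
        · simp
      inv_mem' := by
        intro x hx a b ha hb
        have h1 : (M x * M x⁻¹) a b = (1 : Matrix (Fin n) (Fin n) F) a b := by
          rw [← hMmul, mul_inv_cancel]; rfl
        rw [Matrix.mul_apply, Finset.sum_eq_single a, Matrix.one_apply] at h1
        · by_cases haj : a = j
          · subst haj
            rwa [(hC x).2.1, one_mul] at h1
          · rwa [hx a a ha haj, if_pos rfl, one_mul] at h1
        · intro c _ hca
          by_cases hcj : c = j
          · subst hcj
            rw [(hC x⁻¹).2.2.2 b hb, mul_zero]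
          · rw [hx a c ha hcj, if_neg hca.symm, zero_mul]
        · simp }
  have hQn : Q.Normal := by
    refine ⟨fun x hx g => ?_⟩
    intro a b ha hb
    have key : ∀ c, c ≠ j → M (g * x) a c = M g a c := by
      intro c hcj
      rw [hMmul, Matrix.mul_apply, Finset.sum_eq_single c]
      · by_cases hci : c = i
        · subst hci; rw [(hC g).2.2.1 a ha, zero_mul]
        · rw [hx c c hci hcj, if_pos rfl, mul_one]
      · intro d _ hdc
        by_cases hdi : d = i
        · subst hdi; rw [(hC g).2.2.1 a ha, zero_mul]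
        · rw [hx d c hdi hcj, if_neg hdc, mul_zero]
      · simp
    have h1 : (M g * M g⁻¹) a b = (1 : Matrix (Fin n) (Fin n) F) a b := by
      rw [← hMmul, mul_inv_cancel]; rfl
    rw [hMmul, Matrix.mul_apply]
    rw [Matrix.mul_apply, Matrix.one_apply] at h1
    rw [← h1]
    refine Finset.sum_congr rfl fun c _ => ?_
    by_cases hcj : c = j
    · subst hcj; rw [(hC g⁻¹).2.2.2 b hb, mul_zero, mul_zero]
    · rw [key c hcj]
  have hQ2 : IsPGroup 2 Q := by
    intro x
    refine ⟨2, ?_⟩
    apply Subtype.ext; apply Subtype.ext; apply Subtype.ext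
    have hN : ∀ a b, a ≠ i → b ≠ j → (M x.1 - 1) a b = 0 := by
      intro a b ha hb
      rw [Matrix.sub_apply, x.2 a b ha hb, Matrix.one_apply, sub_self]
    have hNi : ∀ a, (M x.1 - 1) a i = 0 := by
      intro a
      by_cases ha : a = i
      · subst ha; rw [Matrix.sub_apply, (hC x.1).1, Matrix.one_apply_eq, sub_self]
      · exact hN a i ha hij
    have hNj : ∀ b, (M x.1 - 1) j b = 0 := by
      intro b
      by_cases hb : b = j
      · subst hb; rw [Matrix.sub_apply, (hC x.1).2.1, Matrix.one_apply_eq, sub_self]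
      · exact hN j b hij.symm hb
    have h3 : (M x.1 - 1) * (M x.1 - 1) * (M x.1 - 1) = 0 := by
      ext a b
      rw [Matrix.mul_apply, Matrix.zero_apply]
      refine Finset.sum_eq_zero fun d _ => ?_
      by_cases hdj : d = j
      · subst hdj; rw [hNj b, mul_zero]
      · rw [Matrix.mul_apply, Finset.sum_eq_zero fun c _ => ?_, zero_mul]
        by_cases hci : c = i
        · subst hci; rw [hNi a, zero_mul]
        · rw [hN c d hci hdj, mul_zero]
    change ((x.1.1 ^ (2 ^ 2) : Matrix.SpecialLinearGroup (Fin n) F) : Matrix (Fin n) (Fin n) F) = 1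
    rw [Matrix.SpecialLinearGroup.coe_pow, show (x.1.1 : Matrix (Fin n) (Fin n) F) = M x.1 from rfl]
    obtain ⟨N, hNd⟩ : ∃ N, M x.1 = 1 + N := ⟨M x.1 - 1, by abel⟩
    rw [hNd, add_sub_cancel_left] at h3
    have hNN : ∀ N' : Matrix (Fin n) (Fin n) F, N' + N' = 0 := fun N' => by
      rw [← two_smul F N', two_eq_zero hF, zero_smul]
    have h2 : (1 + N) * (1 + N) = 1 + N * N := by
      rw [add_mul, one_mul, mul_add, mul_one, ← add_assoc, add_assoc 1 N N, hNN, add_zero]
    rw [hNd, show (2 : ℕ) ^ 2 = 2 * 2 from rfl, pow_mul, pow_two, pow_two, h2, add_mul, one_mul, mul_add, mul_one, ← add_assoc,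
      add_assoc 1 (N * N) (N * N), hNN, add_zero, ← mul_assoc, h3, zero_mul, add_zero]
  have hQle : Q ≤ Cfsg.pCore 2 C := Cores.le_pCore hQn hQ2
  intro x hx
  refine hQle ?_
  intro a b ha hb
  by_cases haj : a = j
  · subst haj
    rw [(hC x).2.2.2 b hb, if_neg hb.symm]
  by_cases hbi : b = i
  · subst hbi
    rw [(hC x).2.2.1 a ha, if_neg ha]
  -- the transvection at (i, a)
  let g : Matrix.SpecialLinearGroup (Fin n) F :=
    ⟨Matrix.transvection i a 1, Matrix.det_transvection_of_ne i a ha.symm 1⟩
  have hg : g ∈ C := by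
    rw [hmem]
    change (1 + Matrix.single i a (1 : F)) * Matrix.single i j 1 =
      Matrix.single i j 1 * (1 + Matrix.single i a (1 : F))
    rw [add_mul, mul_add, one_mul, mul_one, Matrix.single_mul_single_of_ne _ _ _ _ ha,
      Matrix.single_mul_single_of_ne _ _ _ _ hij.symm]
  have hgQ : (⟨g, hg⟩ : C) ∈ Q := by
    intro a' b' ha' _
    change (1 + Matrix.single i a (1 : F)) a' b' = _
    rw [Matrix.add_apply, Matrix.single_apply, if_neg (fun h => ha' h.1.symm), add_zero,
      Matrix.one_apply]
  have hc : M ⟨g, hg⟩ * M x = M x * M ⟨g, hg⟩ := by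
    rw [← hMmul, ← hMmul, Subgroup.mem_centralizer_iff.mp hx _ (hQle hgQ)]
  have he := congrFun (congrFun hc i) b
  change ((1 + Matrix.single i a (1 : F)) * M x) i b = (M x * (1 + Matrix.single i a (1 : F))) i b at he
  rw [add_mul, mul_add, one_mul, mul_one, Matrix.add_apply, Matrix.add_apply, add_right_inj,
    single_mul_apply', mul_single_apply', if_pos rfl, (hC x).1] at he
  rw [he]
  by_cases hab : a = b
  · rw [if_pos hab, if_pos hab.symm]
  · rw [if_neg hab, if_neg (Ne.symm hab)]

end Cfsg.Agent.S1339
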