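import Cfsg.Statements.S1348
import Cfsg.Agent.S1340
import Cfsg.Agent.Components.Bender
import Cfsg.Agent.Components.Local
-- import your own Cfsg.Agent.* helpers here

set_option autoImplicit false
open Cfsg

open Subgroup Cfsg.Agent.Components
open Matrix

namespace Cfsg.Agent.S1348

variable {F : Type*} [Field F] {m : ℕ}

theorem symm_castSucc (i : Fin m) : finSumFinEquiv.symm (Fin.castSucc i) = Sum.inl i :=
  finSumFinEquiv.symm_apply_eq.2 rfl

theorem symm_last : (finSumFinEquiv (m := m) (n := 1)).symm (Fin.last m) = Sum.inr 0 :=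
  finSumFinEquiv.symm_apply_eq.2 (by simp; rfl)

/-- The matrix `diag(A, 1)`. -/
def blk (A : Matrix (Fin m) (Fin m) F) : Matrix (Fin (m + 1)) (Fin (m + 1)) F :=
  Matrix.reindex finSumFinEquiv finSumFinEquiv (Matrix.fromBlocks A 0 0 1)

theorem blk_cc (A : Matrix (Fin m) (Fin m) F) (i j : Fin m) : blk A i.castSucc j.castSucc = A i j := by
  simp [blk, symm_castSucc]

theorem blk_cl (A : Matrix (Fin m) (Fin m) F) (i : Fin m) : blk A i.castSucc (Fin.last m) = 0 := by
  simp [blk, symm_castSucc, symm_last]

theorem blk_lc (A : Matrix (Fin m) (Fin m) F) (j : Fin m) : blk A (Fin.last m) j.castSucc = 0 := by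
  simp [blk, symm_castSucc, symm_last]

theorem blk_ll (A : Matrix (Fin m) (Fin m) F) : blk A (Fin.last m) (Fin.last m) = 1 := by
  simp [blk, symm_last]

/-- `A ↦ diag(A, 1)` on special linear groups. -/
def blockHom : SpecialLinearGroup (Fin m) F →* SpecialLinearGroup (Fin (m + 1)) F where
  toFun A := ⟨blk (A : Matrix (Fin m) (Fin m) F), by
    rw [blk, Matrix.det_reindex_self, Matrix.det_fromBlocks_zero₂₁, A.2, Matrix.det_one, one_mul]⟩
  map_one' := Subtype.ext (by simp [blk])
  map_mul' A B := Subtype.ext (by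
    show blk ((A : Matrix (Fin m) (Fin m) F) * (B : Matrix (Fin m) (Fin m) F)) =
      blk (A : Matrix (Fin m) (Fin m) F) * blk (B : Matrix (Fin m) (Fin m) F)
    simp only [blk, Matrix.reindex_apply, Matrix.submatrix_mul_equiv, Matrix.fromBlocks_multiply]
    simp)

theorem blockHom_injective : Function.Injective (blockHom (F := F) (m := m)) := fun A B h => by
  have h1 : blk (A : Matrix (Fin m) (Fin m) F) = blk (B : Matrix (Fin m) (Fin m) F) :=
    congrArg Subtype.val h
  refine Subtype.ext (Matrix.ext fun i j => ?_)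
  have h2 := congrFun (congrFun h1 i.castSucc) j.castSucc
  rwa [blk_cc, blk_cc] at h2

/-- The standard component of the hyperplane involution. -/
theorem standard [Fintype F] [DecidableEq F] (h2 : (2 : F) ≠ 0) (hm : 3 ≤ m) (heven : Even m)
    (t : SpecialLinearGroup (Fin (m + 1)) F)
    (ht : (t : Matrix (Fin (m + 1)) (Fin (m + 1)) F) =
      Matrix.diagonal (fun i : Fin (m + 1) => if (i : ℕ) + 1 = m + 1 then (1 : F) else -1)) :
    Cfsg.IsStandardSubgroup ((Cfsg.layer ↥(centralizer ({t} : Set (SpecialLinearGroup (Fin (m + 1)) F)))).map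
      (centralizer ({t} : Set (SpecialLinearGroup (Fin (m + 1)) F))).subtype) := by
  set C := centralizer ({t} : Set (SpecialLinearGroup (Fin (m + 1)) F)) with hC
  set d : Fin (m + 1) → F := fun i => if (i : ℕ) + 1 = m + 1 then (1 : F) else -1 with hd
  have hdc : ∀ i : Fin m, d i.castSucc = -1 := fun i => by
    simp only [hd, Fin.val_castSucc]
    rw [if_neg (by omega)]
  have hdl : d (Fin.last m) = 1 := by simp [hd]
  have hne : ∀ x : F, x = -x → x = 0 := fun x hx => by
    rcases mul_eq_zero.1 (show (2 : F) * x = 0 by linear_combination hx) with h' | h'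
    · exact absurd h' h2
    · exact h'
  -- the centralizer consists of block diagonal matrices
  have hmem : ∀ g : (SpecialLinearGroup (Fin (m + 1)) F), g ∈ C ↔ ∀ i : Fin m,
      g.1 i.castSucc (Fin.last m) = 0 ∧ g.1 (Fin.last m) i.castSucc = 0 := by
    intro g
    have hiff : g ∈ C ↔ ∀ i j, g.1 i j * d j = d i * g.1 i j := by
      rw [hC, mem_centralizer_singleton_iff]
      refine ⟨fun h i j => ?_, fun h => Subtype.ext (Matrix.ext fun i j => ?_)⟩
      · have h' := congrFun (congrFun (congrArg Subtype.val h) i) j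
        rw [Linear.val_mul, Linear.val_mul, ht, Matrix.mul_diagonal, Matrix.diagonal_mul] at h'
        exact h'
      · rw [Linear.val_mul, Linear.val_mul, ht, Matrix.mul_diagonal, Matrix.diagonal_mul]
        exact h i j
    rw [hiff]
    constructor
    · intro h i
      have h1 := h i.castSucc (Fin.last m)
      have h3 := h (Fin.last m) i.castSucc
      rw [hdl, hdc] at h1 h3
      exact ⟨hne _ (by linear_combination h1), hne _ (by linear_combination -h3)⟩
    · intro h i j
      induction i using Fin.lastCases <;> induction j using Fin.lastCases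
      · rw [hdl]; ring
      · rename_i j; rw [(h j).2, zero_mul, mul_zero]
      · rename_i i; rw [(h i).1, zero_mul, mul_zero]
      · rw [hdc, hdc]; ring
  let χ : C →* F :=
    { toFun := fun g => g.1.1 (Fin.last m) (Fin.last m)
      map_one' := by
        show ((1 : (SpecialLinearGroup (Fin (m + 1)) F)) : Matrix _ _ F) (Fin.last m) (Fin.last m) = 1
        simp
      map_mul' := fun g g' => by
        show (((g : (SpecialLinearGroup (Fin (m + 1)) F)) * (g' : (SpecialLinearGroup (Fin (m + 1)) F)) : (SpecialLinearGroup (Fin (m + 1)) F)) : Matrix _ _ F) (Fin.last m) (Fin.last m) = _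
        rw [Linear.val_mul, Matrix.mul_apply, Fin.sum_univ_castSucc]
        rw [Finset.sum_eq_zero fun i _ => by rw [((hmem g).1 g.2 i).2, zero_mul], zero_add] }
  set L : Subgroup (SpecialLinearGroup (Fin (m + 1)) F) := χ.ker.map C.subtype with hL
  have hLC : L ≤ C := map_subtype_le _
  have hrange : (blockHom (F := F) (m := m)).range = L := by
    apply le_antisymm
    · rintro _ ⟨A, rfl⟩
      have hA : blockHom A ∈ C := (hmem _).2 fun i => ⟨blk_cl _ i, blk_lc _ i⟩
      exact ⟨⟨_, hA⟩, blk_ll _, rfl⟩
    · rintro _ ⟨⟨g, hg⟩, hχ, rfl⟩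
      have hl : g.1 (Fin.last m) (Fin.last m) = 1 := hχ
      set A : Matrix (Fin m) (Fin m) F := fun i j => g.1 i.castSucc j.castSucc with hA
      have he : g.1 = blk A := by
        ext i j
        induction i using Fin.lastCases <;> induction j using Fin.lastCases
        · rw [hl, blk_ll]
        · rename_i j; rw [((hmem g).1 hg j).2, blk_lc]
        · rename_i i; rw [((hmem g).1 hg i).1, blk_cl]
        · rw [blk_cc]
      have hdet : A.det = 1 := by
        have h := g.2
        rwa [he, blk, Matrix.det_reindex_self, Matrix.det_fromBlocks_zero₂₁, Matrix.det_one,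
          mul_one] at h
      exact ⟨⟨A, hdet⟩, Subtype.ext he.symm⟩
  have hLq : Cfsg.IsQuasisimple L := hrange ▸ quasisimple_of_mulEquiv
    (MonoidHom.ofInjective blockHom_injective)
    (S1340.isQuasisimple_SL m (by omega) (by omega))
  -- the centralizer of `L`
  have hcent : ∀ g ∈ centralizer (L : Set (SpecialLinearGroup (Fin (m + 1)) F)), ∃ a : F,
      g ∈ C ∧ ∀ i : Fin m, ∀ j : Fin m, g.1 i.castSucc j.castSucc = if i = j then a else 0 := by
    intro g hg
    have hkey : ∀ i j : Fin m, i ≠ j →
        (∀ x, x ≠ i.castSucc → g.1 x i.castSucc = 0) ∧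
        (∀ y, y ≠ j.castSucc → g.1 j.castSucc y = 0) ∧
        g.1 i.castSucc i.castSucc = g.1 j.castSucc j.castSucc := by
      intro i j hij
      have hij' : i.castSucc ≠ j.castSucc := fun h => hij (Fin.castSucc_injective m h)
      set E : (SpecialLinearGroup (Fin (m + 1)) F) := SpecialLinearGroup.transvection hij' 1 with hE
      have hEL : E ∈ L := by
        rw [← hrange]
        refine ⟨SpecialLinearGroup.transvection hij 1, Subtype.ext ?_⟩
        show blk ((SpecialLinearGroup.transvection hij 1 : SpecialLinearGroup (Fin m) F) :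
          Matrix (Fin m) (Fin m) F) = (E : Matrix (Fin (m + 1)) (Fin (m + 1)) F)
        rw [hE, SpecialLinearGroup.transvection_coe, SpecialLinearGroup.transvection_coe]
        ext x y
        induction x using Fin.lastCases <;> induction y using Fin.lastCases <;>
          simp [blk_cc, blk_cl, blk_lc, blk_ll, Matrix.single_apply, Matrix.one_apply,
            Fin.castSucc_ne_last, (Fin.castSucc_ne_last _).symm]
      have h := congrArg Subtype.val (mem_centralizer_iff.1 hg E hEL)
      rw [Linear.val_mul, Linear.val_mul, hE, SpecialLinearGroup.transvection_coe, add_mul, mul_add,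
        one_mul, mul_one] at h
      have h' : ∀ x y, (Matrix.single i.castSucc j.castSucc (1 : F) * g.1) x y =
          (g.1 * Matrix.single i.castSucc j.castSucc (1 : F)) x y := fun x y => by
        have hxy := congrFun (congrFun h x) y
        simp only [Matrix.add_apply] at hxy
        linear_combination hxy
      refine ⟨fun x hx => ?_, fun y hy => ?_, ?_⟩
      · simpa [Matrix.single_mul_apply_of_ne _ _ _ _ _ hx] using (h' x j.castSucc).symm
      · simpa [Matrix.mul_single_apply_of_ne _ _ _ _ _ hy] using h' i.castSucc y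
      · simpa using (h' i.castSucc j.castSucc).symm
    set z : Fin m := ⟨0, by omega⟩ with hz
    have hex : ∀ i : Fin m, ∃ j, j ≠ i := fun i => by
      by_cases hi : i = z
      · exact ⟨⟨1, by omega⟩, by rw [hi, hz]; simp [Fin.ext_iff]⟩
      · exact ⟨z, Ne.symm hi⟩
    refine ⟨g.1 z.castSucc z.castSucc, (hmem g).2 fun i => ?_, fun i j => ?_⟩
    · obtain ⟨j, hj⟩ := hex i
      exact ⟨(hkey j i hj).2.1 _ (Fin.castSucc_ne_last i).symm,
        (hkey i j hj.symm).1 _ (Fin.castSucc_ne_last i).symm⟩
    · by_cases hij : i = j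
      · subst hij
        rw [if_pos rfl]
        by_cases hi : i = z
        · rw [hi]
        · exact (hkey i z hi).2.2
      · rw [if_neg hij]
        exact (hkey j i (Ne.symm hij)).1 _ fun h => hij (Fin.castSucc_injective m h)
  have hdg : ∀ (g : (SpecialLinearGroup (Fin (m + 1)) F)) (a : F), g ∈ C →
      (∀ i j : Fin m, g.1 i.castSucc j.castSucc = if i = j then a else 0) →
      ∃ f : Fin (m + 1) → F, g.1 = Matrix.diagonal f := fun g a hgC hga => by
    refine ⟨Fin.lastCases (g.1 (Fin.last m) (Fin.last m)) (fun _ => a), ?_⟩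
    ext i j
    induction i using Fin.lastCases <;> induction j using Fin.lastCases
    · simp
    · rename_i j; rw [((hmem g).1 hgC j).2, Matrix.diagonal_apply_ne _ (Fin.castSucc_ne_last j).symm]
    · rename_i i; rw [((hmem g).1 hgC i).1, Matrix.diagonal_apply_ne _ (Fin.castSucc_ne_last i)]
    · rename_i i j
      rw [hga i j]
      by_cases hij : i = j
      · subst hij; simp
      · rw [if_neg hij, Matrix.diagonal_apply_ne _ fun h => hij (Fin.castSucc_injective m h)]
  have hinv : ∀ g ∈ centralizer (L : Set (SpecialLinearGroup (Fin (m + 1)) F)), g * g = 1 → g = 1 ∨ g = t := by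
    intro g hg hgg
    obtain ⟨a, hgC, hga⟩ := hcent g hg
    have hdiag : g.1 = Matrix.diagonal
        (Fin.lastCases (g.1 (Fin.last m) (Fin.last m)) (fun _ => a)) := by
      ext i j
      induction i using Fin.lastCases <;> induction j using Fin.lastCases
      · simp
      · rename_i j; rw [((hmem g).1 hgC j).2, Matrix.diagonal_apply_ne _ (Fin.castSucc_ne_last j).symm]
      · rename_i i; rw [((hmem g).1 hgC i).1, Matrix.diagonal_apply_ne _ (Fin.castSucc_ne_last i)]
      · rename_i i j
        rw [hga i j]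
        by_cases hij : i = j
        · subst hij; simp
        · rw [if_neg hij, Matrix.diagonal_apply_ne _ fun h => hij (Fin.castSucc_injective m h)]
    set b := g.1 (Fin.last m) (Fin.last m) with hb
    have hdet : a ^ m * b = 1 := by
      have h := g.2
      rw [hdiag, Matrix.det_diagonal, Fin.prod_univ_castSucc] at h
      simpa using h
    have hsq := congrArg Subtype.val hgg
    rw [Linear.val_mul, hdiag, Matrix.diagonal_mul_diagonal] at hsq
    have ha : a * a = 1 := by
      have := congrFun (congrFun hsq (⟨0, by omega⟩ : Fin m).castSucc) (⟨0, by omega⟩ : Fin m).castSucc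
      rw [Matrix.diagonal_apply_eq] at this
      simp only [Fin.lastCases_castSucc] at this
      exact this.trans (Matrix.one_apply_eq _)
    have hb1 : b = 1 := by
      obtain ⟨k, rfl⟩ := heven
      rw [pow_add, ← mul_pow, ha, one_pow, one_mul] at hdet
      exact hdet
    rcases mul_self_eq_one_iff.1 ha with rfl | rfl
    · left
      apply Subtype.ext
      rw [hdiag, hb1]
      ext i j
      induction i using Fin.lastCases <;> induction j using Fin.lastCases <;>
        simp [Matrix.diagonal_apply, Matrix.one_apply]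
    · right
      apply Subtype.ext
      rw [hdiag, hb1, ht]
      congr 1
      funext i
      induction i using Fin.lastCases
      · rw [Fin.lastCases_last]; exact hdl.symm
      · rename_i i; rw [Fin.lastCases_castSucc]; exact (hdc i).symm
  have htC : t ∈ C := mem_centralizer_singleton_iff.2 rfl
  have htcent : t ∈ centralizer (L : Set (SpecialLinearGroup (Fin (m + 1)) F)) := mem_centralizer_iff.2 fun l hl =>
    mem_centralizer_singleton_iff.1 (hLC hl)
  have ht1 : t ≠ 1 := by
    intro h
    have := congrFun (congrFun (congrArg Subtype.val h) (⟨0, by omega⟩ : Fin m).castSucc)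
      (⟨0, by omega⟩ : Fin m).castSucc
    rw [ht, Matrix.diagonal_apply_eq, hdc] at this
    simp at this
    exact one_ne_zero (hne 1 (by linear_combination -this))
  have ht2 : t * t = 1 := by
    apply Subtype.ext
    rw [Linear.val_mul, ht, Matrix.diagonal_mul_diagonal]
    show Matrix.diagonal _ = (1 : Matrix (Fin (m + 1)) (Fin (m + 1)) F)
    rw [← Matrix.diagonal_one]
    congr 1
    funext i
    simp only [hd]
    split_ifs <;> ring
  have hCL : C ≤ normalizer (L : Set (SpecialLinearGroup (Fin (m + 1)) F)) := Components.le_normalizer_map_subtype χ.ker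
  have hCZ : C ≤ normalizer ((centralizer (L : Set (SpecialLinearGroup (Fin (m + 1)) F)) : Subgroup (SpecialLinearGroup (Fin (m + 1)) F)) : Set (SpecialLinearGroup (Fin (m + 1)) F)) :=
    hCL.trans (normalizer_le_normalizer_centralizer L)
  have hlayer : (Cfsg.layer ↥C).map C.subtype = L := by
    have hLc : Cfsg.IsComponent (L.subgroupOf C) :=
      ⟨(normal_subgroupOf_of_le_normalizer hCL).isSubnormal,
        quasisimple_of_mulEquiv (subgroupOfEquivOfLe hLC).symm hLq⟩
    refine le_antisymm ?_ (by rw [← map_subgroupOf_eq_of_le hLC]; exact map_mono (component_le_layer hLc))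
    rw [map_le_iff_le_comap, layer_le_iff]
    intro K hK
    rcases eq_or_ne K (L.subgroupOf C) with rfl | hne'
    · exact fun x hx => hx
    · exfalso
      refine not_self_commute hK.2 (commutator_eq_bot_iff_le_centralizer.2 fun k hk => ?_)
      refine mem_centralizer_iff.2 fun k' hk' => ?_
      have hc : ∀ k ∈ K, (k : (SpecialLinearGroup (Fin (m + 1)) F)) ∈ centralizer (L : Set (SpecialLinearGroup (Fin (m + 1)) F)) := fun k hk =>
        mem_centralizer_iff.2 fun l hl => congrArg Subtype.val (mem_centralizer_iff.1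
          (commutator_eq_bot_iff_le_centralizer.1 (component_commute hK hLc hne') hk) ⟨l, hLC hl⟩ hl)
      obtain ⟨a, hkC, hka⟩ := hcent _ (hc k hk)
      obtain ⟨a', hk'C, hka'⟩ := hcent _ (hc k' hk')
      refine Subtype.ext (Subtype.ext ?_)
      show (k' : (SpecialLinearGroup (Fin (m + 1)) F)).1 * (k : (SpecialLinearGroup (Fin (m + 1)) F)).1 = (k : (SpecialLinearGroup (Fin (m + 1)) F)).1 * (k' : (SpecialLinearGroup (Fin (m + 1)) F)).1
      obtain ⟨f, hf⟩ := hdg _ a hkC hka
      obtain ⟨f', hf'⟩ := hdg _ a' hk'C hka'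
      rw [hf, hf', Matrix.diagonal_mul_diagonal, Matrix.diagonal_mul_diagonal]
      simp only [mul_comm]
  rw [hlayer]
  have heq : ∀ g : (SpecialLinearGroup (Fin (m + 1)) F), ∀ x ∈ centralizer (L : Set (SpecialLinearGroup (Fin (m + 1)) F)), x * x = 1 → x ≠ 1 → x = t := fun g x hx h1 h1' =>
    (hinv x hx h1).resolve_left h1'
  refine ⟨hLq, ⟨?_, fun g hg => ?_⟩, fun g hne' hcm => ?_, le_antisymm
    (normalizer_le_normalizer_centralizer L) (le_trans ?_ hCL)⟩
  · rw [even_iff_two_dvd, ← orderOf_eq_prime (p := 2) (by rw [sq]; exact ht2) ht1]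
    exact Subgroup.orderOf_dvd_natCard _ htcent
  · rw [← Nat.not_even_iff_odd]
    intro hev
    haveI : Fact (Nat.Prime 2) := ⟨Nat.prime_two⟩
    obtain ⟨r, hr⟩ := exists_prime_orderOf_dvd_card'
      (G := ↥(centralizer (L : Set (SpecialLinearGroup (Fin (m + 1)) F)) ⊓ (centralizer (L : Set (SpecialLinearGroup (Fin (m + 1)) F))).map (MulAut.conj g).toMonoidHom)) 2
      (even_iff_two_dvd.1 hev)
    obtain ⟨hr1, x, hx, hxr⟩ := r.2
    have hrr : (r : (SpecialLinearGroup (Fin (m + 1)) F)) * r = 1 := by
      rw [← sq, ← hr, ← Subgroup.orderOf_coe r, pow_orderOf_eq_one]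
    have hr1' : (r : (SpecialLinearGroup (Fin (m + 1)) F)) ≠ 1 := fun h => by
      rw [← Subgroup.orderOf_coe, h, orderOf_one] at hr
      exact absurd hr (by norm_num)
    have hxr' : g * x * g⁻¹ = r := hxr
    have hxx : x * x = 1 := by
      have hx' : x = g⁻¹ * r * g := by rw [← hxr']; group
      rw [hx', show g⁻¹ * (r : (SpecialLinearGroup (Fin (m + 1)) F)) * g * (g⁻¹ * r * g) = g⁻¹ * ((r : (SpecialLinearGroup (Fin (m + 1)) F)) * r) * g by group, hrr]
      group
    have hxt : x = t := heq g x hx hxx fun h => hr1' (by rw [← hxr', h]; group)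
    rw [hxt, heq g _ hr1 hrr hr1'] at hxr'
    exact hg (hCZ (mem_centralizer_singleton_iff.2 (mul_inv_eq_iff_eq_mul.1 hxr')))
  · refine not_self_commute hLq (commutator_eq_bot_iff_le_centralizer.2 ?_)
    have hle : L.map (MulAut.conj g).toMonoidHom ≤ centralizer (L : Set (SpecialLinearGroup (Fin (m + 1)) F)) :=
      le_centralizer_iff.1 (commutator_eq_bot_iff_le_centralizer.1 hcm)
    intro l hl
    refine mem_centralizer_iff.2 fun l' hl' => ?_
    apply (MulAut.conj g).injective
    rw [map_mul, map_mul]
    obtain ⟨a, hC1, hga⟩ := hcent _ (hle ⟨l, hl, rfl⟩)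
    obtain ⟨a', hC2, hga'⟩ := hcent _ (hle ⟨l', hl', rfl⟩)
    obtain ⟨f, hf⟩ := hdg _ a hC1 hga
    obtain ⟨f', hf'⟩ := hdg _ a' hC2 hga'
    apply Subtype.ext
    refine Eq.trans (congrArg₂ (· * ·) hf' hf) (Eq.trans ?_ (congrArg₂ (· * ·) hf hf').symm)
    simp only [Matrix.diagonal_mul_diagonal, mul_comm]
  · intro g hg
    refine mem_centralizer_singleton_iff.2 (mul_inv_eq_iff_eq_mul.1 (heq g _ ?_ ?_ ?_))
    · exact (mem_normalizer_iff.1 hg t).1 htcent
    · rw [show g * t * g⁻¹ * (g * t * g⁻¹) = g * (t * t) * g⁻¹ by group, ht2]; group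
    · intro h
      apply ht1
      rw [show t = g⁻¹ * (g * t * g⁻¹) * g by group, h]
      group

/-- Let F be a finite field of odd order, n ≥ 7 odd, and t ∈ SL(n, F) the diagonal matrix with entries −1, …, −1, 1. Then E(C(t)) is a standard subgroup of SL(n, F). -/
theorem result {F : Type*} [Field F] [Fintype F] [DecidableEq F] (hF : Odd (Fintype.card F)) (n : ℕ) (hn : 7 ≤ n) (hodd : Odd n) (t : Matrix.SpecialLinearGroup (Fin n) F) (ht : (t : Matrix (Fin n) (Fin n) F) = Matrix.diagonal (fun i : Fin n => if (i : ℕ) + 1 = n then (1 : F) else -1)) : Cfsg.IsStandardSubgroup ((Cfsg.layer ↥(Subgroup.centralizer ({t} : Set (Matrix.SpecialLinearGroup (Fin n) F)))).map (Subgroup.centralizer ({t} : Set (Matrix.SpecialLinearGroup (Fin n) F))).subtype) := by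
  obtain ⟨m, rfl⟩ : ∃ m, n = m + 1 := ⟨n - 1, by omega⟩
  refine standard ?_ (by omega) (by rcases hodd with ⟨k, hk⟩; exact ⟨k, by omega⟩) t ht
  intro h0
  obtain ⟨q, hq⟩ := CharP.exists F
  haveI := hq
  obtain ⟨k, hqp, hcard⟩ := FiniteField.card F q
  have hq2 : q ∣ 2 := (CharP.cast_eq_zero_iff F q 2).1 (by exact_mod_cast h0)
  rw [(Nat.prime_dvd_prime_iff_eq hqp Nat.prime_two).1 hq2] at hcard
  rw [hcard, Nat.odd_pow_iff k.ne_zero] at hF
  exact absurd hF (by decide)

end Cfsg.Agent.S1348
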