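import Cfsg.Statements.S1628
import Cfsg.Agent.RuLat.Roots

set_option autoImplicit false
open Cfsg

namespace Cfsg.Agent.S1628

/-- The Conway–Wales lattice as stored is even with no vectors of true norm 2: stored norms are multiples of 8, never equal to 8, and the minimum over nonzero vectors is 16. -/
theorem result : (∀ x ∈ Cfsg.Spor.ruLattice, (8 : ℤ) ∣ Cfsg.Spor.ruNorm x) ∧ (∀ x ∈ Cfsg.Spor.ruLattice, Cfsg.Spor.ruNorm x ≠ 8) ∧ (∀ x ∈ Cfsg.Spor.ruLattice, x ≠ 0 → 16 ≤ Cfsg.Spor.ruNorm x) ∧ ∃ x ∈ Cfsg.Spor.ruLattice, Cfsg.Spor.ruNorm x = 16 := by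
  have h8 : ∀ x ∈ Spor.ruLattice, (8 : ℤ) ∣ Spor.ruNorm x := fun x hx ↦ by
    rw [RuLat.ruNorm_eq]; exact RuLat.eight_dvd_dot_self (RuLat.ruLattice_le hx)
  have hne : ∀ x ∈ Spor.ruLattice, Spor.ruNorm x ≠ 8 := fun x hx ↦ by
    rw [RuLat.ruNorm_eq]; exact RuLat.no_root (RuLat.ruLattice_le hx)
  refine ⟨h8, hne, fun x hx hx0 ↦ ?_, Spor.ruTable.getD 1 0, ?_, by decide +kernel⟩
  · obtain ⟨k, hk⟩ := h8 x hx
    have h8' := hne x hx
    obtain ⟨p, hp⟩ := Function.ne_iff.1 hx0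
    have hpos : 0 < Spor.ruNorm x := by
      have hn : ∀ u : GaussianInt, 0 ≤ u.norm := fun u ↦ Zsqrtd.norm_nonneg (by norm_num) u
      refine Finset.sum_pos' (fun q _ ↦ hn (x q)) ⟨p, Finset.mem_univ p, ?_⟩
      rcases (hn (x p)).lt_or_eq with h | h
      · exact h
      · exact absurd ((Zsqrtd.norm_eq_zero_iff (by norm_num) _).1 h.symm) hp
    omega
  · rw [Spor.ruLattice, AddSubgroup.mem_sInf]
    intro L hL
    refine hL.1 _ ?_
    rw [List.getD_eq_getElem _ _ (by rw [RuLat.table_length]; norm_num)]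
    exact List.getElem_mem _

end Cfsg.Agent.S1628
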