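import Cfsg.Statements.S1722
import Cfsg.Agent.J2Loc.FiveN
import Cfsg.Agent.J2Type.Wrap

set_option autoImplicit false
set_option linter.style.haveILetI false
open Cfsg
open Cfsg.Agent.J2Type Cfsg.Agent.J2Loc

namespace Cfsg.Agent.S1722

/-- Sylow 5-structure of a group of Hall–Janko type (large-extraspecial hypothesis with Q of order 32, quotient Ω⁻(4, 2), z not weakly closed in Q, more than one class of involutions): a Sylow 5-subgroup P is its own centraliser, has order 25, its normaliser has order 300, and the subgroups of order 5 fall into exactly two conjugacy classes. -/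
theorem result {G : Type*} [Group G] [Finite G] (z : G) (hz : orderOf z = 2) (Q : Subgroup (Subgroup.centralizer ({z} : Set G))) [Q.Normal] (hF : Cfsg.generalizedFittingSubgroup (Subgroup.centralizer ({z} : Set G)) = Q) (hQ : Cfsg.IsExtraspecial 2 Q) (hcard : Nat.card Q = 2 ^ 5) (e : (Subgroup.centralizer ({z} : Set G)) ⧸ Q ≃* Cfsg.Omega (ZMod 2) (Cfsg.quadFormMinus 1 (ZMod 2) 1 1)) (hnwc : ∃ g : G, (∃ hq : g * z * g⁻¹ ∈ Subgroup.centralizer ({z} : Set G), (⟨g * z * g⁻¹, hq⟩ : Subgroup.centralizer ({z} : Set G)) ∈ Q) ∧ g * z * g⁻¹ ≠ z) (hcl : ∃ x y : G, orderOf x = 2 ∧ orderOf y = 2 ∧ ¬ IsConj x y) (P : Sylow 5 G) : Subgroup.centralizer ((P : Subgroup G) : Set G) = P ∧ Nat.card P = 25 ∧ Nat.card (Subgroup.normalizer ((P : Subgroup G) : Set G)) = 300 ∧ ∃ X Y : Subgroup G, Nat.card X = 5 ∧ Nat.card Y = 5 ∧ (∀ g : G, X.map (MulAut.conj g).toMonoidHom ≠ Y) ∧ ∀ W : Subgroup G, Nat.card W = 5 → ∃ g : G, W.map (MulAut.conj g).toMonoidHom =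 X ∨ W.map (MulAut.conj g).toMonoidHom = Y := by
  classical
  haveI := Fact.mk Nat.prime_five
  obtain ⟨p, x, c⟩ := exists_setup z hz Q hF hQ hcard e hnwc hcl
  obtain ⟨K, ι, L⟩ := exists_loc c
  obtain ⟨f, ho, hf⟩ := L.exists_five
  have hfo : orderOf (f : G) = 5 := by rw [Subgroup.orderOf_coe, ho]
  obtain ⟨P₀, hP₀⟩ := (IsPGroup.of_card (p := 5) (n := 1)
    (by rw [Nat.card_zpowers, hfo, pow_one] : Nat.card (Subgroup.zpowers (f : G)) = 5 ^ 1)).exists_le_sylow
  obtain ⟨g, hg⟩ := sylow_conj P P₀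
  have hd5 : 5 ∣ Nat.card (cen z) := by rw [c.d.hyp.cardC]; norm_num
  obtain ⟨⟨y, hy⟩, hyo⟩ := exists_prime_orderOf_dvd_card' 5 hd5
  rw [Subgroup.orderOf_mk] at hyo
  have hy50 := L.card_cen_five' hy hyo
  refine ⟨L.cenS_five P, L.card_sylow_five P, ?_, Subgroup.zpowers (f : G), Subgroup.zpowers y,
    by rw [Nat.card_zpowers, hfo], by rw [Nat.card_zpowers, hyo], fun a h => ?_, fun W hW => ?_⟩
  · rw [hg]
    exact (card_nor_map_conj g _).trans (L.card_nor_five ho hf (hP₀ (Subgroup.mem_zpowers _)))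
  · rw [MonoidHom.map_zpowers] at h
    have h1 := cen_eq_of_zpowers_eq h
    have h2 : Nat.card (cen (a * (f : G) * a⁻¹)) = 50 := by rw [← hy50, ← h1]; rfl
    rw [card_cen_conj, L.card_cen_five ho] at h2
    omega
  · obtain ⟨⟨u, hu⟩, huo⟩ := exists_prime_orderOf_dvd_card' 5 (hW.symm.dvd : 5 ∣ Nat.card W)
    rw [Subgroup.orderOf_mk] at huo
    have hWu : Subgroup.zpowers u = W :=
      Subgroup.eq_of_le_of_card_ge (Subgroup.zpowers_le.2 hu) (by rw [Nat.card_zpowers, huo, hW])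
    obtain ⟨a, ha⟩ := L.five_classes ho hf hyo hy50 huo
    have hne : a * u * a⁻¹ ≠ 1 := fun e => by
      rw [conj_eq_one_iff.1 e, orderOf_one] at huo; norm_num at huo
    refine ⟨a, ?_⟩
    rw [← hWu, MonoidHom.map_zpowers]
    rcases ha with ha | ha
    · exact Or.inl (zpowers_eq_of_mem Nat.prime_five hfo ha hne)
    · exact Or.inr (zpowers_eq_of_mem Nat.prime_five hyo ha hne)

end Cfsg.Agent.S1722
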