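import Cfsg.Statements.S1723
import Cfsg.Agent.J2Loc.ThreeN
import Cfsg.Agent.J2Type.Wrap

set_option autoImplicit false
set_option linter.style.haveILetI false
open Cfsg
open Cfsg.Agent.J2Type Cfsg.Agent.J2Loc

namespace Cfsg.Agent.S1723

/-- Sylow 3-structure of a group of Hall–Janko type (large-extraspecial hypothesis with Q of order 32, quotient Ω⁻(4, 2), z not weakly closed in Q, more than one class of involutions): a Sylow 3-subgroup P is extraspecial of order 27, its normaliser has order 216, and the elements of order 3 form exactly two conjugacy classes. -/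
theorem result {G : Type*} [Group G] [Finite G] (z : G) (hz : orderOf z = 2) (Q : Subgroup (Subgroup.centralizer ({z} : Set G))) [Q.Normal] (hF : Cfsg.generalizedFittingSubgroup (Subgroup.centralizer ({z} : Set G)) = Q) (hQ : Cfsg.IsExtraspecial 2 Q) (hcard : Nat.card Q = 2 ^ 5) (e : (Subgroup.centralizer ({z} : Set G)) ⧸ Q ≃* Cfsg.Omega (ZMod 2) (Cfsg.quadFormMinus 1 (ZMod 2) 1 1)) (hnwc : ∃ g : G, (∃ hq : g * z * g⁻¹ ∈ Subgroup.centralizer ({z} : Set G), (⟨g * z * g⁻¹, hq⟩ : Subgroup.centralizer ({z} : Set G)) ∈ Q) ∧ g * z * g⁻¹ ≠ z) (hcl : ∃ x y : G, orderOf x = 2 ∧ orderOf y = 2 ∧ ¬ IsConj x y) (P : Sylow 3 G) : Cfsg.IsExtraspecial 3 (P : Subgroup G) ∧ Nat.card P = 27 ∧ Nat.card (Subgroup.normalizer ((P : Subgroup G) : Set G)) = 216 ∧ ∃ a b : G, orderOf a = 3 ∧ orderOf b = 3 ∧ ¬ IsConj a b ∧ ∀ c : G, orderOf c = 3 → IsConj c a ∨ IsConj c b := by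
  haveI := Fact.mk Nat.prime_three
  obtain ⟨p, x, c⟩ := exists_setup z hz Q hF hQ hcard e hnwc hcl
  obtain ⟨K, ι, L⟩ := exists_loc c
  obtain ⟨r, u, P₀, D⟩ := L.exists_threeData
  obtain ⟨T, hT⟩ := D.isPGroup.exists_le_sylow
  have hTP : (T : Subgroup G) = P₀ :=
    (Subgroup.eq_of_le_of_card_ge hT (by rw [D.card]; exact (L.card_sylow_three T).le)).symm
  obtain ⟨g, hg⟩ := sylow_conj P T
  rw [hTP] at hg
  refine ⟨(isExtraspecial_cube (q := 3) ?_ fun h => D.not_comm ⟨⟨fun a b => ?_⟩⟩).1, L.card_sylow_three P, ?_,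
    r, (u : G), D.hr3, D.u_order, fun h => ?_, fun t ht => D.classes ht⟩
  · exact (L.card_sylow_three P).trans (by norm_num)
  · have hmem : ∀ q : P₀, g * (q : G) * g⁻¹ ∈ (P : Subgroup G) := fun q => hg ▸ ⟨q, q.2, rfl⟩
    have hab : g * (a : G) * g⁻¹ * (g * (b : G) * g⁻¹) = g * (b : G) * g⁻¹ * (g * (a : G) * g⁻¹) :=
      congrArg Subtype.val (h.is_comm.comm ⟨_, hmem a⟩ ⟨_, hmem b⟩)
    exact Subtype.ext (Cfsg.Agent.J2Type.commute_conj_iff.1 hab)
  · rw [hg]
    exact (card_nor_map_conj g _).trans D.card_nor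
  · have := card_cen_of_isConj h
    rw [L.card_cen_r D.hr3 D.hrK, D.card_cu] at this
    norm_num at this

end Cfsg.Agent.S1723
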