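import Cfsg.Statements.S1724
import Cfsg.Agent.J2Loc.Seven
import Cfsg.Agent.J2Type.Wrap

set_option autoImplicit false
set_option linter.style.haveILetI false
open Cfsg
open Cfsg.Agent.J2Type Cfsg.Agent.J2Loc

namespace Cfsg.Agent.S1724

/-- In a group of Hall–Janko type (large-extraspecial hypothesis with Q of order 32, quotient Ω⁻(4, 2), z not weakly closed in Q, more than one class of involutions), a Sylow 7-subgroup is its own centraliser and its normaliser is non-abelian of order 42. -/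
theorem result {G : Type*} [Group G] [Finite G] (z : G) (hz : orderOf z = 2) (Q : Subgroup (Subgroup.centralizer ({z} : Set G))) [Q.Normal] (hF : Cfsg.generalizedFittingSubgroup (Subgroup.centralizer ({z} : Set G)) = Q) (hQ : Cfsg.IsExtraspecial 2 Q) (hcard : Nat.card Q = 2 ^ 5) (e : (Subgroup.centralizer ({z} : Set G)) ⧸ Q ≃* Cfsg.Omega (ZMod 2) (Cfsg.quadFormMinus 1 (ZMod 2) 1 1)) (hnwc : ∃ g : G, (∃ hq : g * z * g⁻¹ ∈ Subgroup.centralizer ({z} : Set G), (⟨g * z * g⁻¹, hq⟩ : Subgroup.centralizer ({z} : Set G)) ∈ Q) ∧ g * z * g⁻¹ ≠ z) (hcl : ∃ x y : G, orderOf x = 2 ∧ orderOf y = 2 ∧ ¬ IsConj x y) (D : Sylow 7 G) : Subgroup.centralizer ((D : Subgroup G) : Set G) = D ∧ Nat.card (Subgroup.normalizer ((D : Subgroup G) : Set G)) = 42 ∧ ¬ IsMulCommutative (Subgroup.normalizer ((D : Subgroup G) : Set G)) := by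
  haveI := Fact.mk (show Nat.Prime 7 by norm_num)
  obtain ⟨p, x, c⟩ := exists_setup z hz Q hF hQ hcard e hnwc hcl
  obtain ⟨K, ι, L⟩ := exists_loc c
  refine ⟨L.cenS_seven D, L.card_nor_seven D, fun h => ?_⟩
  have hle : nor (D : Subgroup G) ≤ cenS (D : Subgroup G) := fun w hw a ha =>
    congrArg Subtype.val (h.is_comm.comm ⟨a, Subgroup.le_normalizer ha⟩ ⟨w, hw⟩)
  rw [L.cenS_seven D] at hle
  have := Subgroup.card_dvd_of_le hle
  rw [L.card_nor_seven D, L.card_sylow_seven D] at this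
  norm_num at this

end Cfsg.Agent.S1724
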