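import Cfsg.Statements.S1904
import Cfsg.Agent.OddPre.NoSCN.Central
import Cfsg.Agent.OddPre.NoSCN.OrderSixtyFour
-- import your own Cfsg.Agent.* helpers here

set_option autoImplicit false
open Cfsg

namespace Cfsg.Agent.S1904

/-- Let X be a finite nonabelian 2-group with no normal abelian subgroup that is self-centralizing and contains an elementary abelian subgroup of order 8. Suppose a group A of automorphisms of X of odd order satisfies [X, A] = X. Then X is the quaternion group of order 8, or X is special of order 64 with exactly three involutions, all central, or X is extraspecial of order 32 with exactly eleven involutions (the central product of a quaternion group and a dihedral group of order 8). -/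
theorem result {X : Type*} [Group X] [Finite X] (hX : IsPGroup 2 X) (hna : ¬ IsMulCommutative X)
    (hscn : ¬ ∃ A : Subgroup X, A.Normal ∧ Subgroup.centralizer (A : Set X) = A ∧
      ∃ E : Subgroup X, E ≤ A ∧ Cfsg.IsElementaryAbelian 2 E ∧ Nat.card E = 8)
    (A : Subgroup (MulAut X)) (hA : Odd (Nat.card A))
    (hXA : Subgroup.closure {g : X | ∃ φ ∈ A, ∃ x : X, g = x⁻¹ * φ x} = ⊤) :
    Nonempty (X ≃* QuaternionGroup 2) ∨
      (Cfsg.IsSpecial 2 X ∧ Nat.card X = 64 ∧ Nat.card {x : X // orderOf x = 2} = 3 ∧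
        ∀ x : X, orderOf x = 2 → x ∈ Subgroup.center X) ∨
      (Cfsg.IsExtraspecial 2 X ∧ Nat.card X = 32 ∧ Nat.card {x : X // orderOf x = 2} = 11) := by
  classical
  haveI : Fact (Nat.Prime 2) := ⟨Nat.prime_two⟩
  have hno := OddPre.NoSCN.noEight_of_no_scn hX hscn
  by_cases hall : ∀ B : Subgroup X, B.Normal → (∀ a ∈ B, ∀ b ∈ B, a * b = b * a) →
      (∀ φ ∈ A, ∀ b ∈ B, φ b ∈ B) → B ≤ Subgroup.center X
  · exact OddPre.NoSCN.central_case hX hno hna A hA hXA hall
  push Not at hall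
  obtain ⟨B0, hB0n, hB0c, hB0A, hB0⟩ := hall
  let 𝒮 : Set (Subgroup X) :=
    {M | M.Normal ∧ (∀ a ∈ M, ∀ b ∈ M, a * b = b * a) ∧ (∀ φ ∈ A, ∀ b ∈ M, φ b ∈ M) ∧ B0 ≤ M}
  obtain ⟨B, hmax⟩ := (Set.toFinite 𝒮).exists_maximal ⟨B0, hB0n, hB0c, hB0A, le_rfl⟩
  obtain ⟨hBn, hBc, hBA, hB0B⟩ := hmax.prop
  have hBnc : ¬ B ≤ Subgroup.center X := fun h => hB0 (hB0B.trans h)
  haveI := hBn
  have hmove : ∃ φ ∈ A, ∃ b ∈ B, φ b ≠ b := by
    by_contra h
    push Not at h
    exact hBnc (OddPre.NoSCN.le_center_of_fix A hXA B h)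
  obtain ⟨b, hb, hbc⟩ := SetLike.not_le_iff_exists.1 hBnc
  obtain ⟨U, τ, n, hτ, hF, hpow⟩ :=
    OddPre.NoSCN.exists_frame hX hno A hA B hBc hBA hmove ⟨b, hb, Or.inl hbc⟩
  have hcent := hF.centralizer_eq hX hno A hτ hBA fun M hMn hMA hMc hBM =>
    hmax.le_of_ge ⟨hMn, hMc, hMA, hB0B.trans hBM⟩ hBM
  have hBtop : B ≠ ⊤ := fun h => hna ⟨⟨fun x y =>
    hBc x (h.symm ▸ Subgroup.mem_top x) y (h.symm ▸ Subgroup.mem_top y)⟩⟩
  obtain ⟨hcard, hZ, hU, hsq, hinv⟩ :=
    (⟨hF, hτ, hBA, hpow, hcent⟩ : OddPre.NoSCN.SCFrame A B U τ n).structure_sixty_four hX hno hA hXA hBtop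
  have hcom : commutator X = U := by
    refine le_antisymm (by rw [commutator_def, Subgroup.commutator_le]; exact fun x _ y _ => hU x y) ?_
    have hne : commutator X ≠ ⊥ := fun h => hna ⟨⟨fun x y => by
      rw [← commutatorElement_eq_one_iff_mul_comm, ← Subgroup.mem_bot, ← h]
      exact Subgroup.commutator_mem_commutator (Subgroup.mem_top x) (Subgroup.mem_top y)⟩⟩
    obtain ⟨d, hd, hd1⟩ : ∃ d ∈ commutator X, d ≠ 1 := by
      by_contra h
      push Not at h
      exact hne ((Subgroup.eq_bot_iff_forall _).2 h)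
    have hdU : d ∈ U := (show commutator X ≤ U by
      rw [commutator_def, Subgroup.commutator_le]; exact fun x _ y _ => hU x y) hd
    refine hF.mem_of_invariant (fun s hs => ?_) hdU hd1 hd
    have := (inferInstance : (commutator X).Characteristic).fixed τ
    rw [← this] at hs
    exact hs
  exact OddPre.NoSCN.concl_sixty_four hX hcard (fun z hz => hF.sq_omega z (hZ ▸ hz))
    (by rw [hZ]; exact hF.card_omega) (hcom.trans hZ.symm) (fun y => hZ.symm ▸ hsq y)
    (fun t ht => hZ.symm ▸ hinv t ht)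

end Cfsg.Agent.S1904
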