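import Cfsg.Statements.S1907
import Cfsg.Agent.Tech.Basic
-- import your own Cfsg.Agent.* helpers here

set_option autoImplicit false
open Cfsg

namespace Cfsg.Agent.S1907

/-- Let P be a Sylow p-subgroup of a finite group G, H = P ∩ O_{p',p}(G), N = N_G(H) and D = O_{p'}(G). (a) If y is an element of p-power order of N and d ∈ D with d⁻¹ y d ∈ N, then d = d₁ d₂ with d₁ ∈ C_D(y) and d₂ ∈ C_D(H). (b) Two elements of P that are conjugate in G are conjugate in N. -/
theorem result {G : Type*} [Group G] [Finite G] {p : ℕ} [Fact p.Prime] (P : Sylow p G) :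
    (∀ y ∈ Subgroup.normalizer (((P : Subgroup G) ⊓ Cfsg.pPrimePCore p G : Subgroup G) : Set G), (∃ k : ℕ, orderOf y = p ^ k) →
      ∀ d ∈ Cfsg.pPrimeCore p G, d⁻¹ * y * d ∈ Subgroup.normalizer (((P : Subgroup G) ⊓ Cfsg.pPrimePCore p G : Subgroup G) : Set G) →
        ∃ d₁ ∈ Cfsg.pPrimeCore p G ⊓ Subgroup.centralizer ({y} : Set G),
          ∃ d₂ ∈ Cfsg.pPrimeCore p G ⊓ Subgroup.centralizer (((P : Subgroup G) ⊓ Cfsg.pPrimePCore p G : Subgroup G) : Set G), d = d₁ * d₂) ∧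
    ∀ x y : G, x ∈ (P : Subgroup G) → y ∈ (P : Subgroup G) → IsConj x y →
      ∃ n ∈ Subgroup.normalizer (((P : Subgroup G) ⊓ Cfsg.pPrimePCore p G : Subgroup G) : Set G), n * x * n⁻¹ = y := by
  haveI hDn : (Cfsg.pPrimeCore p G).Normal := inferInstance
  set H := ((P : Subgroup G) ⊓ Cfsg.pPrimePCore p G) with hH
  set N := Subgroup.normalizer (H : Set G) with hN
  set D := Cfsg.pPrimeCore p G with hD
  have hDNC : D ⊓ N ≤ Subgroup.centralizer (H : Set G) := Tech.pPrimeCore_inf_normalizer_le P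
  have parta : ∀ y ∈ N, (∃ k : ℕ, orderOf y = p ^ k) → ∀ d ∈ D, d⁻¹ * y * d ∈ N →
      ∃ d₁ ∈ D ⊓ Subgroup.centralizer ({y} : Set G),
        ∃ d₂ ∈ D ⊓ Subgroup.centralizer (H : Set G), d = d₁ * d₂ := by
    rintro y hy ⟨k, hk⟩ d hd hdy
    let y' : N := ⟨y, hy⟩
    let z' : N := ⟨d⁻¹ * y * d, hdy⟩
    let E : Subgroup N := D.subgroupOf N
    haveI : E.Normal := hDn.subgroupOf N
    have hoy : orderOf y' = p ^ k := by rw [← hk]; exact (Subgroup.orderOf_coe y').symm
    have hoz : orderOf z' = p ^ k := by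
      rw [← Subgroup.orderOf_coe]
      show orderOf (d⁻¹ * y * d) = _
      rw [← hk]
      have := orderOf_injective (MulAut.conj d⁻¹).toMonoidHom (MulAut.conj d⁻¹).injective y
      simpa using this
    have hEco : (Nat.card E).Coprime p := by
      refine Nat.Coprime.coprime_dvd_left ?_ (Cores.pPrimeCore_coprime (p := p) (G := G))
      rw [← Subgroup.card_map_of_injective N.subtype_injective]
      exact Subgroup.card_dvd_of_le (by rintro x ⟨z, hz, rfl⟩; exact hz)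
    let K : Subgroup N := Subgroup.zpowers y' ⊔ E
    have hpy : IsPGroup p (Subgroup.zpowers y') :=
      IsPGroup.of_card (n := k) (by rw [Nat.card_zpowers, hoy])
    have hpz : IsPGroup p (Subgroup.zpowers z') :=
      IsPGroup.of_card (n := k) (by rw [Nat.card_zpowers, hoz])
    have hzK : z' ∈ K := by
      have h : y'⁻¹ * z' ∈ E := by
        show y⁻¹ * (d⁻¹ * y * d) ∈ D
        have h2 := hDn.conj_mem d⁻¹ (inv_mem hd) y⁻¹
        rw [inv_inv] at h2
        simpa [mul_assoc] using mul_mem h2 hd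
      have h2 := Subgroup.mul_mem_sup (Subgroup.mem_zpowers y') h
      rwa [mul_inv_cancel_left] at h2
    have hrel : ∀ w : N, orderOf w = p ^ k → w ∈ K → ¬ p ∣ (Subgroup.zpowers w).relIndex K := by
      intro w hw hwK hdvd
      have h1 : Nat.card (Subgroup.zpowers w) * (Subgroup.zpowers w).relIndex K = Nat.card K := by
        rw [← Subgroup.relIndex_bot_left, ← Subgroup.relIndex_bot_left]
        exact Subgroup.relIndex_mul_relIndex _ _ _ bot_le (Subgroup.zpowers_le.mpr hwK)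
      have h2 := Cores.card_sup_dvd_mul (Subgroup.zpowers y') E
      rw [Nat.card_zpowers, hoy] at h2
      rw [Nat.card_zpowers, hw] at h1
      change Nat.card K ∣ _ at h2
      rw [← h1] at h2
      have h3 := hdvd.trans (Nat.dvd_of_mul_dvd_mul_left (pow_pos (Fact.out : p.Prime).pos k) h2)
      exact (Cores.coprime_iff_not_dvd_prime Fact.out).mp hEco h3
    obtain ⟨c, hc, hcyz⟩ := Fusion.exists_conj_of_relIndex hpy hpz
      (Subgroup.zpowers_le.mpr (Subgroup.mem_sup_left (Subgroup.mem_zpowers y')))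
      (Subgroup.zpowers_le.mpr hzK)
      (hrel y' hoy (Subgroup.mem_sup_left (Subgroup.mem_zpowers y'))) (hrel z' hoz hzK)
    rw [sup_comm, Subgroup.mem_sup_of_normal_left] at hc
    obtain ⟨e, he, z, hz, rfl⟩ := hc
    rw [← Fusion.cj_cj, Fusion.cj_eq_self_of_mem hz] at hcyz
    have h4 : e * y' * e⁻¹ ∈ Subgroup.zpowers z' := by
      rw [← hcyz]; exact Fusion.conj_mem_cj.mpr (Subgroup.mem_zpowers y')
    obtain ⟨j, hj⟩ := Subgroup.mem_zpowers_iff.mp h4
    have h5 : (d⁻¹ * y * d) ^ j = (e : G) * y * (e : G)⁻¹ := by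
      have := congrArg Subtype.val hj
      simpa [z', y', SubgroupClass.coe_zpow] using this
    have h5' : d⁻¹ * y ^ j * d = (e : G) * y * (e : G)⁻¹ := by
      rw [← h5]
      simpa using (conj_zpow (i := j) (a := d⁻¹) (b := y)).symm
    have heD : (e : G) ∈ D := he
    have hde : d * e ∈ D := mul_mem hd heD
    have h6 : (d * e) * y * (d * e)⁻¹ = y ^ j := by
      calc (d * e) * y * (d * e)⁻¹ = d * ((e : G) * y * (e : G)⁻¹) * d⁻¹ := by group
        _ = y ^ j := by rw [← h5']; group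
    have h7 : y ^ j * y⁻¹ ∈ D := by
      rw [← h6]
      have := mul_mem hde (hDn.conj_mem _ (inv_mem hde) y)
      simpa [mul_assoc] using this
    have h8 : y ^ j * y⁻¹ = 1 := Tech.eq_one_of_mem_pPrimeCore_of_isPGroup
      (H := Subgroup.zpowers y) (IsPGroup.of_card (n := k) (by rw [Nat.card_zpowers, hk]))
      (mul_mem (Subgroup.zpow_mem_zpowers y j) (inv_mem (Subgroup.mem_zpowers y))) h7
    rw [mul_inv_eq_one.mp h8] at h6
    refine ⟨d * e, ⟨hde, Subgroup.mem_centralizer_singleton_iff.mpr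
      (mul_inv_eq_iff_eq_mul.mp h6)⟩, (e : G)⁻¹, ?_, by group⟩
    exact inv_mem (show (e : G) ∈ D ⊓ Subgroup.centralizer (H : Set G) from ⟨heD, hDNC ⟨heD, e.2⟩⟩)
  refine ⟨parta, ?_⟩
  intro x y hx hy hxy
  haveI := PSolv.pPrimePCore_normal p G
  have hPN : (P : Subgroup G) ≤ N := Tech.sylow_le_normalizer_inf P _
  obtain ⟨g, hg⟩ := isConj_iff.mp hxy
  have htop := Tech.pPrimeCore_sup_normalizer P
  have hgm : g ∈ D ⊔ N := by rw [htop]; exact Subgroup.mem_top g
  rw [Subgroup.mem_sup_of_normal_left] at hgm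
  obtain ⟨d, hd, n, hn, rfl⟩ := hgm
  have hyk : ∃ k, orderOf y = p ^ k := by
    obtain ⟨k, hk⟩ := P.2 ⟨y, hy⟩
    have hk' : y ^ p ^ k = 1 := congrArg Subtype.val hk
    obtain ⟨i, -, hi⟩ := (Nat.dvd_prime_pow Fact.out).mp (orderOf_dvd_of_pow_eq_one hk')
    exact ⟨i, hi⟩
  have hx' : d⁻¹ * y * d = n * x * n⁻¹ := by rw [← hg]; group
  have hdy : d⁻¹ * y * d ∈ N := by rw [hx']; exact mul_mem (mul_mem hn (hPN hx)) (inv_mem hn)
  obtain ⟨d₁, hd₁, d₂, hd₂, rfl⟩ := parta y (hPN hy) hyk d hd hdy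
  have hd2N : d₂ ∈ N := Subgroup.centralizer_le_normalizer _ hd₂.2
  refine ⟨d₂ * n, mul_mem hd2N hn, ?_⟩
  have h1 : d₁ * y = y * d₁ := Subgroup.mem_centralizer_singleton_iff.mp hd₁.2
  calc d₂ * n * x * (d₂ * n)⁻¹ = d₂ * (n * x * n⁻¹) * d₂⁻¹ := by group
    _ = d₂ * ((d₁ * d₂)⁻¹ * y * (d₁ * d₂)) * d₂⁻¹ := by rw [hx']
    _ = d₁⁻¹ * (y * d₁) := by group
    _ = y := by rw [← h1, inv_mul_cancel_left]

end Cfsg.Agent.S1907
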