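import Cfsg.Statements.S1915
import Cfsg.Agent.FourAct.Main

set_option autoImplicit false
open Cfsg

namespace Cfsg.Agent.S1915

open Subgroup in
theorem eq_of_rank {X : Type*} [Group X] [Finite X] (h : Cfsg.PRankLE 2 1 X) {e f : X}
    (hee : e * e = 1) (hff : f * f = 1) (he : e ≠ 1) (hf : f ≠ 1) (hef : e * f = f * e) : e = f := by
  classical
  by_contra hne
  have hle : closure ({e, f} : Set X) ≤ centralizer ((closure ({e, f} : Set X) : Subgroup X) : Set X) := by
    rw [centralizer_closure]
    refine (closure_le _).2 ?_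
    rintro a (rfl | rfl) <;> refine mem_centralizer_iff.2 ?_ <;> rintro b (rfl | rfl)
    exacts [rfl, hef.symm, hef, rfl]
  have hcomm : ∀ a ∈ closure ({e, f} : Set X), ∀ b ∈ closure ({e, f} : Set X), a * b = b * a :=
    fun a ha b hb => (mem_centralizer_iff.1 (hle ha) b hb).symm
  have hsq : ∀ a ∈ closure ({e, f} : Set X), a ^ 2 = 1 := by
    intro a ha
    induction ha using closure_induction with
    | mem x hx => rcases hx with rfl | rfl <;> rw [pow_two] <;> assumption
    | one => exact one_pow 2
    | mul x y hx hy ihx ihy =>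
      rw [(show Commute x y from hcomm x hx y hy).mul_pow, ihx, ihy, one_mul]
    | inv x hx ih => rw [inv_pow, ih, inv_one]
  have h2 := h _ ⟨⟨fun a b => Subtype.ext (hcomm a a.2 b b.2)⟩⟩ hsq
  haveI : Fintype (closure ({e, f} : Set X)) := Fintype.ofFinite _
  rw [Nat.card_eq_fintype_card, pow_one] at h2
  have h3 := ({1, ⟨e, subset_closure (Or.inl rfl)⟩, ⟨f, subset_closure (Or.inr rfl)⟩} :
    Finset (closure ({e, f} : Set X))).card_le_univ
  rw [Finset.card_insert_of_notMem, Finset.card_insert_of_notMem, Finset.card_singleton] at h3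
  · omega
  · simpa [Subtype.ext_iff] using hne
  · simp only [Finset.mem_insert, Finset.mem_singleton, Subtype.ext_iff, coe_one, not_or]
    exact ⟨Ne.symm he, Ne.symm hf⟩

theorem no_two_of_layer {A : Type*} [Group A] (hA : Cfsg.layer A = ⊤) (M : Subgroup A) :
    M.index ≠ 2 := by
  intro hM
  haveI := Subgroup.normal_of_index_eq_two hM
  have hle : Cfsg.layer A ≤ M := sSup_le fun K hK x hx => by
    haveI := hK.2.1
    have hp : (M.subgroupOf K) = ⊤ := by
      by_contra hne
      have hi : (M.subgroupOf K).index = 2 := by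
        have h1 : (M.subgroupOf K).index ∣ 2 :=
          hM ▸ Subgroup.relIndex_dvd_index_of_normal M K
        rcases (Nat.dvd_prime Nat.prime_two).1 h1 with h | h
        · exact absurd (Subgroup.index_eq_one.1 h) hne
        · exact h
      haveI := Subgroup.normal_of_index_eq_two hi
      have hc : commutator K ≤ M.subgroupOf K := by
        haveI : IsCyclic (K ⧸ M.subgroupOf K) := by
          haveI : Fact (Nat.Prime 2) := ⟨Nat.prime_two⟩
          exact isCyclic_of_prime_card (p := 2) (by rw [← Subgroup.index_eq_card, hi])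
        exact Subgroup.Normal.quotient_commutative_iff_commutator_le.1
          ⟨⟨(IsCyclic.commGroup (α := K ⧸ M.subgroupOf K)).mul_comm⟩⟩
      rw [Group.IsPerfect.commutator_eq_top, top_le_iff] at hc
      exact hne hc
    exact Subgroup.mem_subgroupOf.1 (hp ▸ Subgroup.mem_top (⟨x, hx⟩ : K))
  rw [hA, top_le_iff] at hle
  rw [hle, Subgroup.index_top] at hM
  omega

/-- Let A be a semisimple subgroup (A = E(A)) of a finite group and U a Klein four-group normalizing A. If the subgroup of A generated by the normalizers N_A(V) of the nontrivial subgroups V of U has 2-rank exactly 1, then A has 2-rank exactly 1. -/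
theorem result {G : Type*} [Group G] [Finite G] (A : Subgroup G) (hA : Cfsg.layer ↥A = ⊤)
    (U : Subgroup G) (hU : IsKleinFour U) (hUA : U ≤ Subgroup.normalizer (A : Set G))
    (hΓ : Cfsg.PRankLE 2 1 ↥(⨆ V : {V : Subgroup G // V ≤ U ∧ V ≠ ⊥}, A ⊓ Subgroup.normalizer ((V : Subgroup G) : Set G)) ∧
      ¬ Cfsg.PRankLE 2 0 ↥(⨆ V : {V : Subgroup G // V ≤ U ∧ V ≠ ⊥}, A ⊓ Subgroup.normalizer ((V : Subgroup G) : Set G))) :
    Cfsg.PRankLE 2 1 A ∧ ¬ Cfsg.PRankLE 2 0 A := by
  set Γ := ⨆ V : {V : Subgroup G // V ≤ U ∧ V ≠ ⊥},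
    A ⊓ Subgroup.normalizer ((V : Subgroup G) : Set G) with hΓdef
  have hΓA : Γ ≤ A := iSup_le fun V => inf_le_left
  obtain ⟨h1, h0⟩ := hΓ
  have hU2 : ∀ u ∈ U, u * u = 1 := fun u hu => by
    have := congrArg Subtype.val (Monoid.pow_exponent_eq_one (⟨u, hu⟩ : U))
    rw [IsKleinFour.exponent_two, pow_two] at this
    exact this
  have hyp : FourAct.Hyp A U :=
    { norm := fun u hu x hx => (Subgroup.mem_normalizer_iff.1 (hUA hu) x).1 hx
      uu := hU2
      card := hU.card_four
      no_four := by
        intro u hu hu1 e he f hf hue huf hef hee hff he1 hf1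
        have hmem : ∀ x ∈ A, u * x = x * u → x ∈ Γ := fun x hx hc => by
          refine (le_iSup (fun V : {V : Subgroup G // V ≤ U ∧ V ≠ ⊥} =>
            A ⊓ Subgroup.normalizer ((V : Subgroup G) : Set G))
            ⟨Subgroup.zpowers u, Subgroup.zpowers_le.2 hu,
              fun h => hu1 (Subgroup.zpowers_eq_bot.1 h)⟩) ?_
          refine Subgroup.mem_inf.2 ⟨hx, Subgroup.centralizer_le_normalizer _ ?_⟩
          refine Subgroup.mem_centralizer_iff.2 fun y hy => ?_
          obtain ⟨n, rfl⟩ := Subgroup.mem_zpowers_iff.1 hy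
          exact ((show Commute u x from hc).zpow_left n).eq
        exact congrArg Subtype.val (eq_of_rank h1 (e := ⟨e, hmem e he hue⟩) (f := ⟨f, hmem f hf huf⟩)
          (Subtype.ext hee) (Subtype.ext hff) (fun h => he1 (congrArg Subtype.val h))
          (fun h => hf1 (congrArg Subtype.val h)) (Subtype.ext hef))
      no_two := no_two_of_layer hA }
  constructor
  · intro E hcomm hexp
    classical
    by_contra hcard
    haveI : Fintype E := Fintype.ofFinite E
    obtain ⟨a, ha⟩ : ∃ a : E, a ∉ ({1} : Finset E) := by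
      by_contra hc; push Not at hc
      have := Finset.card_le_card (s := (Finset.univ : Finset E)) fun x _ => hc x
      rw [Finset.card_univ, Finset.card_singleton, ← Nat.card_eq_fintype_card] at this
      omega
    obtain ⟨b, hb⟩ : ∃ b : E, b ∉ ({1, a} : Finset E) := by
      by_contra hc; push Not at hc
      have := Finset.card_le_card (s := (Finset.univ : Finset E)) fun x _ => hc x
      have h2 := Finset.card_le_two (a := (1 : E)) (b := a)
      rw [Finset.card_univ, ← Nat.card_eq_fintype_card] at this
      omega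
    simp only [Finset.mem_insert, Finset.mem_singleton, not_or] at ha hb
    have sq : ∀ x : E, ((x : A) : G) * x = 1 := fun x => by
      have := congrArg Subtype.val (hexp x x.2)
      rwa [pow_two] at this
    exact FourAct.rank_le_one hyp (e := ((a : A) : G)) (f := ((b : A) : G)) (a : A).2 (b : A).2
      (sq a) (sq b) (fun h => ha (Subtype.ext (Subtype.ext h)))
      (fun h => hb.1 (Subtype.ext (Subtype.ext h)))
      (fun h => hb.2 (Subtype.ext (Subtype.ext h)).symm)
      (congrArg (fun z : A => (z : G)) (congrArg Subtype.val (hcomm.is_comm.comm a b)))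
  · intro hA0
    refine h0 fun E hcomm hexp => ?_
    have h := hA0 (E.map (Subgroup.inclusion hΓA)) inferInstance ?_
    · rwa [Nat.card_congr (E.equivMapOfInjective _ (Subgroup.inclusion_injective hΓA)).toEquiv]
    · rintro _ ⟨x, hx, rfl⟩
      rw [← map_pow, hexp x hx, map_one]

end Cfsg.Agent.S1915
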