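import Cfsg.Statements.S1921
import Cfsg.Agent.Components.Basic
-- import your own Cfsg.Agent.* helpers here

set_option autoImplicit false
open Cfsg

open scoped Pointwise

namespace Cfsg.Agent.S1921

/-- Let a be an involution of a finite group H and L a component of H with a L a⁻¹ ≠ L; put M = ⟨L, aLa⁻¹⟩ and let J be the subgroup generated by the elements x · a x a⁻¹ with x ∈ L (the diagonal). Then every element of M outside J·Z(M) generates M together with J. -/
theorem result {H : Type*} [Group H] [Finite H] (a : H) (ha : orderOf a = 2) (L : Subgroup H) (hL : Cfsg.IsComponent L)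
    (hLa : L.map (MulAut.conj a).toMonoidHom ≠ L) (x : H) (hxM : x ∈ L ⊔ L.map (MulAut.conj a).toMonoidHom)
    (hxJ : x ∉ Subgroup.closure {y : H | ∃ l ∈ L, y = l * (a * l * a⁻¹)} ⊔
      ((L ⊔ L.map (MulAut.conj a).toMonoidHom) ⊓ Subgroup.centralizer ((L ⊔ L.map (MulAut.conj a).toMonoidHom : Subgroup H) : Set H))) :
    Subgroup.closure {y : H | ∃ l ∈ L, y = l * (a * l * a⁻¹)} ⊔ Subgroup.zpowers x = L ⊔ L.map (MulAut.conj a).toMonoidHom := by
  classical
  set L' := L.map (MulAut.conj a).toMonoidHom with hL'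
  set J := Subgroup.closure {y : H | ∃ l ∈ L, y = l * (a * l * a⁻¹)} with hJ
  set M := L ⊔ L' with hM
  set Y := J ⊔ Subgroup.zpowers x with hY
  have hcomm : ⁅L, L'⁆ = ⊥ :=
    Components.component_commute hL (Components.component_conj a hL) (Ne.symm hLa)
  have hcent : L ≤ Subgroup.centralizer (L' : Set H) :=
    Subgroup.commutator_eq_bot_iff_le_centralizer.mp hcomm
  have hc : ∀ u ∈ L, ∀ v ∈ L', v * u = u * v := fun u hu v hv => hcent hu v hv
  have hmemL' : ∀ m ∈ L, a * m * a⁻¹ ∈ L' := fun m hm => ⟨m, hm, rfl⟩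
  have hJM : J ≤ M := by
    rw [hJ, Subgroup.closure_le]
    rintro _ ⟨l, hl, rfl⟩
    exact Subgroup.mul_mem_sup hl (hmemL' l hl)
  refine le_antisymm (sup_le hJM (Subgroup.zpowers_le.mpr hxM)) ?_
  have hn : L' ≤ Subgroup.normalizer (L : Set H) :=
    (Subgroup.le_centralizer_iff.mp hcent).trans (Subgroup.centralizer_le_normalizer _)
  have hx' : x ∈ (L : Set H) * (L' : Set H) := by
    rw [← Subgroup.coe_mul_of_right_le_normalizer_left L L' hn]; exact hxM
  obtain ⟨l, hl, m', hm', rfl⟩ := hx'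
  obtain ⟨m, hm, rfl⟩ := hm'
  change l * (a * m * a⁻¹) ∈ M at hxM
  set u := l * m⁻¹ with hu
  have hxu : l * (a * m * a⁻¹) = u * (m * (a * m * a⁻¹)) := by rw [hu]; group
  have huL : u ∈ L := mul_mem hl (inv_mem hm)
  have hjJ : m * (a * m * a⁻¹) ∈ J := Subgroup.subset_closure ⟨m, hm, rfl⟩
  have huY : u ∈ Y := by
    have h1 : l * (a * m * a⁻¹) ∈ Y := Subgroup.mem_sup_right (Subgroup.mem_zpowers _)
    rw [hxu] at h1
    exact (Subgroup.mul_mem_cancel_right _ (Subgroup.mem_sup_left hjJ)).mp h1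
  have hnotZ : ¬ (∀ t ∈ L, t * u = u * t) := by
    intro hall
    apply hxJ
    show l * (a * m * a⁻¹) ∈ _
    rw [hxu]
    refine mul_mem (Subgroup.mem_sup_right ⟨Subgroup.mem_sup_left huL, ?_⟩) (Subgroup.mem_sup_left hjJ)
    intro t ht
    have hMle : M ≤ Subgroup.centralizer ({u} : Set H) :=
      sup_le (fun t ht => Subgroup.mem_centralizer_singleton_iff.mpr (hall t ht))
        (fun t ht => Subgroup.mem_centralizer_singleton_iff.mpr (hc u huL t ht))
    exact Subgroup.mem_centralizer_singleton_iff.mp (hMle ht)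
  have hnorm : ((Y ⊓ L).subgroupOf L).Normal := by
    constructor
    intro z hz t
    have hz' : (z : H) ∈ Y := hz.1
    refine ⟨?_, (t * z * t⁻¹).2⟩
    show (t : H) * z * (t : H)⁻¹ ∈ Y
    have hd : (t : H) * (a * t * a⁻¹) ∈ Y := Subgroup.mem_sup_left (Subgroup.subset_closure ⟨t, t.2, rfl⟩)
    have h1 := mul_mem (mul_mem hd hz') (inv_mem hd)
    have h2 : (a * t * a⁻¹) * (z : H) = z * (a * t * a⁻¹) := hc z z.2 _ (hmemL' t t.2)
    convert h1 using 1
    calc (t : H) * z * (t : H)⁻¹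
        = (t : H) * (z * (a * t * a⁻¹)) * (a * t * a⁻¹)⁻¹ * (t : H)⁻¹ := by group
      _ = _ := by rw [← h2]; group
  rcases Components.quasisimple_normal hL.2 hnorm with htop | hle
  · have hLY : L ≤ Y := (Subgroup.subgroupOf_eq_top.mp htop).trans inf_le_left
    refine sup_le hLY ?_
    rintro _ ⟨t, ht, rfl⟩
    have hd : t * (a * t * a⁻¹) ∈ Y := Subgroup.mem_sup_left (Subgroup.subset_closure ⟨t, ht, rfl⟩)
    exact (Subgroup.mul_mem_cancel_left _ (hLY ht)).mp hd
  · exfalso
    apply hnotZ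
    intro t ht
    have h := Subgroup.mem_center_iff.mp (hle (x := ⟨u, huL⟩) ⟨huY, huL⟩) ⟨t, ht⟩
    exact congrArg Subtype.val h

end Cfsg.Agent.S1921
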