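import Cfsg.Statements.S1922
import Cfsg.Agent.Tech.UniquePoint
import Cfsg.Agent.Tech.Tight
-- import your own Cfsg.Agent.* helpers here

set_option autoImplicit false
open Cfsg

namespace Cfsg.Agent.S1922

/-- Let z be an involution of a finite group G and H a proper subgroup such that z lies in gHg⁻¹ exactly when g ∈ H. Then the following are equivalent: (1) for every conjugate t ≠ z of z commuting with z, the product zt lies in gHg⁻¹ exactly when g ∈ H; (2) z lies in the centre of some Sylow 2-subgroup of G, and for every conjugate t ≠ z of z commuting with z, the centralizer of zt is contained in H. -/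
theorem result {G : Type*} [Group G] [Finite G] (z : G) (hz : orderOf z = 2) (H : Subgroup G) (hH : H ≠ ⊤)
    (h0 : ∀ g : G, z ∈ H.map (MulAut.conj g).toMonoidHom ↔ g ∈ H) :
    (∀ t : G, IsConj z t → t ≠ z → t * z = z * t → ∀ g : G, z * t ∈ H.map (MulAut.conj g).toMonoidHom ↔ g ∈ H) ↔
      ((∃ P : Sylow 2 G, z ∈ (Subgroup.center ↥(P : Subgroup G)).map (P : Subgroup G).subtype) ∧
        ∀ t : G, IsConj z t → t ≠ z → t * z = z * t → Subgroup.centralizer ({z * t} : Set G) ≤ H) := by
  classical
  set a : G ⧸ H := QuotientGroup.mk 1 with ha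
  have hfix : ∀ x g : G, x • (QuotientGroup.mk g : G ⧸ H) = QuotientGroup.mk g ↔
      x ∈ H.map (MulAut.conj g).toMonoidHom := by
    intro x g
    show (QuotientGroup.mk (x * g) : G ⧸ H) = _ ↔ _
    rw [Fusion.mem_cj, eq_comm, QuotientGroup.eq, ← mul_assoc]
  have hbase : ∀ g : G, (QuotientGroup.mk g : G ⧸ H) = a ↔ g ∈ H := by
    intro g; rw [ha, eq_comm, QuotientGroup.eq]; simp
  have hzH : z ∈ H := by
    have := (h0 1).mpr H.one_mem
    simpa using this
  have hCz : ∀ g : G, g * z = z * g → g ∈ H := by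
    intro g hg
    refine (h0 g).mp ⟨z, hzH, ?_⟩
    simp [hg]
  constructor
  · intro h1
    have hct : ∀ t : G, IsConj z t → t ≠ z → t * z = z * t →
        Subgroup.centralizer ({z * t} : Set G) ≤ H := by
      intro t ht hne hc g hg
      have hztH : z * t ∈ H := by simpa using (h1 t ht hne hc 1).mpr H.one_mem
      refine (h1 t ht hne hc g).mp ⟨z * t, hztH, ?_⟩
      have := Subgroup.mem_centralizer_singleton_iff.mp hg
      simp [this]
    refine ⟨?_, hct⟩
    obtain ⟨g₀, hg₀⟩ : ∃ g : G, g ∉ H := not_forall.mp fun h => hH ((Subgroup.eq_top_iff' H).mpr h)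
    have hb : (QuotientGroup.mk g₀ : G ⧸ H) ≠ a := fun h => hg₀ ((hbase g₀).mp h)
    have hza : z • a = a := (hfix z 1).mpr ((h0 1).mpr H.one_mem)
    have huniq : ∀ c : G ⧸ H, z • c = c → c = a := by
      intro c hc
      induction c using QuotientGroup.induction_on with
      | H g => exact (hbase g).mpr ((h0 g).mp ((hfix z g).mp hc))
    have hodd := Tech.odd_relIndex_centralizer hz hza huniq (fun t ht hne hc c hcfix => by
      induction c using QuotientGroup.induction_on with
      | H g => exact (hbase g).mpr ((h1 t ht hne hc g).mp ((hfix _ g).mp hcfix))) hb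
    have hst : MulAction.stabilizer G a = H := by
      ext g
      rw [MulAction.mem_stabilizer_iff, ha]
      show (QuotientGroup.mk (g * 1) : G ⧸ H) = _ ↔ _
      rw [mul_one]; exact hbase g
    rw [hst] at hodd
    have hHodd : ¬ 2 ∣ H.index := by
      intro hdvd
      haveI : Fact (Nat.Prime 2) := ⟨Nat.prime_two⟩
      have hp : IsPGroup 2 (Subgroup.zpowers z) :=
        IsPGroup.of_card (n := 1) (by rw [Nat.card_zpowers, hz, pow_one])
      have hafix : a ∈ MulAction.fixedPoints (Subgroup.zpowers z) (G ⧸ H) := by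
        rintro ⟨_, k, rfl⟩
        exact (MulAction.stabilizer G a).zpow_mem hza k
      obtain ⟨c, hc, hne⟩ := hp.exists_fixed_point_of_prime_dvd_card_of_fixed_point
        (α := G ⧸ H) hdvd hafix
      exact hne (huniq c (hc ⟨z, Subgroup.mem_zpowers z⟩)).symm
    have hle : Subgroup.centralizer ({z} : Set G) ≤ H := fun g hg =>
      hCz g (Subgroup.mem_centralizer_singleton_iff.mp hg)
    have hCodd : ¬ 2 ∣ (Subgroup.centralizer ({z} : Set G)).index := by
      rw [← Subgroup.relIndex_mul_index hle]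
      intro h
      rcases (Nat.prime_two.dvd_mul).mp h with h | h
      · exact (Nat.not_even_iff_odd.mpr hodd) (even_iff_two_dvd.mpr h)
      · exact hHodd h
    haveI : Fact (Nat.Prime 2) := ⟨Nat.prime_two⟩
    set C := Subgroup.centralizer ({z} : Set G) with hC
    have hzC : z ∈ C := Subgroup.mem_centralizer_singleton_iff.mpr rfl
    have hp : IsPGroup 2 (Subgroup.zpowers z) :=
      IsPGroup.of_card (n := 1) (by rw [Nat.card_zpowers, hz, pow_one])
    obtain ⟨Q, hQ⟩ := ((hp.comap_subtype (K := C))).exists_le_sylow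
    obtain ⟨P, hP⟩ := (Q.2.map C.subtype).exists_le_sylow
    have hidx : ¬ 2 ∣ ((Q : Subgroup C).map C.subtype).index := by
      rw [Subgroup.index_map_subtype]
      intro h
      rcases (Nat.prime_two.dvd_mul).mp h with h | h
      · exact Q.not_dvd_index h
      · exact hCodd h
    have hPeq : (Q : Subgroup C).map C.subtype = P :=
      Tech.eq_of_le_of_relIndex hP P.2 le_top (by rw [Subgroup.relIndex_top_right]; exact hidx)
    have hzP : z ∈ (P : Subgroup G) := hPeq ▸ ⟨⟨z, hzC⟩, hQ (Subgroup.mem_zpowers z), rfl⟩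
    refine ⟨P, ⟨z, hzP⟩, Subgroup.mem_center_iff.mpr fun x => ?_, rfl⟩
    have hxC : (x : G) ∈ C := by
      obtain ⟨y, -, hy⟩ := (hPeq.symm ▸ x.2 : (x : G) ∈ (Q : Subgroup C).map C.subtype)
      exact hy ▸ y.2
    exact Subtype.ext (Subgroup.mem_centralizer_singleton_iff.mp hxC)
  · rintro ⟨⟨P, z', hz', hz'eq⟩, h2⟩ t ht hne hc g
    haveI : Fact (Nat.Prime 2) := ⟨Nat.prime_two⟩
    have hz'z : (z' : G) = z := hz'eq
    subst hz'z
    have hPH : (P : Subgroup G) ≤ H := fun x hx =>
      hCz x (congrArg Subtype.val (Subgroup.mem_center_iff.mp hz' ⟨x, hx⟩))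
    have htH : t ∈ H := hCz t hc
    have hztH : (z' : G) * t ∈ H := mul_mem hzH htH
    constructor
    · rintro ⟨c', hc'H, hc'⟩
      have hc2 : (⟨c', hc'H⟩ : H) ^ 2 = 1 := by
        apply Subtype.ext
        show c' ^ 2 = 1
        have h : c' = g⁻¹ * ((z' : G) * t) * (g⁻¹)⁻¹ := by rw [← hc']; simp [mul_assoc]
        rw [h, conj_pow, (show Commute (z' : G) t from hc.symm).mul_pow]
        have ht2 := Tech.invol_conj hz ht
        rw [orderOf_dvd_iff_pow_eq_one.mp (Eq.dvd hz), orderOf_dvd_iff_pow_eq_one.mp (Eq.dvd ht2)]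
        simp
      have hp : IsPGroup 2 (Subgroup.zpowers (⟨c', hc'H⟩ : H)) := by
        obtain ⟨i, -, hi⟩ := (Nat.dvd_prime_pow (i := orderOf (⟨c', hc'H⟩ : H)) (m := 1)
          Nat.prime_two).mp (by rw [pow_one]; exact orderOf_dvd_of_pow_eq_one hc2)
        exact IsPGroup.of_card (n := i) (by rw [Nat.card_zpowers, hi])
      obtain ⟨R, hR⟩ := hp.exists_le_sylow
      obtain ⟨h, hh⟩ := MulAction.exists_smul_eq H (P.subtype hPH) R
      have hmem := hR (Subgroup.mem_zpowers _)
      rw [← hh] at hmem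
      obtain ⟨x, hx, hxe⟩ := hmem
      have hxe' : (h : G) * x * (h : G)⁻¹ = c' := congrArg Subtype.val hxe
      have hxz : (x : G) * z' = z' * x := congrArg Subtype.val (Subgroup.mem_center_iff.mp hz' ⟨x, hx⟩)
      have hw : g * ((h : G) * z' * (h : G)⁻¹) * g⁻¹ ∈ Subgroup.centralizer ({(z' : G) * t} : Set G) := by
        rw [Subgroup.mem_centralizer_singleton_iff, ← hc', ← hxe']
        show g * ((h : G) * z' * (h : G)⁻¹) * g⁻¹ * (g * ((h : G) * x * (h : G)⁻¹) * g⁻¹)
          = g * ((h : G) * x * (h : G)⁻¹) * g⁻¹ * (g * ((h : G) * z' * (h : G)⁻¹) * g⁻¹)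
        calc _ = g * h * ((z' : G) * x) * (h : G)⁻¹ * g⁻¹ := by group
          _ = _ := by rw [← hxz]; group
      have hwH := h2 t ht hne hc hw
      have := (h0 (g * (h : G))⁻¹).mp ⟨_, hwH, by simp [mul_assoc]⟩
      rw [inv_mem_iff] at this
      exact (Subgroup.mul_mem_cancel_right _ h.2).mp this
    · intro hg
      rw [show H.map (MulAut.conj g).toMonoidHom = H from Fusion.cj_eq_self_of_mem hg]
      exact hztH

end Cfsg.Agent.S1922
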