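import Cfsg.Statements.S1944
import Cfsg.Agent.Tech.Basic
import Cfsg.Agent.S1907
-- import your own Cfsg.Agent.* helpers here

set_option autoImplicit false
open Cfsg

namespace Cfsg.Agent.S1944

/-- Let S be a Sylow p-subgroup of the finite group G and suppose that the centre Z(S) lies in O_{p',p}(G). The elements of S each of which is its only G-conjugate in S form a subgroup W of Z(S); W is then a direct factor of Z(S): there is a subgroup K of Z(S) with W ∩ K = 1 and WK = Z(S). -/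
theorem result {G : Type*} [Group G] [Finite G] {p : ℕ} [Fact p.Prime] (S : Sylow p G)
    (hZ : ((S : Subgroup G) ⊓ Subgroup.centralizer ((S : Subgroup G) : Set G)) ≤ Cfsg.pPrimePCore p G) :
    ∃ W K : Subgroup G, (∀ x : G, x ∈ W ↔ (x ∈ (S : Subgroup G) ∧ ∀ g : G, g * x * g⁻¹ ∈ (S : Subgroup G) → g * x * g⁻¹ = x)) ∧
      K ≤ ((S : Subgroup G) ⊓ Subgroup.centralizer ((S : Subgroup G) : Set G)) ∧ W ⊓ K = ⊥ ∧ W ⊔ K = ((S : Subgroup G) ⊓ Subgroup.centralizer ((S : Subgroup G) : Set G)) := by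
  classical
  haveI := PSolv.pPrimePCore_normal p G
  set Z := ((S : Subgroup G) ⊓ Subgroup.centralizer ((S : Subgroup G) : Set G)) with hZdef
  set H := ((S : Subgroup G) ⊓ Cfsg.pPrimePCore p G) with hH
  set N := Subgroup.normalizer (H : Set G) with hN
  have hSN : (S : Subgroup G) ≤ N := Tech.sylow_le_normalizer_inf S _
  let W : Subgroup G := Z ⊓ Subgroup.centralizer (N : Set G)
  have hW : ∀ x : G, x ∈ W ↔ (x ∈ (S : Subgroup G) ∧
      ∀ g : G, g * x * g⁻¹ ∈ (S : Subgroup G) → g * x * g⁻¹ = x) := by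
    intro x
    constructor
    · intro hx
      refine ⟨hx.1.1, fun g hg => ?_⟩
      obtain ⟨n, hn, hnx⟩ := (S1907.result S).2 x _ hx.1.1 hg (isConj_iff.mpr ⟨g, rfl⟩)
      have hnx' : n * x = x * n := hx.2 n hn
      rw [← hnx, mul_inv_eq_iff_eq_mul, hnx']
    · rintro ⟨hxS, hx⟩
      have hxZ : x ∈ Z := by
        refine ⟨hxS, fun s hs => ?_⟩
        exact mul_inv_eq_iff_eq_mul.mp (hx s (mul_mem (mul_mem hs hxS) (inv_mem hs)))
      refine ⟨hxZ, fun n hn => mul_inv_eq_iff_eq_mul.mp (hx n ?_)⟩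
      have hxH : x ∈ H := ⟨hxS, hZ hxZ⟩
      exact ((Subgroup.mem_normalizer_iff.mp hn x).mp hxH).1
  let V : Subgroup G := H ⊓ Subgroup.centralizer (H : Set G)
  letI iV : CommGroup V :=
    { (inferInstance : Group V) with
      mul_comm := fun a b => Subtype.ext (b.2.2 (a : G) a.2.1) }
  have hNV : ∀ n ∈ N, ∀ x ∈ V, n * x * n⁻¹ ∈ V := by
    intro n hn x hx
    refine ⟨(Subgroup.mem_normalizer_iff.mp hn x).mp hx.1, fun h hh => ?_⟩
    have h1 : n⁻¹ * h * n ∈ H := by
      have := (Subgroup.mem_normalizer_iff.mp (inv_mem hn) h).mp hh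
      simpa using this
    have h2 : (n⁻¹ * h * n) * x = x * (n⁻¹ * h * n) := hx.2 _ h1
    calc h * (n * x * n⁻¹) = n * ((n⁻¹ * h * n) * x) * n⁻¹ := by group
      _ = n * x * n⁻¹ * h := by rw [h2]; group
  have hZV : ∀ x ∈ Z, x ∈ V := fun x hx => ⟨⟨hx.1, hZ hx⟩, fun h hh => hx.2 h hh.1⟩
  letI := Fintype.ofFinite (N ⧸ (S : Subgroup G).subgroupOf N)
  let f : (x : Z) → N ⧸ (S : Subgroup G).subgroupOf N → V := fun x =>
    Quotient.lift (fun n : N => (⟨(n : G) * x * (n : G)⁻¹, hNV _ n.2 _ (hZV _ x.2)⟩ : V)) (by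
      intro a b hab
      have h' : a⁻¹ * b ∈ (S : Subgroup G).subgroupOf N := QuotientGroup.leftRel_apply.mp hab
      have h : ((a : G)⁻¹ * b : G) ∈ (S : Subgroup G) := h'
      have h2 : ((a : G)⁻¹ * b) * x = x * ((a : G)⁻¹ * b) := x.2.2 _ h
      apply Subtype.ext
      calc (a : G) * x * (a : G)⁻¹ = a * ((x : G) * ((a : G)⁻¹ * b)) * (b : G)⁻¹ := by group
        _ = b * x * (b : G)⁻¹ := by rw [← h2]; group)
  have hfmul : ∀ x y q, f (x * y) q = f x q * f y q := by
    intro x y q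
    induction q using QuotientGroup.induction_on with
    | H n =>
      apply Subtype.ext
      show (n : G) * (x * y) * (n : G)⁻¹ = (n * x * (n : G)⁻¹) * (n * y * (n : G)⁻¹)
      group
  let π : Z →* V := MonoidHom.mk' (fun x => ∏ q, f x q) (by
    intro x y
    rw [← Finset.prod_mul_distrib]
    exact Finset.prod_congr rfl fun q _ => hfmul x y q)
  have hcen : ∀ x : Z, ((π x : V) : G) ∈ Subgroup.centralizer (N : Set G) := by
    intro x n hn
    let cn : V →* V := MonoidHom.mk' (fun v => ⟨n * v * n⁻¹, hNV n hn _ v.2⟩) (fun a b => by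
      apply Subtype.ext; show n * (a * b : G) * n⁻¹ = (n * a * n⁻¹) * (n * b * n⁻¹); group)
    have h : cn (π x) = π x := by
      show cn (∏ q, f x q) = ∏ q, f x q
      rw [map_prod]
      refine Fintype.prod_equiv (MulAction.toPerm (⟨n, hn⟩ : N)) _ _ (fun q => ?_)
      induction q using QuotientGroup.induction_on with
      | H m =>
        apply Subtype.ext
        show n * ((m : G) * x * (m : G)⁻¹) * n⁻¹ = (n * m : G) * x * (n * m : G)⁻¹
        group
    exact mul_inv_eq_iff_eq_mul.mp (congrArg Subtype.val h)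
  have hπW : ∀ x : Z, ((π x : V) : G) ∈ W := by
    intro x
    refine ⟨⟨(π x).2.1.1, fun s hs => hcen x s (hSN hs)⟩, hcen x⟩
  set k := ((S : Subgroup G).subgroupOf N).index with hk
  have hπw : ∀ w : Z, (w : G) ∈ W → ((π w : V) : G) = (w : G) ^ k := by
    intro w hw
    have h : ∀ q, f w q = ⟨(w : G), hZV _ w.2⟩ := by
      intro q
      induction q using QuotientGroup.induction_on with
      | H n =>
        apply Subtype.ext
        exact mul_inv_eq_iff_eq_mul.mpr (hw.2 _ n.2)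
    show ((∏ q, f w q : V) : G) = _
    simp only [h, Finset.prod_const, Finset.card_univ, SubmonoidClass.coe_pow]
    rw [hk, Subgroup.index, Nat.card_eq_fintype_card]
  have hcop : ∀ x ∈ (S : Subgroup G), k.Coprime (orderOf x) := by
    intro x hx
    obtain ⟨e, he⟩ := S.2 ⟨x, hx⟩
    have he' : x ^ p ^ e = 1 := congrArg Subtype.val he
    refine Nat.Coprime.coprime_dvd_right (orderOf_dvd_of_pow_eq_one he') (Nat.Coprime.pow_right _ ?_)
    rw [Cores.coprime_iff_not_dvd_prime Fact.out]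
    exact fun hd => S.not_dvd_index (hd.trans (Subgroup.relIndex_dvd_index_of_le hSN))
  refine ⟨W, (π.ker).map Z.subtype, hW, Subgroup.map_subtype_le _, ?_, ?_⟩
  · rw [eq_bot_iff]
    rintro _ ⟨hxW, ⟨x, hx, rfl⟩⟩
    have h : (x : G) ^ k = 1 := by
      rw [← hπw x hxW]
      have hx1 : π x = 1 := hx
      rw [hx1]; rfl
    exact Subgroup.mem_bot.mpr (orderOf_eq_one_iff.mp
      (Nat.eq_one_of_dvd_coprimes (hcop x x.2.1) (orderOf_dvd_of_pow_eq_one h) dvd_rfl))
  · refine le_antisymm (sup_le inf_le_left (Subgroup.map_subtype_le _)) fun x hx => ?_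
    let xz : Z := ⟨x, hx⟩
    obtain ⟨j, hj⟩ := exists_pow_eq_self_of_coprime (hcop _ (π xz).2.1.1)
    let w : Z := ⟨((π xz : V) : G) ^ j, pow_mem (hπW xz).1 j⟩
    have hwW : (w : G) ∈ W := pow_mem (hπW xz) j
    have hker : w⁻¹ * xz ∈ π.ker := by
      rw [MonoidHom.mem_ker, map_mul, map_inv, inv_mul_eq_one]
      apply Subtype.ext
      rw [hπw w hwW]
      show (((π xz : V) : G) ^ j) ^ k = _
      rw [pow_right_comm, hj]
    have h2 := Subgroup.mul_mem_sup hwW (Subgroup.mem_map_of_mem Z.subtype hker)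
    simpa using h2

end Cfsg.Agent.S1944
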