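import Cfsg.Statements.S2029
import Cfsg.Agent.Classif.BicharRank

set_option autoImplicit false
open Cfsg
open scoped Pointwise

namespace Cfsg.Agent.S2029

/-- Let p be an odd prime and G a finite group that is both of local characteristic p (p divides its order and every p-local subgroup N satisfies C_N(O_p(N)) ≤ O_p(N)) and of characteristic 2 type (even order and every 2-local subgroup M satisfies C_M(O_2(M)) ≤ O_2(M)). Then every 2-local subgroup of G has p-rank at most 2. -/
theorem result {G : Type*} [Group G] [Finite G] (p : ℕ) [Fact p.Prime] (hp : p ≠ 2) (hGp : Cfsg.IsOfLocalCharacteristic p G) (hG2 : Cfsg.IsCharacteristicTwoType G) : Cfsg.TwoLocalPRankLE p 2 G := by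
  rintro H ⟨T, hT, hT1, rfl⟩ A hAc hAp
  have hE : Cfsg.IsElementaryAbelian p (A.map (Subgroup.normalizer (T : Set G)).subtype) := by
    refine ⟨⟨⟨?_⟩⟩, ?_⟩
    · rintro ⟨_, a, ha, rfl⟩ ⟨_, b, hb, rfl⟩
      exact Subtype.ext (congrArg (fun x : A => ((x : Subgroup.normalizer (T : Set G)) : G))
        (hAc.is_comm.comm ⟨a, ha⟩ ⟨b, hb⟩))
    · rintro _ ⟨a, ha, rfl⟩
      exact congrArg Subtype.val (hAp a ha)
  have := Classif.BicharRank.prankLE_two hp hGp hG2 hE
    ⟨T, hT, hT1, Subgroup.map_subtype_le A⟩
  rwa [Subgroup.card_map_of_injective (Subgroup.subtype_injective _)] at this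

end Cfsg.Agent.S2029
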