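import Cfsg.Statements.S2067
import Cfsg.Agent.SporB.J3.OutReal
import Cfsg.Agent.SporB.J3.OutOuter

set_option autoImplicit false
open Cfsg

namespace Cfsg.Agent.S2067

/-- For any field with 4 elements and any element ω of it with ω² + ω + 1 = 0, the outer automorphism group of the Janko group J₃ (the group generated by explicit 9 × 9 matrices over that field built from ω, taken modulo its centre) has order 2. -/
theorem result {F : Type*} [Field F] [Fintype F] (hF : Fintype.card F = 4) (ω : F) (hω : ω ^ 2 + ω + 1 = 0) : Nat.card (Cfsg.Out (Cfsg.Spor.J3 F ω)) = 2 := by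
  haveI := Cfsg.Agent.SporB.J3.charP_two_of_card hF
  obtain ⟨c⟩ := Cfsg.Agent.SporB.J3.OutAut.nonempty_cert ω hω
  obtain ⟨β, hβ⟩ := Cfsg.Agent.SporB.J3.exists_outer ω hω
  have hker : (MulAut.conj : Cfsg.Spor.J3 F ω →* MulAut (Cfsg.Spor.J3 F ω)).ker = ⊥ := by
    rw [eq_bot_iff, ← Cfsg.Agent.SporB.J3.center_J3 ω hω]
    intro g hg
    refine Subgroup.mem_center_iff.2 fun x => ?_
    have h := DFunLike.congr_fun (MonoidHom.mem_ker.1 hg) x
    rw [MulAut.conj_apply, MulAut.one_apply, mul_inv_eq_iff_eq_mul] at h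
    exact h.symm
  have hInn : Nat.card (Cfsg.Inn (Cfsg.Spor.J3 F ω)) = Nat.card (Cfsg.Spor.J3 F ω) :=
    (Nat.card_congr (MonoidHom.ofInjective ((MonoidHom.ker_eq_bot_iff _).1 hker)).toEquiv).symm
  have hcard := Subgroup.card_eq_card_quotient_mul_card_subgroup (Cfsg.Inn (Cfsg.Spor.J3 F ω))
  rw [hInn] at hcard
  have hle := c.card_mulAut_le
  rw [hcard] at hle
  have h2 : Nat.card (Cfsg.Out (Cfsg.Spor.J3 F ω)) ≤ 2 :=
    Nat.le_of_mul_le_mul_right hle Nat.card_pos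
  haveI : Nontrivial (Cfsg.Out (Cfsg.Spor.J3 F ω)) :=
    ⟨⟨(β : Cfsg.Out (Cfsg.Spor.J3 F ω)), 1, fun e => hβ ((QuotientGroup.eq_one_iff β).1 e)⟩⟩
  have h1 := Finite.one_lt_card (α := Cfsg.Out (Cfsg.Spor.J3 F ω))
  omega

end Cfsg.Agent.S2067
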