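import Cfsg.Statements.S2070
import Cfsg.Agent.LargeOut.Co2Fix

set_option autoImplicit false
open Cfsg

namespace Cfsg.Agent.S2070

/-- The outer automorphism group of the Conway group Co₂ (the stabiliser of a minimal vector of the rank-24 lattice) is trivial: every automorphism is inner. -/
theorem result : Nat.card (Cfsg.Out ↥Cfsg.Spor.Co2) = 1 := by
  have : Finite ↥Cfsg.Co0 := Leech.finite_Co0
  have : Finite ↥Cfsg.Spor.Co2 := Finite.of_injective _ LargeOut.toZero_injective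
  have D := LargeOut.co2_data
  have : Fact (Nat.Prime 2) := ⟨Nat.prime_two⟩
  have key : ∀ α : MulAut ↥Cfsg.Spor.Co2, α ∈ Cfsg.Inn ↥Cfsg.Spor.Co2 := by
    intro α
    obtain ⟨g, hg⟩ := LargeOut.map_conj_class D α
    have hfix : ((MulAut.conj g)⁻¹ * α) S2136.tCo2 = S2136.tCo2 := by
      show g⁻¹ * α S2136.tCo2 * g = S2136.tCo2
      rw [hg]; group
    obtain ⟨c, -, hc⟩ := LargeOut.inner_of_fix D _ hfix
    obtain ⟨u, hu⟩ := LargeOut.fix_inner ((MulAut.conj c)⁻¹ * ((MulAut.conj g)⁻¹ * α)) fun x hx => by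
      show c⁻¹ * (((MulAut.conj g)⁻¹ * α) x) * c = x
      rw [hc x hx]; group
    refine ⟨g * c * u, MulEquiv.ext fun x => ?_⟩
    have h : c⁻¹ * (g⁻¹ * α x * g) * c = u * x * u⁻¹ := hu x
    show g * c * u * x * (g * c * u)⁻¹ = α x
    calc g * c * u * x * (g * c * u)⁻¹ = g * c * (u * x * u⁻¹) * c⁻¹ * g⁻¹ := by group
      _ = g * c * (c⁻¹ * (g⁻¹ * α x * g) * c) * c⁻¹ * g⁻¹ := by rw [h]
      _ = α x := by group
  have : Subsingleton (Cfsg.Out ↥Cfsg.Spor.Co2) := ⟨fun a b => by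
    obtain ⟨a, rfl⟩ := QuotientGroup.mk_surjective a
    obtain ⟨b, rfl⟩ := QuotientGroup.mk_surjective b
    exact QuotientGroup.eq.mpr (key _)⟩
  exact Nat.card_unique

end Cfsg.Agent.S2070
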