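import Cfsg.Statements.S2247
import Cfsg.Agent.Suzuki.Maximal

set_option autoImplicit false
open Cfsg

namespace Cfsg.Agent.S2247

/-- In the Suzuki group with q = 2^(2m+1), m ≥ 1 (realised as the stabiliser in SL₄ of the Suzuki–Tits ovoid), the normalizer of a Sylow 2-subgroup P is a maximal subgroup and is the only maximal subgroup containing P. -/
theorem result {F : Type*} [Field F] [Fintype F] {m : ℕ} (hm : 1 ≤ m) (hF : Fintype.card F = 2 ^ (2 * m + 1)) (P : Sylow 2 ↥(Cfsg.Sz F m)) :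
    IsCoatom (Subgroup.normalizer ((P : Subgroup ↥(Cfsg.Sz F m)) : Set ↥(Cfsg.Sz F m))) ∧
    ∀ M : Subgroup ↥(Cfsg.Sz F m), IsCoatom M → (P : Subgroup ↥(Cfsg.Sz F m)) ≤ M → M = Subgroup.normalizer ((P : Subgroup ↥(Cfsg.Sz F m)) : Set ↥(Cfsg.Sz F m)) := by
  haveI : Cfsg.Agent.Suzuki.SuzukiField F m := ⟨hm, hF⟩
  haveI : Fact (Nat.Prime 2) := ⟨Nat.prime_two⟩
  obtain ⟨k, rfl⟩ := MulAction.exists_smul_eq (Cfsg.Sz F m) (Cfsg.Agent.Suzuki.unipSylow F m) P
  set c := (MulAut.conj k).toMonoidHom with hc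
  have hN : Subgroup.normalizer (((k • Cfsg.Agent.Suzuki.unipSylow F m : Sylow 2 _) :
      Subgroup (Cfsg.Sz F m)) : Set (Cfsg.Sz F m)) =
      (MulAction.stabilizer (Cfsg.Sz F m) (Cfsg.Agent.Suzuki.oInf F m)).map c := by
    rw [← Cfsg.Agent.Suzuki.normalizer_unip]
    ext g
    refine (Sylow.smul_eq_iff_mem_normalizer (g := g)
      (P := k • Cfsg.Agent.Suzuki.unipSylow F m)).symm.trans ?_
    rw [hc, Subgroup.mem_map_equiv, MulAut.conj_symm_apply]
    refine Iff.trans ?_ (Sylow.smul_eq_iff_mem_normalizer (g := k⁻¹ * g * k)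
      (P := Cfsg.Agent.Suzuki.unipSylow F m))
    rw [mul_smul, mul_smul, inv_smul_eq_iff]
  rw [hN]
  have hiso := (MulAut.conj k).mapSubgroup
  have hco : IsCoatom ((MulAction.stabilizer (Cfsg.Sz F m)
      (Cfsg.Agent.Suzuki.oInf F m)).map c) :=
    ((MulAut.conj k).mapSubgroup.isCoatom_iff _).2 Cfsg.Agent.Suzuki.stab_isCoatom
  refine ⟨hco, fun M hM hle => ?_⟩
  set M' := M.comap c with hM'
  have hu : Cfsg.Agent.Suzuki.unip F m ≤ M' := fun g hg =>
    hle (by rw [Sylow.coe_subgroup_smul]; exact ⟨g, hg, rfl⟩)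
  have hne : M' ≠ ⊤ := fun h => hM.1 (eq_top_iff.2 fun g _ => by
    have := (Subgroup.eq_top_iff' M').1 h (k⁻¹ * g * k)
    simpa [hM', hc, MulAut.conj_apply, mul_assoc] using this)
  have hle' : M ≤ (MulAction.stabilizer (Cfsg.Sz F m) (Cfsg.Agent.Suzuki.oInf F m)).map c := by
    intro g hg
    refine ⟨k⁻¹ * g * k, Cfsg.Agent.Suzuki.le_stab_of_unip_le hu hne ?_, ?_⟩
    · simpa [hM', hc, MulAut.conj_apply, mul_assoc] using hg
    · simp [hc, MulAut.conj_apply, mul_assoc]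
  exact (hle'.eq_or_lt.resolve_right fun hlt => hco.1 (hM.2 _ hlt))

end Cfsg.Agent.S2247
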