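-- statement Cfsg.CfsgFrozen.S2271 (Cfsg/Statements/S2271.lean; the theorem Cfsg.class_product_fixed_points_not_constant_symmetric);
import Cfsg.Statements.S2271

set_option autoImplicit false
open Cfsg

namespace Cfsg.Agent.S2271

open Equiv

/-- The number of directed edges of `M` along each of the three perfect matchings of four points. -/
def w0 (M : Fin 4 → Fin 4 → ℤ) : ℤ := M 0 1 + M 1 0 + M 2 3 + M 3 2
def w1 (M : Fin 4 → Fin 4 → ℤ) : ℤ := M 0 2 + M 2 0 + M 1 3 + M 3 1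
def w2 (M : Fin 4 → Fin 4 → ℤ) : ℤ := M 0 3 + M 3 0 + M 1 2 + M 2 1

def t01 : Perm (Fin 4) := swap 0 1 * swap 2 3
def t02 : Perm (Fin 4) := swap 0 2 * swap 1 3
def t03 : Perm (Fin 4) := swap 0 3 * swap 1 2
def rot : Perm (Fin 4) := swap 1 2 * swap 2 3

/-- The sum of a function over a coset of the Klein group. -/
def kleinSum (F : Perm (Fin 4) → ℤ) (s : Perm (Fin 4)) : ℤ :=
  F s + F (t01 * s) + F (t02 * s) + F (t03 * s)

theorem eval_perm :
    (t01 0 = 1 ∧ t01 1 = 0 ∧ t01 2 = 3 ∧ t01 3 = 2) ∧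
    (t02 0 = 2 ∧ t02 1 = 3 ∧ t02 2 = 0 ∧ t02 3 = 1) ∧
    (t03 0 = 3 ∧ t03 1 = 2 ∧ t03 2 = 1 ∧ t03 3 = 0) ∧
    (rot 0 = 0 ∧ rot 1 = 2 ∧ rot 2 = 3 ∧ rot 3 = 1) := by decide

theorem kleinSum_linear (u : Fin 4 → Fin 4 → ℤ) (s : Perm (Fin 4)) (hs : s = 1 ∨ s = rot ∨ s = rot * rot) :
    kleinSum (fun π => ∑ p, u p (π p)) s = ∑ p, ∑ q, u p q := by
  obtain ⟨⟨a0, a1, a2, a3⟩, ⟨b0, b1, b2, b3⟩, ⟨c0, c1, c2, c3⟩, ⟨d0, d1, d2, d3⟩⟩ := eval_perm
  rcases hs with rfl | rfl | rfl <;>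
    simp only [kleinSum, Fin.sum_univ_four, Perm.mul_apply, Perm.one_apply,
      a0, a1, a2, a3, b0, b1, b2, b3, c0, c1, c2, c3, d0, d1, d2, d3] <;> ring

theorem kleinSum_quad (B C : Fin 4 → Fin 4 → ℤ) :
    let D := (B 0 0 + B 1 1 + B 2 2 + B 3 3) * (C 0 0 + C 1 1 + C 2 2 + C 3 3)
    let F := fun π : Perm (Fin 4) => ∑ p, ∑ q, B p q * C (π p) (π q)
    kleinSum F 1 = D + (w0 B * w0 C + w1 B * w1 C + w2 B * w2 C) ∧
    kleinSum F rot = D + (w0 B * w1 C + w1 B * w2 C + w2 B * w0 C) ∧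
    kleinSum F (rot * rot) = D + (w0 B * w2 C + w1 B * w0 C + w2 B * w1 C) := by
  obtain ⟨⟨a0, a1, a2, a3⟩, ⟨b0, b1, b2, b3⟩, ⟨c0, c1, c2, c3⟩, ⟨d0, d1, d2, d3⟩⟩ := eval_perm
  refine ⟨?_, ?_, ?_⟩ <;>
    simp only [kleinSum, Fin.sum_univ_four, Perm.mul_apply, Perm.one_apply, w0, w1, w2,
      a0, a1, a2, a3, b0, b1, b2, b3, c0, c1, c2, c3, d0, d1, d2, d3] <;> ring

theorem correlation {b0 b1 x0 x1 x2 : ℤ} (hb : 0 < b0)
    (h1 : b0 * x0 + b1 * x1 = b0 * x1 + b1 * x2) (h2 : b0 * x1 + b1 * x2 = b0 * x2 + b1 * x0) :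
    x0 = x1 ∧ x1 = x2 := by
  have h3 : (b0 ^ 2 - b0 * b1 + b1 ^ 2) * (x1 - x2) = 0 := by linear_combination b1 * h1 + b0 * h2
  have h4 : (b0 ^ 2 - b0 * b1 + b1 ^ 2) ≠ 0 := by nlinarith [sq_nonneg (b0 - b1), sq_nonneg b1]
  have h5 : x1 = x2 := by linarith [sub_eq_zero.1 ((mul_eq_zero.1 h3).resolve_left h4)]
  refine ⟨?_, h5⟩
  subst h5
  have : b0 * (x0 - x1) = 0 := by linear_combination h1
  linarith [sub_eq_zero.1 ((mul_eq_zero.1 this).resolve_left hb.ne')]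

/-- The matrix of `c` on four labelled points. -/
def edge {n : ℕ} (c : Perm (Fin n)) (q : Fin 4 → Fin n) : Fin 4 → Fin 4 → ℤ :=
  fun i j => if c (q i) = q j then 1 else 0

theorem exists_quad {n : ℕ} (hn : 5 ≤ n) (c : Perm (Fin n)) (hc : c ≠ 1) :
    ∃ q : Fin 4 → Fin n, Function.Injective q ∧ 0 < w0 (edge c q) ∧ w2 (edge c q) = 0 := by
  classical
  obtain ⟨i, hi⟩ : ∃ i, c i ≠ i := by
    by_contra! h
    exact hc (Equiv.ext h)
  set j := c i with hj
  obtain ⟨l, hl⟩ : ∃ l, l ∉ ({i, j, c j, c⁻¹ i} : Finset (Fin n)) := by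
    by_contra! h
    have h1 := Finset.card_le_card (show Finset.univ ⊆ ({i, j, c j, c⁻¹ i} : Finset (Fin n)) from
      fun a _ => h a)
    rw [Finset.card_univ, Fintype.card_fin] at h1
    exact absurd (h1.trans Finset.card_le_four) (by omega)
  obtain ⟨k, hk⟩ : ∃ k, k ∉ ({i, j, l, c j} : Finset (Fin n)) := by
    by_contra! h
    have h1 := Finset.card_le_card (show Finset.univ ⊆ ({i, j, l, c j} : Finset (Fin n)) from
      fun a _ => h a)
    rw [Finset.card_univ, Fintype.card_fin] at h1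
    exact absurd (h1.trans Finset.card_le_four) (by omega)
  simp only [Finset.mem_insert, Finset.mem_singleton, not_or] at hl hk
  obtain ⟨hl1, hl2, hl3, hl4⟩ := hl
  obtain ⟨hk1, hk2, hk3, hk4⟩ := hk
  refine ⟨![i, j, k, l], ?_, ?_, ?_⟩
  · intro a b hab
    fin_cases a <;> fin_cases b <;> simp_all [eq_comm]
  · have h1 : edge c ![i, j, k, l] 0 1 = 1 := by simp [edge, ← hj]
    have hnn : ∀ a b, 0 ≤ edge c ![i, j, k, l] a b := fun a b => by
      unfold edge; split_ifs <;> norm_num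
    have := hnn 1 0
    have := hnn 2 3
    have := hnn 3 2
    rw [w0, h1]; linarith
  · have e1 : c i ≠ l := fun h => hl2 h.symm
    have e2 : c l ≠ i := fun h => hl4 (by rw [← h]; simp)
    have e3 : c j ≠ k := fun h => hk4 h.symm
    have e4 : c k ≠ j := fun h => hk1 (c.injective h)
    simp [w2, edge, e1, e2, e3, e4]

theorem card_fixedPoints {n : ℕ} (π : Perm (Fin n)) :
    (Nat.card (Function.fixedPoints ⇑π) : ℤ) = ∑ x, if π x = x then 1 else 0 := by
  classical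
  rw [Finset.sum_boole, Nat.card_eq_fintype_card, ← Fintype.card_subtype]
  norm_cast

theorem exists_even_map {n : ℕ} (q q' : Fin 4 → Fin n) (hq : Function.Injective q)
    (hq' : Function.Injective q') :
    ∃ g : Perm (Fin n), g ∈ alternatingGroup (Fin n) ∧
      ((∀ p, g (q p) = q' p) ∨ (∀ p, g (q p) = q' (Equiv.swap 1 2 p))) := by
  classical
  let e : {x // x ∈ Set.range q} ≃ {x // x ∈ Set.range q'} :=
    (Equiv.ofInjective q hq).symm.trans (Equiv.ofInjective q' hq')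
  have he : ∀ p, e.extendSubtype (q p) = q' p := fun p => by
    rw [Equiv.extendSubtype_apply_of_mem _ _ ⟨p, rfl⟩]
    show ((Equiv.ofInjective q' hq') ((Equiv.ofInjective q hq).symm ⟨q p, p, rfl⟩) : Fin n) = q' p
    rw [Equiv.ofInjective_symm_apply]
    rfl
  rcases Int.units_eq_one_or (Perm.sign e.extendSubtype) with h | h
  · exact ⟨e.extendSubtype, Perm.mem_alternatingGroup.2 h, Or.inl he⟩
  · refine ⟨e.extendSubtype * Equiv.swap (q 1) (q 2), ?_, Or.inr fun p => ?_⟩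
    · rw [Perm.mem_alternatingGroup, map_mul, h, Perm.sign_swap (hq.ne (by decide))]
      decide
    · rw [Perm.mul_apply, hq.swap_apply, he]

/-- The key step. -/
theorem not_constant {n : ℕ} (b c : Perm (Fin n)) (q : Fin 4 → Fin n) (hq : Function.Injective q)
    (hb0 : 0 < w0 (edge b q)) (hb2 : w2 (edge b q) = 0)
    (hc : ¬ (w0 (edge c q) = w1 (edge c q) ∧ w1 (edge c q) = w2 (edge c q))) :
    ∃ h₁ h₂ : Perm (Fin n), h₁ ∈ alternatingGroup (Fin n) ∧ h₂ ∈ alternatingGroup (Fin n) ∧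
      (∑ x, if c (h₁ x) = h₁ (b x) then (1 : ℤ) else 0) ≠
        ∑ x, if c (h₂ x) = h₂ (b x) then (1 : ℤ) else 0 := by
  classical
  let e : Fin 4 ⊕ {x // x ∉ Set.range q} ≃ Fin n :=
    (Equiv.sumCongr (Equiv.ofInjective q hq) (Equiv.refl _)).trans
      (Equiv.sumCompl (· ∈ Set.range q))
  have hel : ∀ p, e (Sum.inl p) = q p := fun p => by simp [e]
  let lift : Perm (Fin 4) → Perm (Fin n) := fun π =>
    e.permCongr (Equiv.Perm.sumCongr π 1)
  have hsign : ∀ π, Perm.sign π = 1 → lift π ∈ alternatingGroup (Fin n) := fun π h => by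
    rw [Perm.mem_alternatingGroup, Perm.sign_permCongr, Perm.sign_sumCongr, h, map_one, mul_one]
  have hl : ∀ π p, lift π (e (Sum.inl p)) = e (Sum.inl (π p)) := fun π p => by simp [lift]
  have hr : ∀ π r, lift π (e (Sum.inr r)) = e (Sum.inr r) := fun π r => by simp [lift]
  let F : Perm (Fin 4) → ℤ := fun π => ∑ x, if c (lift π x) = lift π (b x) then 1 else 0
  set B : Fin n → Fin n → ℤ := fun x y => if b x = y then 1 else 0 with hB
  set C : Fin n → Fin n → ℤ := fun x y => if c x = y then 1 else 0 with hC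
  let u : Fin 4 → Fin 4 → ℤ := fun p s => ∑ r, (B (e (Sum.inl p)) (e (Sum.inr r)) *
    C (e (Sum.inl s)) (e (Sum.inr r)) + B (e (Sum.inr r)) (e (Sum.inl p)) *
    C (e (Sum.inr r)) (e (Sum.inl s)))
  have hF : ∀ π, F π = (∑ p, ∑ s, edge b q p s * edge c q (π p) (π s)) + (∑ p, u p (π p)) +
      ∑ r, ∑ t, B (e (Sum.inr r)) (e (Sum.inr t)) * C (e (Sum.inr r)) (e (Sum.inr t)) := by
    intro π
    have h1 : F π = ∑ x, ∑ y, B x y * C (lift π x) (lift π y) := by
      refine Finset.sum_congr rfl fun x _ => ?_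
      rw [Finset.sum_eq_single (b x)]
      · simp [hB, hC]
      · intro y _ hy
        simp [hB, Ne.symm hy]
      · simp
    rw [h1, ← e.sum_comp, Fintype.sum_sum_type]
    simp_rw [← e.sum_comp (fun y => B _ y * C _ (lift π y)), Fintype.sum_sum_type, hl, hr]
    simp only [Finset.sum_add_distrib, u]
    rw [Finset.sum_comm (f := fun r p => B (e (Sum.inr r)) (e (Sum.inl p)) *
      C (e (Sum.inr r)) (e (Sum.inl (π p))))]
    simp only [edge, hB, hC, hel]
    ring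
  have hsplit : ∀ s, kleinSum F s =
      kleinSum (fun π => ∑ p, ∑ t, edge b q p t * edge c q (π p) (π t)) s +
        kleinSum (fun π => ∑ p, u p (π p)) s +
        4 * ∑ r, ∑ t, B (e (Sum.inr r)) (e (Sum.inr t)) * C (e (Sum.inr r)) (e (Sum.inr t)) := by
    intro s
    simp only [kleinSum, hF]
    ring
  by_contra! hall
  have hconst : ∀ π, Perm.sign π = 1 → F π = F 1 := fun π h =>
    hall _ _ (hsign π h) (hsign 1 (map_one _))
  obtain ⟨q1, q2, q3⟩ := kleinSum_quad (edge b q) (edge c q)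
  have k1 := hsplit 1
  have k2 := hsplit rot
  have k3 := hsplit (rot * rot)
  rw [q1, kleinSum_linear u 1 (Or.inl rfl)] at k1
  rw [q2, kleinSum_linear u rot (Or.inr (Or.inl rfl))] at k2
  rw [q3, kleinSum_linear u _ (Or.inr (Or.inr rfl))] at k3
  have hk : ∀ s, Perm.sign s = 1 → kleinSum F s = 4 * F 1 := by
    intro s hs
    unfold kleinSum
    rw [hconst s hs, hconst (t01 * s) (by rw [map_mul, hs]; decide),
      hconst (t02 * s) (by rw [map_mul, hs]; decide), hconst (t03 * s) (by rw [map_mul, hs]; decide)]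
    ring
  rw [hk 1 (map_one _)] at k1
  rw [hk rot (by decide)] at k2
  rw [hk (rot * rot) (by decide)] at k3
  rw [hb2] at k1 k2 k3
  exact hc (correlation (b1 := w1 (edge b q)) hb0 (by linarith) (by linarith))

/-- Let n ≥ 5 and let a, b be non-identity permutations in the symmetric group S_n. Then the number of fixed points is not constant on the set of products a′b′ with a′ conjugate to a and b′ conjugate to b under the alternating group: there are even permutations g₁, h₁, g₂, h₂ such that (g₁ a g₁⁻¹)(h₁ b h₁⁻¹) and (g₂ a g₂⁻¹)(h₂ b h₂⁻¹) have different numbers of fixed points. -/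
theorem result (n : ℕ) (hn : 5 ≤ n) (a b : Equiv.Perm (Fin n)) (ha : a ≠ 1) (hb : b ≠ 1) :
    ∃ g₁ h₁ g₂ h₂ : Equiv.Perm (Fin n), g₁ ∈ alternatingGroup (Fin n) ∧ h₁ ∈ alternatingGroup (Fin n) ∧ g₂ ∈ alternatingGroup (Fin n) ∧ h₂ ∈ alternatingGroup (Fin n) ∧
      Nat.card (Function.fixedPoints ⇑(g₁ * a * g₁⁻¹ * (h₁ * b * h₁⁻¹))) ≠
        Nat.card (Function.fixedPoints ⇑(g₂ * a * g₂⁻¹ * (h₂ * b * h₂⁻¹))) := by
  obtain ⟨q, hq, hb0, hb2⟩ := exists_quad hn b hb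
  obtain ⟨q', hq', ha0, ha2⟩ := exists_quad hn a⁻¹ (inv_ne_one.2 ha)
  obtain ⟨g, hg, hmap⟩ := exists_even_map q q' hq hq'
  set c := g⁻¹ * a⁻¹ * g with hcdef
  have hedge : ∀ (ρ : Perm (Fin 4)), (∀ p, g (q p) = q' (ρ p)) →
      ∀ i j, edge c q i j = edge a⁻¹ q' (ρ i) (ρ j) := by
    intro ρ hρ i j
    unfold edge
    refine if_congr ?_ rfl rfl
    rw [← hρ, ← hρ, hcdef, Perm.mul_apply, Perm.mul_apply, Perm.inv_eq_iff_eq]
  have hc : ¬ (w0 (edge c q) = w1 (edge c q) ∧ w1 (edge c q) = w2 (edge c q)) := by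
    rintro ⟨h1, h2⟩
    rcases hmap with h | h
    · have := hedge 1 h
      simp only [w0, w1, w2, this, Perm.one_apply] at h1 h2
      unfold w0 at ha0
      unfold w2 at ha2
      linarith
    · have := hedge (Equiv.swap 1 2) h
      simp only [w0, w1, w2, this, show (Equiv.swap (1 : Fin 4) 2) 0 = 0 by decide,
        show (Equiv.swap (1 : Fin 4) 2) 1 = 2 by decide, show (Equiv.swap (1 : Fin 4) 2) 2 = 1 by decide,
        show (Equiv.swap (1 : Fin 4) 2) 3 = 3 by decide] at h1 h2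
      unfold w0 at ha0
      unfold w2 at ha2
      linarith
  obtain ⟨h₁, h₂, he₁, he₂, hne⟩ := not_constant b c q hq hb0 hb2 hc
  refine ⟨g⁻¹, h₁, g⁻¹, h₂, inv_mem hg, he₁, inv_mem hg, he₂, fun h => hne ?_⟩
  have key : ∀ t : Perm (Fin n), (∑ x, if c (t x) = t (b x) then (1 : ℤ) else 0) =
      (Nat.card (Function.fixedPoints ⇑(g⁻¹ * a * g⁻¹⁻¹ * (t * b * t⁻¹))) : ℤ) := by
    intro t
    rw [card_fixedPoints, ← Equiv.sum_comp t (fun y => if (g⁻¹ * a * g⁻¹⁻¹ * (t * b * t⁻¹)) y = y then (1 : ℤ) else 0)]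
    refine Finset.sum_congr rfl fun x _ => if_congr ?_ rfl rfl
    simp [hcdef, Equiv.symm_apply_eq, Equiv.eq_symm_apply, eq_comm]
  rw [key h₁, key h₂, h]

end Cfsg.Agent.S2271
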