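import Cfsg.Statements.S2272
import Cfsg.Agent.H77.ClassProductSL

set_option autoImplicit false
open Cfsg

namespace Cfsg.Agent.S2272

open Matrix

/-- Let F be a finite field and d ≥ 3, and let a, b be non-identity elements of PSL_d(F). Then the product of the conjugacy classes of a and b is not a single conjugacy class: there are conjugates a′ of a and b′ of b such that a′b′ is not conjugate to ab. -/
theorem result {F : Type*} [Field F] [Fintype F] (d : ℕ) (hd : 3 ≤ d)
    (a b : Matrix.ProjectiveSpecialLinearGroup (Fin d) F) (ha : a ≠ 1) (hb : b ≠ 1) :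
    ∃ g h : Matrix.ProjectiveSpecialLinearGroup (Fin d) F, ¬ IsConj (a * b) (g * a * g⁻¹ * (h * b * h⁻¹)) := by
  obtain ⟨A, rfl⟩ := QuotientGroup.mk_surjective a
  obtain ⟨B, rfl⟩ := QuotientGroup.mk_surjective b
  have hns : ∀ M : Matrix.SpecialLinearGroup (Fin d) F,
      (QuotientGroup.mk M : Matrix.ProjectiveSpecialLinearGroup (Fin d) F) ≠ 1 →
      ∀ c : F, (M : Matrix (Fin d) (Fin d) F) ≠ c • 1 := by
    intro M hM c hc
    refine hM ((QuotientGroup.eq_one_iff M).2 (Matrix.SpecialLinearGroup.mem_center_iff.2 ⟨c, ?_, ?_⟩))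
    · have := M.2
      rw [hc, Matrix.det_smul, Matrix.det_one, mul_one] at this
      exact this
    · rw [hc, Matrix.smul_one_eq_diagonal]; rfl
  obtain ⟨⟨g₀, h0⟩, g₁, h1⟩ := H77.ClassProductSL.exists_trace_zero_and_ne
    (by rw [Fintype.card_fin]; exact hd) (hns A ha) (hns B hb)
  by_contra hcon
  push Not at hcon
  have key : ∀ g : Matrix.SpecialLinearGroup (Fin d) F, ∃ z : F, z ≠ 0 ∧
      ((A : Matrix (Fin d) (Fin d) F) * ((g : Matrix (Fin d) (Fin d) F) * B *
        ((g⁻¹ : Matrix.SpecialLinearGroup (Fin d) F) : Matrix (Fin d) (Fin d) F))).trace =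
      z * ((A * B : Matrix.SpecialLinearGroup (Fin d) F) : Matrix (Fin d) (Fin d) F).trace := by
    intro g
    have hc := hcon 1 (QuotientGroup.mk g)
    rw [inv_one, mul_one, one_mul, isConj_iff] at hc
    obtain ⟨k, hk⟩ := hc
    obtain ⟨k, rfl⟩ := QuotientGroup.mk_surjective k
    simp only [← QuotientGroup.mk_mul, ← QuotientGroup.mk_inv] at hk
    rw [QuotientGroup.eq, Matrix.SpecialLinearGroup.mem_center_iff] at hk
    obtain ⟨r, hr, hrM⟩ := hk
    have hr0 : r ≠ 0 := by
      rintro rfl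
      rw [Fintype.card_fin, zero_pow (by omega)] at hr
      exact zero_ne_one hr
    refine ⟨r, hr0, ?_⟩
    have h2 := Matrix.SpecialLinearGroup.coe_mul (k * (A * B) * k⁻¹)
      ((k * (A * B) * k⁻¹)⁻¹ * (A * (g * B * g⁻¹)))
    rw [mul_inv_cancel_left, ← hrM] at h2
    simp only [Matrix.SpecialLinearGroup.coe_mul] at h2
    rw [h2, Matrix.scalar_apply, ← Matrix.smul_one_eq_diagonal, Matrix.mul_smul, mul_one,
      Matrix.trace_smul, smul_eq_mul, Matrix.trace_mul_comm, ← Matrix.mul_assoc,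
      ← Matrix.SpecialLinearGroup.coe_mul k⁻¹ k, inv_mul_cancel, Matrix.SpecialLinearGroup.coe_one,
      Matrix.one_mul, Matrix.SpecialLinearGroup.coe_mul]
  obtain ⟨z, hz, e0⟩ := key g₀
  obtain ⟨z', -, e1⟩ := key g₁
  rw [h0] at e0
  rw [(mul_eq_zero.1 e0.symm).resolve_left hz, mul_zero] at e1
  exact h1 e1

end Cfsg.Agent.S2272
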