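import Cfsg.Statements.S2276
import Cfsg.Agent.Alt.SolvableCycle
import Mathlib.GroupTheory.Perm.Fin
import Mathlib.GroupTheory.Perm.ViaEmbedding
import Mathlib.GroupTheory.Abelianization.Defs
import Mathlib.Tactic

set_option autoImplicit false
open Cfsg

namespace Cfsg.Agent.S2276

open Equiv

/-- The product is not a `p`-element and the two generate a non-solvable group. -/
def Good (p : ℕ) {G : Type*} [Group G] (u v : G) : Prop :=
  (¬ ∃ k : ℕ, orderOf (u * v) = p ^ k) ∧ ¬ Group.IsSolvable ↥(Subgroup.closure ({u, v} : Set G))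

theorem good_map {p : ℕ} (hp : p.Prime) {G H : Type*} [Group G] [Group H] (K : Subgroup G) (f : K →* H)
    (u v : K) (h : Good p (f u) (f v)) : Good p (u : G) (v : G) := by
  refine ⟨fun ⟨k, hk⟩ => h.1 ?_, fun hs => h.2 ?_⟩
  · rw [← Subgroup.coe_mul, Subgroup.orderOf_coe] at hk
    have := orderOf_map_dvd f (u * v)
    rw [hk, map_mul] at this
    obtain ⟨j, -, hj⟩ := (Nat.dvd_prime_pow hp).1 this
    exact ⟨j, hj⟩
  · have hmap : (Subgroup.closure ({u, v} : Set K)).map K.subtype =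
        Subgroup.closure ({(u : G), (v : G)} : Set G) := by
      rw [MonoidHom.map_closure, Set.image_pair]
      rfl
    haveI := hs
    haveI : Group.IsSolvable ((Subgroup.closure ({u, v} : Set K)).map K.subtype) := by
      rw [hmap]; exact hs
    haveI : Group.IsSolvable (Subgroup.closure ({u, v} : Set K)) :=
      Group.isSolvable_of_isSolvable_injective (f := ((Subgroup.closure ({u, v} : Set K)).equivMapOfInjective
        K.subtype K.subtype_injective).toMonoidHom) (MulEquiv.injective _)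
    have e : Subgroup.closure ({f u, f v} : Set H) = (Subgroup.closure ({u, v} : Set K)).map f := by
      rw [MonoidHom.map_closure, Set.image_pair]
    rw [e]
    exact Group.isSolvable_of_surjective (f.subgroupMap_surjective _)

theorem good_embed {p : ℕ} (hp : p.Prime) {α β : Type*} (ι : β ↪ α) (u v : Perm α) (σ τ : Perm β)
    (hu : ∀ k, u (ι k) = ι (σ k)) (hv : ∀ k, v (ι k) = ι (τ k)) (h : Good p σ τ) : Good p u v := by
  classical
  let K : Subgroup (Perm α) :=
    { carrier := {g | ∃ s : Perm β, ∀ k, g (ι k) = ι (s k)}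
      one_mem' := ⟨1, fun _ => rfl⟩
      mul_mem' := fun {a b} ⟨s, hs⟩ ⟨t, ht⟩ => ⟨s * t, fun k => by simp [ht, hs]⟩
      inv_mem' := fun {a} ⟨s, hs⟩ => ⟨s⁻¹, fun k => by
        apply a.injective
        rw [hs]; simp⟩ }
  have huniq : ∀ {g : Perm α} {s t : Perm β}, (∀ k, g (ι k) = ι (s k)) → (∀ k, g (ι k) = ι (t k)) →
      s = t := fun hs ht => Equiv.ext fun k => ι.injective ((hs k).symm.trans (ht k))
  let f : K →* Perm β :=
    { toFun := fun g => g.2.choose
      map_one' := huniq (fun k => (1 : K).2.choose_spec k) (fun _ => rfl)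
      map_mul' := fun a b => huniq (fun k => (a * b).2.choose_spec k) fun k => by
        rw [Subgroup.coe_mul, Perm.mul_apply, b.2.choose_spec k, a.2.choose_spec]
        rfl }
  have e1 : f ⟨u, σ, hu⟩ = σ := huniq (fun k => (⟨u, σ, hu⟩ : K).2.choose_spec k) hu
  have e2 : f ⟨v, τ, hv⟩ = τ := huniq (fun k => (⟨v, τ, hv⟩ : K).2.choose_spec k) hv
  exact good_map hp K f ⟨u, σ, hu⟩ ⟨v, τ, hv⟩ (by rw [e1, e2]; exact h)

theorem eq_one_of_235 {G : Type*} [Group G] (hG : Group.IsSolvable G) (a b : G) (ha : a ^ 2 = 1)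
    (hb : b ^ 3 = 1) (hab : (a * b) ^ 5 = 1) : a = 1 := by
  obtain ⟨n, hn⟩ := (Group.isSolvable_def G).1 hG
  have key : ∀ k, a ∈ derivedSeries G k ∧ b ∈ derivedSeries G k := by
    intro k
    induction k with
    | zero => exact ⟨Subgroup.mem_top _, Subgroup.mem_top _⟩
    | succ k ih =>
      set D := derivedSeries G k
      set x := Abelianization.of (⟨a, ih.1⟩ : D) with hxdef
      set y := Abelianization.of (⟨b, ih.2⟩ : D) with hydef
      have hx : x ^ 2 = 1 := by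
        rw [hxdef, ← map_pow, show (⟨a, ih.1⟩ : D) ^ 2 = 1 from Subtype.ext ha, map_one]
      have hy : y ^ 3 = 1 := by
        rw [hydef, ← map_pow, show (⟨b, ih.2⟩ : D) ^ 3 = 1 from Subtype.ext hb, map_one]
      have hxy : (x * y) ^ 5 = 1 := by
        rw [hxdef, hydef, ← map_mul, ← map_pow,
          show ((⟨a, ih.1⟩ : D) * ⟨b, ih.2⟩) ^ 5 = 1 from Subtype.ext hab, map_one]
      have e : x = y := by
        have h5 : x * y ^ 2 = 1 := by
          calc x * y ^ 2 = (x ^ 2) ^ 2 * x * (y ^ 3 * y ^ 2) := by rw [hx, hy]; simp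
            _ = x ^ 5 * y ^ 5 := by rw [← pow_mul, ← pow_succ, ← pow_add]
            _ = 1 := by rw [← mul_pow, hxy]
        calc x = x * y ^ 2 * y := by rw [mul_assoc, ← pow_succ, hy, mul_one]
          _ = y := by rw [h5, one_mul]
      have hy1 : y = 1 := by
        rw [e] at hx
        calc y = y ^ 2 * y := by rw [hx, one_mul]
          _ = 1 := by rw [← pow_succ, hy]
      have mem : ∀ z : D, Abelianization.of z = 1 → (z : G) ∈ derivedSeries G (k + 1) := by
        intro z hz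
        rw [← MonoidHom.mem_ker, Abelianization.ker_of] at hz
        rw [derivedSeries_succ, ← Subgroup.map_subtype_commutator]
        exact ⟨z, hz, rfl⟩
      exact ⟨mem ⟨a, ih.1⟩ (e.trans hy1), mem ⟨b, ih.2⟩ hy1⟩
  have := (key n).1
  rwa [hn, Subgroup.mem_bot] at this

/-- A criterion for small cases. -/
theorem good_small {p o : ℕ} (hp : p.Prime) {G : Type*} [Group G] (u v a b : G)
    (ho : (u * v) ^ o = 1) (hne : u * v ≠ 1) (hco : Nat.Coprime p o)
    (hau : a ∈ Subgroup.closure ({u, v} : Set G)) (hbu : b ∈ Subgroup.closure ({u, v} : Set G))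
    (ha : a ^ 2 = 1) (hb : b ^ 3 = 1) (hab : (a * b) ^ 5 = 1) (ha1 : a ≠ 1) : Good p u v := by
  refine ⟨fun ⟨k, hk⟩ => hne ?_, fun hs => ha1 ?_⟩
  · have h := Nat.dvd_gcd (orderOf_dvd_of_pow_eq_one ho) hk.dvd
    rw [(Nat.Coprime.pow_left k hco).symm.gcd_eq_one, Nat.dvd_one] at h
    exact orderOf_eq_one_iff.1 h
  · exact congrArg Subtype.val (eq_one_of_235 hs (⟨a, hau⟩ : Subgroup.closure ({u, v} : Set G))
      ⟨b, hbu⟩ (Subtype.ext ha) (Subtype.ext hb) (Subtype.ext hab))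

theorem not_prime_pow_of_swap {p : ℕ} (hp : p.Prime) (hp3 : 3 ≤ p) {α : Type*} (s : Perm α) (P Q : α)
    (hPQ : s P = Q) (hQP : s Q = P) (hne : P ≠ Q) : ¬ ∃ k : ℕ, orderOf s = p ^ k := by
  rintro ⟨k, hk⟩
  have h2 : ∀ j, (s ^ (2 * j)) P = P := by
    intro j
    induction j with
    | zero => rfl
    | succ j ih => rw [show 2 * (j + 1) = 2 + 2 * j by ring, pow_add, Perm.mul_apply, ih, pow_two,
        Perm.mul_apply, hPQ, hQP]
  obtain ⟨j, hj⟩ := (hp.odd_of_ne_two (by omega)).pow (n := k)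
  have := congrArg (fun g : Perm α => g P) (pow_orderOf_eq_one s)
  simp only [hk, hj, pow_succ', Perm.mul_apply, h2, hPQ, Perm.one_apply] at this
  exact hne this.symm

theorem fixed_of_sq_fixed {p : ℕ} (hp : p.Prime) (hp3 : 3 ≤ p) {α : Type*} (w : Perm α)
    (hw : ∃ k : ℕ, orderOf w = p ^ k) (t : α) (h : w (w t) = t) : w t = t := by
  by_contra hne
  exact not_prime_pow_of_swap hp hp3 w t (w t) rfl h (Ne.symm hne) hw

theorem exists_extend {β γ : Type*} [Finite β] (x y : γ → β) (hx : Function.Injective x)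
    (hy : Function.Injective y) : ∃ g : Perm β, ∀ i, g (x i) = y i := by
  classical
  haveI := Fintype.ofFinite β
  let e : {b // b ∈ Set.range x} ≃ {b // b ∈ Set.range y} :=
    (Equiv.ofInjective x hx).symm.trans (Equiv.ofInjective y hy)
  refine ⟨e.extendSubtype, fun i => ?_⟩
  rw [Equiv.extendSubtype_apply_of_mem e (x i) ⟨i, rfl⟩]
  show (Equiv.ofInjective y hy ((Equiv.ofInjective x hx).symm ⟨x i, _⟩) : β) = y i
  rw [Equiv.ofInjective_symm_apply hx i]
  rfl

theorem exists_both_signs {β : Type*} [Fintype β] [DecidableEq β] {r : ℕ} (x y : Fin r → β)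
    (hx : Function.Injective x) (hy : Function.Injective y) (hr : r + 2 ≤ Fintype.card β) :
    ∃ π₁ π₂ : Perm β, Perm.sign π₁ = - Perm.sign π₂ ∧ (∀ i, π₁ (x i) = y i) ∧
      ∀ i, π₂ (x i) = y i := by
  obtain ⟨π, hπ⟩ := exists_extend x y hx hy
  have hc : 1 < (Finset.univ \ Finset.univ.image x).card := by
    rw [Finset.card_univ_sdiff, Finset.card_image_of_injective _ hx, Finset.card_univ, Fintype.card_fin]
    omega
  obtain ⟨P, hP, Q, hQ, hPQ⟩ := Finset.one_lt_card.1 hc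
  simp only [Finset.mem_sdiff, Finset.mem_univ, Finset.mem_image, true_and, not_exists] at hP hQ
  refine ⟨π * swap P Q, π, by simp [Perm.sign_mul, Perm.sign_swap hPQ], fun i => ?_, hπ⟩
  rw [Perm.mul_apply, swap_apply_of_ne_of_ne (hP i) (hQ i), hπ]

theorem inj_four {β : Type*} {a b c d : β} (ab : a ≠ b) (ac : a ≠ c) (ad : a ≠ d) (bc : b ≠ c)
    (bd : b ≠ d) (cd : c ≠ d) : Function.Injective ![a, b, c, d] := by
  intro i j h
  fin_cases i <;> fin_cases j <;>
    first
    | rfl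
    | exact (ab h).elim | exact (ac h).elim | exact (ad h).elim | exact (bc h).elim
    | exact (bd h).elim | exact (cd h).elim
    | exact (ab h.symm).elim | exact (ac h.symm).elim | exact (ad h.symm).elim
    | exact (bc h.symm).elim | exact (bd h.symm).elim | exact (cd h.symm).elim

theorem inj_five {β : Type*} {a b c d e : β} (ab : a ≠ b) (ac : a ≠ c) (ad : a ≠ d) (ae : a ≠ e)
    (bc : b ≠ c) (bd : b ≠ d) (be : b ≠ e) (cd : c ≠ d) (ce : c ≠ e) (de : d ≠ e) :
    Function.Injective ![a, b, c, d, e] := by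
  intro i j h
  fin_cases i <;> fin_cases j <;>
    first
    | rfl
    | exact (ab h).elim | exact (ac h).elim | exact (ad h).elim | exact (ae h).elim
    | exact (bc h).elim | exact (bd h).elim | exact (be h).elim | exact (cd h).elim
    | exact (ce h).elim | exact (de h).elim
    | exact (ab h.symm).elim | exact (ac h.symm).elim | exact (ad h.symm).elim
    | exact (ae h.symm).elim | exact (bc h.symm).elim | exact (bd h.symm).elim
    | exact (be h.symm).elim | exact (cd h.symm).elim | exact (ce h.symm).elim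
    | exact (de h.symm).elim

/-- Matching invariant pieces of `u` and of a conjugate of `w`. -/
theorem pattern {p n m : ℕ} (hp : p.Prime) (u w : Perm (Fin n)) (σ τ₀ π₁ π₂ : Perm (Fin m))
    (ι ι' : Fin m ↪ Fin n) (hu : ∀ k, u (ι k) = ι (σ k)) (hw : ∀ k, w (ι' k) = ι' (τ₀ k))
    (hsign : Perm.sign π₁ = - Perm.sign π₂) (h₁ : Good p σ (π₁ * τ₀ * π₁⁻¹))
    (h₂ : Good p σ (π₂ * τ₀ * π₂⁻¹)) :
    ∃ g : Perm (Fin n), Perm.sign g = 1 ∧ Good p u (g * w * g⁻¹) := by
  obtain ⟨g, hg⟩ := exists_extend (fun k => ι' k) (fun k => ι (π₁ k)) ι'.injective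
    (fun a b h => π₁.injective (ι.injective h))
  have done : ∀ (g : Perm (Fin n)) (π : Perm (Fin m)), (∀ k, g (ι' k) = ι (π k)) →
      Good p σ (π * τ₀ * π⁻¹) → Good p u (g * w * g⁻¹) := by
    intro g π hg hgood
    refine good_embed hp ι u _ σ _ hu (fun k => ?_) hgood
    have h' : g⁻¹ (ι k) = ι' (π⁻¹ k) := by
      apply g.injective
      rw [hg]; simp
    simp only [Perm.mul_apply, h', hw, hg]
  rcases Int.units_eq_one_or (Perm.sign g) with hs | hs
  · exact ⟨g, hs, done g π₁ hg h₁⟩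
  · refine ⟨g * (π₁⁻¹ * π₂).viaFintypeEmbedding ι', ?_, done _ π₂ (fun k => ?_) h₂⟩
    · rw [Perm.sign_mul, Perm.viaFintypeEmbedding_sign, Perm.sign_mul, Perm.sign_inv, hs, hsign]
      rcases Int.units_eq_one_or (Perm.sign π₂) with h | h <;> rw [h] <;> rfl
    · rw [Perm.mul_apply, Perm.viaFintypeEmbedding_apply_image, hg]
      simp

theorem cast_finRotate {p a : ℕ} [NeZero a] (hpa : p ∣ a) (i : Fin a) :
    (((finRotate a i : Fin a) : ℕ) : ZMod p) = ((i : ℕ) : ZMod p) + 1 := by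
  rw [finRotate_apply, Fin.val_add, Fin.val_one', Nat.add_mod_mod, ← Nat.cast_one (R := ZMod p),
    ← Nat.cast_add, ZMod.natCast_eq_natCast_iff', Nat.mod_mod_of_dvd _ hpa]

open Agent.AltSolvCycle in
/-- A long cycle against any piece of the same size. -/
theorem big_pattern {p e a : ℕ} (hp : p.Prime) (hp3 : 3 ≤ p) (ha : a = p ^ e) (ha7 : 7 ≤ a)
    (τ₀ : Perm (Fin a)) (hne : τ₀ ≠ 1) (hτ : ∃ k : ℕ, orderOf τ₀ = p ^ k) :
    ∃ π₁ π₂ : Perm (Fin a), Perm.sign π₁ = - Perm.sign π₂ ∧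
      Good p (finRotate a) (π₁ * τ₀ * π₁⁻¹) ∧ Good p (finRotate a) (π₂ * τ₀ * π₂⁻¹) := by
  haveI : Fact p.Prime := ⟨hp⟩
  haveI : NeZero a := ⟨by omega⟩
  have he : 0 < e := Nat.pos_of_ne_zero fun h => by subst h; simp at ha; omega
  have hpa : p ∣ a := ha ▸ dvd_pow_self p he.ne'
  have h2 : (2 : ZMod p) ≠ 0 := by
    rw [show (2 : ZMod p) = ((2 : ℕ) : ZMod p) by norm_num, Ne, ZMod.natCast_eq_zero_iff]
    intro h; have := Nat.le_of_dvd (by norm_num) h; omega
  have ha1 : ((a - 1 : ℕ) : ZMod p) = -1 := by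
    rw [Nat.cast_sub (by omega), (ZMod.natCast_eq_zero_iff a p).2 hpa]; simp
  set σ := finRotate a
  let f : Fin a → ZMod p := fun i => ((i : ℕ) : ZMod p)
  have hf : ∀ i, f (σ i) = f i + 1 := cast_finRotate hpa
  have hrot : ∀ (i : Fin a) (h : (i : ℕ) + 1 < a), σ i = ⟨(i : ℕ) + 1, h⟩ := fun i h => by
    apply Fin.ext
    rw [finRotate_apply, Fin.val_add, Fin.val_one', Nat.add_mod_mod, Nat.mod_eq_of_lt h]
  have hrot' : σ ⟨a - 1, by omega⟩ = ⟨0, by omega⟩ := by
    apply Fin.ext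
    rw [finRotate_apply, Fin.val_add, Fin.val_one', Nat.add_mod_mod]
    show (a - 1 + 1) % a = 0
    rw [Nat.sub_add_cancel (by omega), Nat.mod_self]
  -- solvability gives an affine map
  have haff : ∀ τ : Perm (Fin a), Group.IsSolvable ↥(Subgroup.closure ({σ, τ} : Set (Perm (Fin a)))) →
      ∃ α β : ZMod p, ∀ i, f ((σ * τ) i) = α * f i + β := by
    intro τ hs
    refine affine_of_solvable_cycle hp3 he _ hs σ (Subgroup.subset_closure (by simp)) ⟨0, by omega⟩
      (fun x => ⟨x, ?_⟩) (by rw [Nat.card_fin, ha]) f hf _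
      (Subgroup.mul_mem _ (Subgroup.subset_closure (by simp)) (Subgroup.subset_closure (by simp)))
    have : ∀ j (h : j < a), (σ ^ j) ⟨0, by omega⟩ = ⟨j, h⟩ := by
      intro j
      induction j with
      | zero => intro h; rfl
      | succ j ih => intro h; rw [pow_succ', Perm.mul_apply, ih (by omega), hrot ⟨j, _⟩ h]
    exact this x x.2
  have conj : ∀ (π : Perm (Fin a)) (i : Fin a), (π * τ₀ * π⁻¹) (π i) = π (τ₀ i) := fun π i => by simp
  obtain ⟨t, ht⟩ : ∃ t, τ₀ t ≠ t := by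
    by_contra h
    push Not at h
    exact hne (Equiv.ext h)
  have htt : τ₀ (τ₀ t) ≠ t := fun h => ht (fixed_of_sq_fixed hp hp3 τ₀ hτ t h)
  have httt : τ₀ (τ₀ t) ≠ τ₀ t := fun h => ht (τ₀.injective h)
  let P0 : Fin a := ⟨0, by omega⟩
  let P1 : Fin a := ⟨1, by omega⟩
  let P2 : Fin a := ⟨2, by omega⟩
  let P3 : Fin a := ⟨3, by omega⟩
  let PL : Fin a := ⟨a - 1, by omega⟩
  by_cases hA : ∃ t', τ₀ t' ≠ t' ∧ t' ≠ t ∧ t' ≠ τ₀ t ∧ τ₀ t' ≠ t
  · obtain ⟨t', ht', h1, h2', h3⟩ := hA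
    have h4 : τ₀ t' ≠ τ₀ t := fun h => h1 (τ₀.injective h)
    have fin : ∀ π : Perm (Fin a), π t = P0 → π (τ₀ t) = P1 → π t' = P2 → π (τ₀ t') = PL →
        f (π (τ₀ (τ₀ t))) ≠ 0 → Good p σ (π * τ₀ * π⁻¹) := by
      intro π e0 e1 e2 eL enz
      have s0 : (σ * (π * τ₀ * π⁻¹)) P0 = P2 := by
        rw [Perm.mul_apply, ← e0, conj, e1]; exact hrot P1 (by simp only [P1]; omega)
      have s2 : (σ * (π * τ₀ * π⁻¹)) P2 = P0 := by
        rw [Perm.mul_apply, ← e2, conj, eL]; exact hrot'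
      refine ⟨not_prime_pow_of_swap hp hp3 _ P0 P2 s0 s2 (by simp [P0, P2]), fun hs => ?_⟩
      obtain ⟨α, β, h⟩ := haff _ hs
      have a0 := h P0
      have a2 := h P2
      have a1 := h P1
      rw [s0] at a0
      rw [s2] at a2
      rw [Perm.mul_apply, hf, ← e1, conj] at a1
      rw [e1] at a1
      simp only [f, P0, P1, P2, Nat.cast_zero, Nat.cast_one, Nat.cast_ofNat, mul_zero,
        zero_add, mul_one] at a0 a2 a1
      have hα : α = -1 := mul_left_cancel₀ h2 (by linear_combination a0 - a2)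
      exact enz (by simp only [f]; linear_combination a1 + hα - a0)
    by_cases hw : τ₀ (τ₀ t) = t'
    · obtain ⟨π₁, π₂, hsg, g₁, g₂⟩ := exists_both_signs ![t, τ₀ t, t', τ₀ t'] ![P0, P1, P2, PL]
        (inj_four (Ne.symm ht) h1.symm h3.symm h2'.symm h4.symm (Ne.symm ht'))
        (by apply inj_four <;> simp only [P0, P1, P2, PL, ne_eq, Fin.mk.injEq] <;> omega)
        (by simp; omega)
      refine ⟨π₁, π₂, hsg, fin π₁ (g₁ 0) (g₁ 1) (g₁ 2) (g₁ 3) ?_,
        fin π₂ (g₂ 0) (g₂ 1) (g₂ 2) (g₂ 3) ?_⟩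
      · rw [hw, show π₁ t' = P2 from g₁ 2]; simpa [f, P2] using h2
      · rw [hw, show π₂ t' = P2 from g₂ 2]; simpa [f, P2] using h2
    · let q : ℕ := if p = 3 then 4 else 3
      have hq : q < a - 1 := by simp only [q]; split_ifs <;> omega
      have hq' : 3 ≤ q := by simp only [q]; split_ifs <;> omega
      have hqp : ((q : ℕ) : ZMod p) ≠ 0 := by
        rw [Ne, ZMod.natCast_eq_zero_iff]
        simp only [q]
        split_ifs with h
        · subst h; norm_num
        · intro hd; exact h ((Nat.prime_dvd_prime_iff_eq hp Nat.prime_three).1 hd)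
      let Pq : Fin a := ⟨q, by omega⟩
      have h5 : τ₀ (τ₀ t) ≠ τ₀ t' := fun h => h2' (τ₀.injective h).symm
      obtain ⟨π₁, π₂, hsg, g₁, g₂⟩ :=
        exists_both_signs ![t, τ₀ t, t', τ₀ t', τ₀ (τ₀ t)] ![P0, P1, P2, PL, Pq]
        (inj_five (Ne.symm ht) h1.symm h3.symm (Ne.symm htt) h2'.symm h4.symm (Ne.symm httt)
          (Ne.symm ht') (Ne.symm hw) h5.symm)
        (by apply inj_five <;> simp only [P0, P1, P2, PL, Pq, ne_eq, Fin.mk.injEq] <;> omega)
        (by simp; omega)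
      refine ⟨π₁, π₂, hsg, fin π₁ (g₁ 0) (g₁ 1) (g₁ 2) (g₁ 3) ?_,
        fin π₂ (g₂ 0) (g₂ 1) (g₂ 2) (g₂ 3) ?_⟩
      · rw [show π₁ (τ₀ (τ₀ t)) = Pq from g₁ 4]; exact hqp
      · rw [show π₂ (τ₀ (τ₀ t)) = Pq from g₂ 4]; exact hqp
  · push Not at hA
    obtain ⟨t', h1, h2', h3⟩ : ∃ t', t' ≠ t ∧ t' ≠ τ₀ t ∧ t' ≠ τ₀⁻¹ t := by
      have hc : 0 < (Finset.univ \ ({t, τ₀ t, τ₀⁻¹ t} : Finset (Fin a))).card := by
        rw [Finset.card_univ_sdiff, Fintype.card_fin]
        have := Finset.card_le_three (a := t) (b := τ₀ t) (c := τ₀⁻¹ t)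
        omega
      obtain ⟨x, hx⟩ := Finset.card_pos.1 hc
      simp only [Finset.mem_sdiff, Finset.mem_univ, Finset.mem_insert, Finset.mem_singleton,
        true_and, not_or] at hx
      exact ⟨x, hx⟩
    have hfix : τ₀ t' = t' := by
      by_contra h
      exact h3 (by rw [← hA t' h h1 h2']; simp)
    have h4 : τ₀ (τ₀ t) ≠ t' := fun h => h2' (τ₀.injective (hfix.trans h.symm))
    have fin : ∀ π : Perm (Fin a), π t = P2 → π (τ₀ t) = P0 → π (τ₀ (τ₀ t)) = P3 → π t' = P1 →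
        Good p σ (π * τ₀ * π⁻¹) := by
      intro π e2 e0 e3 e1
      have s1 : (σ * (π * τ₀ * π⁻¹)) P1 = P2 := by
        rw [Perm.mul_apply, ← e1, conj, hfix, e1]; exact hrot P1 (by simp only [P1]; omega)
      have s2 : (σ * (π * τ₀ * π⁻¹)) P2 = P1 := by
        rw [Perm.mul_apply, ← e2, conj, e0]; exact hrot P0 (by simp only [P0]; omega)
      refine ⟨not_prime_pow_of_swap hp hp3 _ P1 P2 s1 s2 (by simp [P1, P2]), fun hs => ?_⟩
      obtain ⟨α, β, h⟩ := haff _ hs
      have a1 := h P1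
      have a2 := h P2
      have a0 := h P0
      rw [s1] at a1
      rw [s2] at a2
      rw [Perm.mul_apply, hf, ← e0, conj, e3, e0] at a0
      simp only [f, P0, P1, P2, P3, Nat.cast_zero, Nat.cast_one, Nat.cast_ofNat, mul_zero,
        zero_add, mul_one] at a0 a1 a2
      exact one_ne_zero (α := ZMod p) (by linear_combination a0 - 2 * a1 + a2)
    obtain ⟨π₁, π₂, hsg, g₁, g₂⟩ := exists_both_signs ![t, τ₀ t, τ₀ (τ₀ t), t'] ![P2, P0, P3, P1]
      (inj_four (Ne.symm ht) (Ne.symm htt) h1.symm (Ne.symm httt) h2'.symm h4)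
      (by apply inj_four <;> simp only [P0, P1, P2, P3, ne_eq, Fin.mk.injEq] <;> omega)
      (by simp; omega)
    exact ⟨π₁, π₂, hsg, fin π₁ (g₁ 0) (g₁ 1) (g₁ 2) (g₁ 3), fin π₂ (g₂ 0) (g₂ 1) (g₂ 2) (g₂ 3)⟩
/-- The orbit of a point under a permutation. -/
noncomputable def orb {n : ℕ} (u : Perm (Fin n)) (x : Fin n) : Finset (Fin n) :=
  (Finset.range (Function.minimalPeriod u x)).image fun i => (u ^ i) x

theorem period_pos {α : Type*} [Finite α] (u : Perm α) (x : α) : 0 < Function.minimalPeriod u x := by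
  apply Function.minimalPeriod_pos_of_mem_periodicPts
  refine ⟨orderOf u, orderOf_pos u, ?_⟩
  show (⇑u)^[orderOf u] x = x
  rw [← Perm.coe_pow, pow_orderOf_eq_one]
  rfl

theorem period_prime_pow {α : Type*} [Finite α] {p : ℕ} (hp : p.Prime) (u : Perm α)
    (hu : ∃ k : ℕ, orderOf u = p ^ k) (x : α) : ∃ j, Function.minimalPeriod u x = p ^ j := by
  obtain ⟨k, hk⟩ := hu
  have : Function.minimalPeriod u x ∣ p ^ k := by
    apply Function.IsPeriodicPt.minimalPeriod_dvd
    show (⇑u)^[p ^ k] x = x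
    rw [← Perm.coe_pow, ← hk, pow_orderOf_eq_one]
    rfl
  obtain ⟨j, -, hj⟩ := (Nat.dvd_prime_pow hp).1 this
  exact ⟨j, hj⟩

theorem card_orb {n : ℕ} (u : Perm (Fin n)) (x : Fin n) :
    (orb u x).card = Function.minimalPeriod u x := by
  rw [orb, Finset.card_image_of_injOn, Finset.card_range]
  intro i hi j hj h
  simp only [Finset.coe_range, Set.mem_Iio] at hi hj
  have := (AltSolvCycle.pow_apply_eq_iff u x inferInstance).1 h
  rwa [Nat.mod_eq_of_lt hi, Nat.mod_eq_of_lt hj] at this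

theorem mem_orb {n : ℕ} {u : Perm (Fin n)} {x y : Fin n} : y ∈ orb u x ↔ ∃ i : ℕ, (u ^ i) x = y := by
  simp only [orb, Finset.mem_image, Finset.mem_range]
  refine ⟨fun ⟨i, _, h⟩ => ⟨i, h⟩, fun ⟨i, h⟩ => ⟨i % Function.minimalPeriod u x,
    Nat.mod_lt _ (period_pos u x), ?_⟩⟩
  rw [← h]
  exact (AltSolvCycle.pow_apply_eq_iff u x inferInstance).2 (Nat.mod_mod _ _)

theorem orb_inv {n : ℕ} (u : Perm (Fin n)) (x : Fin n) : ∀ y ∈ orb u x, u y ∈ orb u x := by
  intro y hy
  obtain ⟨i, rfl⟩ := mem_orb.1 hy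
  exact mem_orb.2 ⟨i + 1, by rw [pow_succ', Perm.mul_apply]⟩

theorem self_mem_orb {n : ℕ} (u : Perm (Fin n)) (x : Fin n) : x ∈ orb u x := mem_orb.2 ⟨0, rfl⟩

theorem inv_of_sdiff {α : Type*} [DecidableEq α] (w : Perm α) {X T : Finset α} (hTX : T ⊆ X)
    (hX : ∀ y ∈ X, w y ∈ X) (hT : ∀ y ∈ T, w y ∈ T) : ∀ y ∈ X \ T, w y ∈ X \ T := by
  intro y hy
  rw [Finset.mem_sdiff] at hy ⊢
  refine ⟨hX y hy.1, fun h => hy.2 ?_⟩
  have : T.map w.toEmbedding = T := Finset.eq_of_subset_of_card_le (fun z hz => by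
    obtain ⟨z', hz', rfl⟩ := Finset.mem_map.1 hz
    exact hT z' hz') (by rw [Finset.card_map])
  rw [← this] at h
  obtain ⟨z, hz, hzy⟩ := Finset.mem_map.1 h
  rwa [← w.injective hzy]

/-- Invariant pieces of every `p`-power size that is not smaller than all orbits. -/
theorem exists_invariant {n p : ℕ} (hp : p.Prime) (w : Perm (Fin n)) : ∀ (j : ℕ) (X : Finset (Fin n)),
    (∀ y ∈ X, w y ∈ X) → (∀ y ∈ X, Function.minimalPeriod w y ∣ p ^ j) → p ^ j ≤ X.card →
      ∃ T ⊆ X, (∀ y ∈ T, w y ∈ T) ∧ T.card = p ^ j := by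
  intro j
  induction j with
  | zero =>
    intro X _ hper hcard
    obtain ⟨x, hx⟩ := Finset.card_pos.1 (lt_of_lt_of_le (pow_pos hp.pos 0) hcard)
    refine ⟨{x}, by simpa using hx, fun y hy => ?_, by simp⟩
    rw [Finset.mem_singleton] at hy ⊢
    subst hy
    have := hper y hx
    rw [pow_zero, Nat.dvd_one, Function.minimalPeriod_eq_one_iff_isFixedPt] at this
    exact this
  | succ j ih =>
    intro X hX hper hcard
    by_cases h : ∃ x ∈ X, Function.minimalPeriod w x = p ^ (j + 1)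
    · obtain ⟨x, hx, h⟩ := h
      refine ⟨orb w x, fun y hy => ?_, orb_inv w x, (card_orb w x).trans h⟩
      obtain ⟨i, rfl⟩ := mem_orb.1 hy
      clear hy
      induction i with
      | zero => simpa using hx
      | succ i ihi => rw [pow_succ', Perm.mul_apply]; exact hX _ ihi
    · push Not at h
      have hper' : ∀ y ∈ X, Function.minimalPeriod w y ∣ p ^ j := by
        intro y hy
        obtain ⟨i, hi, hi'⟩ := (Nat.dvd_prime_pow hp).1 (hper y hy)
        rw [hi']
        refine pow_dvd_pow p ?_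
        by_contra hc
        exact h y hy (by rw [hi', show i = j + 1 by omega])
      have aux : ∀ m, m ≤ p → ∃ T ⊆ X, (∀ y ∈ T, w y ∈ T) ∧ T.card = m * p ^ j := by
        intro m
        induction m with
        | zero => exact fun _ => ⟨∅, by simp, by simp, by simp⟩
        | succ m ihm =>
          intro hm
          obtain ⟨T, hTX, hT, hTc⟩ := ihm (by omega)
          obtain ⟨T', hT'X, hT', hT'c⟩ := ih (X \ T) (inv_of_sdiff w hTX hX hT)
            (fun y hy => hper' y (Finset.mem_sdiff.1 hy).1) (by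
              rw [Finset.card_sdiff_of_subset hTX, hTc]
              have : (m + 1) * p ^ j ≤ p * p ^ j := Nat.mul_le_mul_right _ hm
              rw [← pow_succ'] at this
              rw [add_mul, one_mul] at this
              omega)
          refine ⟨T ∪ T', Finset.union_subset hTX (hT'X.trans Finset.sdiff_subset), fun y hy => ?_, ?_⟩
          · rcases Finset.mem_union.1 hy with h | h
            exacts [Finset.mem_union_left _ (hT y h), Finset.mem_union_right _ (hT' y h)]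
          · rw [Finset.card_union_of_disjoint, hTc, hT'c, add_mul, one_mul]
            exact Finset.disjoint_left.2 fun y hy hy' => (Finset.mem_sdiff.1 (hT'X hy')).2 hy
      obtain ⟨T, hTX, hT, hTc⟩ := aux p le_rfl
      exact ⟨T, hTX, hT, by rw [hTc, pow_succ']⟩

/-- An invariant piece with a moved point. -/
theorem exists_invariant_moved {n p : ℕ} (hp : p.Prime) (w : Perm (Fin n)) (j : ℕ)
    (hper : ∀ y, Function.minimalPeriod w y ∣ p ^ j) (hn : p ^ j ≤ n) (hw : w ≠ 1) :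
    ∃ T : Finset (Fin n), (∀ y ∈ T, w y ∈ T) ∧ T.card = p ^ j ∧ ∃ y ∈ T, w y ≠ y := by
  obtain ⟨T, -, hT, hTc⟩ := exists_invariant hp w j Finset.univ (by simp) (fun y _ => hper y)
    (by simpa using hn)
  by_cases h : ∃ y ∈ T, w y ≠ y
  · exact ⟨T, hT, hTc, h⟩
  push Not at h
  obtain ⟨x, hx⟩ : ∃ x, w x ≠ x := by
    by_contra h'
    push Not at h'
    exact hw (Equiv.ext h')
  have hle : (orb w x).card ≤ p ^ j := by
    rw [card_orb]; exact Nat.le_of_dvd (pow_pos hp.pos j) (hper x)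
  obtain ⟨R, hRT, hR⟩ := Finset.exists_subset_card_eq
    (show p ^ j - (orb w x).card ≤ T.card by omega)
  refine ⟨orb w x ∪ R, fun y hy => ?_, ?_, x, Finset.mem_union_left _ (self_mem_orb w x), hx⟩
  · rcases Finset.mem_union.1 hy with h' | h'
    · exact Finset.mem_union_left _ (orb_inv w x y h')
    · rw [h y (hRT h')]; exact Finset.mem_union_right _ h'
  · rw [Finset.card_union_of_disjoint, hR]
    · omega
    refine Finset.disjoint_left.2 fun y hy hy' => hx ?_
    obtain ⟨i, rfl⟩ := mem_orb.1 hy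
    have h1 := h _ (hRT hy')
    apply (w ^ i).injective
    rw [← Perm.mul_apply, ← pow_succ, pow_succ', Perm.mul_apply, h1]

/-- A cycle as an embedded rotation. -/
theorem exists_cycle_embedding {n a : ℕ} (u : Perm (Fin n)) (x : Fin n)
    (ha : Function.minimalPeriod u x = a) :
    ∃ ι : Fin a ↪ Fin n, (∀ k, u (ι k) = ι (finRotate a k)) ∧
      ∀ k, ι k = (u ^ (k : ℕ)) x := by
  have hpos : 0 < a := ha ▸ period_pos u x
  haveI : NeZero a := ⟨hpos.ne'⟩
  refine ⟨⟨fun k => (u ^ (k : ℕ)) x, fun i j h => ?_⟩, fun k => ?_, ?_⟩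
  · have := (AltSolvCycle.pow_apply_eq_iff u x inferInstance).1 h
    rw [ha, Nat.mod_eq_of_lt i.2, Nat.mod_eq_of_lt j.2] at this
    exact Fin.ext this
  rotate_left
  · exact fun _ => rfl
  · show u ((u ^ (k : ℕ)) x) = (u ^ ((finRotate a k : Fin a) : ℕ)) x
    rw [← Perm.mul_apply, ← pow_succ']
    refine (AltSolvCycle.pow_apply_eq_iff u x inferInstance).2 ?_
    rw [ha, finRotate_apply, Fin.val_add, Fin.val_one', Nat.add_mod_mod, Nat.mod_mod]

/-- An invariant set as an embedded permutation. -/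
theorem exists_finset_embedding {n a p : ℕ} (hp : p.Prime) (w : Perm (Fin n)) (T : Finset (Fin n))
    (hT : ∀ y ∈ T, w y ∈ T) (hTc : T.card = a) (hmv : ∃ y ∈ T, w y ≠ y)
    (hw : ∃ k : ℕ, orderOf w = p ^ k) :
    ∃ (ι : Fin a ↪ Fin n) (τ : Perm (Fin a)), τ ≠ 1 ∧ (∃ k : ℕ, orderOf τ = p ^ k) ∧
      ∀ k, w (ι k) = ι (τ k) := by
  let e : Fin a ≃ T := (T.equivFinOfCardEq hTc).symm
  let τf : Fin a → Fin a := fun k => e.symm ⟨w (e k), hT _ (e k).2⟩
  have hinj : Function.Injective τf := fun i j h => e.injective (Subtype.ext (w.injective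
    (congrArg Subtype.val (e.symm.injective h))))
  let τ : Perm (Fin a) := Equiv.ofBijective τf (Finite.injective_iff_bijective.1 hinj)
  let ι : Fin a ↪ Fin n := e.toEmbedding.trans (Function.Embedding.subtype _)
  have heq : ∀ k, w (ι k) = ι (τ k) := fun k => by
    show w (e k) = (e (e.symm ⟨w (e k), _⟩) : Fin n)
    rw [e.apply_symm_apply]
  have hpow : ∀ (j : ℕ) (k : Fin a), (w ^ j) (ι k) = ι ((τ ^ j) k) := by
    intro j
    induction j with
    | zero => simp
    | succ j ih => intro k; rw [pow_succ', pow_succ', Perm.mul_apply, Perm.mul_apply, ih, heq]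
  refine ⟨ι, τ, fun h1 => ?_, ?_, heq⟩
  · obtain ⟨y, hy, hwy⟩ := hmv
    apply hwy
    have : ι (e.symm ⟨y, hy⟩) = y := by
      show (e (e.symm ⟨y, hy⟩) : Fin n) = y
      rw [e.apply_symm_apply]
    rw [← this, heq, h1]
    rfl
  · obtain ⟨k, hk⟩ := hw
    have hd : orderOf τ ∣ p ^ k := orderOf_dvd_of_pow_eq_one (Equiv.ext fun x => ι.injective (by
      rw [← hpow, ← hk, pow_orderOf_eq_one]; rfl))
    obtain ⟨j, -, hj⟩ := (Nat.dvd_prime_pow hp).1 hd
    exact ⟨j, hj⟩

def σ311 : Perm (Fin 5) := ⟨![1, 2, 0, 3, 4], ![2, 0, 1, 3, 4], by decide, by decide⟩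

def σ33 : Perm (Fin 6) := ⟨![1, 2, 0, 4, 5, 3], ![2, 0, 1, 5, 3, 4], by decide, by decide⟩

def σ3111 : Perm (Fin 6) := ⟨![1, 2, 0, 3, 4, 5], ![2, 0, 1, 3, 4, 5], by decide, by decide⟩

def πA1 : Perm (Fin 5) := ⟨![0, 1, 2, 4, 3], ![0, 1, 2, 4, 3], by decide, by decide⟩
def πA2 : Perm (Fin 5) := ⟨![0, 2, 1, 4, 3], ![0, 2, 1, 4, 3], by decide, by decide⟩
def πB1 : Perm (Fin 5) := ⟨![0, 3, 4, 1, 2], ![0, 3, 4, 1, 2], by decide, by decide⟩
def πB2 : Perm (Fin 5) := ⟨![0, 3, 4, 2, 1], ![0, 4, 3, 1, 2], by decide, by decide⟩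
def πC1 : Perm (Fin 6) := ⟨![0, 1, 3, 2, 5, 4], ![0, 1, 3, 2, 5, 4], by decide, by decide⟩
def πC2 : Perm (Fin 6) := ⟨![0, 3, 4, 1, 5, 2], ![0, 3, 5, 1, 2, 4], by decide, by decide⟩
def πD1 : Perm (Fin 6) := ⟨![0, 1, 3, 2, 4, 5], ![0, 1, 3, 2, 4, 5], by decide, by decide⟩

theorem mem_pair_left {G : Type*} [Group G] (s t : G) : s ∈ Subgroup.closure ({s, t} : Set G) :=
  Subgroup.subset_closure (by simp)

theorem mem_pair_right {G : Type*} [Group G] (s t : G) : t ∈ Subgroup.closure ({s, t} : Set G) :=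
  Subgroup.subset_closure (by simp)

theorem good_five (π : Perm (Fin 5)) (hπ : π = πA1 ∨ π = πA2) :
    Good 5 (finRotate 5) (π * finRotate 5 * π⁻¹) := by
  have hp : (5 : ℕ).Prime := by norm_num
  have hs := mem_pair_left (finRotate 5) (π * finRotate 5 * π⁻¹)
  have ht := mem_pair_right (finRotate 5) (π * finRotate 5 * π⁻¹)
  rcases hπ with rfl | rfl
  · exact good_small (o := 2) hp _ _ _ _ (by decide +kernel) (by decide +kernel) (by norm_num)
      (Subgroup.mul_mem _ hs ht)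
      (Subgroup.mul_mem _ (Subgroup.mul_mem _ (Subgroup.mul_mem _ hs hs) hs) ht)
      (by decide +kernel) (by decide +kernel) (by decide +kernel) (by decide +kernel)
  · exact good_small (o := 3) hp _ _ _ _ (by decide +kernel) (by decide +kernel) (by norm_num)
      (Subgroup.mul_mem _ (Subgroup.mul_mem _ hs hs) ht) (Subgroup.mul_mem _ hs ht)
      (by decide +kernel) (by decide +kernel) (by decide +kernel) (by decide +kernel)

theorem good_B (π : Perm (Fin 5)) (hπ : π = πB1 ∨ π = πB2) : Good 3 σ311 (π * σ311 * π⁻¹) := by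
  have hp : (3 : ℕ).Prime := by norm_num
  have hs := mem_pair_left σ311 (π * σ311 * π⁻¹)
  have ht := mem_pair_right σ311 (π * σ311 * π⁻¹)
  rcases hπ with rfl | rfl <;>
    exact good_small (o := 5) hp _ _ _ _ (by decide +kernel) (by decide +kernel) (by norm_num)
      (Subgroup.mul_mem _ (Subgroup.mul_mem _ (Subgroup.mul_mem _ (Subgroup.mul_mem _ hs hs) ht) hs) ht)
      hs (by decide +kernel) (by decide +kernel) (by decide +kernel) (by decide +kernel)

theorem good_C (π : Perm (Fin 6)) (hπ : π = πC1 ∨ π = πC2) : Good 3 σ33 (π * σ33 * π⁻¹) := by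
  have hp : (3 : ℕ).Prime := by norm_num
  have hs := mem_pair_left σ33 (π * σ33 * π⁻¹)
  have ht := mem_pair_right σ33 (π * σ33 * π⁻¹)
  rcases hπ with rfl | rfl <;>
    exact good_small (o := 5) hp _ _ _ _ (by decide +kernel) (by decide +kernel) (by norm_num)
      (Subgroup.mul_mem _ (Subgroup.mul_mem _ (Subgroup.mul_mem _ (Subgroup.mul_mem _ hs hs) ht) hs) ht)
      hs (by decide +kernel) (by decide +kernel) (by decide +kernel) (by decide +kernel)

theorem good_D (π : Perm (Fin 6)) (hπ : π = πD1 ∨ π = πC1) : Good 3 σ33 (π * σ3111 * π⁻¹) := by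
  have hp : (3 : ℕ).Prime := by norm_num
  have hs := mem_pair_left σ33 (π * σ3111 * π⁻¹)
  have ht := mem_pair_right σ33 (π * σ3111 * π⁻¹)
  rcases hπ with rfl | rfl <;>
    exact good_small (o := 4) hp _ _ _ _ (by decide +kernel) (by decide +kernel) (by norm_num)
      (Subgroup.mul_mem _ (Subgroup.mul_mem _ (Subgroup.mul_mem _ hs ht) hs) ht)
      hs (by decide +kernel) (by decide +kernel) (by decide +kernel) (by decide +kernel)

theorem pow_three_apply {n : ℕ} {u : Perm (Fin n)} {x : Fin n}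
    (h : Function.minimalPeriod u x = 3) : u (u (u x)) = x := by
  have := Function.iterate_minimalPeriod (f := u) (x := x)
  rw [h] at this
  exact this

theorem moved_period {n p : ℕ} (hp : p.Prime) (u : Perm (Fin n))
    (hper : ∀ y, Function.minimalPeriod u y ∣ p) (x : Fin n) (hx : u x ≠ x) :
    Function.minimalPeriod u x = p := by
  rcases hp.eq_one_or_self_of_dvd _ (hper x) with h | h
  · exact absurd (Function.minimalPeriod_eq_one_iff_isFixedPt.1 h) hx
  · exact h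

/-- A three-cycle and two fixed points. -/
theorem embed_311 {n : ℕ} (u : Perm (Fin n)) (x : Fin n) (h3 : Function.minimalPeriod u x = 3)
    (a b : Fin n) (ha : u a = a) (hb : u b = b) (hab : a ≠ b) :
    ∃ ι : Fin 5 ↪ Fin n, ∀ k, u (ι k) = ι (σ311 k) := by
  have h := pow_three_apply h3
  have hx : u x ≠ x := fun e => by
    rw [Function.minimalPeriod_eq_one_iff_isFixedPt.2 e] at h3; omega
  have hne : ∀ c, u c = c → c ≠ x ∧ c ≠ u x ∧ c ≠ u (u x) := fun c hc =>
    ⟨fun e => hx (e ▸ hc), fun e => hx (u.injective (e ▸ hc)),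
      fun e => hx (u.injective (u.injective (e ▸ hc)))⟩
  obtain ⟨a1, a2, a3⟩ := hne a ha
  obtain ⟨b1, b2, b3⟩ := hne b hb
  have hx2 : u (u x) ≠ x := fun e => hx (by rw [e] at h; exact h)
  refine ⟨⟨![x, u x, u (u x), a, b], inj_five hx.symm hx2.symm a1.symm b1.symm
    (fun e => hx (u.injective e).symm) a2.symm b2.symm a3.symm b3.symm hab⟩, fun k => ?_⟩
  fin_cases k
  exacts [rfl, rfl, h, ha, hb]

theorem embed_six {n : ℕ} (u : Perm (Fin n)) (x : Fin n) (h3 : Function.minimalPeriod u x = 3)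
    (τ : Fin 6 → Fin 6) (f : Fin 3 ↪ Fin n) (hf : ∀ k, f k ∉ orb u x)
    (hτ0 : τ 0 = 1) (hτ1 : τ 1 = 2) (hτ2 : τ 2 = 0)
    (hτf : ∀ k : Fin 3, ∃ j : Fin 3, τ (Fin.natAdd 3 k) = Fin.natAdd 3 j ∧ u (f k) = f j) :
    ∃ ι : Fin 6 ↪ Fin n, ∀ k, u (ι k) = ι (τ k) := by
  obtain ⟨g, hg0, hg1, hg2⟩ : ∃ g : Fin 3 ↪ Fin n, g 0 = x ∧ g 1 = u x ∧ g 2 = u (u x) := by
    refine ⟨⟨fun k => (u ^ (k : ℕ)) x, fun i j h => ?_⟩, rfl, rfl, rfl⟩
    have := (AltSolvCycle.pow_apply_eq_iff u x inferInstance).1 h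
    rw [h3, Nat.mod_eq_of_lt i.2, Nat.mod_eq_of_lt j.2] at this
    exact Fin.ext this
  have hgm : ∀ k, g k ∈ orb u x := fun k => by
    fin_cases k
    exacts [mem_orb.2 ⟨0, hg0.symm⟩, mem_orb.2 ⟨1, hg1.symm⟩, mem_orb.2 ⟨2, hg2.symm⟩]
  refine ⟨⟨Fin.append g f, Fin.append_injective_iff.2 ⟨g.injective, f.injective, ?_⟩⟩, ?_⟩
  · intro i j h
    exact hf j (h ▸ hgm i)
  refine Fin.addCases (m := 3) (n := 3) (fun k => ?_) (fun k => ?_)
  · show u (Fin.append g f (Fin.castAdd 3 k)) = Fin.append g f (τ (Fin.castAdd 3 k))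
    obtain rfl | rfl | rfl : k = 0 ∨ k = 1 ∨ k = 2 := by fin_cases k <;> simp
    · rw [show τ (Fin.castAdd 3 (0 : Fin 3)) = Fin.castAdd 3 (1 : Fin 3) from hτ0,
        Fin.append_left, Fin.append_left, hg0, hg1]
    · rw [show τ (Fin.castAdd 3 (1 : Fin 3)) = Fin.castAdd 3 (2 : Fin 3) from hτ1,
        Fin.append_left, Fin.append_left, hg1, hg2]
    · rw [show τ (Fin.castAdd 3 (2 : Fin 3)) = Fin.castAdd 3 (0 : Fin 3) from hτ2,
        Fin.append_left, Fin.append_left, hg0, hg2, pow_three_apply h3]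
  · obtain ⟨j, hj, hj'⟩ := hτf k
    show u (Fin.append g f (Fin.natAdd 3 k)) = Fin.append g f (τ (Fin.natAdd 3 k))
    rw [hj, Fin.append_right, Fin.append_right, hj']

theorem embed_33 {n : ℕ} (u : Perm (Fin n)) (x y : Fin n) (hx : Function.minimalPeriod u x = 3)
    (hy : Function.minimalPeriod u y = 3) (hxy : y ∉ orb u x) :
    ∃ ι : Fin 6 ↪ Fin n, ∀ k, u (ι k) = ι (σ33 k) := by
  obtain ⟨c, hc, hc'⟩ := exists_cycle_embedding u y hy
  have hout : ∀ k, c k ∉ orb u x := by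
    intro k
    rw [hc']
    generalize (k : ℕ) = i
    induction i with
    | zero => simpa using hxy
    | succ i ih =>
      rw [pow_succ', Perm.mul_apply]
      exact (Finset.mem_sdiff.1 (inv_of_sdiff u (Finset.subset_univ (orb u x)) (by simp)
        (orb_inv u x) _ (Finset.mem_sdiff.2 ⟨Finset.mem_univ _, ih⟩))).2
  exact embed_six u x hx _ c hout rfl rfl rfl (fun k => ⟨finRotate 3 k,
    by fin_cases k <;> rfl, hc k⟩)

theorem good_symm {p : ℕ} {G : Type*} [Group G] (u w g : G) (h : Good p u (g * w * g⁻¹)) :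
    Good p w (g⁻¹ * u * g⁻¹⁻¹) := by
  refine ⟨fun ⟨k, hk⟩ => h.1 ⟨k, ?_⟩, fun hs => h.2 ?_⟩
  · have e : u * (g * w * g⁻¹) = MulAut.conj (g * w⁻¹) (w * (g⁻¹ * u * g⁻¹⁻¹)) := by
      simp only [MulAut.conj_apply]; group
    rw [e, MulEquiv.orderOf_eq, hk]
  · have e : Subgroup.closure ({u, g * w * g⁻¹} : Set G) =
        (Subgroup.closure ({w, g⁻¹ * u * g⁻¹⁻¹} : Set G)).map (MulAut.conj g).toMonoidHom := by
      rw [MonoidHom.map_closure, Set.image_pair]
      simp only [MulEquiv.coe_toMonoidHom, MulAut.conj_apply]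
      rw [show g * (g⁻¹ * u * g⁻¹⁻¹) * g⁻¹ = u by group, Set.pair_comm]
    rw [e]
    exact Group.isSolvable_of_surjective
      ((MulAut.conj g).toMonoidHom.subgroupMap_surjective _)

theorem two_orbits_or_fixed {n : ℕ} (u : Perm (Fin n)) (x : Fin n)
    (hper : ∀ y, Function.minimalPeriod u y ∣ 3) :
    (∃ y, y ∉ orb u x ∧ Function.minimalPeriod u y = 3) ∨ ∀ y, y ∉ orb u x → u y = y := by
  by_cases h : ∃ y, y ∉ orb u x ∧ u y ≠ y
  · obtain ⟨y, hy, hy'⟩ := h
    exact Or.inl ⟨y, hy, moved_period Nat.prime_three u hper y hy'⟩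
  · push Not at h
    exact Or.inr h

theorem embed_3111 {n : ℕ} (u : Perm (Fin n)) (x : Fin n) (hx : Function.minimalPeriod u x = 3)
    (hn : 6 ≤ n) (hfix : ∀ y, y ∉ orb u x → u y = y) :
    ∃ ι : Fin 6 ↪ Fin n, ∀ k, u (ι k) = ι (σ3111 k) := by
  have hc : 3 ≤ (Finset.univ \ orb u x).card := by
    rw [Finset.card_univ_sdiff, Fintype.card_fin, card_orb, hx]; omega
  obtain ⟨R, hR, hRc⟩ := Finset.exists_subset_card_eq hc
  let f : Fin 3 ↪ Fin n :=
    (R.equivFinOfCardEq hRc).symm.toEmbedding.trans (Function.Embedding.subtype _)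
  have hout : ∀ k, f k ∉ orb u x := fun k =>
    (Finset.mem_sdiff.1 (hR ((R.equivFinOfCardEq hRc).symm k).2)).2
  exact embed_six u x hx _ f hout rfl rfl rfl
    (fun k => ⟨k, by fin_cases k <;> rfl, hfix _ (hout k)⟩)

/-- The statement for permutations, when the longest cycle is in `u`. -/
theorem main_perm {n p : ℕ} (hn : 5 ≤ n) (hp : p.Prime) (hp3 : 3 ≤ p) (u w : Perm (Fin n))
    (hu : u ≠ 1) (hw : w ≠ 1) (hu' : ∃ k : ℕ, orderOf u = p ^ k) (hw' : ∃ k : ℕ, orderOf w = p ^ k)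
    (x₀ : Fin n) (hmu : ∀ y, Function.minimalPeriod u y ≤ Function.minimalPeriod u x₀)
    (hmw : ∀ y, Function.minimalPeriod w y ≤ Function.minimalPeriod u x₀) :
    ∃ g : Perm (Fin n), Perm.sign g = 1 ∧ Good p u (g * w * g⁻¹) := by
  obtain ⟨e, he⟩ := period_prime_pow hp u hu' x₀
  have hdvd : ∀ v : Perm (Fin n), (∃ k : ℕ, orderOf v = p ^ k) →
      (∀ y, Function.minimalPeriod v y ≤ Function.minimalPeriod u x₀) →
      ∀ y, Function.minimalPeriod v y ∣ p ^ e := by
    intro v hv hle y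
    obtain ⟨i, hi⟩ := period_prime_pow hp v hv y
    rw [hi]
    exact pow_dvd_pow p ((Nat.pow_le_pow_iff_right hp.one_lt).1 (hi ▸ he ▸ hle y))
  have hdu := hdvd u hu' hmu
  have hdw := hdvd w hw' hmw
  have hmoved : ∀ v : Perm (Fin n), v ≠ 1 → ∃ y, v y ≠ y := by
    intro v hv
    by_contra h
    push Not at h
    exact hv (Equiv.ext h)
  obtain ⟨xu, hxu⟩ := hmoved u hu
  obtain ⟨xw, hxw⟩ := hmoved w hw
  have he0 : e ≠ 0 := fun h0 => by
    subst h0
    exact hxu (Function.minimalPeriod_eq_one_iff_isFixedPt.1 (Nat.dvd_one.1 (by simpa using hdu xu)))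
  have hpn : p ^ e ≤ n := by
    rw [← he, ← card_orb]
    simpa using Finset.card_le_univ (orb u x₀)
  by_cases h7 : 7 ≤ p ^ e
  · obtain ⟨ι, hι, -⟩ := exists_cycle_embedding u x₀ he
    obtain ⟨T, hT, hTc, hTm⟩ := exists_invariant_moved hp w e hdw hpn hw
    obtain ⟨ι', τ₀, hne, hτ, hι'⟩ := exists_finset_embedding hp w T hT hTc hTm hw'
    obtain ⟨π₁, π₂, hs, h1, h2⟩ := big_pattern hp hp3 rfl h7 τ₀ hne hτ
    exact pattern hp u w _ τ₀ π₁ π₂ ι ι' hι hι' hs h1 h2
  · obtain ⟨rfl, hp5⟩ : e = 1 ∧ (p = 3 ∨ p = 5) := by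
      have h1 : e = 1 := by
        by_contra h
        have := Nat.pow_le_pow_right (show 0 < p by omega) (show 2 ≤ e by omega)
        nlinarith
      subst h1
      rw [pow_one] at h7
      refine ⟨rfl, ?_⟩
      interval_cases p <;> first | omega | norm_num at hp
    rw [pow_one] at hdu hdw
    have hpu := moved_period hp u hdu xu hxu
    have hpw := moved_period hp w hdw xw hxw
    rcases hp5 with rfl | rfl
    swap
    · obtain ⟨ι, hι, -⟩ := exists_cycle_embedding u xu hpu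
      obtain ⟨ι', hι', -⟩ := exists_cycle_embedding w xw hpw
      exact pattern hp u w _ _ πA1 πA2 ι ι' hι hι' (by decide) (good_five _ (Or.inl rfl))
        (good_five _ (Or.inr rfl))
    · have h33 : ∀ (v : Perm (Fin n)) (x y : Fin n), Function.minimalPeriod v x = 3 →
          Function.minimalPeriod v y = 3 → y ∉ orb v x → 6 ≤ n := by
        intro v x y hx hy hxy
        obtain ⟨ι, -⟩ := embed_33 v x y hx hy hxy
        simpa using Fintype.card_le_of_embedding ι
      rcases two_orbits_or_fixed u xu hdu with ⟨yu, hyu, hyu'⟩ | hfu <;>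
        rcases two_orbits_or_fixed w xw hdw with ⟨yw, hyw, hyw'⟩ | hfw
      · obtain ⟨ι, hι⟩ := embed_33 u xu yu hpu hyu' hyu
        obtain ⟨ι', hι'⟩ := embed_33 w xw yw hpw hyw' hyw
        exact pattern hp u w _ _ πC1 πC2 ι ι' hι hι' (by decide) (good_C _ (Or.inl rfl))
          (good_C _ (Or.inr rfl))
      · obtain ⟨ι, hι⟩ := embed_33 u xu yu hpu hyu' hyu
        obtain ⟨ι', hι'⟩ := embed_3111 w xw hpw (h33 u xu yu hpu hyu' hyu) hfw
        exact pattern hp u w _ _ πD1 πC1 ι ι' hι hι' (by decide) (good_D _ (Or.inl rfl))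
          (good_D _ (Or.inr rfl))
      · obtain ⟨ι, hι⟩ := embed_3111 u xu hpu (h33 w xw yw hpw hyw' hyw) hfu
        obtain ⟨ι', hι'⟩ := embed_33 w xw yw hpw hyw' hyw
        obtain ⟨g, hg, hgood⟩ := pattern hp w u _ _ πD1 πC1 ι' ι hι' hι (by decide)
          (good_D _ (Or.inl rfl)) (good_D _ (Or.inr rfl))
        exact ⟨g⁻¹, by rw [Perm.sign_inv, hg], good_symm w u g hgood⟩
      · have two : ∀ (v : Perm (Fin n)) (x : Fin n), Function.minimalPeriod v x = 3 →
            (∀ y, y ∉ orb v x → v y = y) → ∃ ι : Fin 5 ↪ Fin n, ∀ k, v (ι k) = ι (σ311 k) := by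
          intro v x hx hfix
          have hc : 1 < (Finset.univ \ orb v x).card := by
            rw [Finset.card_univ_sdiff, Fintype.card_fin, card_orb, hx]; omega
          obtain ⟨a, ha, b, hb, hab⟩ := Finset.one_lt_card.1 hc
          exact embed_311 v x hx a b (hfix a (Finset.mem_sdiff.1 ha).2)
            (hfix b (Finset.mem_sdiff.1 hb).2) hab
        obtain ⟨ι, hι⟩ := two u xu hpu hfu
        obtain ⟨ι', hι'⟩ := two w xw hpw hfw
        exact pattern hp u w _ _ πB1 πB2 ι ι' hι hι' (by decide) (good_B _ (Or.inl rfl))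
          (good_B _ (Or.inr rfl))


/-- Let n ≥ 5, p ≥ 3 a prime, and u, w non-identity elements of p-power order in the alternating group A_n. Then there is g ∈ A_n such that u·(g w g⁻¹) does not have p-power order and ⟨u, g w g⁻¹⟩ is not solvable. -/
theorem result (n : ℕ) (hn : 5 ≤ n) (p : ℕ) (hp : p.Prime) (hp3 : 3 ≤ p) (u w : alternatingGroup (Fin n)) (hu : u ≠ 1) (hw : w ≠ 1)
    (hu' : ∃ k : ℕ, orderOf u = p ^ k) (hw' : ∃ k : ℕ, orderOf w = p ^ k) :
    ∃ g : alternatingGroup (Fin n), (¬ ∃ k : ℕ, orderOf (u * (g * w * g⁻¹)) = p ^ k) ∧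
      ¬ Group.IsSolvable ↥(Subgroup.closure ({u, g * w * g⁻¹} : Set (alternatingGroup (Fin n)))) := by
  obtain ⟨g, hg, hgood⟩ : ∃ g : Equiv.Perm (Fin n), Equiv.Perm.sign g = 1 ∧
      Good p (u : Equiv.Perm (Fin n)) (g * (w : Equiv.Perm (Fin n)) * g⁻¹) := by
    have hu1 : (u : Equiv.Perm (Fin n)) ≠ 1 := fun h => hu (Subtype.ext h)
    have hw1 : (w : Equiv.Perm (Fin n)) ≠ 1 := fun h => hw (Subtype.ext h)
    rw [← Subgroup.orderOf_coe u] at hu'
    rw [← Subgroup.orderOf_coe w] at hw'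
    have hne : (Finset.univ : Finset (Fin n)).Nonempty := ⟨⟨0, by omega⟩, Finset.mem_univ _⟩
    obtain ⟨xu, -, hxu⟩ := Finset.exists_max_image Finset.univ
      (Function.minimalPeriod ⇑(u : Equiv.Perm (Fin n))) hne
    obtain ⟨xw, -, hxw⟩ := Finset.exists_max_image Finset.univ
      (Function.minimalPeriod ⇑(w : Equiv.Perm (Fin n))) hne
    rcases le_total (Function.minimalPeriod ⇑(w : Equiv.Perm (Fin n)) xw)
      (Function.minimalPeriod ⇑(u : Equiv.Perm (Fin n)) xu) with h | h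
    · exact main_perm hn hp hp3 _ _ hu1 hw1 hu' hw' xu (fun y => hxu y (Finset.mem_univ y))
        (fun y => (hxw y (Finset.mem_univ y)).trans h)
    · obtain ⟨g, hg, hgood⟩ := main_perm hn hp hp3 _ _ hw1 hu1 hw' hu' xw
        (fun y => hxw y (Finset.mem_univ y)) (fun y => (hxu y (Finset.mem_univ y)).trans h)
      exact ⟨g⁻¹, by rw [Equiv.Perm.sign_inv, hg], good_symm _ _ g hgood⟩
  refine ⟨⟨g, Equiv.Perm.mem_alternatingGroup.2 hg⟩, fun ⟨k, hk⟩ => hgood.1 ⟨k, ?_⟩, fun hs => hgood.2 ?_⟩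
  · rw [← hk, ← Subgroup.orderOf_coe]
    rfl
  · have e : Subgroup.closure ({(u : Equiv.Perm (Fin n)), g * (w : Equiv.Perm (Fin n)) * g⁻¹} : Set _) =
        (Subgroup.closure ({u, ⟨g, Equiv.Perm.mem_alternatingGroup.2 hg⟩ * w *
          (⟨g, Equiv.Perm.mem_alternatingGroup.2 hg⟩ : alternatingGroup (Fin n))⁻¹} :
            Set (alternatingGroup (Fin n)))).map (alternatingGroup (Fin n)).subtype := by
      rw [MonoidHom.map_closure, Set.image_pair]
      rfl
    rw [e]
    exact Group.isSolvable_of_surjective ((alternatingGroup (Fin n)).subtype.subgroupMap_surjective _)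

end Cfsg.Agent.S2276
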