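import Cfsg.Statements.S2277
import Cfsg.Agent.Known.GenPairs

set_option autoImplicit false
open Cfsg

namespace Cfsg.Agent.S2277

/-- Let p ≥ 3 be prime and G a finite group with a Sylow p-subgroup P and a normal p-complement N (N normal, of order prime to p, with NP = G). Suppose P is generated by a subset C and also by a subset D, and that ⟨x c x⁻¹, d⟩ is a p-group for all x ∈ N, c ∈ C, d ∈ D. Then P centralizes N, so that G = N × P. -/
theorem result {G : Type*} [Group G] [Finite G] (p : ℕ) [Fact p.Prime] (hp3 : 3 ≤ p) (P : Sylow p G)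
    (N : Subgroup G) [N.Normal] (hN : (Nat.card N).Coprime p) (hNP : N ⊔ (P : Subgroup G) = ⊤)
    (C D : Set G) (hC : Subgroup.closure C = (P : Subgroup G)) (hD : Subgroup.closure D = (P : Subgroup G))
    (h : ∀ x ∈ N, ∀ c ∈ C, ∀ d ∈ D, IsPGroup p ↥(Subgroup.closure ({x * c * x⁻¹, d} : Set G))) :
    ⁅(P : Subgroup G), N⁆ = ⊥ := by
  have hp2 : p ≠ 2 := by omega
  have hPN : (P : Subgroup G) ≤ Subgroup.normalizer (N : Set G) := Subgroup.le_normalizer_of_normal
  rw [Subgroup.commutator_eq_bot_iff_le_centralizer]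
  refine Known.centralizes_of_pairs hp2 P P.2 C D hC hD N hPN hN ?_
  intro W hWN hPW x hx c hc d hd
  have hcP : c ∈ (P : Subgroup G) := hC ▸ Subgroup.subset_closure hc
  have hdP : d ∈ (P : Subgroup G) := hD ▸ Subgroup.subset_closure hd
  have hdisj : ∀ y ∈ W, y ∈ (P : Subgroup G) → y = 1 := by
    intro y hyW hyP
    obtain ⟨k, hk⟩ := IsPGroup.iff_card.mp P.2
    have h1 : orderOf y ∣ Nat.card N := Subgroup.orderOf_dvd_natCard N (hWN hyW)
    have h2 : orderOf y ∣ p ^ k := hk ▸ Subgroup.orderOf_dvd_natCard _ hyP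
    exact orderOf_eq_one_iff.mp (Nat.eq_one_of_dvd_coprimes (hN.pow_right k) h1 h2)
  set H := Subgroup.closure ({x * c * x⁻¹, d} : Set G) with hH
  set K := (P : Subgroup G) ⊔ W with hK
  have hHK : H ≤ K := by
    rw [hH, Subgroup.closure_le]
    rintro y (rfl | rfl)
    · exact K.mul_mem (K.mul_mem (Subgroup.mem_sup_right hx) (Subgroup.mem_sup_left hcP))
        (K.inv_mem (Subgroup.mem_sup_right hx))
    · exact Subgroup.mem_sup_left hdP
  have hHp : IsPGroup p (H.subgroupOf K) :=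
    (h x (hWN hx) c hc d hd).of_equiv (Subgroup.subgroupOfEquivOfLe hHK).symm
  obtain ⟨Q, hQ⟩ := hHp.exists_le_sylow
  obtain ⟨g, hg⟩ := MulAction.exists_smul_eq K (Sylow.subtype P le_sup_left) Q
  obtain ⟨n, hnW, π, hπ, hgn⟩ := Cfsg.Agent.Coprime.exists_mul_of_mem_sup' hPW g.2
  have key : ∀ y ∈ H, n⁻¹ * y * n ∈ (P : Subgroup G) := by
    intro y hy
    have h1 : (⟨y, hHK hy⟩ : K) ∈ (Q : Subgroup K) := hQ hy
    rw [← hg, Sylow.coe_subgroup_smul, Subgroup.mem_pointwise_smul_iff_inv_smul_mem] at h1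
    have h2 : (g : G)⁻¹ * y * (g : G) ∈ (P : Subgroup G) := by
      simpa [MulAut.smul_def, Subgroup.mem_subgroupOf] using h1
    rw [hgn] at h2
    have h3 := (P : Subgroup G).mul_mem ((P : Subgroup G).mul_mem hπ h2) ((P : Subgroup G).inv_mem hπ)
    convert h3 using 1
    group
  have hd' : Commute n d := by
    have h1 := key d (Subgroup.subset_closure (by simp))
    have h2 : n⁻¹ * d * n * d⁻¹ ∈ (P : Subgroup G) :=
      (P : Subgroup G).mul_mem h1 ((P : Subgroup G).inv_mem hdP)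
    have h3 : n⁻¹ * d * n * d⁻¹ ∈ W := by
      rw [show n⁻¹ * d * n * d⁻¹ = n⁻¹ * (d * n * d⁻¹) by group]
      exact W.mul_mem (W.inv_mem hnW) ((Subgroup.mem_normalizer_iff.mp (hPW hdP) n).mp hnW)
    have h4 := hdisj _ h3 h2
    calc n * d = n * (n⁻¹ * d * n * d⁻¹) * d := by rw [h4, mul_one]
      _ = d * n := by group
  have hm : n⁻¹ * x ∈ W := W.mul_mem (W.inv_mem hnW) hx
  have hc' : Commute (n⁻¹ * x) c := by
    have h1 := key _ (Subgroup.subset_closure (Set.mem_insert (x * c * x⁻¹) {d}))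
    have h2 : n⁻¹ * (x * c * x⁻¹) * n * c⁻¹ ∈ (P : Subgroup G) :=
      (P : Subgroup G).mul_mem h1 ((P : Subgroup G).inv_mem hcP)
    have h3 : n⁻¹ * (x * c * x⁻¹) * n * c⁻¹ ∈ W := by
      rw [show n⁻¹ * (x * c * x⁻¹) * n * c⁻¹ = (n⁻¹ * x) * (c * (x⁻¹ * n) * c⁻¹) by group]
      exact W.mul_mem hm ((Subgroup.mem_normalizer_iff.mp (hPW hcP) _).mp
        (W.mul_mem (W.inv_mem hx) hnW))
    have h4 := hdisj _ h3 h2
    calc n⁻¹ * x * c = (n⁻¹ * (x * c * x⁻¹) * n * c⁻¹) * c * (n⁻¹ * x) := by group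
      _ = c * (n⁻¹ * x) := by rw [h4, one_mul]
  exact ⟨n⁻¹ * x, hm, n, hnW, hc', hd', by group⟩

end Cfsg.Agent.S2277
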