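import Cfsg.Statements.S2325
import Cfsg.Agent.Linear.Classes
open Cfsg.Agent.Linear.Classes Matrix

set_option autoImplicit false
open Cfsg

namespace Cfsg.Agent.S2325

/-- Over a finite field with q elements, q odd, the special linear group SL₂ has exactly q + 4 conjugacy classes. -/
theorem result {F : Type*} [Field F] [Fintype F] (hodd : Odd (Fintype.card F)) :
    Nat.card (ConjClasses (Matrix.SpecialLinearGroup (Fin 2) F)) = Fintype.card F + 4 := by
  classical
  have h2 : (2 : F) ≠ 0 := by
    refine Ring.two_ne_zero fun e => ?_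
    haveI : CharP F 2 := ringChar.of_eq e
    exact (Nat.not_even_iff_odd.2 hodd) ((FiniteField.even_card_iff_char_two).1 e |> Nat.even_iff.2)
  obtain ⟨ν, hν⟩ : ∃ ν : F, ¬ IsSquare ν := FiniteField.exists_nonsquare (by
    intro e; exact h2 (by have h0 : ((2 : ℕ) : F) = 0 := by rw [ringChar.spec, e]
                          simpa using h0))
  have hν0 : ν ≠ 0 := by rintro rfl; exact hν ⟨0, by simp⟩
  let sgn : Fin 2 → F := ![1, -1]
  have hsq : ∀ i, sgn i ^ 2 = 1 := by intro i; fin_cases i <;> simp [sgn]
  have hsgn : ∀ e : F, e ^ 2 = 1 → ∃ i, sgn i = e := fun e he => by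
    rcases sq_eq_one_iff.1 he with r | r
    · exact ⟨0, r.symm⟩
    · exact ⟨1, r.symm⟩
  have hinj : Function.Injective sgn := by
    intro i j h
    fin_cases i <;> fin_cases j <;> simp [sgn] at h ⊢
    all_goals exact h2 (by first | linear_combination h | linear_combination -h)
  let sc : Fin 2 → Matrix.SpecialLinearGroup (Fin 2) F := fun i =>
    ⟨sgn i • (1 : Matrix (Fin 2) (Fin 2) F), by simp [Matrix.det_smul, hsq]⟩
  let tw : Fin 2 → Matrix.SpecialLinearGroup (Fin 2) F := fun i =>
    ⟨!![0, -ν; ν⁻¹, 2 * sgn i], by simp [Matrix.det_fin_two, hν0]⟩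
  have htw : ∀ i, Nonscalar (tw i : Matrix (Fin 2) (Fin 2) F) := fun i c h => by
    have := congrFun (congrFun h 1) 0
    simp [tw, hν0] at this
  have htwtr : ∀ i, (tw i : Matrix (Fin 2) (Fin 2) F).trace = 2 * sgn i := fun i => by
    simp [tw, Matrix.trace_fin_two]
  have hsquare : ∀ i (x : F × F), normForm (2 * sgn i) 1 x = (x.1 + sgn i * x.2) ^ 2 := fun i x => by
    simp only [normForm]; linear_combination -x.2 ^ 2 * hsq i
  let P : Matrix (Fin 2) (Fin 2) F := !![ν, 0; 0, 1]
  have hP : ∀ i, (tw i : Matrix (Fin 2) (Fin 2) F) * P = P * (companionSL (2 * sgn i) : Matrix (Fin 2) (Fin 2) F) := by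
    intro i
    simp only [tw, P, companionSL_val, companion]
    ext a b
    fin_cases a <;> fin_cases b <;> simp [Matrix.mul_apply, Fin.sum_univ_two, hν0]
  have hPdet : P.det ≠ 0 := by simpa [P, Matrix.det_fin_two] using hν0
  have hnc : ∀ i, ¬ IsConj (tw i) (companionSL (2 * sgn i)) := by
    intro i h
    obtain ⟨x, hx⟩ := (isConj_SL_iff (htw i) hPdet (hP i)).1 h
    rw [htwtr, hsquare] at hx
    have : P.det = ν := by simp [P, Matrix.det_fin_two]
    rw [this] at hx
    exact hν ⟨(x.1 + sgn i * x.2)⁻¹, by rw [← mul_inv, ← pow_two]; exact eq_inv_of_mul_eq_one_right hx⟩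
  let f : Fin 2 ⊕ F ⊕ Fin 2 → ConjClasses (Matrix.SpecialLinearGroup (Fin 2) F) :=
    Sum.elim (fun i => ConjClasses.mk (sc i))
      (Sum.elim (fun t => ConjClasses.mk (companionSL t)) (fun i => ConjClasses.mk (tw i)))
  have hscal : ∀ i g, IsConj (sc i) g → g = sc i := by
    intro i g h
    obtain ⟨x, hx⟩ := isConj_iff.1 h
    rw [← hx, mul_inv_eq_iff_eq_mul]
    apply Subtype.ext
    show (x : Matrix (Fin 2) (Fin 2) F) * (sgn i • 1) = (sgn i • 1) * (x : Matrix (Fin 2) (Fin 2) F)
    simp
  have hscn : ∀ i, ¬ Nonscalar (sc i : Matrix (Fin 2) (Fin 2) F) := fun i h => h (sgn i) rfl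
  have hbij : Function.Bijective f := by
    constructor
    · rintro (i | t | i) (j | s | j) h <;>
        simp only [f, Sum.elim_inl, Sum.elim_inr, ConjClasses.mk_eq_mk_iff_isConj] at h
      · have := congrArg (fun g : Matrix.SpecialLinearGroup (Fin 2) F => (g : Matrix (Fin 2) (Fin 2) F) 0 0) (hscal _ _ h)
        simp [sc] at this
        rw [hinj this]
      · exact absurd (companion_nonscalar s 1) (by rw [← companionSL_val, hscal _ _ h]; exact hscn i)
      · exact absurd (htw j) (by rw [hscal _ _ h]; exact hscn i)
      · exact absurd (companion_nonscalar t 1) (by rw [← companionSL_val, hscal _ _ h.symm]; exact hscn j)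
      · have := trace_eq_of_isConj h
        simp [companionSL_val, trace_companion] at this
        rw [this]
      · have := trace_eq_of_isConj h
        rw [companionSL_val, trace_companion, htwtr] at this
        exact absurd (this ▸ h.symm) (hnc j)
      · exact absurd (htw i) (by rw [hscal _ _ h.symm]; exact hscn j)
      · have := trace_eq_of_isConj h
        rw [companionSL_val, trace_companion, htwtr] at this
        exact absurd (this ▸ h) (hnc i)
      · have := trace_eq_of_isConj h
        rw [htwtr, htwtr] at this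
        rw [hinj (mul_left_cancel₀ h2 this)]
    · intro C
      obtain ⟨g, rfl⟩ := ConjClasses.exists_rep C
      by_cases hg : Nonscalar (g : Matrix (Fin 2) (Fin 2) F)
      · set t := (g : Matrix (Fin 2) (Fin 2) F).trace with htdef
        by_cases hc : IsConj g (companionSL t)
        · exact ⟨Sum.inr (Sum.inl t), ConjClasses.mk_eq_mk_iff_isConj.2 hc.symm⟩
        · have ht : t ^ 2 = 4 * 1 := by
            by_contra hne
            exact hc (isConj_SL_of_trace hg (companion_nonscalar _ _)
              (by simp [companionSL_val, trace_companion, htdef]) (Or.inr hne))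
          obtain ⟨i, hi⟩ := hsgn (t / 2) (by field_simp; linear_combination ht)
          have hi2 : t = 2 * sgn i := by rw [hi]; field_simp
          obtain ⟨Q, hQ, hQe⟩ := exists_intertwiner hg
            (companion_nonscalar t (1 : F)) (by rw [trace_companion]) (by rw [det_companion, g.det_coe])
          obtain ⟨R, hR, hRe⟩ := exists_intertwiner hg (htw i) (by rw [htwtr, ← hi2]) (by rw [g.det_coe, (tw i).det_coe])
          refine ⟨Sum.inr (Sum.inr i), ConjClasses.mk_eq_mk_iff_isConj.2 ?_⟩
          symm
          refine (isConj_SL_iff hg hR hRe).2 ?_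
          have hns : ¬ IsSquare Q.det := by
            rintro ⟨a, ha⟩
            refine hc ((isConj_SL_iff hg hQ hQe).2 ⟨(a⁻¹, 0), ?_⟩)
            have ha0 : a ≠ 0 := by rintro rfl; exact hQ (by simp [ha])
            simp only [normForm]; rw [ha]; field_simp; ring
          have hcomp : (g : Matrix (Fin 2) (Fin 2) F) * (R * P) = (R * P) * companion t 1 := by
            rw [← Matrix.mul_assoc, hRe, Matrix.mul_assoc, hP i, companionSL_val, ← hi2,
              Matrix.mul_assoc]
          have hRP : ¬ IsSquare (R * P).det := by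
            rintro ⟨a, ha⟩
            refine hc ((isConj_SL_iff hg (by rw [Matrix.det_mul]; exact mul_ne_zero hR hPdet) hcomp).2
              ⟨(a⁻¹, 0), ?_⟩)
            have ha0 : a ≠ 0 := by rintro rfl; exact mul_ne_zero hR hPdet (by rw [← Matrix.det_mul, ha, mul_zero])
            simp only [normForm]; rw [ha]; field_simp; ring
          rw [Matrix.det_mul, show P.det = ν by simp [P, Matrix.det_fin_two]] at hRP
          have hRs : IsSquare R.det := by
            by_contra hn
            have hF : ringChar F ≠ 2 := fun e => h2 (by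
              have h0 : ((2 : ℕ) : F) = 0 := by rw [ringChar.spec, e]
              simpa using h0)
            refine hRP ((quadraticChar_one_iff_isSquare (mul_ne_zero hR hν0)).1 ?_)
            rw [map_mul, quadraticChar_neg_one_iff_not_isSquare.2 hn,
              quadraticChar_neg_one_iff_not_isSquare.2 hν]
            rfl
          obtain ⟨a, ha⟩ := hRs
          have ha0 : a ≠ 0 := by rintro rfl; exact hR (by simp [ha])
          exact ⟨(a⁻¹, 0), by simp only [normForm]; rw [ha]; field_simp; ring⟩
      · obtain ⟨c, hc, hgc⟩ := scalar_SL hg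
        obtain ⟨i, hi⟩ := hsgn c hc
        exact ⟨Sum.inl i, congrArg _ (Subtype.ext (by simp [sc, hgc, hi]))⟩
  rw [← Nat.card_eq_of_bijective f hbij, Nat.card_sum, Nat.card_sum, Nat.card_eq_fintype_card,
    Fintype.card_fin, Nat.card_eq_fintype_card]
  omega

end Cfsg.Agent.S2325
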