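import Cfsg.Statements.S2419
import Cfsg.Agent.Coxeter.Checks
import Cfsg.Agent.Spec.CoxCenter
-- import your own Cfsg.Agent.* helpers here

set_option autoImplicit false
open Cfsg

namespace Cfsg.Agent.S2419

open Cfsg.Agent.CoxTower Cfsg.Agent.CoxTower.Tables Cfsg.Agent.Spec.CoxCenter

/-- `T` as a finset of simple reflections. -/
theorem of_check {n : ℕ} (M : CoxeterMatrix (Fin n)) {mm : ℕ → ℕ → ℕ} {Ls : List Level}
    (hm : ∀ a, mm a a = 1) (hc : check mm Ls = true) (hn : Ls.length = n)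
    (hM : ∀ i j : Fin n, M i j = mm i.val j.val) (T : List (Fin n)) (p : List (ℕ × ℕ))
    (hchk : (List.range n).all (fun s =>
      (progRun Ls (actWord Ls (List.range n) 0 :: T.map (fun i => act Ls i.val 0)) p).contains
        (act Ls s 0)) = true)
    (hdistinct : T.Nodup ∧ ∀ i ∈ T, ∀ j ∈ T, act Ls i.val 0 = act Ls j.val 0 → i = j) :
    ∃ T' : Finset M.Group, T'.card = T.length ∧ (∀ t ∈ T', ∃ (g : M.Group) (i : Fin n), t = g * M.simple i * g⁻¹) ∧
      Subgroup.closure (({((List.finRange n).map M.simple).prod} : Set M.Group) ∪ ↑T') = ⊤ := by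
  classical
  refine ⟨T.toFinset.image M.simple, ?_, ?_, ?_⟩
  · rw [Finset.card_image_of_injOn, List.toFinset_card_of_nodup hdistinct.1]
    intro i hi j hj e
    simp only [List.coe_toFinset, Set.mem_setOf_eq] at hi hj
    refine hdistinct.2 i hi j hj ?_
    have hR : Rels mm (gen M) Ls.length := by rw [hn]; exact rels M hM
    refine elem_injOn M hm hc hn hM (act_lt hc _ (hn ▸ i.isLt) 0 (card_pos hc))
      (act_lt hc _ (hn ▸ j.isLt) 0 (card_pos hc)) ?_
    rw [← elem_act _ hm hc hR _ (hn ▸ i.isLt) 0 (card_pos hc),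
      ← elem_act _ hm hc hR _ (hn ▸ j.isLt) 0 (card_pos hc), gen_val, gen_val, e]
  · intro t ht
    obtain ⟨i, -, rfl⟩ := Finset.mem_image.1 ht
    exact ⟨1, i, by simp⟩
  · rw [← closure_eq_top_of_check M hm hc hn hM T p hchk]
    congr 2
    ext y
    simp [eq_comm]

/-- The Coxeter groups of types B₂, G₂, E₆, E₇, E₈ are generated by the Coxeter element `s₁ s₂ ⋯ s_l` together with one suitable reflection (a conjugate of a simple reflection); for types D₄ and F₄ the Coxeter element together with two suitable reflections suffices. -/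
theorem result (c : (Σ n : ℕ, CoxeterMatrix (Fin n)) × ℕ)
    (hc : c ∈ [(⟨2, CoxeterMatrix.B 2⟩, 1), (⟨2, CoxeterMatrix.G₂⟩, 1), (⟨4, Cfsg.Lie.coxeterD4⟩, 2), (⟨4, CoxeterMatrix.F₄⟩, 2),
      (⟨6, CoxeterMatrix.E₆⟩, 1), (⟨7, CoxeterMatrix.E₇⟩, 1), (⟨8, CoxeterMatrix.E₈⟩, 1)]) :
    ∃ T : Finset c.1.2.Group, T.card = c.2 ∧ (∀ t ∈ T, ∃ (g : c.1.2.Group) (i : Fin c.1.1), t = g * c.1.2.simple i * g⁻¹) ∧
      Subgroup.closure (({((List.finRange c.1.1).map c.1.2.simple).prod} : Set c.1.2.Group) ∪ ↑T) = ⊤ := by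
  simp only [List.mem_cons, List.not_mem_nil, or_false] at hc
  rcases hc with rfl | rfl | rfl | rfl | rfl | rfl | rfl
  · exact of_check (n := 2) _ (listM_self _) checkB2 rfl matrixB2 [0] [(1, 0)] (by decide +kernel) (by decide +kernel)
  · exact of_check (n := 2) _ (listM_self _) checkG2 rfl matrixG2 [0] [(1, 0)] (by decide +kernel) (by decide +kernel)
  · exact of_check (n := 4) _ (listM_self _) checkD4 rfl matrixD4 [1,2] [(0, 0), (3, 0), (4, 0), (5, 0), (6, 1), (7, 0), (6, 2), (9, 0), (1, 10), (11, 1)] (by decide +kernel) (by decide +kernel)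
  · exact of_check (n := 4) _ (listM_self _) checkF4 rfl matrixF4 [1,3] [(0, 0), (3, 0), (4, 0), (5, 0), (6, 0), (7, 0), (8, 0), (9, 0), (10, 0), (11, 0), (12, 1), (13, 0), (12, 2), (15, 0)] (by decide +kernel) (by decide +kernel)
  · exact of_check (n := 6) _ (listM_self _) checkE6 rfl matrixE6 [5] [(0, 0), (2, 0), (3, 0), (4, 0), (5, 0), (6, 0), (7, 0), (8, 0), (9, 0), (10, 0), (11, 1), (12, 0), (11, 13), (14, 0), (11, 15), (16, 0), (11, 17), (18, 0), (11, 19), (20, 0), (11, 21), (22, 0), (15, 21), (24, 15), (11, 23), (26, 0)] (by decide +kernel) (by decide +kernel)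
  · exact of_check (n := 7) _ (listM_self _) checkE7 rfl matrixE7 [4] [(0, 0), (2, 0), (3, 0), (4, 0), (5, 0), (6, 0), (7, 0), (8, 0), (9, 0), (10, 0), (11, 0), (12, 0), (13, 0), (14, 0), (15, 0), (16, 0), (17, 1), (18, 0), (17, 19), (20, 0), (1, 19), (22, 1), (17, 21), (24, 0), (17, 25), (26, 0), (17, 27), (28, 0), (23, 27), (30, 23), (17, 29), (32, 0), (19, 29), (34, 19), (17, 33), (36, 0), (21, 33), (38, 21), (17, 37), (40, 0)] (by decide +kernel) (by decide +kernel)
  · exact of_check (n := 8) _ (listM_self _) checkE8 rfl matrixE8 [7] [(0, 0), (2, 0), (3, 0), (4, 0), (5, 0), (6, 0), (7, 0), (8, 0), (9, 0), (10, 0), (11, 0), (12, 0), (13, 0), (14, 0), (15, 0), (16, 0), (17, 0), (18, 0), (19, 0), (20, 0), (21, 0), (22, 0), (23, 0), (24, 0), (25, 0), (26, 0), (27, 0), (28, 0), (29, 1), (30, 0), (29, 31), (32, 0), (1, 31), (34, 1), (29, 33), (36, 0), (31, 33), (38, 31), (29, 37), (40, 0), (33, 37), (42, 33), (29, 41), (44, 0), (41, 43), (46, 41), (29,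 45), (48, 0), (35, 45), (50, 35), (29, 49), (52, 0), (39, 49), (54, 39), (29, 53), (56, 0), (47, 53), (58, 47), (51, 53), (60, 51), (55, 57), (62, 55)] (by decide +kernel) (by decide +kernel)
end Cfsg.Agent.S2419
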