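import Cfsg.Statements.S2432
import Cfsg.Agent.Spec.SLTwoPrincipal
-- import your own Cfsg.Agent.* helpers here

set_option autoImplicit false
open Cfsg

namespace Cfsg.Agent.S2432

open Cfsg.Agent Cfsg.Agent.Spec.Principal

open scoped Classical in
theorem sum_units_mulChar {F : Type*} [Field F] [Fintype F] (χ : MulChar F ℂ) [Decidable (χ = 1)] :
    ∑ a : Fˣ, χ (a : F) = if χ = 1 then (Fintype.card Fˣ : ℂ) else 0 := by
  classical
  have h : ∑ a : Fˣ, χ (a : F) = ∑ a : F, χ a := by
    rw [← Finset.sum_erase (Finset.univ) (a := (0 : F)) (MulChar.map_zero χ)]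
    refine Finset.sum_bij (fun a _ => (a : F)) (by simp) (fun a _ b _ h => Units.ext h) (fun b hb => ?_) (fun _ _ => rfl)
    exact ⟨Units.mk0 b (Finset.ne_of_mem_erase hb), Finset.mem_univ _, rfl⟩
  split_ifs with h1
  · subst h1
    rw [h, MulChar.sum_one_eq_card_units]
  · rw [h, MulChar.sum_eq_zero_of_ne_one h1]

/-- Coordinates on the upper triangular subgroup. -/
noncomputable def coords {F : Type*} [Field F] (p : Fˣ × F) : ↥(borel (F := F)) :=
  ⟨⟨!![(p.1 : F), p.2; 0, (↑p.1⁻¹ : F)], by simp [Matrix.det_fin_two]⟩, mem_borel.2 rfl⟩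

theorem coords_bijective {F : Type*} [Field F] : Function.Bijective (coords (F := F)) := by
  constructor
  · rintro ⟨a, x⟩ ⟨b, y⟩ h
    have h' := congrArg (fun m : ↥(borel (F := F)) => ((m : Matrix.SpecialLinearGroup (Fin 2) F) : Matrix (Fin 2) (Fin 2) F)) h
    have h0 := congrFun (congrFun h' 0) 0
    have h1 := congrFun (congrFun h' 0) 1
    simp [coords] at h0 h1
    exact Prod.ext (Units.ext (by simpa using h0)) h1
  · intro m
    set A := ((m : Matrix.SpecialLinearGroup (Fin 2) F) : Matrix (Fin 2) (Fin 2) F) with hA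
    have h10 : A 1 0 = 0 := mem_borel.1 m.2
    have hdet : A 0 0 * A 1 1 - A 0 1 * A 1 0 = 1 := by
      rw [← Matrix.det_fin_two]; exact (m : Matrix.SpecialLinearGroup (Fin 2) F).det_coe
    rw [h10, mul_zero, sub_zero] at hdet
    have h00 : A 0 0 ≠ 0 := left_ne_zero_of_mul_eq_one hdet
    refine ⟨(Units.mk0 _ h00, A 0 1), Subtype.ext (Subtype.ext (Matrix.ext fun i j => ?_))⟩
    fin_cases i <;> fin_cases j
    · simp [coords, ← hA]
    · simp [coords, ← hA]
    · simp [coords, ← hA, h10]
    · simpa [coords, ← hA] using inv_eq_of_mul_eq_one_right hdet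

theorem inner_aux {F : Type*} [Field F] [Fintype F] [Fintype (Matrix.SpecialLinearGroup (Fin 2) F)]
    [Fintype ↥(borel (F := F))] (α β : MulChar F ℂ) [Decidable (α = β)] [Decidable (α = β⁻¹)] :
    Cfsg.classInner (lift α) (fun b => Cfsg.indFun borel (lift β) (b : Matrix.SpecialLinearGroup (Fin 2) F)) =
      (if α = β then 1 else 0) + (if α = β⁻¹ then 1 else 0) := by
  classical
  unfold Cfsg.classInner
  rw [Nat.card_eq_fintype_card, ← Fintype.card_of_bijective (coords_bijective (F := F)),
    ← Fintype.sum_bijective _ coords_bijective _ _ (fun _ => rfl), Fintype.sum_prod_type]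
  have key : ∀ a : Fˣ, ∑ x : F, lift α (coords (a, x)) *
      (starRingEnd ℂ) (Cfsg.indFun borel (lift β) ((coords (a, x) : ↥(borel (F := F))) : Matrix.SpecialLinearGroup (Fin 2) F)) =
      (Fintype.card F : ℂ) * ((α * β⁻¹) (a : F) + (α * β) (a : F)) := by
    intro a
    have hval : ∀ x : F, Cfsg.indFun borel (lift β) ((coords (a, x) : ↥(borel (F := F))) : Matrix.SpecialLinearGroup (Fin 2) F) =
        β (a : F) + ∑ c : F, if ((↑a⁻¹ : F) - a) * c = x then β (↑a⁻¹ : F) else 0 := by
      intro x
      rw [indFun_eq]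
      simp [coords, sub_eq_zero]
    have hl : ∀ x : F, lift α (coords (a, x)) = α (a : F) := fun x => rfl
    simp only [hval, hl, ← Finset.mul_sum]
    rw [← map_sum, Finset.sum_add_distrib, Finset.sum_comm]
    have hinv : β (↑a⁻¹ : F) = β⁻¹ (a : F) := by
      rw [MulChar.inv_apply', Units.val_inv_eq_inv_val]
    simp [hinv, starRingEnd_apply, MulChar.star_apply', mul_add, MulChar.mul_apply, MulChar.inv_apply' β, inv_inv]
    ring
  simp only [key, ← Finset.mul_sum, Finset.sum_add_distrib, sum_units_mulChar, mul_inv_eq_one,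
    mul_eq_one_iff_eq_inv, inv_inv, Fintype.card_prod]
  have hq : (Fintype.card F : ℂ) ≠ 0 := by simp
  have hu : (Fintype.card Fˣ : ℂ) ≠ 0 := by simp
  push_cast
  split_ifs <;> field_simp <;> ring

/-- Let F be a finite field with q elements, q odd, and for a multiplicative character α of F let R(α) be the function on SL₂ induced from the linear character b ↦ α(b₁₁) of the upper triangular subgroup. For multiplicative characters α, β the inner product of R(α) and R(β) equals the number of true statements among 'α = β' and 'α = β⁻¹' (the Mackey formula for the upper triangular subgroup, whose intersection with a conjugate by the Weyl element is the diagonal subgroup). -/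
theorem result {F : Type*} [Field F] [Fintype F] [DecidableEq F] (hodd : Odd (Fintype.card F))
    (α β : MulChar F ℂ) [Decidable (α = β)] [Decidable (α = β⁻¹)] :
    Cfsg.classInner (Cfsg.indFun ((Cfsg.upperTriangularGL 2 F).comap Matrix.SpecialLinearGroup.toGL) (fun b => α (((b : Matrix.SpecialLinearGroup (Fin 2) F) : Matrix (Fin 2) (Fin 2) F) 0 0))) (Cfsg.indFun ((Cfsg.upperTriangularGL 2 F).comap Matrix.SpecialLinearGroup.toGL) (fun b => β (((b : Matrix.SpecialLinearGroup (Fin 2) F) : Matrix (Fin 2) (Fin 2) F) 0 0))) =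
      (if α = β then 1 else 0) + (if α = β⁻¹ then 1 else 0) := by
  classical
  rw [CharInd.classInner_indFun_left _ _ (CharInd.indFun_isClassFunction _ _)]
  exact inner_aux α β
end Cfsg.Agent.S2432
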