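import Cfsg.Statements.S2470
import Cfsg.Agent.SpecGL.Primes

set_option autoImplicit false
open Cfsg

namespace Cfsg.Agent.S2470

/-- Adjacency of an odd prime and the characteristic in the prime graph of PSL(n,q): let F be a finite field of characteristic p with q elements, n ≥ 2 with PSL(n,F) simple, and let r ≠ p be an odd prime dividing the order of PSL(n,F), with k the multiplicative order of q modulo r. Then PSL(n,F) has NO element of order r·p if and only if either k > n − 2, or n = 3, r = 3 and 3 divides q − 1 exactly once. -/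
theorem result {F : Type*} [Field F] [Fintype F] (p : ℕ) [Fact p.Prime] [CharP F p] (n : ℕ) (hn : 2 ≤ n) (hsmall : n = 2 → 4 ≤ Fintype.card F)
    (r : ℕ) (hr : r.Prime) (hr2 : r ≠ 2) (hrp : r ≠ p) (hrG : r ∣ Nat.card (Matrix.ProjectiveSpecialLinearGroup (Fin n) F))
    (k : ℕ) (hk : k = orderOf ((Fintype.card F : ℕ) : ZMod r)) :
    (r * p ∉ Set.range (orderOf : Matrix.ProjectiveSpecialLinearGroup (Fin n) F → ℕ)) ↔
      (n - 2 < k ∨ (n = 3 ∧ r = 3 ∧ 3 ∣ Fintype.card F - 1 ∧ ¬ 9 ∣ Fintype.card F - 1)) := by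
  haveI : NeZero n := ⟨by omega⟩
  obtain ⟨hkpos, hkd⟩ := SpecGL.orderOf_pos_of_not_dvd (F := F) hr (SpecGL.not_dvd_card p hr hrp).1
  rw [← hk] at hkpos hkd
  rcases (show k = 1 ∨ 2 ≤ k by omega) with h1 | h2k
  · subst h1
    rw [pow_one] at hkd
    rcases (show n = 2 ∨ 3 ≤ n by omega) with h2 | h3
    · subst h2
      refine ⟨fun _ => Or.inl (by norm_num), fun _ => ?_⟩
      exact SpecGL.not_exists_two p hr hrp (hsmall rfl)
    by_cases hsp : n = 3 ∧ r = 3 ∧ ¬ 9 ∣ Fintype.card F - 1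
    · obtain ⟨rfl, rfl, h9⟩ := hsp
      exact ⟨fun _ => Or.inr ⟨rfl, rfl, hkd, h9⟩, fun _ => SpecGL.not_exists_three p hrp hkd h9⟩
    · refine ⟨fun h => absurd ?_ h, fun h => ?_⟩
      · exact SpecGL.exists_of_eq_one p hr hrp hr2 hkd h3 fun ha hb => by
          by_contra h9; exact hsp ⟨ha, hb, h9⟩
      · rcases h with h | ⟨ha, hb, -, h9⟩
        · omega
        · exact absurd ⟨ha, hb, h9⟩ hsp
  · refine ⟨fun h => Or.inl ?_, ?_⟩
    · by_contra hh
      exact h (SpecGL.exists_of_two_le p hr hrp hk.symm h2k (by omega))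
    · rintro (h | ⟨rfl, rfl, h3, -⟩)
      · rintro ⟨x, hx⟩
        have := SpecGL.le_of_exists p hr hrp hk.symm h2k hx
        omega
      · have := SpecGL.coprime_sub_one hr (hk ▸ h2k)
        rw [Nat.Prime.coprime_iff_not_dvd hr] at this
        exact absurd h3 this

end Cfsg.Agent.S2470
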