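import Cfsg.Statements.S2477
import Cfsg.Agent.Alt.Orders
-- import your own Cfsg.Agent.* helpers here

set_option autoImplicit false
open Cfsg

namespace Cfsg.Agent.S2477

/-- All lists of integers at least two, of length at most `k` and of sum at most `n`. -/
def comps : ℕ → ℕ → List (List ℕ)
  | 0, _ => [[]]
  | k + 1, n => [] :: (List.range' 2 (n - 1)).flatMap fun a => (comps k (n - a)).map (a :: ·)

theorem mem_comps : ∀ (l : List ℕ) (k n : ℕ), (∀ a ∈ l, 2 ≤ a) → l.sum ≤ n → l.length ≤ k →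
    l ∈ comps k n
  | [], 0, n, _, _, _ => by simp [comps]
  | [], _ + 1, n, _, _, _ => by simp [comps]
  | a :: l, 0, n, _, _, h => by simp at h
  | a :: l, k + 1, n, h2, hs, hl => by
    rw [List.sum_cons] at hs
    rw [List.length_cons] at hl
    have ha := h2 a List.mem_cons_self
    have := mem_comps l k (n - a) (fun b hb => h2 b (List.mem_cons_of_mem a hb)) (by omega) (by omega)
    simp only [comps, List.mem_cons, List.mem_flatMap, List.mem_range', List.mem_map]
    exact Or.inr ⟨a, ⟨a - 2, by omega, by omega⟩, l, this, rfl⟩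

/-- The set of element orders of the alternating group of degree 10 is {1, 2, 3, 4, 5, 6, 7, 8, 9, 10, 12, 15, 21}. -/
theorem result : Set.range (orderOf : alternatingGroup (Fin 10) → ℕ) = {1, 2, 3, 4, 5, 6, 7, 8, 9, 10, 12, 15, 21} := by
  have hfwd : ∀ l ∈ comps 5 10, (l.sum + l.length) % 2 = 0 →
      (↑l : Multiset ℕ).lcm ∈ ([1, 2, 3, 4, 5, 6, 7, 8, 9, 10, 12, 15, 21] : List ℕ) := by
    decide +kernel
  have hbwd : ∀ k ∈ ([1, 2, 3, 4, 5, 6, 7, 8, 9, 10, 12, 15, 21] : List ℕ),
      ∃ l ∈ comps 5 10, (l.sum + l.length) % 2 = 0 ∧ l.sum ≤ 10 ∧ (∀ a ∈ l, 2 ≤ a) ∧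
        (↑l : Multiset ℕ).lcm = k := by
    decide +kernel
  ext k
  rw [Alt.mem_range_orderOf_alt_iff]
  constructor
  · rintro ⟨m, h1, h2, h3, rfl⟩
    induction m using Quot.ind with
    | mk l =>
      have hlen : l.length * 2 ≤ l.sum := by
        simpa [mul_comm] using List.card_nsmul_le_sum l 2 h2
      have h10 : l.sum ≤ 10 := by simpa [Fintype.card_fin] using h1
      have h := hfwd l (mem_comps l 5 10 h2 h10 (by omega))
        (by simpa [Nat.even_iff] using h3)
      simpa using h
  · intro hk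
    obtain ⟨l, -, h1, h2, h3, h4⟩ := hbwd k (by simpa using hk)
    exact ⟨↑l, by simpa [Fintype.card_fin] using h2, h3, by simpa [Nat.even_iff] using h1, h4⟩

end Cfsg.Agent.S2477
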