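import Cfsg.Statements.S2530
import Cfsg.Agent.Lib.CoxeterSym

set_option autoImplicit false
open Cfsg

namespace Cfsg.Agent.S2530

/-- The Coxeter presentation of the symmetric group: for every n, the symmetric group on n+1 letters is the Coxeter group of type A_n with the adjacent transpositions (i, i+1) as simple reflections; that is, it is presented by generators r_1, …, r_n subject to r_i² = 1, (r_i r_j)² = 1 for |i − j| > 1 and (r_i r_{i+1})³ = 1, with r_i mapping to (i, i+1). -/
theorem result (n : ℕ) :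
    ∃ cs : CoxeterSystem (CoxeterMatrix.A n) (Equiv.Perm (Fin (n + 1))), ∀ i : Fin n, cs.simple i = Equiv.swap i.castSucc i.succ := by
  classical
  let M := CoxeterMatrix.A n
  let g : ℕ → M.Group := fun i => if h : i < n then M.simple ⟨i, h⟩ else 1
  have hrel : ∀ i j : Fin n, (M.simple i * M.simple j) ^ M.M i j = 1 := fun i j => M.toCoxeterSystem.simple_mul_simple_pow i j
  have hsq : ∀ i : Fin n, M.simple i * M.simple i = 1 := fun i => M.toCoxeterSystem.simple_mul_simple_self i
  have hrelA : CoxeterSym.RelA g n := by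
    refine ⟨fun i hi => by simp [g, hi, hsq], ?_, ?_⟩
    · intro i hi
      simp only [g, dif_pos (show i < n by omega), dif_pos hi]
      have h := hrel ⟨i, by omega⟩ ⟨i + 1, hi⟩
      have h3 : M.M ⟨i, by omega⟩ ⟨i + 1, hi⟩ = 3 := by simp [M, CoxeterMatrix.A]
      rw [h3, pow_succ, pow_succ, pow_one] at h
      set a := M.simple (⟨i, by omega⟩ : Fin n)
      set b := M.simple (⟨i + 1, hi⟩ : Fin n)
      have ha : a⁻¹ = a := inv_eq_of_mul_eq_one_left (hsq _)
      have hb : b⁻¹ = b := inv_eq_of_mul_eq_one_left (hsq _)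
      calc a * b * a = (b * a * b)⁻¹ := eq_inv_of_mul_eq_one_left (by simpa [mul_assoc] using h)
        _ = b * a * b := by simp [mul_inv_rev, ha, hb, mul_assoc]
    · intro i j h1 h2
      simp only [g, dif_pos h2, dif_pos (show i < n by omega)]
      have h := hrel ⟨i, by omega⟩ ⟨j, h2⟩
      have h2' : M.M ⟨i, by omega⟩ ⟨j, h2⟩ = 2 := by
        simp only [M, CoxeterMatrix.A, Matrix.of_apply]
        rw [if_neg (by simp [Fin.ext_iff]; omega), if_neg (by simp; omega)]
      rw [h2', pow_two] at h
      set a := M.simple (⟨i, by omega⟩ : Fin n)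
      set b := M.simple (⟨j, h2⟩ : Fin n)
      have ha : a⁻¹ = a := inv_eq_of_mul_eq_one_left (hsq _)
      have hb : b⁻¹ = b := inv_eq_of_mul_eq_one_left (hsq _)
      calc a * b = (a * b)⁻¹ := eq_inv_of_mul_eq_one_left h
        _ = b * a := by rw [mul_inv_rev, ha, hb]
  obtain ⟨φ, hφ, -⟩ := CoxeterSym.exists_hom g n hrelA
  obtain ⟨hs1, hs2, hs3⟩ := CoxeterSym.adjSwap_relA n
  have hh : ∀ k < n, ∀ y, CoxeterSym.adjSwap n k * (CoxeterSym.adjSwap n k * y) = y := fun k hk y => by
    rw [← mul_assoc, hs1 k hk, one_mul]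
  have hlift : M.IsLiftable (fun i : Fin n => CoxeterSym.adjSwap n i) := by
    intro i j
    rcases lt_trichotomy (i : ℕ) (j : ℕ) with hlt | heq | hgt
    · by_cases hadj : (i : ℕ) + 1 = j
      · have h3 : M.M i j = 3 := by
          simp only [M, CoxeterMatrix.A, Matrix.of_apply]
          rw [if_neg (by simp [Fin.ext_iff]; omega), if_pos (Or.inr hadj)]
        have hb := hs2 i (by omega)
        rw [hadj] at hb
        rw [h3, pow_succ, pow_succ, pow_one]
        simp only [← mul_assoc]
        rw [hb]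
        simp [mul_assoc, hs1 _ i.2, hs1 _ j.2, hh _ i.2, hh _ j.2]
      · have h3 : M.M i j = 2 := by
          simp only [M, CoxeterMatrix.A, Matrix.of_apply]
          rw [if_neg (by simp [Fin.ext_iff]; omega), if_neg (by omega)]
        rw [h3, (hs3 i j (by omega) j.2).mul_pow, pow_two, pow_two, hs1 _ i.2, hs1 _ j.2, one_mul]
    · obtain rfl := Fin.ext heq
      simp [hs1 _ i.2]
    · by_cases hadj : (j : ℕ) + 1 = i
      · have h3 : M.M i j = 3 := by
          simp only [M, CoxeterMatrix.A, Matrix.of_apply]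
          rw [if_neg (by simp [Fin.ext_iff]; omega), if_pos (Or.inl hadj)]
        have hb := (hs2 j (by omega)).symm
        rw [hadj] at hb
        rw [h3, pow_succ, pow_succ, pow_one]
        simp only [← mul_assoc]
        rw [hb]
        simp [mul_assoc, hs1 _ i.2, hs1 _ j.2, hh _ i.2, hh _ j.2]
      · have h3 : M.M i j = 2 := by
          simp only [M, CoxeterMatrix.A, Matrix.of_apply]
          rw [if_neg (by simp [Fin.ext_iff]; omega), if_neg (by omega)]
        rw [h3, (hs3 j i (by omega) i.2).symm.mul_pow, pow_two, pow_two, hs1 _ i.2, hs1 _ j.2, one_mul]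
  let ψ : M.Group →* Equiv.Perm (Fin (n + 1)) := M.toCoxeterSystem.lift ⟨_, hlift⟩
  have hψ : ∀ i : Fin n, ψ (M.simple i) = CoxeterSym.adjSwap n i := fun i =>
    CoxeterSystem.lift_apply_simple _ hlift i
  have hg : ∀ i : Fin n, φ (CoxeterSym.adjSwap n i) = M.simple i := fun i => by
    rw [hφ i i.2]; simp [g]
  have h1 : φ.comp ψ = MonoidHom.id _ := by
    refine M.toCoxeterSystem.ext_simple fun i => ?_
    simp [hψ, hg]
  have h2 : ψ.comp φ = MonoidHom.id _ := by
    refine MonoidHom.eq_of_eqOn_dense (CoxeterSym.closure_adjSwap n) ?_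
    rintro _ ⟨i, hi, rfl⟩
    have := hg ⟨i, hi⟩
    simp only at this
    simp [this, hψ]
  let e : Equiv.Perm (Fin (n + 1)) ≃* M.Group :=
    { toFun := φ, invFun := ψ, map_mul' := map_mul φ
      left_inv := fun x => DFunLike.congr_fun h2 x
      right_inv := fun x => DFunLike.congr_fun h1 x }
  refine ⟨⟨e⟩, fun i => ?_⟩
  rw [CoxeterSystem.simple]
  change ψ (M.simple i) = _
  rw [hψ, CoxeterSym.adjSwap, dif_pos i.2]

end Cfsg.Agent.S2530
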