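import Cfsg.Statements.S2651
import Cfsg.Agent.ExtCert.M23Cocode

set_option autoImplicit false
open Cfsg

namespace Cfsg.Agent.S2651

/-- The non-split extension of the Mathieu group M₂₃ by its cocode module is unique. Suppose E and E' are finite groups, each with a normal subgroup (N, N'), an isomorphism of the quotient onto M₂₃ = `Spor.M23`, and a surjective additive homomorphism from the binary words on the 24 points `GolayPt` onto the normal subgroup with kernel the Golay code `golayCode` together with its translate by the unit vector at the extra point `none`, intertwining the coordinate permutation w ↦ w ∘ σ⁻¹ (σ the image of gN) with conjugation by g; and suppose that in each group the normal subgroup has no complement. Then E and E' are isomorphic. -/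
theorem result
    {E : Type*} [Group E] [Finite E] (N : Subgroup E) [hN : N.Normal]
    (φ : E ⧸ N ≃* ↥Cfsg.Spor.M23) (θ : (Cfsg.GolayPt → ZMod 2) →+ Additive ↥N)
    (hsurj : Function.Surjective θ)
    (hker : ∀ w : Cfsg.GolayPt → ZMod 2, θ w = 0 ↔ (w ∈ Cfsg.golayCode ∨ w + Pi.single none 1 ∈ Cfsg.golayCode))
    (hθ : ∀ (g : E) (w : Cfsg.GolayPt → ZMod 2),
      ((θ (w ∘ ⇑(((φ (QuotientGroup.mk g) : ↥Cfsg.Spor.M23) : Equiv.Perm Cfsg.GolayPt)⁻¹))).toMul : E)
        = g * ((θ w).toMul : E) * g⁻¹)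
    (hns : ∀ H : Subgroup E, H ⊓ N = ⊥ → H ⊔ N ≠ ⊤)
    {E' : Type*} [Group E'] [Finite E'] (N' : Subgroup E') [hN' : N'.Normal]
    (φ' : E' ⧸ N' ≃* ↥Cfsg.Spor.M23) (θ' : (Cfsg.GolayPt → ZMod 2) →+ Additive ↥N')
    (hsurj' : Function.Surjective θ')
    (hker' : ∀ w : Cfsg.GolayPt → ZMod 2, θ' w = 0 ↔ (w ∈ Cfsg.golayCode ∨ w + Pi.single none 1 ∈ Cfsg.golayCode))
    (hθ' : ∀ (g : E') (w : Cfsg.GolayPt → ZMod 2),
      ((θ' (w ∘ ⇑(((φ' (QuotientGroup.mk g) : ↥Cfsg.Spor.M23) : Equiv.Perm Cfsg.GolayPt)⁻¹))).toMul : E')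
        = g * ((θ' w).toMul : E') * g⁻¹)
    (hns' : ∀ H : Subgroup E', H ⊓ N' = ⊥ → H ⊔ N' ≠ ⊤) :
    Nonempty (E ≃* E') := by
  obtain ⟨X, hXσ, hXz, hXN⟩ := ExtCert.exists_cocodeExt N φ θ hsurj hker hθ
  obtain ⟨X', hXσ', hXz', hXN'⟩ := ExtCert.exists_cocodeExt N' φ' θ' hsurj' hker' hθ'
  obtain ⟨s, hs, hpw, hcj⟩ := ExtCert.cocode_twist N X hXN hns
  obtain ⟨s', hs', hpw', hcj'⟩ := ExtCert.cocode_twist N' X' hXN' hns'
  haveI : Finite Cfsg.Spor.M23 := Finite.of_surjective X.σ X.surj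
  refine ExtCert.nonempty_mulEquiv_of_twist X X' ?_ ExtCert.cocode_e_lt rfl
    (ExtCert.Lift.wf ExtCert.cocode_ok) ExtCert.sylow_card_index.1 ExtCert.sylow_card_index.2
    s hs hpw hcj s' hs' hpw' hcj'
  intro x x' h a _
  rw [hXσ, hXσ'] at h
  change φ (QuotientGroup.mk x) = φ' (QuotientGroup.mk x') at h
  obtain ⟨b, hb, hbk⟩ := ExtCert.cocode_rep
    (Golay.ofBits (Golay.xorSel ExtCert.cocodeBas a) ∘
      ⇑(((φ (QuotientGroup.mk x) : ↥Cfsg.Spor.M23) : Equiv.Perm Cfsg.GolayPt)⁻¹))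
  refine ⟨b, hb, ?_, ?_⟩
  · rw [hXz]
    have h1 := hθ x (Golay.ofBits (Golay.xorSel ExtCert.cocodeBas a))
    rw [ExtCert.theta_eq N θ hker hbk] at h1
    exact h1.symm
  · rw [hXz']
    have h1 := hθ' x' (Golay.ofBits (Golay.xorSel ExtCert.cocodeBas a))
    rw [← h, ExtCert.theta_eq N' θ' hker' hbk] at h1
    exact h1.symm

end Cfsg.Agent.S2651
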