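import Cfsg.Statements.S2803
import Cfsg.Agent.LocalP.PReducedFacts

set_option autoImplicit false
open Cfsg

namespace Cfsg.Agent.S2803



/-- Let L be a finite group and p a prime with C_L(O_p(L)) ≤ O_p(L), T a Sylow p-subgroup, and Y the largest p-reduced normal subgroup of L. Put T_L = C_T(Y) and L_T = N_L(T_L). Then L = L_T · C_L(Y) (elementwise), T_L = O_p(L_T), and Y = Ω₁(Z(T_L)). -/
theorem result {L : Type*} [Group L] [Finite L] {p : ℕ} [Fact p.Prime] (hchar : Subgroup.centralizer (Cfsg.pCore p L : Set L) ≤ Cfsg.pCore p L) (T : Sylow p L) (Y : Subgroup L) (hY : (Cfsg.IsPReducedNormal p Y ∧ ∀ V : Subgroup L, Cfsg.IsPReducedNormal p V → V ≤ Y)) (TL : Subgroup L) (hTL : TL = (T : Subgroup L) ⊓ Subgroup.centralizer (Y : Set L)) : (∀ g : L, ∃ a ∈ Subgroup.normalizer (TL : Set L), ∃ c ∈ Subgroup.centralizer (Y : Set L), g = a * c) ∧ (Cfsg.pCore p ↥(Subgroup.normalizer (TL : Set L))).map (Subgroup.normalizer (TL : Set L)).subtype = TL ∧ Y = Cfsg.omegaOne p (TL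 ⊓ Subgroup.centralizer (TL : Set L)) := by
  obtain ⟨hYn, hYe, hYred⟩ := (LocalP.isPReducedNormal_iff Y).1 hY.1
  have hYO := LocalP.reduced_le_center_pCore hY.1
  haveI := hYn
  set C := Subgroup.centralizer (Y : Set L) with hC
  haveI hCn : C.Normal := inferInstance
  set N := Subgroup.normalizer (TL : Set L) with hN
  have hfac : ∀ g : L, ∃ a ∈ N, ∃ c ∈ C, g = a * c := by
    intro g
    have hi : ¬ p ∣ TL.relIndex C := hTL ▸ LocalP.not_dvd_relIndex_sylow_normal T C
    have hTLC : TL ≤ C := hTL ▸ inf_le_right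
    have hp : IsPGroup p TL := hTL ▸ T.2.to_le inf_le_left
    have h1 : Fusion.cj g TL ≤ C :=
      (Fusion.cj_mono g hTLC).trans (Fusion.cj_eq_of_normal g C).le
    have h2 : ¬ p ∣ (Fusion.cj g TL).relIndex C := by
      nth_rewrite 1 [← Fusion.cj_eq_of_normal g C]
      rw [Fusion.cj, Fusion.cj, Subgroup.relIndex_map_map_of_injective _ _ (MulEquiv.injective _)]
      exact hi
    obtain ⟨c, hc, hc'⟩ := Fusion.exists_conj_of_relIndex (Fusion.isPGroup_cj hp g) hp h1 hTLC h2 hi
    rw [Fusion.cj_cj, Fusion.cj_eq_iff_mem_normalizer] at hc'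
    refine ⟨c * g, hc', (c * g)⁻¹ * g, ?_, (mul_inv_cancel_left _ g).symm⟩
    have e : (c * g)⁻¹ * g = g⁻¹ * c⁻¹ * g := by group
    rw [e]
    simpa using hCn.conj_mem c⁻¹ (inv_mem hc) g⁻¹
  have hTN : (T : Subgroup L) ≤ N := by
    rw [hN, hTL]
    exact (le_inf Subgroup.le_normalizer ((Subgroup.normalizer_eq_top (H := C)).ge.trans' le_top)).trans
      Subgroup.inf_normalizer_le_normalizer_inf
  have hTLN : TL ≤ N := Subgroup.le_normalizer
  have hcore : (Cfsg.pCore p ↥N).map N.subtype = TL := by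
    refine le_antisymm (le_of_le_of_eq (le_inf ?_ ?_) hTL.symm)
      (LocalP.le_pCoreOf hTLN le_rfl (hTL ▸ T.2.to_le inf_le_left))
    · rintro _ ⟨x, hx, rfl⟩
      exact Cores.pCore_le_sylow (T.subtype hTN) hx
    · set Q := Cfsg.pCoreOf p N with hQ
      have hQC : Q ⊔ C ≤ C := by
        refine hYred _ le_top ?_ fun q hq => ?_
        · intro g _
          obtain ⟨a, ha, c, hc, rfl⟩ := hfac g
          exact mul_mem (((le_inf (LocalP.le_normalizer_pCoreOf N)
            ((Subgroup.normalizer_eq_top (H := C)).ge.trans' le_top)).trans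
              (Subgroup.normalizer_inf_normalizer_le_normalizer_sup _ _)) ha)
            (Subgroup.le_normalizer (Subgroup.mem_sup_right hc))
        · obtain ⟨x, hx, c, hc, rfl⟩ := Subgroup.mem_sup_of_normal_right.1 hq
          obtain ⟨e, he⟩ := LocalP.exists_pow_eq_one_of_mem (LocalP.pCoreOf_isPGroup N) hx
          refine ⟨e, ?_⟩
          rw [← QuotientGroup.eq_one_iff, QuotientGroup.mk_pow, QuotientGroup.mk_mul,
            (QuotientGroup.eq_one_iff c).2 hc, mul_one, ← QuotientGroup.mk_pow, he,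
            QuotientGroup.mk_one]
      exact le_sup_left.trans hQC
  refine ⟨hfac, hcore, ?_⟩
  set X := Cfsg.omegaOne p (TL ⊓ Subgroup.centralizer (TL : Set L)) with hX
  have hYX : Y ≤ X := by
    intro y hy
    refine LocalP.mem_omega ⟨hTL ▸ ⟨Cores.pCore_le_sylow T (hYO hy).1, ?_⟩,
      Subgroup.mem_centralizer_iff.2 fun t ht => ?_⟩ (hYe.2 y hy)
    · exact Subgroup.mem_centralizer_iff.2 fun w hw =>
        congrArg Subtype.val (hYe.1.is_comm.comm (⟨w, hw⟩ : ↥Y) ⟨y, hy⟩)
    · exact (Subgroup.mem_centralizer_iff.1 ((hTL ▸ ht : t ∈ (T : Subgroup L) ⊓ C).2) y hy).symm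
  refine le_antisymm hYX (Subgroup.le_normalClosure.trans (hY.2 _
    (LocalP.normalClosure_reduced hchar T hTN (((LocalP.omega_le _).trans inf_le_left).trans hTLN)
      (LocalP.conj_normalizer_omega TL) (LocalP.omega_elementary (LocalP.center_commute _)) ?_)))
  intro Q hQN hQ hpow
  have hCX : TL ≤ Subgroup.centralizer (X : Set L) := Subgroup.le_centralizer_iff.1
    ((LocalP.omega_le _).trans inf_le_right)
  have hQC : Q ≤ C := by
    have h1 : Q ⊔ C ≤ C := by
      refine hYred _ le_top ?_ fun q hq => ?_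
      · intro g _
        obtain ⟨a, ha, c, hc, rfl⟩ := hfac g
        exact mul_mem (((le_inf hQ ((Subgroup.normalizer_eq_top (H := C)).ge.trans' le_top)).trans
            (Subgroup.normalizer_inf_normalizer_le_normalizer_sup _ _)) ha)
          (Subgroup.le_normalizer (Subgroup.mem_sup_right hc))
      · obtain ⟨x, hx, c, hc, rfl⟩ := Subgroup.mem_sup_of_normal_right.1 hq
        obtain ⟨e, he⟩ := hpow x hx
        refine ⟨e, ?_⟩
        rw [← QuotientGroup.eq_one_iff, QuotientGroup.mk_pow, QuotientGroup.mk_mul,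
          (QuotientGroup.eq_one_iff c).2 hc, mul_one, ← QuotientGroup.mk_pow,
          QuotientGroup.eq_one_iff]
        exact Subgroup.centralizer_le (SetLike.coe_subset_coe.2 hYX) he
    exact le_sup_left.trans h1
  intro q hq
  obtain ⟨e, he⟩ := hpow q hq
  haveI hn' : (TL.subgroupOf (N ⊓ C)).Normal :=
    Subgroup.normal_subgroupOf_of_le_normalizer inf_le_left
  have hm : q ^ TL.relIndex (N ⊓ C) ∈ TL := by
    have h := Subgroup.pow_index_mem (TL.subgroupOf (N ⊓ C)) ⟨q, hQN hq, hQC hq⟩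
    simpa [Subgroup.mem_subgroupOf, Subgroup.relIndex] using h
  have hi' : (p ^ e).Coprime (TL.relIndex (N ⊓ C)) := by
    refine Nat.Coprime.pow_left e ((Fact.out : p.Prime).coprime_iff_not_dvd.2 fun hd => ?_)
    have h2 : TL.relIndex (N ⊓ C) ∣ TL.relIndex C := by
      rw [← Subgroup.relIndex_mul_relIndex TL (N ⊓ C) C (le_inf hTLN (hTL ▸ inf_le_right)) inf_le_right]
      exact Dvd.intro _ rfl
    exact (hTL ▸ LocalP.not_dvd_relIndex_sylow_normal T C : ¬ p ∣ TL.relIndex C) (hd.trans h2)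
  have hmC : q ^ TL.relIndex (N ⊓ C) ∈ Subgroup.centralizer (X : Set L) := hCX hm
  obtain ⟨a, b, hab⟩ := Nat.isCoprime_iff_coprime.2 hi'
  rw [← zpow_one q, ← hab, zpow_add, mul_comm a, zpow_mul, mul_comm b, zpow_mul, zpow_natCast,
    zpow_natCast]
  exact mul_mem (zpow_mem he a) (zpow_mem hmC b)

end Cfsg.Agent.S2803
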