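import Cfsg.Statements.S2804
import Cfsg.Agent.LocalP.PReducedFacts

set_option autoImplicit false
open Cfsg

namespace Cfsg.Agent.S2804



/-- Let L be a finite group and p a prime with C_L(O_p(L)) ≤ O_p(L), V a p-reduced normal subgroup of L and K a subnormal subgroup of L. Then [V, O^p(K)] is contained in K and is a p-reduced normal subgroup of K, where O^p(K) is the subgroup of K generated by its elements of order prime to p. -/
theorem result {L : Type*} [Group L] [Finite L] {p : ℕ} [Fact p.Prime] (hchar : Subgroup.centralizer (Cfsg.pCore p L : Set L) ≤ Cfsg.pCore p L) (V : Subgroup L) (hV : Cfsg.IsPReducedNormal p V) (K : Subgroup L) (hK : K.IsSubnormal) : ⁅V, (Cfsg.pResidual p ↥K).map K.subtype⁆ ≤ K ∧ Cfsg.IsPReducedNormal p ((⁅V, (Cfsg.pResidual p ↥K).map K.subtype⁆).subgroupOf K) := by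
  obtain ⟨hVn, hVe, hVred⟩ := (LocalP.isPReducedNormal_iff V).1 hV
  haveI := hVn
  set R := LocalP.resOf p K with hR
  set W := ⁅V, R⁆ with hW
  have hVO : V ≤ Cfsg.pCore p L := (LocalP.reduced_le_center_pCore hV).trans inf_le_left
  have hRn : Cfsg.pCore p L ≤ Subgroup.normalizer (R : Set L) := by
    refine LocalP.pCore_le_normalizer_resOf hK
  have hWR : W ≤ R := by
    rw [hW, Subgroup.commutator_comm]
    exact LocalP.commutator_le_of_le_normalizer (hVO.trans hRn)
  have hWK : W ≤ K := hWR.trans (LocalP.resOf_le K)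
  have hWV : W ≤ V := Subgroup.commutator_le_left _ _
  have hKW : K ≤ Subgroup.normalizer (W : Set L) := by
    intro k hk
    rw [Subgroup.mem_normalizer_iff_map_conj_eq, hW]
    change (⁅V, R⁆ : Subgroup L).map (MulAut.conj k).toMonoidHom = _
    rw [Subgroup.map_commutator]
    erw [show V.map (MulAut.conj k).toMonoidHom = V from Fusion.cj_eq_of_normal k V,
      Subgroup.mem_normalizer_iff_map_conj_eq.1 (LocalP.le_normalizer_resOf K hk)]
  refine ⟨hWK, (LocalP.isPReducedNormal_subgroupOf_iff hWK).2 ⟨hKW, ⟨⟨⟨fun a b => ?_⟩⟩,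
    fun a ha => hVe.2 a (hWV ha)⟩, fun Q hQK hQ hpow => ?_⟩⟩
  · have := congrArg Subtype.val (hVe.1.is_comm.comm (⟨a, hWV a.2⟩ : ↥V) ⟨b, hWV b.2⟩)
    exact Subtype.ext this
  · have hQV : ∀ q ∈ Q, ∃ e : ℕ, q ^ p ^ e ∈ Subgroup.centralizer (V : Set L) := by
      intro q hq
      obtain ⟨e, he⟩ := hpow q hq
      obtain ⟨k, hk⟩ := LocalP.exists_pow_coprime (p := p) q
      refine ⟨k, Subgroup.mem_centralizer_iff.2 fun v hv => ?_⟩
      have hx : q ^ p ^ k ∈ Subgroup.centralizer (W : Set L) := by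
        obtain ⟨m, hm⟩ := exists_pow_eq_self_of_coprime (n := p ^ e) (x := q ^ p ^ k)
          (Nat.Coprime.pow_right e hk).symm
        rw [← hm]
        refine pow_mem ?_ m
        rw [← pow_mul, mul_comm, pow_mul]
        exact pow_mem he _
      refine (LocalP.commute_of_commutator_le (B := V) (A := W) ?_ hk
        (fun a ha => (Subgroup.mem_centralizer_iff.1 hx a ha).symm) ?_ hv).eq.symm
      · exact fun w => ⟨1, Subtype.ext (by simpa using hVe.2 w (hWV w.2))⟩
      · exact Subgroup.commutator_mono le_rfl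
          (Subgroup.zpowers_le.2 (LocalP.mem_resOf (pow_mem (hQK hq) _) hk))
    exact (LocalP.redAct_of_subnormal hVn hK hVred Q hQK hQ hQV).trans
      (Subgroup.centralizer_le (SetLike.coe_subset_coe.2 hWV))

end Cfsg.Agent.S2804
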