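import Cfsg.Statements.S2805
import Cfsg.Agent.LocalP.PReducedFacts
import Cfsg.Agent.PGroup.Basic
import Cfsg.Agent.Components.FStar

set_option autoImplicit false
open Cfsg
open scoped commutatorElement Pointwise

namespace Cfsg.Agent.S2805

variable {H : Type*} [Group H] [Finite H] {p : ℕ} [Fact p.Prime]

/-- Direction `C_L(Z(T ∩ L)) ≤ C(Z(T))`. -/
theorem easy (hH : Subgroup.centralizer (Cfsg.pCore p H : Set H) ≤ Cfsg.pCore p H) (T : Sylow p H)
    (L : Subgroup H) (hL : L.IsSubnormal) {x : H} (hxL : x ∈ L)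
    (hx : x ∈ Subgroup.centralizer ((Cfsg.omegaOne p (((T : Subgroup H) ⊓ L) ⊓
      Subgroup.centralizer ((((T : Subgroup H) ⊓ L) : Subgroup H) : Set H))) : Set H)) :
    x ∈ Subgroup.centralizer ((Cfsg.omegaOne p ((T : Subgroup H) ⊓
      Subgroup.centralizer ((T : Subgroup H) : Set H))) : Set H) := by
  set P := (T : Subgroup H) ⊓ L with hP
  set Z' := Cfsg.omegaOne p (P ⊓ Subgroup.centralizer (P : Set H))
  set W := Cfsg.omegaOne p (Cfsg.pCore p H ⊓ Subgroup.centralizer (Cfsg.pCore p H : Set H))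
  set K := L ⊓ Subgroup.centralizer (Z' : Set H) with hK
  have hPK : P ≤ K := le_inf inf_le_right
    (Subgroup.le_centralizer_iff.1 ((LocalP.omega_le _).trans inf_le_right))
  have hPi : ¬ p ∣ P.relIndex K := fun hd => LocalP.not_dvd_relIndex_sylow_subnormal T hL (by
    have h := hd.trans (Dvd.intro _ (Subgroup.relIndex_mul_relIndex P K L hPK inf_le_left))
    rwa [hP, Subgroup.inf_relIndex_right] at h)
  have hWe : Cfsg.IsElementaryAbelian p W := LocalP.omega_elementary (LocalP.center_commute _)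
  have hWn : K ≤ Subgroup.normalizer (W : Set H) :=
    ((Subgroup.normalizer_eq_top (H := Cfsg.pCore p H)).ge.trans
      (LocalP.conj_normalizer_omega _)).trans' le_top
  have hWO : W ≤ Cfsg.pCore p H := (LocalP.omega_le _).trans inf_le_left
  refine Subgroup.mem_centralizer_iff.2 fun z hz => ?_
  have hzT : ∀ t ∈ (T : Subgroup H), t * z = z * t := fun t ht =>
    Subgroup.mem_centralizer_iff.1 (LocalP.omega_le _ hz).2 t ht
  have hzO : z ∈ Cfsg.pCore p H :=
    LocalP.le_pCore_of_commute_pCore hH fun y hy => (hzT y (Cores.pCore_le_sylow T hy)).symm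
  have hzW : z ∈ W := LocalP.mem_omega
    ⟨hzO, Subgroup.mem_centralizer_iff.2 fun y hy => hzT y (Cores.pCore_le_sylow T hy)⟩
    ((LocalP.omega_elementary (LocalP.center_commute _)).2 z hz)
  have hzv : z ∈ W ⊓ Subgroup.centralizer (P : Set H) :=
    ⟨hzW, Subgroup.mem_centralizer_iff.2 fun t ht => hzT t ht.1⟩
  obtain ⟨N, h1, -, h3, -, -⟩ := LocalP.exists_norm hWe.1 hWn hPK
  have hd : (z ^ P.relIndex K)⁻¹ * N z ∈ L := by
    refine h3 L z hzv fun k hk => ?_
    have hRP : LocalP.resOf p L ⊔ P = L := LocalP.resOf_sup_eq inf_le_right (by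
      rw [Subgroup.inf_relIndex_right]
      exact LocalP.not_dvd_relIndex_sylow_subnormal T hL)
    have hk' : k ∈ ((LocalP.resOf p L ⊔ P : Subgroup H) : Set H) := by rw [hRP]; exact hk.1
    rw [Subgroup.coe_mul_of_right_le_normalizer_left _ P
      (inf_le_right.trans (LocalP.le_normalizer_resOf L))] at hk'
    obtain ⟨r, hr, t, ht, rfl⟩ := Set.mem_mul.1 hk'
    have e : r * t * z * (r * t)⁻¹ * z⁻¹ = r * (z * r⁻¹ * z⁻¹) := by
      calc r * t * z * (r * t)⁻¹ * z⁻¹ = r * (t * z) * t⁻¹ * r⁻¹ * z⁻¹ := by group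
        _ = r * (z * r⁻¹ * z⁻¹) := by rw [hzT t ht.1]; group
    rw [e]
    exact LocalP.resOf_le L (mul_mem hr (LocalP.conj_mem_of_le_normalizer
      (LocalP.pCore_le_normalizer_resOf hL) hzO (inv_mem hr)))
  set d := (z ^ P.relIndex K)⁻¹ * N z with hd'
  have hdW : d ∈ W := mul_mem (inv_mem (pow_mem hzW _)) (h1 z hzv).1
  have hdP : d ∈ Subgroup.centralizer (P : Set H) :=
    mul_mem (inv_mem (pow_mem hzv.2 _))
      (Subgroup.centralizer_le (SetLike.coe_subset_coe.2 hPK) (h1 z hzv).2)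
  have hdZ : d ∈ Z' :=
    LocalP.mem_omega ⟨⟨Cores.pCore_le_sylow T (hWO hdW), hd⟩, hdP⟩ (hWe.2 d hdW)
  obtain ⟨m, hm⟩ := exists_pow_eq_self_of_coprime
    (Nat.Coprime.coprime_dvd_right (orderOf_dvd_of_pow_eq_one (hWe.2 z hzW))
      ((Cores.coprime_iff_not_dvd_prime Fact.out).2 hPi))
  have hzK : z ∈ Subgroup.centralizer (K : Set H) := by
    rw [← hm]
    refine pow_mem ?_ m
    rw [show z ^ P.relIndex K = N z * d⁻¹ by rw [hd']; group]
    refine mul_mem (h1 z hzv).2 (inv_mem (Subgroup.mem_centralizer_iff.2 fun k hk => ?_))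
    exact (Subgroup.mem_centralizer_iff.1 hk.2 d hdZ).symm
  exact (Subgroup.mem_centralizer_iff.1 hzK x ⟨hxL, hx⟩).symm

/-- One normal step `Y ⊴ X` of the direction `C_L(Z(T)) ≤ C(Z(T ∩ L))`. -/
theorem normal_step (hH : Subgroup.centralizer (Cfsg.pCore p H : Set H) ≤ Cfsg.pCore p H)
    (T : Sylow p H) {X Y : Subgroup H} (hY : Y.IsSubnormal) (hYX : Y ≤ X)
    (hn : X ≤ Subgroup.normalizer (Y : Set H)) {x : H} (hxY : x ∈ Y)
    (hx : x ∈ Subgroup.centralizer ((Cfsg.omegaOne p (((T : Subgroup H) ⊓ X) ⊓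
      Subgroup.centralizer ((((T : Subgroup H) ⊓ X) : Subgroup H) : Set H))) : Set H)) :
    x ∈ Subgroup.centralizer ((Cfsg.omegaOne p (((T : Subgroup H) ⊓ Y) ⊓
      Subgroup.centralizer ((((T : Subgroup H) ⊓ Y) : Subgroup H) : Set H))) : Set H) := by
  set P := (T : Subgroup H) ⊓ Y with hP
  set Q := (T : Subgroup H) ⊓ X with hQ
  set ZX := Cfsg.omegaOne p (Q ⊓ Subgroup.centralizer (Q : Set H))
  set V := Cfsg.omegaOne p (Cfsg.pCoreOf p Y ⊓ Subgroup.centralizer (Cfsg.pCoreOf p Y : Set H))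
  set K := Y ⊓ Subgroup.centralizer (ZX : Set H) with hK
  have hPQ : P ≤ Q := inf_le_inf_left _ hYX
  have hQc : Q ≤ Subgroup.centralizer (ZX : Set H) :=
    Subgroup.le_centralizer_iff.1 ((LocalP.omega_le _).trans inf_le_right)
  have hPK : P ≤ K := le_inf inf_le_right (hPQ.trans hQc)
  have hPi : ¬ p ∣ P.relIndex K := fun hd => LocalP.not_dvd_relIndex_sylow_subnormal T hY (by
    have h := hd.trans (Dvd.intro _ (Subgroup.relIndex_mul_relIndex P K Y hPK inf_le_left))
    rwa [hP, Subgroup.inf_relIndex_right] at h)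
  have hOP : Cfsg.pCoreOf p Y ≤ P :=
    le_inf ((Components.subnormal_le_pCore ((Subgroup.Normal.isSubnormal
      (inferInstance : (Cfsg.pCore p ↥Y).Normal)).trans' hY) (LocalP.pCoreOf_isPGroup Y)).trans
      (Cores.pCore_le_sylow T)) (LocalP.pCoreOf_le Y)
  have hchar := LocalP.charP_of_subnormal hY hH
  have hVe : Cfsg.IsElementaryAbelian p V := LocalP.omega_elementary (LocalP.center_commute _)
  have hXV : X ≤ Subgroup.normalizer (V : Set H) :=
    (hn.trans (LocalP.normalizer_le_normalizer_pCoreOf Y)).trans (LocalP.conj_normalizer_omega _)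
  obtain ⟨N, h1, h2, -, h4, h5⟩ :=
    LocalP.exists_norm hVe.1 ((inf_le_left.trans hYX).trans hXV) hPK
  set A := V ⊓ Subgroup.centralizer (P : Set H) with hA
  have hAP : A ≤ P := fun a ha => hOP ((LocalP.omega_le _ ha.1).1)
  have hQY : Q ≤ Subgroup.normalizer (Y : Set H) := inf_le_right.trans hn
  have hQP : Q ≤ Subgroup.normalizer (P : Set H) := by
    have : P = Q ⊓ Y := by rw [hP, hQ, inf_assoc, inf_eq_right.2 hYX]
    rw [this]
    exact (le_inf Subgroup.le_normalizer hQY).trans Subgroup.inf_normalizer_le_normalizer_inf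
  have hQK : Q ≤ Subgroup.normalizer (K : Set H) :=
    (le_inf hQY (hQc.trans Subgroup.le_normalizer)).trans Subgroup.inf_normalizer_le_normalizer_inf
  let f : ↥A →* H :=
  { toFun := fun a => N a
    map_one' := by
      have h := h2 1 (one_mem _) 1 (one_mem _)
      rw [one_mul] at h
      simpa using h
    map_mul' := fun a b => h2 a a.2 b b.2 }
  have hker : f.ker = ⊥ := by
    by_contra hne
    set A₀ := f.ker.map A.subtype
    have hA₀Q : A₀ ≤ Q := (Subgroup.map_subtype_le _).trans (hAP.trans hPQ)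
    haveI : (A₀.subgroupOf Q).Normal := by
      refine Subgroup.normal_subgroupOf_of_le_normalizer (LocalP.le_normalizer_of_conj_mem ?_)
      rintro g hg _ ⟨a, ha, rfl⟩
      have haA : g * (a : H) * g⁻¹ ∈ A := LocalP.conj_mem_of_le_normalizer
        ((le_inf ((inf_le_right : Q ≤ X).trans hXV)
          (hQP.trans (LocalP.normalizer_le_normalizer_centralizer P))).trans
          Subgroup.inf_normalizer_le_normalizer_inf) hg a.2
      refine ⟨⟨_, haA⟩, ?_, rfl⟩
      show N (g * (a : H) * g⁻¹) = 1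
      rw [h5 g (hXV hg.2) (hQK hg) (hQP hg) a a.2, show N (a : H) = 1 from ha]
      group
    have hne' : A₀.subgroupOf Q ≠ ⊥ := fun h => hne (by
      rw [Subgroup.subgroupOf_eq_bot, disjoint_iff, inf_eq_left.2 hA₀Q] at h
      exact (Subgroup.map_eq_bot_iff_of_injective _ A.subtype_injective).1 h)
    obtain ⟨⟨⟨z, hzQ⟩, hz0, hzc⟩, hz1⟩ := Subgroup.ne_bot_iff_exists_ne_one.1
      (PGroup.inf_center_ne_bot (T.2.to_le inf_le_left : IsPGroup p Q) (A₀.subgroupOf Q) hne')
    obtain ⟨a, ha, haz⟩ := hz0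
    obtain rfl : (a : H) = z := haz
    have hap : (a : H) ^ p = 1 := hVe.2 _ a.2.1
    have hzZ : (a : H) ∈ ZX := LocalP.mem_omega ⟨hzQ, Subgroup.mem_centralizer_iff.2 fun q hq =>
      congrArg Subtype.val (Subgroup.mem_center_iff.1 hzc ⟨q, hq⟩)⟩ hap
    have hNa := h4 (a : H) a.2.1 fun k hk => (Subgroup.mem_centralizer_iff.1 hk.2 _ hzZ).symm
    rw [show N (a : H) = 1 from ha] at hNa
    obtain ⟨m, hm⟩ := exists_pow_eq_self_of_coprime
      (Nat.Coprime.coprime_dvd_right (orderOf_dvd_of_pow_eq_one hap)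
        ((Cores.coprime_iff_not_dvd_prime Fact.out).2 hPi))
    apply hz1
    apply Subtype.ext
    apply Subtype.ext
    show (a : H) = 1
    rw [← hm, ← hNa, one_pow]
  refine Subgroup.mem_centralizer_iff.2 fun z hz => ?_
  have hzP : ∀ t ∈ P, t * z = z * t := fun t ht =>
    Subgroup.mem_centralizer_iff.1 (LocalP.omega_le _ hz).2 t ht
  have hzp : z ^ p = 1 := (LocalP.omega_elementary (LocalP.center_commute P)).2 z hz
  have hzO : z ∈ Cfsg.pCoreOf p Y :=
    LocalP.charP_ambient hchar ((LocalP.omega_le _ hz).1).2 fun y hy => (hzP y (hOP hy)).symm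
  have hzA : z ∈ A := ⟨LocalP.mem_omega
    ⟨hzO, Subgroup.mem_centralizer_iff.2 fun y hy => hzP y (hOP hy)⟩ hzp,
    Subgroup.mem_centralizer_iff.2 hzP⟩
  have hNzA : N z ∈ A :=
    ⟨(h1 z hzA).1, Subgroup.centralizer_le (SetLike.coe_subset_coe.2 hPK) (h1 z hzA).2⟩
  have hfix : N (N z) = N z ^ P.relIndex K := h4 (N z) (h1 z hzA).1 fun k hk =>
    Subgroup.mem_centralizer_iff.1 (h1 z hzA).2 k hk
  have heq : (⟨z, hzA⟩ : ↥A) ^ P.relIndex K = ⟨N z, hNzA⟩ := by
    apply (MonoidHom.ker_eq_bot_iff f).1 hker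
    rw [map_pow]
    exact hfix.symm
  have hzK : z ^ P.relIndex K ∈ Subgroup.centralizer (K : Set H) := by
    have := congrArg Subtype.val heq
    simp only [SubmonoidClass.coe_pow] at this
    rw [this]
    exact (h1 z hzA).2
  obtain ⟨m, hm⟩ := exists_pow_eq_self_of_coprime
    (Nat.Coprime.coprime_dvd_right (orderOf_dvd_of_pow_eq_one hzp)
      ((Cores.coprime_iff_not_dvd_prime Fact.out).2 hPi))
  have hzK' : z ∈ Subgroup.centralizer (K : Set H) := hm ▸ pow_mem hzK m
  exact (Subgroup.mem_centralizer_iff.1 hzK' x ⟨hxY, hx⟩).symm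

theorem hard (hH : Subgroup.centralizer (Cfsg.pCore p H : Set H) ≤ Cfsg.pCore p H) (T : Sylow p H)
    (L : Subgroup H) (hL : L.IsSubnormal) : ∀ x ∈ L,
    x ∈ Subgroup.centralizer ((Cfsg.omegaOne p ((T : Subgroup H) ⊓
      Subgroup.centralizer ((T : Subgroup H) : Set H))) : Set H) →
    x ∈ Subgroup.centralizer ((Cfsg.omegaOne p (((T : Subgroup H) ⊓ L) ⊓
      Subgroup.centralizer ((((T : Subgroup H) ⊓ L) : Subgroup H) : Set H))) : Set H) := by
  induction hL with
  | top => intro x _ hx; rwa [inf_top_eq]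
  | step Y Z hle hZ hn ih =>
    intro x hxY hx
    exact normal_step hH T (Subgroup.IsSubnormal.step Y Z hle hZ hn) hle
      ((Subgroup.normal_subgroupOf_iff_le_normalizer hle).1 hn) hxY (ih x (hle hxY) hx)



/-- Kieler's Lemma: let H be a finite group of characteristic p (C_H(O_p(H)) ≤ O_p(H)), T a Sylow p-subgroup of H and L a subnormal subgroup of H. Then C_L(Ω₁(Z(T))) = C_L(Ω₁(Z(T ∩ L))), Ω₁(Z(·)) denoting the elements of order dividing p in the centre. -/
theorem result {H : Type*} [Group H] [Finite H] {p : ℕ} [Fact p.Prime] (hH : Subgroup.centralizer (Cfsg.pCore p H : Set H) ≤ Cfsg.pCore p H) (T : Sylow p H) (L : Subgroup H) (hL : L.IsSubnormal) : L ⊓ Subgroup.centralizer ((Cfsg.omegaOne p ((T : Subgroup H) ⊓ Subgroup.centralizer ((T : Subgroup H) : Set H))) : Set H) = L ⊓ Subgroup.centralizer ((Cfsg.omegaOne p (((T : Subgroup H) ⊓ L) ⊓ Subgroup.centralizer ((((T : Subgroup H) ⊓ L) : Subgroup H) : Set H))) : Set H) := by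
  apply le_antisymm
  · rintro x ⟨hx, hx'⟩
    exact ⟨hx, hard hH T L hL x hx hx'⟩
  · rintro x ⟨hx, hx'⟩
    exact ⟨hx, easy hH T L hL hx hx'⟩

end Cfsg.Agent.S2805
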