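import Cfsg.Statements.S2809
import Cfsg.Agent.LocalP.Basic

set_option autoImplicit false
open Cfsg

namespace Cfsg.Agent.S2809



/-- Let H be a finite group, p a prime, R a p-subgroup of H with C_H(R) ≤ R, and L a subgroup of N_H(R) acting nilpotently on R (some iterated commutator [R, L, …, L] is trivial). Then L is a p-group. -/
theorem result {H : Type*} [Group H] [Finite H] {p : ℕ} [Fact p.Prime] (R : Subgroup H) (hR : IsPGroup p ↥R) (hC : Subgroup.centralizer (R : Set H) ≤ R) (L : Subgroup H) (hL : L ≤ Subgroup.normalizer (R : Set H)) (hnil : ∃ n : ℕ, Cfsg.iterCommutator R L n = ⊥) : IsPGroup p ↥L := by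
  obtain ⟨n, hn⟩ := hnil
  have hle : ∀ i, Cfsg.iterCommutator R L i ≤ R := by
    intro i
    induction i with
    | zero => exact le_rfl
    | succ i ih =>
      exact (Subgroup.commutator_mono ih le_rfl).trans (LocalP.commutator_le_of_le_normalizer hL)
  refine LocalP.isPGroup_of_forall_coprime fun x hx hxp => ?_
  have h := LocalP.commute_of_stabilizes_chain hxp
    (fun i : Fin (n + 1) => Cfsg.iterCommutator R L (n - i)) (by simpa using hn)
    (fun i => hR.to_le (hle _)) (fun i => ?_) (Fin.last n)
  · have hxR : x ∈ R := hC (Subgroup.mem_centralizer_iff.2 fun r hr =>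
      (h r (by simpa [Cfsg.iterCommutator] using hr)).eq.symm)
    exact LocalP.eq_one_of_mem_isPGroup hR hxR hxp
  · have e : n - (i : ℕ) = (n - (i + 1)) + 1 := by omega
    simp only [Fin.val_succ, Fin.val_castSucc]
    rw [e]
    exact Subgroup.commutator_mono le_rfl (Subgroup.zpowers_le.2 hx)

end Cfsg.Agent.S2809
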