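import Cfsg.Statements.S2810
import Cfsg.Agent.LocalP.Basic

set_option autoImplicit false
open Cfsg

namespace Cfsg.Agent.S2810



/-- Let H be a finite group of characteristic p and L a subgroup of H centralizing every factor of some H-invariant chain 1 = A₀ ≤ A₁ ≤ … ≤ Aₙ = O_p(H) of normal subgroups (that is, [A_{i+1}, L] ≤ Aᵢ for each i). Then L ≤ O_p(H). -/
theorem result {H : Type*} [Group H] [Finite H] {p : ℕ} [Fact p.Prime] (hchar : Subgroup.centralizer (Cfsg.pCore p H : Set H) ≤ Cfsg.pCore p H) (L : Subgroup H) (n : ℕ) (A : Fin (n + 1) → Subgroup H) (h0 : A 0 = ⊥) (hn : A (Fin.last n) = Cfsg.pCore p H) (hmono : Monotone A) (hnorm : ∀ i, (A i).Normal) (hcent : ∀ i : Fin n, ⁅A i.succ, L⁆ ≤ A i.castSucc) : L ≤ Cfsg.pCore p H := by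
  let K : Subgroup H := ⨅ i : Fin n, haveI := hnorm i.castSucc
    (Subgroup.centralizer (((A i.succ).map (QuotientGroup.mk' (A i.castSucc)) : Subgroup _) :
      Set (H ⧸ A i.castSucc))).comap (QuotientGroup.mk' (A i.castSucc))
  have hK : ∀ x : H, x ∈ K → ∀ i : Fin n, ⁅A i.succ, Subgroup.zpowers x⁆ ≤ A i.castSucc := by
    intro x hx i
    haveI := hnorm i.castSucc
    have hx' := (Subgroup.mem_iInf.1 hx) i
    rw [Subgroup.mem_comap, Subgroup.mem_centralizer_iff] at hx'
    rw [Subgroup.commutator_le]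
    intro a ha y hy
    rw [← QuotientGroup.eq_one_iff, ← QuotientGroup.mk'_apply, map_commutatorElement,
      commutatorElement_eq_one_iff_commute]
    obtain ⟨m, rfl⟩ := hy
    rw [map_zpow]
    exact Commute.zpow_right (hx' _ ⟨a, ha, rfl⟩) m
  have hLK : L ≤ K := by
    intro x hx
    refine Subgroup.mem_iInf.2 fun i => ?_
    haveI := hnorm i.castSucc
    rw [Subgroup.mem_comap, Subgroup.mem_centralizer_iff]
    rintro _ ⟨a, ha, rfl⟩
    have h := hcent i (Subgroup.commutator_mem_commutator ha hx)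
    rw [← QuotientGroup.eq_one_iff, ← QuotientGroup.mk'_apply, map_commutatorElement,
      commutatorElement_eq_one_iff_commute] at h
    exact h
  have hKn : K.Normal := by
    refine Subgroup.normal_iInf_normal fun i => ?_
    haveI := hnorm i.castSucc
    haveI := (hnorm i.succ).map (QuotientGroup.mk' (A i.castSucc)) (QuotientGroup.mk'_surjective _)
    infer_instance
  refine hLK.trans (Cores.le_pCore hKn (LocalP.isPGroup_of_forall_coprime fun x hx hxp => ?_))
  have hp : IsPGroup p (Cfsg.pCore p H) := Cores.pCore_isPGroup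
  have hcom := LocalP.commute_of_stabilizes_chain hxp A h0
    (fun i => hp.to_le (hn ▸ hmono (Fin.le_last i))) (hK x hx) (Fin.last n)
  refine LocalP.eq_one_of_mem_isPGroup hp (hchar ?_) hxp
  rw [Subgroup.mem_centralizer_iff]
  intro r hr
  exact (hcom r (by rw [hn]; exact hr)).eq.symm

end Cfsg.Agent.S2810
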