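import Cfsg.Statements.S2813
import Cfsg.Agent.LocalP.Basic

set_option autoImplicit false
open Cfsg
open scoped commutatorElement

namespace Cfsg.Agent.S2813



/-- Let K be a subgroup of the finite group H with O_p(K) = 1 and Y a p-subgroup of N_H(K) with [K, Y, Y] = 1. Then [K, Y] = 1. -/
theorem result {H : Type*} [Group H] [Finite H] {p : ℕ} [Fact p.Prime] (K : Subgroup H) (hO : Cfsg.pCore p ↥K = ⊥) (Y : Subgroup H) (hY : IsPGroup p ↥Y) (hYK : Y ≤ Subgroup.normalizer (K : Set H)) (hq : ⁅⁅K, Y⁆, Y⁆ = ⊥) : ⁅K, Y⁆ = ⊥ := by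
  set L := ⁅K, Y⁆ with hL
  have hLK : L ≤ K := LocalP.commutator_le_of_le_normalizer hYK
  have hnK : K ≤ Subgroup.normalizer (L : Set H) := by
    apply LocalP.le_normalizer_of_conj_mem
    intro k hk c hc
    have hle : L ≤ (L.comap (MulAut.conj k).toMonoidHom) := by
      nth_rewrite 1 [hL]
      rw [Subgroup.commutator_le]
      intro a ha y hy
      have h1 : ⁅k * a, y⁆ ∈ L := Subgroup.commutator_mem_commutator (mul_mem hk ha) hy
      have h2 : ⁅k, y⁆ ∈ L := Subgroup.commutator_mem_commutator hk hy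
      have h3 : k * ⁅a, y⁆ * k⁻¹ = ⁅k * a, y⁆ * ⁅k, y⁆⁻¹ := by
        simp [commutatorElement_def, mul_assoc]
      show k * ⁅a, y⁆ * k⁻¹ ∈ L
      rw [h3]; exact mul_mem h1 (inv_mem h2)
    exact hle hc
  have hYc : ∀ y ∈ Y, ∀ c ∈ L, Commute y c := by
    intro y hy c hc
    have h := Subgroup.commutator_mem_commutator hc hy
    rw [hq, Subgroup.mem_bot, commutatorElement_eq_one_iff_commute] at h
    exact h.symm
  have h3 : ⁅⁅Y, K⁆, L⁆ = ⊥ := by
    apply Subgroup.commutator_commutator_eq_bot_of_rotate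
    · rw [← le_bot_iff, ← hq]
      exact Subgroup.commutator_mono
        (Subgroup.commutator_comm K L ▸ LocalP.commutator_le_of_le_normalizer hnK) le_rfl
    · rw [hq, Subgroup.commutator_bot_left]
  have hab : ∀ a ∈ L, ∀ b ∈ L, Commute a b := by
    intro a ha b hb
    rw [hL, Subgroup.commutator_comm] at ha
    have h := Subgroup.commutator_mem_commutator ha hb
    rw [h3, Subgroup.mem_bot, commutatorElement_eq_one_iff_commute] at h
    exact h
  let P : Subgroup H :=
  { carrier := {x | x ∈ L ∧ ∃ k : ℕ, x ^ p ^ k = 1}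
    one_mem' := ⟨one_mem _, 0, one_pow _⟩
    mul_mem' := by
      rintro a b ⟨ha, i, hi⟩ ⟨hb, j, hj⟩
      refine ⟨mul_mem ha hb, i + j, ?_⟩
      rw [(hab a ha b hb).mul_pow, pow_add, pow_mul, hi, mul_comm, pow_mul, hj, one_pow, one_pow,
        one_mul]
    inv_mem' := by
      rintro a ⟨ha, i, hi⟩
      exact ⟨inv_mem ha, i, by rw [inv_pow, hi, inv_one]⟩ }
  have hPK : P ≤ K := fun x hx => hLK hx.1
  have hnP : K ≤ Subgroup.normalizer (P : Set H) := by
    apply LocalP.le_normalizer_of_conj_mem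
    rintro k hk x ⟨hx, i, hi⟩
    exact ⟨LocalP.conj_mem_of_le_normalizer hnK hk hx, i, by rw [conj_pow, hi, mul_one, mul_inv_cancel]⟩
  have hPp : IsPGroup p P := by
    rintro ⟨x, hx, i, hi⟩
    exact ⟨i, Subtype.ext hi⟩
  have hP : P = ⊥ := by
    have := LocalP.le_pCoreOf hPK hnP hPp
    rwa [Cfsg.pCoreOf, hO, Subgroup.map_bot, le_bot_iff] at this
  rw [hL, Subgroup.commutator_comm, eq_bot_iff, Subgroup.commutator_le]
  intro y hy k hk
  have hc : ⁅y, k⁆ ∈ L := by
    rw [hL, Subgroup.commutator_comm]; exact Subgroup.commutator_mem_commutator hy hk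
  obtain ⟨e, he⟩ := hY ⟨y, hy⟩
  have hye : y ^ p ^ e = 1 := congrArg Subtype.val he
  have hpow := LocalP.conj_pow_eq_of_commute (x := y) (r := k) (c := ⁅y, k⁆)
    (by simp [commutatorElement_def, mul_assoc]) (hYc y hy _ hc) (p ^ e)
  rw [hye, inv_one, mul_one, one_mul, eq_comm, mul_eq_right] at hpow
  rw [← hP]
  exact ⟨hc, e, hpow⟩

end Cfsg.Agent.S2813
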