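import Cfsg.Statements.S2814
import Cfsg.Agent.LocalP.Subnormal

set_option autoImplicit false
open Cfsg

namespace Cfsg.Agent.S2814

theorem conj_le {H : Type*} [Group H] {A : Subgroup H} {g : H}
    (hg : g ∈ Subgroup.normalizer (A : Set H)) :
    (Cfsg.subnormalClosure A).map (MulAut.conj g).toMonoidHom = Cfsg.subnormalClosure A := by
  rw [LocalP.subnormalClosure_map_equiv]; exact congrArg _ (Subgroup.mem_normalizer_iff_map_conj_eq.1 hg)



/-- Let A be a subgroup of the finite group H and K the subnormal closure of A (intersection of the subnormal subgroups containing A). Then K is the normal closure of A inside K and N_H(A) ≤ N_H(K); K = A·O^p(K), O^p(K) being generated by the elements of K of order prime to p; and if A is a p-group, O^p(K) = [O^p(K), A]. -/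
theorem result {H : Type*} [Group H] [Finite H] {p : ℕ} [Fact p.Prime] (A : Subgroup H) (K : Subgroup H) (hK : K = Cfsg.subnormalClosure A) : (Subgroup.normalClosure ((A.subgroupOf K : Subgroup ↥K) : Set ↥K)).map K.subtype = K ∧ Subgroup.normalizer (A : Set H) ≤ Subgroup.normalizer (K : Set H) ∧ A ⊔ (Cfsg.pResidual p ↥K).map K.subtype = K ∧ (IsPGroup p ↥A → ⁅(Cfsg.pResidual p ↥K).map K.subtype, A⁆ = (Cfsg.pResidual p ↥K).map K.subtype) := by
  have hKsn : K.IsSubnormal := hK ▸ LocalP.subnormalClosure_isSubnormal A
  have hAK : A ≤ K := hK ▸ LocalP.le_subnormalClosure A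
  set X := (Subgroup.normalClosure ((A.subgroupOf K : Subgroup ↥K) : Set ↥K)) with hX
  have hXK : X.map K.subtype = K := by
    refine le_antisymm (Subgroup.map_subtype_le X) ?_
    nth_rewrite 1 [hK]
    refine LocalP.subnormalClosure_le ?_ ((Subgroup.Normal.isSubnormal inferInstance).trans' hKsn)
    intro a ha
    exact ⟨⟨a, hAK ha⟩, Subgroup.subset_normalClosure ha, rfl⟩
  have hclo : X = ⊤ := Subgroup.map_injective K.subtype_injective
    (hXK.trans (by rw [← MonoidHom.range_eq_map, Subgroup.range_subtype]))
  set R := Cfsg.pResidual p ↥K with hR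
  have hsup : R ⊔ A.subgroupOf K = ⊤ := by
    apply Subgroup.map_injective K.subtype_injective
    rw [← MonoidHom.range_eq_map, Subgroup.range_subtype]
    refine le_antisymm (Subgroup.map_subtype_le _) ?_
    nth_rewrite 1 [hK]
    refine LocalP.subnormalClosure_le ?_ ((LocalP.isSubnormal_of_pResidual_le le_sup_left).trans' hKsn)
    intro a ha
    exact ⟨⟨a, hAK ha⟩, Subgroup.mem_sup_right ha, rfl⟩
  refine ⟨hXK, fun g hg => ?_, ?_, fun hA => ?_⟩
  · rw [Subgroup.mem_normalizer_iff_map_conj_eq, hK]
    exact conj_le hg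
  · have h := congrArg (Subgroup.map K.subtype) hsup
    rw [Subgroup.map_sup, Subgroup.map_subgroupOf_eq_of_le hAK, ← MonoidHom.range_eq_map,
      Subgroup.range_subtype, sup_comm] at h
    exact h
  · have h := congrArg (Subgroup.map K.subtype)
      (LocalP.commutator_pResidual_eq (hA.comap_subtype (K := K)) hsup hclo)
    rw [Subgroup.map_commutator] at h
    erw [Subgroup.map_subgroupOf_eq_of_le hAK] at h
    exact h

end Cfsg.Agent.S2814
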