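import Cfsg.Statements.S2815
import Cfsg.Agent.LocalP.FStar

set_option autoImplicit false
open Cfsg
open scoped commutatorElement Pointwise

namespace Cfsg.Agent.S2815



/-- Let H be a finite group and p a prime dividing its order with O_p(H) = 1, and suppose K = O^p(H) (generated by the elements of order prime to p) is quasisimple. Then K = F*(H); for every nontrivial p-subgroup Y of H, K = [K, Y] and K lies in the subgroup generated by the K-conjugates of Y; every normal subgroup of H not containing K has order prime to p; and H is p-irreducible. -/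
theorem result {H : Type*} [Group H] [Finite H] {p : ℕ} [Fact p.Prime] (hp : p ∣ Nat.card H) (hO : Cfsg.pCore p H = ⊥) (hq : Cfsg.IsQuasisimple ↥(Cfsg.pResidual p H)) : Cfsg.pResidual p H = Cfsg.generalizedFittingSubgroup H ∧ (∀ Y : Subgroup H, IsPGroup p ↥Y → Y ≠ ⊥ → ⁅Cfsg.pResidual p H, Y⁆ = Cfsg.pResidual p H ∧ Cfsg.pResidual p H ≤ ⨆ k : ↥(Cfsg.pResidual p H), Y.map (MulAut.conj (k : H)).toMonoidHom) ∧ (∀ C : Subgroup H, C.Normal → ¬ Cfsg.pResidual p H ≤ C → (Nat.card ↥C).Coprime p) ∧ Cfsg.IsPIrreducible p H := by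
  classical
  set K := Cfsg.pResidual p H with hK
  haveI hKchar : K.Characteristic :=
    Subgroup.characteristic_iff_map_eq.2 fun e => Cores.map_pResidual_equiv e
  haveI hKn : K.Normal := inferInstance
  have hcomp : Cfsg.IsComponent K := ⟨Subgroup.Normal.isSubnormal hKn, hq⟩
  have hKF : K = Cfsg.generalizedFittingSubgroup H :=
    le_antisymm ((Components.component_le_layer hcomp).trans Components.layer_le_genFitting)
      (LocalP.FS.genFitting_le_pResidual hO)
  have hKK : ⁅K, K⁆ = K := Components.component_commutator_self hcomp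
  have hcentral : ∀ X : Subgroup H, ⁅K, X⁆ ≤ K ⊓ Subgroup.centralizer (K : Set H) →
      X ≤ Subgroup.centralizer (K : Set H) := by
    intro X hX u hu
    refine SigLayer.perfect_commute_of_central hKK fun k hk => ?_
    have hz := hX (Subgroup.commutator_mem_commutator (inv_mem hk) hu)
    exact ⟨⁅k⁻¹, u⁆, hz.2, by simp [commutatorElement_def, mul_assoc], hz.1⟩
  have hZK : ∀ X : Subgroup H, X ≤ K → K ≤ Subgroup.normalizer (X : Set H) →
      X ≤ K ⊓ Subgroup.centralizer (K : Set H) ∨ X = K := by
    intro X hXK hn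
    rcases Components.quasisimple_normal hq
      ((Subgroup.normal_subgroupOf_iff_le_normalizer hXK).2 hn) with h | h
    · exact Or.inr (le_antisymm hXK fun x hx => (h ▸ Subgroup.mem_top _ : (⟨x, hx⟩ : ↥K) ∈ X.subgroupOf K))
    · refine Or.inl (le_inf hXK fun x hx => Subgroup.mem_centralizer_iff.2 fun k hk => ?_)
      have h1 : (⟨x, hXK hx⟩ : ↥K) ∈ Subgroup.center ↥K := h hx
      exact congrArg Subtype.val (Subgroup.mem_center_iff.1 h1 ⟨k, hk⟩)
  have hY : ∀ Y : Subgroup H, IsPGroup p ↥Y → Y ≠ ⊥ → ⁅K, Y⁆ = K := by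
    intro Y hYp hYne
    refine (hZK _ (Subgroup.commutator_le_left K Y) (Coprime.le_normalizer_commutator_left K Y)).resolve_left
      fun hle => hYne ?_
    refine LocalP.FS.eq_bot_of_commutator_eq_bot hO hYp le_rfl ?_
    rw [← hKF, ← le_bot_iff]
    have h1 : ⁅K, Y⁆ = ⊥ := Subgroup.commutator_eq_bot_iff_le_centralizer.2
      (Subgroup.le_centralizer_iff.1 (hcentral Y hle))
    rw [h1, Subgroup.commutator_bot_left]
  have hC : ∀ C : Subgroup H, C.Normal → ¬ K ≤ C → (Nat.card ↥C).Coprime p := by
    intro C hCn hnle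
    haveI := hCn
    have h1 : C ⊓ K ≤ K ⊓ Subgroup.centralizer (K : Set H) := by
      refine (hZK _ inf_le_right ((Subgroup.normalizer_eq_top (H := C ⊓ K)).ge.trans' le_top)).resolve_right
        fun he => hnle (he ▸ inf_le_left)
    have h2 : C ≤ Subgroup.centralizer (K : Set H) :=
      hcentral C ((le_inf (Subgroup.commutator_le_right K C) (Subgroup.commutator_le_left K C)).trans h1)
    have h3 : C ≤ K ⊓ Subgroup.centralizer (K : Set H) := by
      refine le_inf ?_ h2
      rw [hKF] at h2 ⊢
      exact h2.trans Components.centralizer_genFitting_le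
    have h4 : C ≤ Cfsg.fittingSubgroup H := by
      refine Cores.le_fittingSubgroup hCn ?_
      exact Components.nilpotent_of_commutator_le_center fun x _ => Subgroup.mem_center_iff.2 fun y =>
        Subtype.ext (Subgroup.mem_centralizer_iff.1 (h3 x.2).2 y (h3 y.2).1)
    exact Nat.Coprime.coprime_dvd_left (Subgroup.card_dvd_of_le h4) (LocalP.FS.fitting_coprime hO)
  refine ⟨hKF, fun Y hYp hYne => ⟨hY Y hYp hYne, ?_⟩, hC, ?_, ?_⟩
  · set J := ⨆ k : ↥K, Y.map (MulAut.conj (k : H)).toMonoidHom with hJ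
    have hmemJ : ∀ k ∈ K, ∀ y ∈ Y, k * y * k⁻¹ ∈ J := fun k hk y hy =>
      (le_iSup (fun k : ↥K => Y.map (MulAut.conj (k : H)).toMonoidHom) ⟨k, hk⟩) ⟨y, hy, rfl⟩
    conv_lhs => rw [← hY Y hYp hYne]
    rw [Subgroup.commutator_le]
    intro k hk y hy
    rw [commutatorElement_def]
    exact mul_mem (hmemJ k hk y hy) (inv_mem (by simpa using hmemJ 1 K.one_mem y hy))
  · intro hcl
    have P : Sylow p H := default
    have h1 : (P : Subgroup H) ≤ ⊥ := hO ▸ Cores.le_pCore (hcl P) P.2
    have h2 := P.not_dvd_index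
    rw [le_bot_iff.1 h1, Subgroup.index_bot] at h2
    exact h2 hp
  · intro N hN hncl
    by_contra hnle
    apply hncl
    have h1 := hC N hN hnle
    rw [Cores.coprime_iff_not_dvd_prime Fact.out] at h1
    intro P
    have h2 : (P : Subgroup ↥N) = ⊥ := by
      rw [← Subgroup.card_eq_one]
      obtain ⟨n, hn⟩ := IsPGroup.iff_card.1 P.2
      rcases n with _ | n
      · rw [hn, pow_zero]
      · exact absurd ((dvd_pow_self p n.succ_ne_zero).trans
          (hn ▸ Subgroup.card_subgroup_dvd_card (P : Subgroup ↥N))) h1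
    rw [h2]
    infer_instance

end Cfsg.Agent.S2815
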