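import Cfsg.Statements.S2816
import Cfsg.Agent.LocalP.FStar

set_option autoImplicit false
open Cfsg

namespace Cfsg.Agent.S2816



/-- Let H be a finite group and p a prime with O_p(H) = 1, and Y a p-subgroup of H. Then for every subnormal subgroup K of H containing Y, [F*(H), Y] = [F*(K), Y] = [F*(K), Y, Y]; and if Y₀ ≤ Y with [F*(H), Y, Y₀] = 1 then Y₀ = 1 (in particular [F*(H), Y] = 1 forces Y = 1). -/
theorem result {H : Type*} [Group H] [Finite H] {p : ℕ} [Fact p.Prime] (hO : Cfsg.pCore p H = ⊥) (Y : Subgroup H) (hY : IsPGroup p ↥Y) : (∀ K : Subgroup H, K.IsSubnormal → Y ≤ K → ⁅Cfsg.generalizedFittingSubgroup H, Y⁆ = ⁅(Cfsg.generalizedFittingSubgroup ↥K).map K.subtype, Y⁆ ∧ ⁅(Cfsg.generalizedFittingSubgroup ↥K).map K.subtype, Y⁆ = ⁅⁅(Cfsg.generalizedFittingSubgroup ↥K).map K.subtype, Y⁆, Y⁆) ∧ (∀ Y₀ : Subgroup H, Y₀ ≤ Y → ⁅⁅Cfsg.generalizedFittingSubgroup H, Y⁆, Y₀⁆ = ⊥ → Y₀ = ⊥) := by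
  refine ⟨fun K hK hYK => ?_, fun Y₀ hle h => LocalP.FS.eq_bot_of_commutator_eq_bot hO hY hle h⟩
  set F := Cfsg.generalizedFittingSubgroup H with hF
  set FK := (Cfsg.generalizedFittingSubgroup ↥K).map K.subtype with hFK
  haveI hFn := Components.genFitting_normal (G := H)
  have hidem := (LocalP.FS.genFitting_split hO hY).2
  have hFKF : FK ≤ F := LocalP.FS.genFitting_map_le hK
  have hYFK : Y ≤ Subgroup.normalizer (FK : Set H) := by
    refine hYK.trans ?_
    intro k hk
    haveI := Components.genFitting_normal (G := ↥K)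
    have := Subgroup.le_normalizer_map K.subtype
      (H := Cfsg.generalizedFittingSubgroup ↥K) ⟨⟨k, hk⟩, by rw [Subgroup.normalizer_eq_top]; trivial, rfl⟩
    exact this
  have hKidem := (LocalP.FS.split_fstar hO (LocalP.FS.genFitting_subnormal hK) hFKF hY hYFK).2
  refine ⟨?_, hKidem⟩
  -- `[F*(H),Y]` lies in every subnormal subgroup containing `Y`
  have hin : ∀ X : Subgroup H, X.IsSubnormal → Y ≤ X → ⁅F, Y⁆ ≤ X := by
    intro X hX
    induction hX with
    | top => exact fun _ => le_top
    | step A B h_le _ hN ih =>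
      intro hYA
      have h1 := ih (hYA.trans h_le)
      rw [hidem]
      refine (Subgroup.commutator_mono h1 hYA).trans ?_
      rw [Subgroup.commutator_comm]
      exact Coprime.commutator_le_of_le_normalizer
        ((Subgroup.normal_subgroupOf_iff_le_normalizer h_le).1 hN)
  have hFKle : F ⊓ K ≤ FK := by
    have hS : (F.subgroupOf K).IsSubnormal := (inferInstance : (F.subgroupOf K).Normal).isSubnormal
    have hSH : ((F.subgroupOf K).map K.subtype).IsSubnormal := hS.trans' hK
    have hown : LocalP.FS.IsOwnFStar ↥((F.subgroupOf K).map K.subtype) :=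
      SigLayer.eq_top_of_le_genFitting hSH (by rw [Subgroup.subgroupOf_map_subtype]; exact inf_le_left)
    have h2 := LocalP.FS.le_genFitting_of_subnormal hS (LocalP.FS.isOwnFStar_congr
      (Subgroup.equivMapOfInjective _ K.subtype K.subtype_injective).symm hown)
    exact (Subgroup.subgroupOf_map_subtype F K).ge.trans (Subgroup.map_mono h2)
  refine le_antisymm ?_ (Subgroup.commutator_mono hFKF le_rfl)
  rw [hidem]
  exact Subgroup.commutator_mono
    ((le_inf (Subgroup.commutator_le_left _ _) (hin K hK hYK)).trans hFKle) le_rfl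

end Cfsg.Agent.S2816
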