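import Cfsg.Statements.S2817
import Cfsg.Agent.LocalP.FStar
import Cfsg.Agent.Components.Local
import Cfsg.Agent.PGroup.Basic

set_option autoImplicit false
open Cfsg
open scoped commutatorElement Pointwise

namespace Cfsg.Agent.S2817

/-- Norm map: if `L = [L,Q]` and `L/L'` has order prime to `|Q|`, fixed points lie in `L'`. -/
theorem fixed_le_derived {H : Type*} [Group H] [Finite H] {L Q : Subgroup H}
    (hQL : Q ≤ Subgroup.normalizer (L : Set H)) (hLQ : ⁅L, Q⁆ = L)
    (hcop : (Nat.card ↥Q).Coprime (Nat.card (Abelianization ↥L))) {l : H} (hl : l ∈ L)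
    (hfix : l ∈ Subgroup.centralizer (Q : Set H)) : l ∈ ⁅L, L⁆ := by
  classical
  haveI := Fintype.ofFinite ↥Q
  have hcm : ∀ (q : ↥Q) {a : H}, a ∈ L → (q : H) * a * (q : H)⁻¹ ∈ L := fun q a ha =>
    (Subgroup.mem_normalizer_iff.1 (hQL q.2) a).1 ha
  let θ : ↥L →* Abelianization ↥L :=
    { toFun := fun a => ∏ q : ↥Q, Abelianization.of (⟨_, hcm q a.2⟩ : ↥L)
      map_one' := Finset.prod_eq_one fun q _ => by
        rw [← map_one (Abelianization.of (G := ↥L))]
        exact congrArg _ (Subtype.ext (by simp))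
      map_mul' := fun a b => by
        rw [← Finset.prod_mul_distrib]
        refine Finset.prod_congr rfl fun q _ => ?_
        rw [← map_mul]
        refine congrArg _ (Subtype.ext ?_)
        simp only [Subgroup.coe_mul]
        group }
  have hker : L ≤ θ.ker.map L.subtype := by
    conv_lhs => rw [← hLQ]
    rw [Subgroup.commutator_le]
    intro a ha u hu
    have hm : u * a⁻¹ * u⁻¹ ∈ L := hcm ⟨u, hu⟩ (inv_mem ha)
    refine ⟨⟨a, ha⟩ * ⟨u * a⁻¹ * u⁻¹, hm⟩, ?_, by simp [commutatorElement_def, mul_assoc]⟩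
    show θ (⟨a, ha⟩ * ⟨u * a⁻¹ * u⁻¹, hm⟩) = 1
    have h1 : θ ⟨u * a⁻¹ * u⁻¹, hm⟩ = θ (⟨a, ha⟩⁻¹) := by
      refine Fintype.prod_equiv (Equiv.mulRight (⟨u, hu⟩ : ↥Q)) _ _ fun q => ?_
      refine congrArg _ (Subtype.ext ?_)
      simp only [Equiv.coe_mulRight, Subgroup.coe_mul, InvMemClass.coe_inv]
      group
    rw [map_mul, h1, ← map_mul, mul_inv_cancel, map_one]
  have hθ : θ ⟨l, hl⟩ = 1 := by
    obtain ⟨w, hw, he⟩ := hker hl
    rwa [show (⟨l, hl⟩ : ↥L) = w from Subtype.ext he.symm]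
  have hval : θ ⟨l, hl⟩ = Abelianization.of (⟨l, hl⟩ : ↥L) ^ Nat.card ↥Q := by
    rw [← show ∏ _q : ↥Q, Abelianization.of (⟨l, hl⟩ : ↥L) =
        Abelianization.of (⟨l, hl⟩ : ↥L) ^ Nat.card ↥Q by
      rw [Finset.prod_const, Finset.card_univ, ← Nat.card_eq_fintype_card]]
    refine Finset.prod_congr rfl fun q _ => congrArg _ (Subtype.ext ?_)
    show (q : H) * l * (q : H)⁻¹ = l
    rw [Subgroup.mem_centralizer_iff.1 hfix q q.2, mul_inv_cancel_right]
  have h2 : Abelianization.of (⟨l, hl⟩ : ↥L) = 1 := by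
    rw [← orderOf_eq_one_iff]
    exact Nat.eq_one_of_dvd_coprimes hcop (orderOf_dvd_of_pow_eq_one (hval ▸ hθ)) (orderOf_dvd_natCard _)
  have h3 : (⟨l, hl⟩ : ↥L) ∈ commutator ↥L := by
    rwa [← Abelianization.ker_of, MonoidHom.mem_ker]
  have h4 := Subgroup.mem_map_of_mem L.subtype h3
  rwa [_root_.commutator_def, Subgroup.map_commutator, ← MonoidHom.range_eq_map,
    Subgroup.range_subtype] at h4


/-- Let H be a finite group and p a prime with O_p(H) = 1, Q a p-subgroup of H, L = [F*(H), Q], and F the largest normal subgroup of F*(H) centralized by Q (a normal subgroup of F*(H) centralized by Q and containing every such). Then F = C_{F*(H)}(LQ); L = [L, Q]; L ∩ F ≤ Φ(L); every p-subgroup B of N_H(Q) with [L, B] ≤ F satisfies [L, B] = 1; and C_H(FL) has order prime to p. -/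
theorem result {H : Type*} [Group H] [Finite H] {p : ℕ} [Fact p.Prime] (hO : Cfsg.pCore p H = ⊥) (Q : Subgroup H) (hQ : IsPGroup p ↥Q) (L : Subgroup H) (hL : L = ⁅Cfsg.generalizedFittingSubgroup H, Q⁆) (F : Subgroup H) (hF : F ≤ Cfsg.generalizedFittingSubgroup H ∧ Cfsg.generalizedFittingSubgroup H ≤ Subgroup.normalizer (F : Set H) ∧ Q ≤ Subgroup.centralizer (F : Set H) ∧ ∀ N : Subgroup H, N ≤ Cfsg.generalizedFittingSubgroup H → Cfsg.generalizedFittingSubgroup H ≤ Subgroup.normalizer (N : Set H) → Q ≤ Subgroup.centralizer (N : Set H) → N ≤ F) : F = Cfsg.generalizedFittingSubgroup H ⊓ Subgroup.centralizer ((L ⊔ Q : Subgroup H) : Set H) ∧ ⁅L, Q⁆ = L ∧ L ⊓ F ≤ (frattini ↥L).map L.subtype ∧ (∀ B : Subgroup H, IsPGroup p ↥B → B ≤ Subgroup.normalizer (Q : Set H) → ⁅L, B⁆ ≤ F → ⁅L, B⁆ = ⊥) ∧ (Nat.card ↥(Subgroup.centralizer ((F ⊔ L : Subgroup H) : Set H))).Coprime p := by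
  classical
  obtain ⟨hFle, hFn, hQF, hFmax⟩ := hF
  set E := Cfsg.generalizedFittingSubgroup H with hE
  haveI hEn : E.Normal := Components.genFitting_normal
  have hEN : ∀ X : Subgroup H, X ≤ Subgroup.normalizer (E : Set H) := fun X =>
    (Subgroup.normalizer_eq_top (H := E)).ge.trans' le_top
  obtain ⟨hsup, hidem⟩ := LocalP.FS.genFitting_split hO hQ
  change ⁅E, Q⁆ ⊔ (E ⊓ _) = E at hsup
  change ⁅E, Q⁆ = ⁅⁅E, Q⁆, Q⁆ at hidem
  rw [← hL] at hsup hidem
  have hLE : L ≤ E := hL.le.trans (Subgroup.commutator_le_left _ _)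
  have hELn : E ≤ Subgroup.normalizer (L : Set H) := by
    rw [hL]; exact Coprime.le_normalizer_commutator_left _ _
  have hQLn : Q ≤ Subgroup.normalizer (L : Set H) := by
    rw [hL]; exact Coprime.le_normalizer_commutator_right _ _
  set C₀ := E ⊓ Subgroup.centralizer (Q : Set H) with hC₀
  -- `F` centralizes `L`
  have hFL : F ≤ Subgroup.centralizer (L : Set H) := by
    rw [← Subgroup.commutator_eq_bot_iff_le_centralizer, hL, Subgroup.commutator_comm]
    refine Subgroup.commutator_commutator_eq_bot_of_rotate ?_ ?_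
    · rw [Subgroup.commutator_comm Q F, Subgroup.commutator_eq_bot_iff_le_centralizer.2
        (Subgroup.le_centralizer_iff.1 hQF), Subgroup.commutator_bot_left]
    · rw [← le_bot_iff, ← Subgroup.commutator_eq_bot_iff_le_centralizer.2
        (Subgroup.le_centralizer_iff.1 hQF)]
      exact Subgroup.commutator_mono (Coprime.commutator_le_of_le_normalizer hFn) le_rfl
  have hFeq : F = E ⊓ Subgroup.centralizer ((L ⊔ Q : Subgroup H) : Set H) := by
    refine le_antisymm (le_inf hFle ?_) ?_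
    · rw [Subgroup.le_centralizer_iff]
      exact sup_le (Subgroup.le_centralizer_iff.1 hFL) hQF
    · refine hFmax _ inf_le_left ?_ (le_sup_right.trans (Subgroup.le_centralizer_iff.1 inf_le_right))
      have h1 : E ≤ Subgroup.normalizer ((Subgroup.centralizer ((L ⊔ Q : Subgroup H) : Set H) : Subgroup H) : Set H) := by
        conv_lhs => rw [← hsup]
        refine sup_le ?_ ?_
        · refine Subgroup.le_normalizer_iff.2 ?_
          intro a ha c hc
          have hca : c * a = a * c :=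
            (Subgroup.mem_centralizer_iff.1 hc a (Subgroup.mem_sup_left ha)).symm
          rw [← hca, mul_inv_cancel_right]
          exact hc
        · intro c hc
          have hcN : c ∈ Subgroup.normalizer ((L ⊔ Q : Subgroup H) : Set H) :=
            (Subgroup.normalizer_inf_normalizer_le_normalizer_sup _ _) ⟨hELn hc.1, Coprime.centralizer_le_normalizer' Q hc.2⟩
          exact Components.normalizer_le_normalizer_centralizer _ hcN
      exact (le_inf (hEN E) h1).trans Subgroup.inf_normalizer_le_normalizer_inf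
  have hLQ : ⁅L, Q⁆ = L := hidem.symm
  set Z := L ⊓ F with hZ
  -- orders
  have hLsn : L.IsSubnormal := by
    haveI : (L.subgroupOf E).Normal := (Subgroup.normal_subgroupOf_iff_le_normalizer hLE).2 hELn
    exact Subgroup.IsSubnormal.trans hLE (Subgroup.Normal.isSubnormal inferInstance)
      (Subgroup.Normal.isSubnormal hEn)
  have hLgen := SigLayer.eq_top_of_le_genFitting hLsn hLE
  have hLcop := LocalP.FS.fitting_coprime (LocalP.FS.pCore_eq_bot_of_subnormal hO hLsn)
  have habcop : (Nat.card ↥Q).Coprime (Nat.card (Abelianization ↥L)) := by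
    obtain ⟨n, hn⟩ := IsPGroup.iff_card.1 hQ
    rw [hn]
    refine Nat.Coprime.coprime_dvd_right ?_ (hLcop.symm.pow_left n)
    have h1 : (Cfsg.fittingSubgroup ↥L).map (Abelianization.of (G := ↥L)) = ⊤ := by
      have h2 := congrArg (Subgroup.map (Abelianization.of (G := ↥L))) hLgen
      rw [Subgroup.map_sup, Subgroup.map_top_of_surjective _ QuotientGroup.mk_surjective] at h2
      have h3 : (Cfsg.layer ↥L).map (Abelianization.of (G := ↥L)) = ⊥ := by
        rw [Subgroup.map_eq_bot_iff, Abelianization.ker_of, ← Components.layer_commutator_self,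
          _root_.commutator_def]
        exact Subgroup.commutator_mono le_top le_top
      rwa [h3, sup_bot_eq] at h2
    rw [← Nat.card_congr (Subgroup.topEquiv (G := Abelianization ↥L)).toEquiv, ← h1]
    exact Subgroup.card_map_dvd _ _
  have hZfix : Z ≤ Subgroup.centralizer (Q : Set H) := inf_le_right.trans (Subgroup.le_centralizer_iff.1 hQF)
  have hZder : Z ≤ ⁅L, L⁆ := fun z hz => fixed_le_derived hQLn hLQ habcop hz.1 (hZfix hz)
  have hZc : Z ≤ Subgroup.centralizer (L : Set H) := inf_le_right.trans hFL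
  have hZord : ∀ z ∈ Z, (orderOf z).Coprime p := by
    intro z hz
    refine Nat.Coprime.coprime_dvd_left ?_ hLcop
    have hzc : (⟨z, hz.1⟩ : ↥L) ∈ Subgroup.center ↥L :=
      Subgroup.mem_center_iff.2 fun a => Subtype.ext (Subgroup.mem_centralizer_iff.1 (hZc hz) a a.2)
    have hzF : (⟨z, hz.1⟩ : ↥L) ∈ Cfsg.fittingSubgroup ↥L := by
      exact Cores.le_fittingSubgroup inferInstance
        (Components.nilpotent_of_commutator_le_center fun a _ => Subgroup.mem_center_iff.2 fun b =>
          Subtype.ext (Subgroup.mem_center_iff.1 a.2 b)) hzc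
    rw [← Subgroup.orderOf_mk z hz.1, ← Subgroup.orderOf_mk _ hzF]
    exact orderOf_dvd_natCard _
  refine ⟨hFeq, hLQ, ?_, ?_, ?_⟩
  · -- `L ∩ F ≤ Φ(L)`
    intro z hz
    refine ⟨⟨z, hz.1⟩, ?_, rfl⟩
    show (⟨z, hz.1⟩ : ↥L) ∈ frattini ↥L
    rw [frattini, Order.radical, Subgroup.mem_iInf]
    intro M
    rw [Subgroup.mem_iInf]
    intro hM
    by_contra hzM
    set Z' := Z.subgroupOf L with hZ'
    have hZ'c : Z' ≤ Subgroup.center ↥L := fun a ha =>
      Subgroup.mem_center_iff.2 fun b => Subtype.ext (Subgroup.mem_centralizer_iff.1 (hZc ha) b b.2)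
    haveI : Z'.Normal := ⟨fun a ha b => by
      rwa [Subgroup.mem_center_iff.1 (hZ'c ha) b, mul_inv_cancel_right]⟩
    have htop : M ⊔ Z' = ⊤ := hM.2 _ (lt_of_le_of_ne le_sup_left fun e =>
      hzM (e ▸ Subgroup.mem_sup_right (show (⟨z, hz.1⟩ : ↥L) ∈ Z' from hz)))
    haveI hMn : M.Normal := by
      rw [← Subgroup.normalizer_eq_top_iff, eq_top_iff, ← htop]
      exact sup_le Subgroup.le_normalizer (hZ'c.trans (Subgroup.center_le_normalizer _))
    have hcomm : commutator ↥L ≤ M := by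
      refine (Subgroup.Normal.quotient_commutative_iff_commutator_le).1 ⟨⟨fun a b => ?_⟩⟩
      have hsurj : ∀ a : ↥L ⧸ M, ∃ w ∈ Z', QuotientGroup.mk' M w = a := by
        intro a
        obtain ⟨a, rfl⟩ := QuotientGroup.mk'_surjective M a
        have ha : a ∈ ((M ⊔ Z' : Subgroup ↥L) : Set ↥L) := htop ▸ Subgroup.mem_top a
        rw [Subgroup.normal_mul] at ha
        obtain ⟨m, hm, w, hw, rfl⟩ := ha
        exact ⟨w, hw, by rw [map_mul, show QuotientGroup.mk' M m = 1 from (QuotientGroup.eq_one_iff _).2 hm, one_mul]⟩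
      obtain ⟨v, hv, rfl⟩ := hsurj a
      obtain ⟨w, -, rfl⟩ := hsurj b
      rw [← map_mul, ← map_mul, Subgroup.mem_center_iff.1 (hZ'c hv) w]
    apply hzM
    have h3 := hZder hz
    rw [← Subgroup.range_subtype L, MonoidHom.range_eq_map, ← Subgroup.map_commutator,
      ← _root_.commutator_def] at h3
    obtain ⟨w, hw, he⟩ := h3
    rw [show (⟨z, hz.1⟩ : ↥L) = w from Subtype.ext he.symm]
    exact hcomm hw
  · intro B hB hBQ hLB
    have hBL : B ≤ Subgroup.normalizer (L : Set H) := by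
      rw [hL]
      exact (le_inf (hEN B) hBQ).trans (Coprime.normalizer_inf_le_normalizer_commutator E Q)
    have hBZ : ⁅L, B⁆ ≤ Z := le_inf (Coprime.commutator_le_of_le_normalizer hBL) hLB
    have hcl : ∀ b ∈ B, ∀ l ∈ L, ∃ z ∈ Z, b * l * b⁻¹ = l * z := fun b hb l hl =>
      ⟨⁅l⁻¹, b⁆, hBZ (Subgroup.commutator_mem_commutator (inv_mem hl) hb), by
        simp [commutatorElement_def, mul_assoc]⟩
    have hder : ⁅L, L⁆ ≤ Subgroup.centralizer (B : Set H) := by
      rw [Subgroup.commutator_le]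
      intro a ha c hc
      refine Subgroup.mem_centralizer_iff.2 fun b hb => ?_
      obtain ⟨z, hz, hze⟩ := hcl b hb a ha
      obtain ⟨w, hw, hwe⟩ := hcl b hb c hc
      have c1 : ∀ x ∈ L, x * z = z * x := fun x hx => Subgroup.mem_centralizer_iff.1 (hZc hz) x hx
      have c2 : ∀ x ∈ L, x * w = w * x := fun x hx => Subgroup.mem_centralizer_iff.1 (hZc hw) x hx
      have hzw : z * w = w * z := c2 z hz.1
      have h1 : b * ⁅a, c⁆ * b⁻¹ = ⁅a, c⁆ := by
        rw [conjugate_commutatorElement, hze, hwe]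
        calc ⁅a * z, c * w⁆ = a * (z * c) * w * z⁻¹ * a⁻¹ * w⁻¹ * c⁻¹ := by
              simp only [commutatorElement_def]; group
          _ = a * c * (z * w) * z⁻¹ * a⁻¹ * w⁻¹ * c⁻¹ := by rw [← c1 c hc]; group
          _ = a * c * (w * a⁻¹) * w⁻¹ * c⁻¹ := by rw [hzw]; group
          _ = ⁅a, c⁆ := by rw [← c2 a⁻¹ (inv_mem ha)]; simp only [commutatorElement_def]; group
      exact mul_inv_eq_iff_eq_mul.1 h1
    rw [Subgroup.commutator_eq_bot_iff_le_centralizer]
    intro l hl
    refine Subgroup.mem_centralizer_iff.2 fun b hb => ?_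
    obtain ⟨z, hz, hze⟩ := hcl b hb l hl
    have hzb : b * z * b⁻¹ = z := by
      rw [Subgroup.mem_centralizer_iff.1 (hder (hZder hz)) b hb, mul_inv_cancel_right]
    have hiter : ∀ n : ℕ, b ^ n * l * (b ^ n)⁻¹ = l * z ^ n := by
      intro n
      induction n with
      | zero => simp
      | succ n ih =>
        calc b ^ (n + 1) * l * (b ^ (n + 1))⁻¹ = b * (b ^ n * l * (b ^ n)⁻¹) * b⁻¹ := by
              rw [pow_succ']; group
          _ = (b * l * b⁻¹) * (b * z * b⁻¹) ^ n := by rw [ih, conj_pow]; group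
          _ = l * z ^ (n + 1) := by rw [hze, hzb, pow_succ', mul_assoc]
    obtain ⟨k, hk⟩ := LocalP.exists_pow_eq_one_of_mem hB hb
    have h2 := hiter (p ^ k)
    rw [hk, inv_one, one_mul, mul_one, left_eq_mul] at h2
    have h3 : z = 1 := orderOf_eq_one_iff.1
      (Nat.eq_one_of_dvd_coprimes ((hZord z hz).pow_right k) dvd_rfl (orderOf_dvd_of_pow_eq_one h2))
    rw [h3, mul_one] at hze
    exact mul_inv_eq_iff_eq_mul.1 hze
  · -- the centralizer of `F L` is a `p'`-group
    rw [Cores.coprime_iff_not_dvd_prime Fact.out]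
    intro hd
    set C := Subgroup.centralizer ((F ⊔ L : Subgroup H) : Set H) with hC
    have hQC : Q ≤ Subgroup.normalizer (C : Set H) := by
      refine le_trans ?_ (Components.normalizer_le_normalizer_centralizer _)
      exact (le_inf (hQF.trans (Coprime.centralizer_le_normalizer' F)) hQLn).trans
        (Subgroup.normalizer_inf_normalizer_le_normalizer_sup _ _)
    have hEC : E ≤ Subgroup.normalizer (C : Set H) :=
      ((le_inf hFn hELn).trans (Subgroup.normalizer_inf_normalizer_le_normalizer_sup _ _)).trans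
        (Components.normalizer_le_normalizer_centralizer _)
    set X := C ⊔ Q with hX
    haveI : (C.subgroupOf X).Normal :=
      (Subgroup.normal_subgroupOf_iff_le_normalizer le_sup_left).2 (sup_le Subgroup.le_normalizer hQC)
    obtain ⟨S, hS⟩ := (hQ.comap_subtype (K := X)).exists_le_sylow
    haveI : ((C.subgroupOf X).subgroupOf (S : Subgroup ↥X)).Normal := inferInstance
    have hne : (C.subgroupOf X).subgroupOf (S : Subgroup ↥X) ≠ ⊥ := by
      intro h0
      rw [Subgroup.subgroupOf_eq_bot, disjoint_iff] at h0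
      have h1 := LocalP.not_dvd_relIndex_sylow_normal S (C.subgroupOf X)
      rw [inf_comm, h0, Subgroup.relIndex_bot_left,
        Nat.card_congr (Subgroup.subgroupOfEquivOfLe (le_sup_left : C ≤ X)).toEquiv] at h1
      exact h1 hd
    obtain ⟨w, hw, hw1⟩ := (Subgroup.bot_or_exists_ne_one _).resolve_left (PGroup.inf_center_ne_bot S.2 _ hne)
    obtain ⟨c, hcC, hcne⟩ : ∃ c : H, c ∈ C ⊓ Subgroup.centralizer (Q : Set H) ∧ c ≠ 1 ∧
        ∃ k, c ^ p ^ k = 1 := by
      refine ⟨((w : ↥X) : H), ⟨hw.1, Subgroup.mem_centralizer_iff.2 fun u hu => ?_⟩, fun h1 =>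
        hw1 (Subtype.ext (Subtype.ext h1)), ?_⟩
      · exact congrArg (fun v : ↥(S : Subgroup ↥X) => ((v : ↥X) : H)) (Subgroup.mem_center_iff.1 hw.2
          ⟨⟨u, Subgroup.mem_sup_right hu⟩, hS hu⟩)
      · obtain ⟨k, hk⟩ := S.2 w
        exact ⟨k, congrArg (fun v : ↥(S : Subgroup ↥X) => ((v : ↥X) : H)) hk⟩
    obtain ⟨hc1, k, hck⟩ := hcne
    set P₀ := Subgroup.zpowers c with hP₀
    have hP₀C : P₀ ≤ C := Subgroup.zpowers_le.2 hcC.1
    have hP₀Q : P₀ ≤ Subgroup.centralizer (Q : Set H) := Subgroup.zpowers_le.2 hcC.2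
    have hP₀p : IsPGroup p ↥P₀ := by
      obtain ⟨j, -, hj⟩ := (Nat.dvd_prime_pow Fact.out).1 (orderOf_dvd_of_pow_eq_one hck)
      exact IsPGroup.of_card (n := j) (by rw [Nat.card_zpowers, hj])
    refine hc1 (Subgroup.zpowers_eq_bot.1 (LocalP.FS.eq_bot_of_commutator_eq_bot hO hP₀p le_rfl ?_))
    rw [Subgroup.commutator_eq_bot_iff_le_centralizer]
    have hFP : F ≤ Subgroup.centralizer (P₀ : Set H) :=
      (Subgroup.le_centralizer_iff.1 (hP₀C.trans (Subgroup.centralizer_le
        (SetLike.coe_subset_coe.2 le_sup_left))))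
    have hLP : L ≤ Subgroup.centralizer (P₀ : Set H) :=
      (Subgroup.le_centralizer_iff.1 (hP₀C.trans (Subgroup.centralizer_le
        (SetLike.coe_subset_coe.2 le_sup_right))))
    refine le_trans ?_ hFP
    rw [Subgroup.commutator_le]
    intro e he u hu
    change e ∈ E at he
    rw [← hsup, sup_comm] at he
    obtain ⟨d, hd', l, hl, rfl⟩ := SigLayer.exists_mul_of_mem_sup (inf_le_left.trans hELn) he
    have hlu : u * l = l * u := Subgroup.mem_centralizer_iff.1 (hLP hl) u hu
    have heq : ⁅d * l, u⁆ = ⁅d, u⁆ := by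
      calc ⁅d * l, u⁆ = d * (l * u) * l⁻¹ * d⁻¹ * u⁻¹ := by simp only [commutatorElement_def]; group
        _ = ⁅d, u⁆ := by rw [← hlu]; simp only [commutatorElement_def]; group
    rw [heq, hFeq]
    have hm1 : ⁅d, u⁆ ∈ E := hE ▸ (Subgroup.commutator_le_left E P₀)
      (Subgroup.commutator_mem_commutator hd'.1 hu)
    have hm2 : ⁅d, u⁆ ∈ C := by
      rw [commutatorElement_def]
      exact mul_mem ((Subgroup.mem_normalizer_iff.1 (hEC hd'.1) u).1 (hP₀C hu)) (inv_mem (hP₀C hu))
    have hm3 : ⁅d, u⁆ ∈ Subgroup.centralizer (Q : Set H) := by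
      rw [commutatorElement_def]
      exact mul_mem (mul_mem (mul_mem hd'.2 (hP₀Q hu)) (inv_mem hd'.2)) (inv_mem (hP₀Q hu))
    refine ⟨hm1, ?_⟩
    refine SigLayer.centralizer_sup_le ⟨?_, hm3⟩
    exact Subgroup.centralizer_le (SetLike.coe_subset_coe.2 le_sup_right) hm2

end Cfsg.Agent.S2817
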