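import Cfsg.Statements.S2818
import Cfsg.Agent.LocalP.Basic
import Cfsg.Agent.PGroup.Frattini

set_option autoImplicit false
open Cfsg
open scoped commutatorElement

namespace Cfsg.Agent.S2818



/-- Let P be a finite p-subgroup of a group G and H a subgroup of N_G(P) with [P, H] ≤ Ω₁(Z(P)) (the elements of order dividing p in the centre of P). Then H centralizes the Frattini subgroup of P. -/
theorem result {G : Type*} [Group G] [Finite G] {p : ℕ} [Fact p.Prime] (P : Subgroup G) (hP : IsPGroup p ↥P) (H : Subgroup G) (hH : H ≤ Subgroup.normalizer (P : Set G)) (h : ⁅P, H⁆ ≤ Cfsg.omegaOne p (P ⊓ Subgroup.centralizer (P : Set G))) : ⁅(frattini ↥P).map P.subtype, H⁆ = ⊥ := by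
  let N : Subgroup ↥P := (Subgroup.centralizer (H : Set G)).subgroupOf P
  have hmul : ∀ h' ∈ H, ∀ x : ↥P, ∃ z : G, h' * x * h'⁻¹ = z * x ∧ z ^ p = 1 ∧
      ∀ y : ↥P, Commute z y := by
    intro h' hh' x
    have hz : h' * x * h'⁻¹ * (x : G)⁻¹ ∈ Cfsg.omegaOne p (P ⊓ Subgroup.centralizer (P : Set G)) := by
      apply h
      rw [Subgroup.commutator_comm]
      exact Subgroup.commutator_mem_commutator hh' x.2
    refine ⟨h' * x * h'⁻¹ * (x : G)⁻¹, (by group), ?_⟩
    refine Subgroup.closure_induction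
      (k := {x : G | x ∈ P ⊓ Subgroup.centralizer (P : Set G) ∧ x ^ p = 1})
      (p := fun z _ => z ^ p = 1 ∧ ∀ y : ↥P, Commute z y) ?_ ?_ ?_ ?_ hz
    · rintro z ⟨⟨-, hz⟩, hzp⟩
      exact ⟨hzp, fun y => ((Subgroup.mem_centralizer_iff.1 hz) y y.2).symm⟩
    · exact ⟨one_pow p, fun y => Commute.one_left _⟩
    · rintro a b ha' hb' ⟨ha, ha2⟩ ⟨hb, hb2⟩
      have hle : Subgroup.closure {x : G | x ∈ P ⊓ Subgroup.centralizer (P : Set G) ∧ x ^ p = 1} ≤ P :=
        (Subgroup.closure_le _).2 fun x hx => hx.1.1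
      exact ⟨by rw [(ha2 ⟨b, hle hb'⟩).mul_pow, ha, hb, one_mul],
        fun y => (ha2 y).mul_left (hb2 y)⟩
    · rintro a - ⟨ha, ha2⟩
      exact ⟨by rw [inv_pow, ha, inv_one], fun y => (ha2 y).inv_left⟩
  have hN : frattini ↥P ≤ N := by
    refine PGroup.frattini_le_of_commutator_le_of_pow_mem (Fact.out : p.Prime) ?_ ?_
    · rw [commutator_def, Subgroup.commutator_le]
      intro a _ b _
      rw [Subgroup.mem_subgroupOf, Subgroup.mem_centralizer_iff]
      intro h' hh'
      obtain ⟨z, hz, -, hzc⟩ := hmul h' hh' a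
      obtain ⟨w, hw, -, hwc⟩ := hmul h' hh' b
      rw [← mul_inv_eq_iff_eq_mul]
      change h' * ((⁅a, b⁆ : ↥P) : G) * h'⁻¹ = _
      simp only [commutatorElement_def, Subgroup.coe_mul, Subgroup.coe_inv]
      rw [← commutatorElement_def]
      calc h' * ⁅(a : G), (b : G)⁆ * h'⁻¹ = ⁅h' * a * h'⁻¹, h' * b * h'⁻¹⁆ := by
            simp [commutatorElement_def, mul_assoc]
        _ = ⁅z * a, w * b⁆ := by rw [hz, hw]
        _ = ⁅(a : G), (b : G)⁆ := by
            have e1 : Commute z (a * (w * b) * (a : G)⁻¹) :=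
              (((hzc a).mul_right ((show Commute z w from ?_).mul_right (hzc b))).mul_right
                (hzc a).inv_right)
            · rw [commutatorElement_def, commutatorElement_def,
                show z * a * (w * b) * (z * (a : G))⁻¹ * (w * b)⁻¹ =
                  (z * (a * (w * b) * (a : G)⁻¹) * z⁻¹) * (w * b)⁻¹ by group,
                e1.eq, mul_inv_cancel_right,
                show (a : G) * (w * b) * (a : G)⁻¹ * (w * b)⁻¹ =
                  ((a : G) * w * (a : G)⁻¹) * (a * b * (a : G)⁻¹ * (b : G)⁻¹) * w⁻¹ by group,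
                ← (hwc a).eq, mul_inv_cancel_right,
                ((hwc a).mul_right (hwc b) |>.mul_right (hwc a).inv_right
                  |>.mul_right (hwc b).inv_right).eq, mul_inv_cancel_right]
            · have hwP : w ∈ P := by
                have : w = h' * b * h'⁻¹ * (b : G)⁻¹ := by rw [hw]; group
                rw [this]
                exact mul_mem (((Subgroup.mem_normalizer_iff.1 (hH hh')) b).1 b.2) (inv_mem b.2)
              exact hzc ⟨w, hwP⟩
    · intro x
      rw [Subgroup.mem_subgroupOf, Subgroup.mem_centralizer_iff]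
      intro h' hh'
      obtain ⟨z, hz, hzp, hzc⟩ := hmul h' hh' x
      rw [← mul_inv_eq_iff_eq_mul, Subgroup.coe_pow, ← conj_pow, hz, (hzc x).mul_pow, hzp, one_mul]
  rw [Subgroup.commutator_eq_bot_iff_le_centralizer]
  rintro _ ⟨x, hx, rfl⟩
  exact hN hx

end Cfsg.Agent.S2818
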