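import Cfsg.Statements.S2819
import Cfsg.Agent.LocalP.Basic
import Cfsg.Agent.Coprime.Action
import Cfsg.Agent.PGroup.Frattini

set_option autoImplicit false
open Cfsg
open scoped commutatorElement Pointwise

namespace Cfsg.Agent.S2819



/-- Let P be a finite p-subgroup of a group G, H a subgroup of N_G(P), and Y a subgroup of H centralizing the derived subgroup P' such that [P, Y] is elementary abelian. Then O^p(⟨Y^H⟩), the subgroup of the normal closure of Y in H generated by its elements of order prime to p, centralizes the Frattini subgroup of P. -/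
theorem result {G : Type*} [Group G] [Finite G] {p : ℕ} [Fact p.Prime] (P : Subgroup G) (hP : IsPGroup p ↥P) (H : Subgroup G) (hH : H ≤ Subgroup.normalizer (P : Set G)) (Y : Subgroup G) (hYH : Y ≤ H) (hYc : Y ≤ Subgroup.centralizer ((⁅P, P⁆ : Subgroup G) : Set G)) (hel : Cfsg.IsElementaryAbelian p ⁅P, Y⁆) (NY : Subgroup G) (hNY : NY = (Subgroup.normalClosure ((Y.subgroupOf H : Subgroup ↥H) : Set ↥H)).map H.subtype) : (Cfsg.pResidual p ↥NY).map NY.subtype ≤ Subgroup.centralizer (((frattini ↥P).map P.subtype : Subgroup G) : Set G) := by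
  classical
  set D := ⁅P, P⁆ with hD
  have hDP : D ≤ P := Subgroup.commutator_le_self P
  have hPD : P ≤ Subgroup.normalizer (D : Set G) :=
    (le_inf Subgroup.le_normalizer Subgroup.le_normalizer).trans
      (Coprime.normalizer_inf_le_normalizer_commutator P P)
  have hND : ∀ g ∈ Subgroup.normalizer (P : Set G), g ∈ Subgroup.normalizer (D : Set G) := fun g hg =>
    Coprime.normalizer_inf_le_normalizer_commutator P P ⟨hg, hg⟩
  let T : Subgroup G :=
    { carrier := {g | g ∈ Subgroup.normalizer (P : Set G) ∧ g ∈ Subgroup.centralizer (D : Set G) ∧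
        ∀ x ∈ P, g * x ^ p * g⁻¹ * (x ^ p)⁻¹ ∈ D}
      one_mem' := ⟨one_mem _, one_mem _, fun x _ => by simp⟩
      mul_mem' := by
        rintro a b ⟨ha, ha', ha''⟩ ⟨hb, hb', hb''⟩
        refine ⟨mul_mem ha hb, mul_mem ha' hb', fun x hx => ?_⟩
        have hc := hb'' x hx
        have e : a * b * x ^ p * (a * b)⁻¹ * (x ^ p)⁻¹ =
            (a * (b * x ^ p * b⁻¹ * (x ^ p)⁻¹) * a⁻¹) * (a * x ^ p * a⁻¹ * (x ^ p)⁻¹) := by group
        rw [e]
        exact mul_mem ((Subgroup.mem_normalizer_iff.1 (hND a ha) _).1 hc) (ha'' x hx)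
      inv_mem' := by
        rintro a ⟨ha, ha', ha''⟩
        refine ⟨inv_mem ha, inv_mem ha', fun x hx => ?_⟩
        have hc := ha'' x hx
        have e : a⁻¹ * x ^ p * a⁻¹⁻¹ * (x ^ p)⁻¹ =
            a⁻¹ * (a * x ^ p * a⁻¹ * (x ^ p)⁻¹)⁻¹ * a := by group
        rw [e]
        simpa using (Subgroup.mem_normalizer_iff.1 (hND _ (inv_mem ha)) _).1 (inv_mem hc) }
  haveI hTn : (T.subgroupOf H).Normal := by
    refine ⟨fun g hg k => ?_⟩
    obtain ⟨hg1, hg2, hg3⟩ := hg
    have hk := hH k.2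
    refine ⟨mul_mem (mul_mem hk hg1) (inv_mem hk), ?_, fun x hx => ?_⟩
    · refine Subgroup.mem_centralizer_iff.2 fun d hd => ?_
      have hd' : (k : G)⁻¹ * d * k ∈ D := by
        simpa using (Subgroup.mem_normalizer_iff.1 (hND _ (inv_mem hk)) d).1 hd
      have h1 : (k : G)⁻¹ * d * k * g = g * ((k : G)⁻¹ * d * k) := Subgroup.mem_centralizer_iff.1 hg2 _ hd'
      show d * ((k : G) * g * (k : G)⁻¹) = (k : G) * g * (k : G)⁻¹ * d
      calc d * ((k : G) * g * (k : G)⁻¹) = (k : G) * (((k : G)⁻¹ * d * k) * g) * (k : G)⁻¹ := by group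
        _ = (k : G) * g * (k : G)⁻¹ * d := by rw [h1]; group
    · have hx' : (k : G)⁻¹ * x * k ∈ P := by
        simpa using (Subgroup.mem_normalizer_iff.1 (inv_mem hk) x).1 hx
      have h1 := (Subgroup.mem_normalizer_iff.1 (hND _ hk) _).1 (hg3 _ hx')
      have e2 : ((k : G)⁻¹ * x * k) ^ p = (k : G)⁻¹ * x ^ p * k := by
        simpa using conj_pow (a := (k : G)⁻¹) (b := x) (i := p)
      rw [e2] at h1
      show (k : G) * g * (k : G)⁻¹ * x ^ p * ((k : G) * g * (k : G)⁻¹)⁻¹ * (x ^ p)⁻¹ ∈ D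
      convert h1 using 1
      simp only [Subgroup.subtype_apply]
      group
  have hYT : Y.subgroupOf H ≤ T.subgroupOf H := by
    intro y hy
    have hyN : (y : G) ∈ Subgroup.normalizer (P : Set G) := hH y.2
    refine ⟨hyN, hYc hy, fun x hx => ?_⟩
    set u : G := (y : G) * x * (y : G)⁻¹ with hu
    have huP : u ∈ P := (Subgroup.mem_normalizer_iff.1 hyN x).1 hx
    have hc : u * x⁻¹ ∈ ⁅P, Y⁆ := by
      rw [Subgroup.commutator_comm, show u * x⁻¹ = ⁅(y : G), x⁆ from rfl]
      exact Subgroup.commutator_mem_commutator hy hx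
    have hcp := hel.2 _ hc
    have h1 : ((⟨u, huP⟩ : ↥P) * ⟨x, hx⟩⁻¹) ^ p = 1 := Subtype.ext (by simpa using hcp)
    have h2 : (⟨u, huP⟩ : ↥P) ^ p * (⟨x, hx⟩ ^ p)⁻¹ ∈ commutator ↥P := by
      have h3 := congrArg (Abelianization.of (G := ↥P)) h1
      rw [map_pow, map_mul, map_inv, map_one, mul_pow, inv_pow, ← map_pow, ← map_pow, ← map_inv,
        ← map_mul] at h3
      rw [← Abelianization.ker_of]
      exact h3
    have h4 := Subgroup.mem_map_of_mem P.subtype h2
    rw [_root_.commutator_def, Subgroup.map_commutator, ← MonoidHom.range_eq_map,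
      Subgroup.range_subtype] at h4
    simpa [hu, hD, conj_pow] using h4
  have hNYT : NY ≤ T := by
    rw [hNY]
    exact (Subgroup.map_mono (Subgroup.normalClosure_le_normal hYT)).trans
      ((Subgroup.subgroupOf_map_subtype T H).le.trans inf_le_left)
  rw [Subgroup.map_le_iff_le_comap, Cfsg.pResidual, Subgroup.closure_le]
  intro g hg
  obtain ⟨hg1, hg2, hg3⟩ := hNYT g.2
  have hgc : (orderOf (g : G)).Coprime p := by rw [Subgroup.orderOf_coe]; exact hg
  set Φ := (frattini ↥P).map P.subtype with hΦ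
  have hΦP : IsPGroup p ↥Φ := hP.to_le (Subgroup.map_subtype_le _)
  have hDp : IsPGroup p ↥D := hP.to_le hDP
  suffices hBA : ⁅Φ, Subgroup.zpowers (g : G)⁆ ≤ D by
    refine Subgroup.mem_centralizer_iff.2 fun f hf => ?_
    exact (LocalP.commute_of_commutator_le hDp hgc
      (fun d hd => (Subgroup.mem_centralizer_iff.1 hg2 d hd).symm) hBA hf).eq.symm
  -- `[Φ, g] ≤ D`
  have hgen : Φ ≤ (D : Subgroup G) ⊔ Subgroup.closure {a | ∃ x ∈ P, a = x ^ p} := by
    rw [hΦ, PGroup.frattini_eq_sup hP, Subgroup.map_sup, MonoidHom.map_closure]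
    refine sup_le_sup ?_ (Subgroup.closure_mono ?_)
    · rw [_root_.commutator_def, Subgroup.map_commutator, ← MonoidHom.range_eq_map,
        Subgroup.range_subtype]
    · rintro _ ⟨_, ⟨x, rfl⟩, rfl⟩
      exact ⟨x, x.2, by simp⟩
  have key : ∀ f ∈ Φ, (g : G) * f * (g : G)⁻¹ * f⁻¹ ∈ D := by
    intro f hf
    have hle : (D : Subgroup G) ⊔ Subgroup.closure {a | ∃ x ∈ P, a = x ^ p} ≤ P := by
      refine sup_le hDP ((Subgroup.closure_le _).2 ?_)
      rintro _ ⟨x, hx, rfl⟩; exact pow_mem hx p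
    let U : Subgroup G :=
      { carrier := {f | f ∈ P ∧ (g : G) * f * (g : G)⁻¹ * f⁻¹ ∈ D}
        one_mem' := ⟨one_mem _, by simp⟩
        mul_mem' := by
          rintro a b ⟨ha, ha'⟩ ⟨hb, hb'⟩
          refine ⟨mul_mem ha hb, ?_⟩
          have e : (g : G) * (a * b) * (g : G)⁻¹ * (a * b)⁻¹ =
              ((g : G) * a * (g : G)⁻¹ * a⁻¹) * (a * ((g : G) * b * (g : G)⁻¹ * b⁻¹) * a⁻¹) := by group
          rw [e]
          exact mul_mem ha' ((Subgroup.mem_normalizer_iff.1 (hPD ha) _).1 hb')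
        inv_mem' := by
          rintro a ⟨ha, ha'⟩
          refine ⟨inv_mem ha, ?_⟩
          have e : (g : G) * a⁻¹ * (g : G)⁻¹ * a⁻¹⁻¹ =
              a⁻¹ * ((g : G) * a * (g : G)⁻¹ * a⁻¹)⁻¹ * a := by group
          rw [e]
          simpa using (Subgroup.mem_normalizer_iff.1 (hPD (inv_mem ha)) _).1 (inv_mem ha') }
    have hU : (D : Subgroup G) ⊔ Subgroup.closure {a | ∃ x ∈ P, a = x ^ p} ≤ U := by
      refine sup_le (fun d hd => ⟨hDP hd, ?_⟩) ((Subgroup.closure_le _).2 ?_)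
      · rw [Subgroup.mem_centralizer_iff.1 hg2 d hd |>.symm, mul_inv_cancel_right, mul_inv_cancel]
        exact D.one_mem
      · rintro _ ⟨x, hx, rfl⟩; exact ⟨pow_mem hx p, hg3 x hx⟩
    exact (hU (hgen hf)).2
  rw [Subgroup.commutator_comm, Subgroup.commutator_le]
  intro a ha f hf
  let V : Subgroup G := Subgroup.normalizer (Φ : Set G)
  obtain ⟨n, rfl⟩ := (isOfFinOrder_of_finite (g : G)).mem_powers_iff_mem_zpowers.2 ha
  have hgΦ : ∀ f ∈ Φ, (g : G) * f * (g : G)⁻¹ ∈ Φ := fun f hf => by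
    have h1 := key f hf
    have hDΦ : D ≤ Φ := by
      rw [hΦ, hD, show ⁅P, P⁆ = (commutator ↥P).map P.subtype by
        rw [_root_.commutator_def, Subgroup.map_commutator, ← MonoidHom.range_eq_map, Subgroup.range_subtype]]
      exact Subgroup.map_mono (PGroup.commutator_le_frattini hP)
    simpa using mul_mem (hDΦ h1) hf
  show ⁅(g : G) ^ n, f⁆ ∈ D
  induction n generalizing f with
  | zero => simp [commutatorElement_def]
  | succ n ih =>
    have hdn := ih ((g : G) * f * (g : G)⁻¹) (hgΦ f hf) (pow_mem (Subgroup.mem_zpowers _) n)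
    have e : ⁅(g : G) ^ (n + 1), f⁆ =
        ⁅(g : G) ^ n, (g : G) * f * (g : G)⁻¹⁆ * ((g : G) * f * (g : G)⁻¹ * f⁻¹) := by
      rw [pow_succ]; simp only [commutatorElement_def]; group
    rw [e]
    exact mul_mem hdn (key f hf)

end Cfsg.Agent.S2819
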