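import Cfsg.Statements.S2820
import Cfsg.Agent.LocalP.Subnormal
import Cfsg.Agent.Components.FStar

set_option autoImplicit false
open Cfsg

namespace Cfsg.Agent.S2820



/-- Let A and B be subnormal subgroups of the finite group H with A a p-group and B = O^p(B) (B generated by its elements of order prime to p). Then A normalizes B and B = O^p(AB), the subgroup of ⟨A, B⟩ generated by its elements of order prime to p. -/
theorem result {H : Type*} [Group H] [Finite H] {p : ℕ} [Fact p.Prime] (A B : Subgroup H) (hA : A.IsSubnormal) (hB : B.IsSubnormal) (hAp : IsPGroup p ↥A) (hBres : (Cfsg.pResidual p ↥B).map B.subtype = B) : A ≤ Subgroup.normalizer (B : Set H) ∧ (Cfsg.pResidual p ↥(A ⊔ B)).map (A ⊔ B).subtype = B := by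
  set P := Cfsg.pCore p H with hP
  have hAP : A ≤ P := Components.subnormal_le_pCore hA hAp
  set U := P ⊔ B with hU
  have hdvd : B.relIndex U ∣ Nat.card ↥P := by
    have h1 : B.relIndex U * Nat.card ↥B = Nat.card ↥U := by
      rw [← Nat.card_congr (Subgroup.subgroupOfEquivOfLe (le_sup_right : B ≤ U)).toEquiv]
      exact (B.subgroupOf U).index_mul_card
    have h2 : Nat.card ↥U ∣ Nat.card ↥P * Nat.card ↥B := by
      rw [hU, sup_comm, mul_comm]; exact Cores.card_sup_dvd_mul B P
    rw [← h1] at h2
    exact Nat.dvd_of_mul_dvd_mul_right Nat.card_pos h2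
  obtain ⟨e, he⟩ := IsPGroup.iff_card.1 (Cores.pCore_isPGroup (p := p) (G := H))
  rw [he] at hdvd
  obtain ⟨i, -, hi⟩ := (Nat.dvd_prime_pow Fact.out).1 hdvd
  have h3 : LocalP.resOf p U ≤ B := by
    have h := Subgroup.map_mono (f := U.subtype)
      (LocalP.pResidual_le_of_isSubnormal (hB.subgroupOf (K := U)) i hi)
    rwa [Subgroup.map_subgroupOf_eq_of_le le_sup_right] at h
  have h4 : LocalP.resOf p U = B :=
    le_antisymm h3 (hBres.ge.trans (LocalP.resOf_mono le_sup_right))
  refine ⟨hAP.trans (le_sup_left.trans ((LocalP.le_normalizer_resOf U).trans_eq (by rw [h4]))),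
    le_antisymm ?_ (hBres.ge.trans (LocalP.resOf_mono le_sup_right))⟩
  exact (LocalP.resOf_mono (sup_le_sup_right hAP B)).trans h4.le

end Cfsg.Agent.S2820
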