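import Cfsg.Statements.S2821
import Cfsg.Agent.LocalP.PReducedFacts

set_option autoImplicit false
open Cfsg

namespace Cfsg.Agent.S2821



/-- Let H be a finite group, p a prime, T a Sylow p-subgroup and L a subgroup of characteristic p containing T; let Y_L be the largest p-reduced normal subgroup of L (the join of the normal elementary abelian p-subgroups V of L with O_p(L/C_L(V)) = 1). Then T₀ := C_T(Y_L) is a Sylow p-subgroup of C_H(Y_L); moreover O_p(L) ≤ T₀ ≤ C_L(Y_L) and Ω₁(Z(T)) ≤ Z_L ≤ Y_L ≤ Ω₁(Z(O_p(L))), where Z_L is generated by the Ω₁(Z(S)) over the Sylow p-subgroups S of L. -/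
theorem result {H : Type*} [Group H] [Finite H] {p : ℕ} [Fact p.Prime] (T : Sylow p H) (L : Subgroup H) (hTL : (T : Subgroup H) ≤ L) (hL : Subgroup.centralizer (Cfsg.pCore p ↥L : Set ↥L) ≤ Cfsg.pCore p ↥L) (T₀ : Subgroup H) (hT₀ : T₀ = (T : Subgroup H) ⊓ Subgroup.centralizer (((Cfsg.largestPReducedOf p L) : Subgroup H) : Set H)) : (∃ P : Sylow p ↥(Subgroup.centralizer (((Cfsg.largestPReducedOf p L) : Subgroup H) : Set H)), (P : Subgroup ↥(Subgroup.centralizer (((Cfsg.largestPReducedOf p L) : Subgroup H) : Set H))) = T₀.subgroupOf (Subgroup.centralizer (((Cfsg.largestPReducedOf p L) : Subgroup H) : Set H))) ∧ (Cfsg.pCoreOf p L) ≤ T₀ ∧ T₀ ≤ L ⊓ Subgroup.centralizer (((Cfsg.largestPReducedOf p L) : Subgroup H) : Set H) ∧ (Cfsg.omegaOne p ((T : Subgroup H) ⊓ Subgroup.centralizer (((T : Subgroup H) : Subgroup H) : Set H))) ≤ Cfsg.sylowCenterClosure p L ∧ Cfsg.sylowCenterClosure p L ≤ (Cfsg.largestPReducedOf p L) ∧ (Cfsg.largestPReducedOf p L) ≤ (Cfsg.omegaOne p ((Cfsg.pCoreOf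 p L) ⊓ Subgroup.centralizer (((Cfsg.pCoreOf p L) : Subgroup H) : Set H))) := by
  obtain ⟨hYn, hYe, -⟩ := LocalP.largestPReducedOf_spec (p := p) L
  set Y := Cfsg.largestPReducedOf p L with hY
  set C := Subgroup.centralizer (Y : Set H) with hC
  set N := Subgroup.normalizer (Y : Set H) with hN
  have hTN : (T : Subgroup H) ≤ N := hTL.trans hYn
  have hCN : C ≤ N := Subgroup.centralizer_le_normalizer _
  haveI : (C.subgroupOf N).Normal :=
    Subgroup.normal_subgroupOf_of_le_normalizer (LocalP.normalizer_le_normalizer_centralizer Y)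
  have hi : ¬ p ∣ ((T : Subgroup H) ⊓ C).relIndex C := by
    have h := LocalP.not_dvd_relIndex_sylow_normal (T.subtype hTN) (C.subgroupOf N)
    rw [Subgroup.inf_relIndex_right, Sylow.coe_subtype, Subgroup.relIndex_subgroupOf hCN] at h
    rwa [Subgroup.inf_relIndex_right]
  subst T₀
  refine ⟨⟨((T.2.to_le inf_le_left : IsPGroup p ↥((T : Subgroup H) ⊓ C)).comap_subtype (K := C)).toSylow
    hi, rfl⟩, le_inf ?_ ?_, le_inf (inf_le_left.trans hTL) inf_le_right, ?_, ?_,
    LocalP.largestPReducedOf_le_pCoreOf L⟩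
  · intro x hx
    obtain ⟨y, hy, rfl⟩ := hx
    exact Cores.pCore_le_sylow (T.subtype hTL) hy
  · exact Subgroup.le_centralizer_iff.1
      ((LocalP.largestPReducedOf_le_pCoreOf L).trans ((LocalP.omega_le _).trans inf_le_right))
  · have h := le_iSup (fun S : Sylow p ↥L => Cfsg.omegaOne p (((S : Subgroup ↥L).map L.subtype) ⊓
      Subgroup.centralizer (((S : Subgroup ↥L).map L.subtype : Subgroup H) : Set H))) (T.subtype hTL)
    rwa [Sylow.coe_subtype, Subgroup.map_subgroupOf_eq_of_le hTL] at h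
  · exact iSup_le fun S => LocalP.omega_center_le_largest hL S

end Cfsg.Agent.S2821
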