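import Cfsg.Statements.S2823
import Cfsg.Agent.LocalP.PReducedFacts

set_option autoImplicit false
open Cfsg
open scoped commutatorElement Pointwise

namespace Cfsg.Agent.S2823



/-- Let H be a finite group, p a prime, T a Sylow p-subgroup and L a subgroup of characteristic p containing T; let Z_L be the subgroup generated by the Ω₁(Z(S)) over the Sylow p-subgroups S of L and O^p(L) the subgroup generated by the elements of L of order prime to p. Then Z_L = Ω₁(Z(L))·[Z_L, O^p(L)] and [Z_L, L] = [Z_L, O^p(L)]. -/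
theorem result {H : Type*} [Group H] [Finite H] {p : ℕ} [Fact p.Prime] (T : Sylow p H) (L : Subgroup H) (hTL : (T : Subgroup H) ≤ L) (hL : Subgroup.centralizer (Cfsg.pCore p ↥L : Set ↥L) ≤ Cfsg.pCore p ↥L) : Cfsg.sylowCenterClosure p L = (Cfsg.omegaOne p (L ⊓ Subgroup.centralizer ((L : Subgroup H) : Set H))) ⊔ ⁅Cfsg.sylowCenterClosure p L, (Cfsg.pResidual p ↥L).map L.subtype⁆ ∧ ⁅Cfsg.sylowCenterClosure p L, L⁆ = ⁅Cfsg.sylowCenterClosure p L, (Cfsg.pResidual p ↥L).map L.subtype⁆ := by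
  set Z := Cfsg.sylowCenterClosure p L with hZ
  set R := LocalP.resOf p L with hR
  set Om := Cfsg.omegaOne p (L ⊓ Subgroup.centralizer (L : Set H)) with hOm
  have hZY : Z ≤ Cfsg.largestPReducedOf p L := iSup_le fun S => LocalP.omega_center_le_largest hL S
  obtain ⟨hYn, hYe, -⟩ := LocalP.largestPReducedOf_spec (p := p) L
  have hZL : Z ≤ L := hZY.trans (LocalP.largestPReducedOf_le L)
  have hZe : Cfsg.IsElementaryAbelian p Z :=
    ⟨⟨⟨fun a b => Subtype.ext (congrArg Subtype.val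
      (hYe.1.is_comm.comm (⟨a, hZY a.2⟩ : ↥(Cfsg.largestPReducedOf p L)) ⟨b, hZY b.2⟩) :)⟩⟩,
      fun a ha => hYe.2 a (hZY ha)⟩
  have hZn : L ≤ Subgroup.normalizer (Z : Set H) := by
    apply LocalP.le_normalizer_of_conj_mem
    intro l hl z hz
    have hle : Fusion.cj l Z ≤ Z := by
      rw [hZ, Fusion.cj, Cfsg.sylowCenterClosure, Subgroup.map_iSup]
      refine iSup_le fun S => le_trans ?_ (le_iSup _ ((⟨l, hl⟩ : ↥L) • S))
      rw [Cfsg.omegaOne, MonoidHom.map_closure, Subgroup.closure_le]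
      have hcoe : ((((⟨l, hl⟩ : ↥L) • S : Sylow p ↥L) : Subgroup ↥L)).map L.subtype =
          Fusion.cj l ((S : Subgroup ↥L).map L.subtype) := by
        rw [Fusion.coe_smul_sylow, Fusion.cj, Fusion.cj, Subgroup.map_map, Subgroup.map_map]
        rfl
      rintro _ ⟨y, ⟨hy, hy'⟩, rfl⟩
      refine LocalP.mem_omega ⟨?_, ?_⟩ (by rw [← map_pow, hy', map_one])
      · rw [hcoe]; exact ⟨y, hy.1, rfl⟩
      · rw [hcoe]
        refine Subgroup.mem_centralizer_iff.2 ?_
        rintro _ ⟨w, hw, rfl⟩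
        show (MulAut.conj l).toMonoidHom w * _ = _
        rw [← map_mul, ← map_mul, Subgroup.mem_centralizer_iff.1 hy.2 w hw]
    exact hle ⟨z, hz, rfl⟩
  have hOmL : ∀ c ∈ Om, ∀ l ∈ L, l * c = c * l := fun c hc l hl =>
    Subgroup.mem_centralizer_iff.1 (LocalP.omega_le _ hc).2 l hl
  set ZR := ⁅Z, R⁆ with hZR
  have hZRn : L ≤ Subgroup.normalizer (ZR : Set H) := by
    intro l hl
    rw [Subgroup.mem_normalizer_iff_map_conj_eq, hZR]
    change (⁅Z, R⁆ : Subgroup H).map (MulAut.conj l).toMonoidHom = _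
    rw [Subgroup.map_commutator]
    erw [Subgroup.mem_normalizer_iff_map_conj_eq.1 (hZn hl),
      Subgroup.mem_normalizer_iff_map_conj_eq.1 (LocalP.le_normalizer_resOf L hl)]
  have hOmn : L ≤ Subgroup.normalizer (Om : Set H) :=
    Subgroup.le_normalizer.trans (LocalP.conj_normalizer_omega L)
  have hmain : Z ≤ Om ⊔ ZR := by
    refine iSup_le fun S => ?_
    intro v hv
    have hvZ : v ∈ Z := le_iSup (fun S : Sylow p ↥L => Cfsg.omegaOne p (((S : Subgroup ↥L).map L.subtype) ⊓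
      Subgroup.centralizer (((S : Subgroup ↥L).map L.subtype : Subgroup H) : Set H))) S hv
    set S' := (S : Subgroup ↥L).map L.subtype with hS'
    have hS'L : S' ≤ L := Subgroup.map_subtype_le _
    have hSi : ¬ p ∣ S'.relIndex L := by
      rw [hS', Subgroup.relIndex, Subgroup.subgroupOf,
        Subgroup.comap_map_eq_self_of_injective L.subtype_injective]
      exact S.not_dvd_index
    have hvS : ∀ t ∈ S', Commute t v := fun t ht =>
      Subgroup.mem_centralizer_iff.1 (LocalP.omega_le _ hv).2 t ht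
    have hRS : R ⊔ S' = L := LocalP.resOf_sup_eq hS'L hSi
    have hmem := LocalP.mem_sup_of_norm (D := ZR) hZe hZn hS'L hSi hvZ hvS ?_
    · refine (sup_le le_sup_right ?_ : ZR ⊔ (Z ⊓ Subgroup.centralizer (L : Set H)) ≤ Om ⊔ ZR) hmem
      exact fun w hw => Subgroup.mem_sup_left
        (LocalP.mem_omega ⟨hZL hw.1, hw.2⟩ (hZe.2 w hw.1))
    · intro k hk
      have hk' : k ∈ ((R ⊔ S' : Subgroup H) : Set H) := by rw [hRS]; exact hk
      rw [Subgroup.coe_mul_of_right_le_normalizer_left R S' (hS'L.trans (LocalP.le_normalizer_resOf L))] at hk'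
      obtain ⟨r, hr, t, ht, rfl⟩ := Set.mem_mul.1 hk'
      have e : r * t * v * (r * t)⁻¹ * v⁻¹ = ⁅r, v⁆ := by
        have h := (hvS t ht).eq
        calc r * t * v * (r * t)⁻¹ * v⁻¹ = r * (t * v) * t⁻¹ * r⁻¹ * v⁻¹ := by group
          _ = r * v * r⁻¹ * v⁻¹ := by rw [h]; group
          _ = ⁅r, v⁆ := rfl
      rw [e, hZR, Subgroup.commutator_comm]
      exact Subgroup.commutator_mem_commutator hr hvZ
  have hZRZ : ZR ≤ Z := LocalP.commutator_le_of_le_normalizer ((LocalP.resOf_le L).trans hZn)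
  have hOmZ : Om ≤ Z := by
    intro c hc
    refine Subgroup.mem_iSup_of_mem (Classical.arbitrary (Sylow p ↥L))
      (LocalP.mem_omega ⟨?_, ?_⟩ ((LocalP.omega_elementary (LocalP.center_commute L)).2 c hc))
    · set S := Classical.arbitrary (Sylow p ↥L)
      refine ⟨⟨c, (LocalP.omega_le _ hc).1⟩, Cores.pCore_le_sylow S (Cores.le_pCore (N :=
        Om.subgroupOf L) (Subgroup.normal_subgroupOf_of_le_normalizer hOmn) ?_ hc), rfl⟩
      exact fun w => ⟨1, Subtype.ext (Subtype.ext (by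
        simpa using (LocalP.omega_elementary (LocalP.center_commute L)).2 _ w.2))⟩
    · exact Subgroup.centralizer_le (SetLike.coe_subset_coe.2 (Subgroup.map_subtype_le _))
        (LocalP.omega_le _ hc).2
  refine ⟨le_antisymm hmain (sup_le hOmZ hZRZ),
    le_antisymm ?_ (Subgroup.commutator_mono le_rfl (LocalP.resOf_le L))⟩
  rw [Subgroup.commutator_le]
  intro z hz l hl
  have hz' : z ∈ ((Om ⊔ ZR : Subgroup H) : Set H) := hmain hz
  rw [Subgroup.coe_mul_of_left_le_normalizer_right Om ZR ((hOmZ.trans hZL).trans hZRn)] at hz'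
  obtain ⟨c, hc, d, hd, rfl⟩ := Set.mem_mul.1 hz'
  have h1 : l * d⁻¹ * l⁻¹ ∈ ZR := LocalP.conj_mem_of_le_normalizer hZRn hl (inv_mem hd)
  have h2 : c * (d * (l * d⁻¹ * l⁻¹)) * c⁻¹ ∈ ZR :=
    LocalP.conj_mem_of_le_normalizer hZRn ((hOmZ.trans hZL) hc) (mul_mem hd h1)
  have h3 : ⁅c * d, l⁆ = c * (d * (l * d⁻¹ * l⁻¹)) * c⁻¹ := by
    have hcl := hOmL c hc l hl
    have e : l * d⁻¹ * c⁻¹ * l⁻¹ = l * d⁻¹ * l⁻¹ * c⁻¹ := by
      calc l * d⁻¹ * c⁻¹ * l⁻¹ = l * d⁻¹ * (l * c)⁻¹ := by group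
        _ = l * d⁻¹ * (c * l)⁻¹ := by rw [hcl]
        _ = l * d⁻¹ * l⁻¹ * c⁻¹ := by group
    rw [commutatorElement_def, mul_inv_rev,
      show c * d * l * (d⁻¹ * c⁻¹) * l⁻¹ = c * d * (l * d⁻¹ * c⁻¹ * l⁻¹) by group, e]
    group
  rw [h3]; exact h2

end Cfsg.Agent.S2823
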