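import Cfsg.Statements.S2824
import Cfsg.Agent.LocalP.PReducedFacts
import Cfsg.Agent.S2803

set_option autoImplicit false
open Cfsg

namespace Cfsg.Agent.S2824



/-- Let H be a finite group, p a prime, T a Sylow p-subgroup, L and M subgroups of characteristic p containing T, Y_L the largest p-reduced normal subgroup of L and T₀ = C_T(Y_L). If M·C_H(Y_L) = L·C_H(Y_L), then L* := N_M(T₀) has Y_{L*} = Y_L and L·C_H(Y_L) = L*·C_H(Y_L). -/
theorem result {H : Type*} [Group H] [Finite H] {p : ℕ} [Fact p.Prime] (T : Sylow p H) (L M : Subgroup H) (hTL : (T : Subgroup H) ≤ L) (hTM : (T : Subgroup H) ≤ M) (hL : Subgroup.centralizer (Cfsg.pCore p ↥L : Set ↥L) ≤ Cfsg.pCore p ↥L) (hM : Subgroup.centralizer (Cfsg.pCore p ↥M : Set ↥M) ≤ Cfsg.pCore p ↥M) (T₀ : Subgroup H) (hT₀ : T₀ = (T : Subgroup H) ⊓ Subgroup.centralizer (((Cfsg.largestPReducedOf p L) : Subgroup H) : Set H)) (hfac : M ⊔ Subgroup.centralizer (((Cfsg.largestPReducedOf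 p L) : Subgroup H) : Set H) = L ⊔ Subgroup.centralizer (((Cfsg.largestPReducedOf p L) : Subgroup H) : Set H)) (Ls : Subgroup H) (hLs : Ls = M ⊓ Subgroup.normalizer ((T₀ : Subgroup H) : Set H)) : (Cfsg.largestPReducedOf p Ls) = (Cfsg.largestPReducedOf p L) ∧ L ⊔ Subgroup.centralizer (((Cfsg.largestPReducedOf p L) : Subgroup H) : Set H) = Ls ⊔ Subgroup.centralizer (((Cfsg.largestPReducedOf p L) : Subgroup H) : Set H) := by
  set Y := Cfsg.largestPReducedOf p L with hY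
  set C := Subgroup.centralizer (Y : Set H) with hC
  obtain ⟨hYn, hYe, -⟩ := LocalP.largestPReducedOf_spec (p := p) L
  have hCN : C ≤ Subgroup.normalizer (Y : Set H) := Subgroup.centralizer_le_normalizer _
  have hLC : L ≤ Subgroup.normalizer (C : Set H) :=
    hYn.trans (LocalP.normalizer_le_normalizer_centralizer Y)
  have hU : M ⊔ C ≤ Subgroup.normalizer (C : Set H) := by
    rw [hfac]; exact sup_le hLC Subgroup.le_normalizer
  have hMC : M ≤ Subgroup.normalizer (C : Set H) := le_sup_left.trans hU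
  have hT₀C : T₀ ≤ C := hT₀ ▸ inf_le_right
  have hT₀T : T₀ ≤ (T : Subgroup H) := hT₀ ▸ inf_le_left
  have hi : ¬ p ∣ T₀.relIndex C := by
    haveI : (C.subgroupOf (M ⊔ C)).Normal := Subgroup.normal_subgroupOf_of_le_normalizer hU
    have h := LocalP.not_dvd_relIndex_sylow_normal (T.subtype (hTM.trans le_sup_left))
      (C.subgroupOf (M ⊔ C))
    rw [Subgroup.inf_relIndex_right, Sylow.coe_subtype, Subgroup.relIndex_subgroupOf le_sup_right] at h
    rw [hT₀, Subgroup.inf_relIndex_right]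
    exact h
  have hTLs : (T : Subgroup H) ≤ Ls := by
    rw [hLs, hT₀]
    exact le_inf hTM ((le_inf Subgroup.le_normalizer (hTL.trans hLC)).trans
      Subgroup.inf_normalizer_le_normalizer_inf)
  have hMle : M ≤ Ls ⊔ C := by
    intro m hm
    have hT₀p : IsPGroup p T₀ := T.2.to_le hT₀T
    have h1 : Fusion.cj m T₀ ≤ M ⊓ C := by
      refine le_inf ((Fusion.cj_mono m (hT₀T.trans hTM)).trans (Fusion.cj_eq_self_of_mem hm).le) ?_
      exact (Fusion.cj_mono m hT₀C).trans (Fusion.cj_eq_of_mem (hMC hm)).le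
    have h2 : T₀ ≤ M ⊓ C := le_inf (hT₀T.trans hTM) hT₀C
    have h3 : ¬ p ∣ T₀.relIndex (M ⊓ C) := fun hd => hi (by
      rw [← Subgroup.relIndex_mul_relIndex T₀ (M ⊓ C) C h2 inf_le_right]
      exact hd.mul_right _)
    have hmMC : Fusion.cj m (M ⊓ C) = M ⊓ C := by
      rw [Fusion.cj_inf, Fusion.cj_eq_self_of_mem hm, Fusion.cj_eq_of_mem (hMC hm)]
    have h4 : ¬ p ∣ (Fusion.cj m T₀).relIndex (M ⊓ C) := by
      nth_rewrite 1 [← hmMC]
      rw [Fusion.cj, Fusion.cj, Subgroup.relIndex_map_map_of_injective _ _ (MulEquiv.injective _)]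
      exact h3
    obtain ⟨c, hc, hc'⟩ := Fusion.exists_conj_of_relIndex (Fusion.isPGroup_cj hT₀p m) hT₀p h1 h2 h4 h3
    rw [Fusion.cj_cj, Fusion.cj_eq_iff_mem_normalizer] at hc'
    have e : m = c⁻¹ * (c * m) := (inv_mul_cancel_left c m).symm
    rw [e]
    exact mul_mem (Subgroup.mem_sup_right (inv_mem hc.2))
      (Subgroup.mem_sup_left (hLs ▸ ⟨mul_mem hc.1 hm, hc'⟩))
  have hsup : L ⊔ C = Ls ⊔ C := by
    refine le_antisymm ?_ ?_
    · rw [← hfac]; exact sup_le hMle le_sup_right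
    · rw [← hfac]; exact sup_le_sup_right (hLs ▸ inf_le_left) _
  refine ⟨le_antisymm ?_ (LocalP.largest_le_of_factorization T hTLs hTL hsup.symm), hsup⟩
  set Y' := Cfsg.largestPReducedOf p Ls with hY'
  have hT₀core : T₀ ≤ Cfsg.pCoreOf p Ls :=
    LocalP.le_pCoreOf (hT₀T.trans hTLs) (hLs ▸ inf_le_right) (T.2.to_le hT₀T)
  have hY'le := LocalP.largestPReducedOf_le_pCoreOf (p := p) Ls
  have hY'c : ∀ y ∈ Y', ∀ t ∈ T₀, t * y = y * t := fun y hy t ht =>
    Subgroup.mem_centralizer_iff.1 (LocalP.omega_le _ (hY'le hy)).2 t (hT₀core ht)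
  have hOT₀ : Cfsg.pCoreOf p L ≤ T₀ := by
    rw [hT₀]
    refine le_inf ?_ (Subgroup.le_centralizer_iff.1
      ((LocalP.largestPReducedOf_le_pCoreOf L).trans ((LocalP.omega_le _).trans inf_le_right)))
    rintro _ ⟨x, hx, rfl⟩
    exact Cores.pCore_le_sylow (T.subtype hTL) hx
  have h2803 := S2803.result hL (T.subtype hTL) (Cfsg.largestPReduced p ↥L)
    ⟨LocalP.largestPReduced_reduced, fun V hV => LocalP.le_largestPReduced hV⟩ _ rfl
  intro y hy
  have hyT : y ∈ (T : Subgroup H) := LocalP.largest_le_sylow T hTLs hy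
  have hyL : y ∈ L := hTL hyT
  have hyO : y ∈ Cfsg.pCoreOf p L :=
    LocalP.charP_ambient hL hyL fun w hw => (hY'c y hy w (hOT₀ hw)).symm
  have hyT₀ : y ∈ T₀ := hOT₀ hyO
  refine ⟨⟨y, hyL⟩, ?_, rfl⟩
  show (⟨y, hyL⟩ : ↥L) ∈ Cfsg.largestPReduced p ↥L
  rw [h2803.2.2]
  have hYmap : ∀ t : ↥L, (t : ↥L) ∈ Subgroup.centralizer (Cfsg.largestPReduced p ↥L : Set ↥L) →
      (t : H) ∈ C := by
    intro t ht
    refine Subgroup.mem_centralizer_iff.2 ?_
    rintro _ ⟨u, hu, rfl⟩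
    exact congrArg Subtype.val (Subgroup.mem_centralizer_iff.1 ht u hu)
  refine LocalP.mem_omega ⟨⟨hyT, ?_⟩, Subgroup.mem_centralizer_iff.2 ?_⟩
    (Subtype.ext (by simpa using ((LocalP.largestPReducedOf_spec (p := p) Ls).2.1.2 y hy)))
  · refine Subgroup.mem_centralizer_iff.2 fun u hu => Subtype.ext ?_
    exact Subgroup.mem_centralizer_iff.1 (hT₀C hyT₀) _ ⟨u, hu, rfl⟩
  · rintro t ⟨htT, htC⟩
    exact Subtype.ext (hY'c y hy t (hT₀ ▸ ⟨htT, hYmap t htC⟩))

end Cfsg.Agent.S2824
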