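import Cfsg.Statements.S2825
import Cfsg.Agent.LocalP.PReducedFacts
import Cfsg.Agent.PGroup.Basic

set_option autoImplicit false
open Cfsg
open scoped commutatorElement

namespace Cfsg.Agent.S2825

variable {G : Type*} [Group G] [Finite G] {p : ℕ} [Fact p.Prime]

omit [Finite G] [Fact p.Prime] in
theorem isPGroup_of_elementary {W : Subgroup G} (h : Cfsg.IsElementaryAbelian p W) :
    IsPGroup p W := fun w => ⟨1, Subtype.ext (by simpa using h.2 w w.2)⟩

omit [Finite G] [Fact p.Prime] in
theorem elementary_mono {W W' : Subgroup G} (h : Cfsg.IsElementaryAbelian p W) (hle : W' ≤ W) :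
    Cfsg.IsElementaryAbelian p W' :=
  ⟨⟨⟨fun a b => Subtype.ext (congrArg Subtype.val
    (h.1.is_comm.comm (⟨a, hle a.2⟩ : ↥W) ⟨b, hle b.2⟩) :)⟩⟩, fun a ha => h.2 a (hle ha)⟩

theorem normalizer_le_largest (L : Subgroup G) :
    Subgroup.normalizer (L : Set G) ≤ Subgroup.normalizer (Cfsg.largestPReducedOf p L : Set G) := by
  have key : ∀ g ∈ Subgroup.normalizer (L : Set G),
      Fusion.cj g (Cfsg.largestPReducedOf p L) ≤ Cfsg.largestPReducedOf p L := by
    intro g hg
    obtain ⟨hn, he, hred⟩ := LocalP.largestPReducedOf_spec (p := p) L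
    set Y := Cfsg.largestPReducedOf p L with hY
    have hgL : Fusion.cj g L = L := Fusion.cj_eq_of_mem hg
    refine LocalP.le_largestPReducedOf ((Fusion.cj_mono g (LocalP.largestPReducedOf_le L)).trans hgL.le)
      ?_ ⟨⟨⟨fun a b => ?_⟩⟩, ?_⟩ ?_
    · have := Fusion.cj_mono g hn
      rwa [Fusion.cj_normalizer, hgL] at this
    · obtain ⟨a', ha', ha⟩ := a.2
      obtain ⟨b', hb', hb⟩ := b.2
      apply Subtype.ext
      rw [Subgroup.coe_mul, Subgroup.coe_mul, ← ha, ← hb, ← map_mul, ← map_mul]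
      exact congrArg _ (congrArg Subtype.val (he.1.is_comm.comm (⟨a', ha'⟩ : ↥Y) ⟨b', hb'⟩))
    · rintro _ ⟨a, ha, rfl⟩
      rw [← map_pow, he.2 a ha, map_one]
    · intro Q hQL hQ hpow
      have hC : ∀ h : G, h ∈ Subgroup.centralizer (Fusion.cj g Y : Set G) ↔
          g⁻¹ * h * g ∈ Subgroup.centralizer (Y : Set G) := by
        intro h
        rw [Subgroup.mem_centralizer_iff, Subgroup.mem_centralizer_iff]
        constructor
        · intro hh y hy
          have := hh _ (Fusion.conj_mem_cj.2 hy)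
          calc y * (g⁻¹ * h * g) = g⁻¹ * (g * y * g⁻¹ * h) * g := by group
            _ = g⁻¹ * h * g * y := by rw [this]; group
        · intro hh y hy
          have := hh _ (Fusion.mem_cj.1 hy)
          calc y * h = g * (g⁻¹ * y * g * (g⁻¹ * h * g)) * g⁻¹ := by group
            _ = h * y := by rw [this]; group
      intro q hq
      refine (hC q).2 (hred (Fusion.cj g⁻¹ Q) ?_ ?_ ?_ (Fusion.mem_cj.2 (by simpa [mul_assoc] using hq)))
      · exact (Fusion.cj_mono g⁻¹ hQL).trans (Fusion.cj_eq_of_mem (inv_mem hg)).le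
      · have := Fusion.cj_mono g⁻¹ hQ
        rwa [Fusion.cj_normalizer, Fusion.cj_eq_of_mem (inv_mem hg)] at this
      · intro x hx
        obtain ⟨e, he'⟩ := hpow _ (Fusion.mem_cj_inv.1 hx)
        refine ⟨e, ?_⟩
        have := (hC _).1 he'
        rw [conj_pow] at this
        simpa [mul_assoc] using this
  intro g hg
  exact LocalP.le_normalizer_of_conj_mem (A := Subgroup.normalizer (L : Set G))
    (fun a ha b hb => key a ha (Fusion.conj_mem_cj.2 hb)) hg

theorem resOf_le_centralizer_of_pow {K C : Subgroup G} (h : ∀ k ∈ K, ∃ e : ℕ, k ^ p ^ e ∈ C) :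
    LocalP.resOf p K ≤ C := LocalP.resOf_le_of_pow_mem h

theorem claim {L Z Y : Subgroup G} (hLZ : L ≤ Z) (hn : Z ≤ Subgroup.normalizer (L : Set G))
    (hYL : Y ≤ L) (hYe : Cfsg.IsElementaryAbelian p Y) : ∀ (n : ℕ) (X : Subgroup G),
    Nat.card X = n → X ≤ Y → Z ≤ Subgroup.normalizer (X : Set G) → LocalP.RedAct p X L →
    LocalP.resOf p (L ⊓ Subgroup.centralizer (Cfsg.largestPReducedOf p Z : Set G)) ≤
      Subgroup.centralizer (X : Set G) := by
  intro n
  induction n using Nat.strong_induction_on with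
  | _ n ih =>
  intro X hc hXY hXn hred
  have hXe := elementary_mono hYe hXY
  by_cases hZ : LocalP.RedAct p X Z
  · refine (LocalP.resOf_le _).trans (inf_le_right.trans (Subgroup.centralizer_le
      (SetLike.coe_subset_coe.2 ?_)))
    exact LocalP.le_largestPReducedOf ((hXY.trans hYL).trans hLZ) hXn hXe hZ
  simp only [LocalP.RedAct, not_forall] at hZ
  obtain ⟨Q, hQZ, hQn, hpow, hQX⟩ := hZ
  set CX := Subgroup.centralizer (X : Set G) with hCX
  obtain ⟨S₀⟩ := (inferInstance : Nonempty (Sylow p ↥Q))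
  set S := (S₀ : Subgroup ↥Q).map Q.subtype with hS
  have hSp : IsPGroup p S := S₀.2.map _
  have hSi : ¬ p ∣ S.relIndex Q := by
    rw [hS, Subgroup.relIndex, Subgroup.subgroupOf,
      Subgroup.comap_map_eq_self_of_injective Q.subtype_injective]
    exact S₀.not_dvd_index
  have hQS : LocalP.resOf p Q ⊔ S = Q := LocalP.resOf_sup_eq (Subgroup.map_subtype_le _) hSi
  have hQc : LocalP.resOf p Q ≤ CX := LocalP.resOf_le_of_pow_mem hpow
  have hSZ : S ≤ Z := (Subgroup.map_subtype_le _).trans hQZ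
  set X₁ := X ⊓ Subgroup.centralizer (Q : Set G) with hX₁
  have hX₁n : Z ≤ Subgroup.normalizer (X₁ : Set G) :=
    (le_inf hXn (hQn.trans (LocalP.normalizer_le_normalizer_centralizer Q))).trans
      Subgroup.inf_normalizer_le_normalizer_inf
  have hX₁lt : X₁ < X := lt_of_le_of_ne inf_le_left fun he =>
    hQX (Subgroup.le_centralizer_iff.1 (inf_eq_left.1 he))
  set M := L ⊓ Subgroup.centralizer (X₁ : Set G) with hM
  have hMn : Z ≤ Subgroup.normalizer (M : Set G) :=
    (le_inf hn (hX₁n.trans (LocalP.normalizer_le_normalizer_centralizer X₁))).trans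
      Subgroup.inf_normalizer_le_normalizer_inf
  have hMX : LocalP.resOf p M ≤ CX := by
    rw [hCX, Subgroup.le_centralizer_iff]
    set F := X ⊓ Subgroup.centralizer (LocalP.resOf p M : Set G) with hF
    by_contra hne
    have hFX : ¬ X ≤ F := fun h => hne (h.trans inf_le_right)
    have hFn : Z ≤ Subgroup.normalizer (F : Set G) :=
      (le_inf hXn ((hMn.trans (LocalP.normalizer_le_normalizer_resOf M)).trans
        (LocalP.normalizer_le_normalizer_centralizer _))).trans
        Subgroup.inf_normalizer_le_normalizer_inf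
    set U := X ⊔ S with hU
    have hUZ : U ≤ Z := sup_le ((hXY.trans hYL).trans hLZ) hSZ
    have hUp : IsPGroup p U :=
      (isPGroup_of_elementary hXe).to_sup_of_normal_left' hSp (hSZ.trans hXn)
    haveI : (F.subgroupOf U).Normal := Subgroup.normal_subgroupOf_of_le_normalizer (hUZ.trans hFn)
    haveI : (X.subgroupOf U).Normal := Subgroup.normal_subgroupOf_of_le_normalizer (hUZ.trans hXn)
    set N := (X.subgroupOf U).map (QuotientGroup.mk' (F.subgroupOf U)) with hN
    haveI : N.Normal := (inferInstance : (X.subgroupOf U).Normal).map _ (QuotientGroup.mk'_surjective _)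
    have hNne : N ≠ ⊥ := by
      rw [hN, Ne, Subgroup.map_eq_bot_iff, QuotientGroup.ker_mk']
      intro h
      exact hFX fun x hx => h (show (⟨x, Subgroup.mem_sup_left hx⟩ : ↥U) ∈ X.subgroupOf U from hx)
    obtain ⟨⟨q, ⟨⟨x, hxU⟩, hxX, rfl⟩, hxc⟩, hx1⟩ := Subgroup.ne_bot_iff_exists_ne_one.1
      (PGroup.inf_center_ne_bot (hUp.to_quotient _) N hNne)
    replace hxX : x ∈ X := hxX
    have hxF : x ∉ F := fun h => hx1 (Subtype.ext ((QuotientGroup.eq_one_iff _).2 h))
    refine hxF ⟨hxX, Subgroup.mem_centralizer_iff.2 fun r hr => ?_⟩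
    have hle : LocalP.resOf p M ≤ Subgroup.centralizer ({x} : Set G) := by
      refine LocalP.resOf_le_iff_forall.2 fun u hu hup => ?_
      refine Subgroup.mem_centralizer_iff.2 fun y hy => ?_
      rw [Set.mem_singleton_iff] at hy
      subst y
      have hdX : u * x * u⁻¹ * x⁻¹ ∈ X :=
        mul_mem (LocalP.conj_mem_of_le_normalizer hXn (hLZ hu.1) hxX) (inv_mem hxX)
      have hS_fix : ∀ s ∈ S, s * (u * x * u⁻¹ * x⁻¹) * s⁻¹ = u * x * u⁻¹ * x⁻¹ := by
        intro s hs
        have hf : s * x * s⁻¹ * x⁻¹ ∈ F := by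
          have hcomm := Subgroup.mem_center_iff.1 hxc
            (QuotientGroup.mk' _ (⟨s, Subgroup.mem_sup_right hs⟩ : ↥U))
          rw [← commutatorElement_eq_one_iff_mul_comm, ← map_commutatorElement,
            QuotientGroup.mk'_apply, QuotientGroup.eq_one_iff, Subgroup.mem_subgroupOf] at hcomm
          exact hcomm
        set f := s * x * s⁻¹ * x⁻¹ with hfdef
        set u' := s * u * s⁻¹ with hu'
        have hu'M : u' ∈ M := LocalP.conj_mem_of_le_normalizer hMn (hSZ hs) hu
        have hu'p : (orderOf u').Coprime p := by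
          rw [show u' = MulAut.conj s u from rfl, MulEquiv.orderOf_eq]; exact hup
        have hcf : u' * f * u'⁻¹ = f := by
          rw [Subgroup.mem_centralizer_iff.1 hf.2 u' (LocalP.mem_resOf hu'M hu'p)]
          group
        have hw : u' * u⁻¹ ∈ CX := by
          refine hred (Q ⊓ L) inf_le_right ((le_inf (hLZ.trans hQn) Subgroup.le_normalizer).trans
            Subgroup.inf_normalizer_le_normalizer_inf) (fun q hq => hpow q hq.1)
            (Subgroup.mem_inf.2 ⟨?_, mul_mem (hu'M.1 : u' ∈ L) (inv_mem (hu.1 : u ∈ L))⟩)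
          have : u' * u⁻¹ = s * (u * s⁻¹ * u⁻¹) := by rw [hu']; group
          rw [this]
          have hsQ : s ∈ Q := Subgroup.map_subtype_le _ hs
          exact mul_mem hsQ (LocalP.conj_mem_of_le_normalizer hQn (hLZ hu.1) (inv_mem hsQ))
        have hux : u' * x * u'⁻¹ = u * x * u⁻¹ := by
          have hX' : u * x * u⁻¹ * (u' * u⁻¹) = u' * u⁻¹ * (u * x * u⁻¹) :=
            Subgroup.mem_centralizer_iff.1 hw _ (LocalP.conj_mem_of_le_normalizer hXn (hLZ hu.1) hxX)
          calc u' * x * u'⁻¹ = u' * u⁻¹ * (u * x * u⁻¹) * (u' * u⁻¹)⁻¹ := by group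
            _ = u * x * u⁻¹ := by rw [← hX']; group
        have hfc : f * (u * x * u⁻¹) = (u * x * u⁻¹) * f :=
          congrArg Subtype.val (hXe.1.is_comm.comm (⟨f, hf.1⟩ : ↥X)
            ⟨_, LocalP.conj_mem_of_le_normalizer hXn (hLZ hu.1) hxX⟩)
        calc s * (u * x * u⁻¹ * x⁻¹) * s⁻¹
            = u' * (f * x) * u'⁻¹ * (f * x)⁻¹ := by rw [hu', hfdef]; group
          _ = (u' * f * u'⁻¹) * (u' * x * u'⁻¹) * x⁻¹ * f⁻¹ := by group
          _ = f * (u * x * u⁻¹) * x⁻¹ * f⁻¹ := by rw [hcf, hux]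
          _ = f * (u * x * u⁻¹ * x⁻¹) * f⁻¹ := by group
          _ = u * x * u⁻¹ * x⁻¹ := by
            have := congrArg Subtype.val (hXe.1.is_comm.comm (⟨f, hf.1⟩ : ↥X) ⟨_, hdX⟩)
            simp only [Subgroup.coe_mul] at this
            rw [this]; group
      have hd₁ : u * x * u⁻¹ * x⁻¹ ∈ X₁ := by
        refine ⟨hdX, ?_⟩
        show u * x * u⁻¹ * x⁻¹ ∈ Subgroup.centralizer (Q : Set G)
        rw [← hQS]
        refine Subgroup.mem_centralizer_iff.2 fun q hq => ?_
        have : LocalP.resOf p Q ⊔ S ≤ Subgroup.centralizer ({u * x * u⁻¹ * x⁻¹} : Set G) := by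
          refine sup_le (hQc.trans (Subgroup.centralizer_le (Set.singleton_subset_iff.2 hdX)))
            fun s hs => Subgroup.mem_centralizer_iff.2 fun y hy => ?_
          rw [Set.mem_singleton_iff] at hy
          subst y
          exact (mul_inv_eq_iff_eq_mul.1 (hS_fix s hs)).symm
        exact (Subgroup.mem_centralizer_iff.1 (this hq) _ rfl).symm
      refine (LocalP.commute_of_step (Subgroup.mem_centralizer_iff.1 hu.2 _ hd₁).symm ?_).eq.symm
      exact Nat.Coprime.coprime_dvd_right (orderOf_dvd_of_pow_eq_one (hXe.2 _ hdX)) hup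
    exact (Subgroup.mem_centralizer_iff.1 (hle hr) x rfl).symm
  refine (LocalP.resOf_resOf _).ge.trans ((LocalP.resOf_mono ?_).trans hMX)
  have hrec := ih _ (hc ▸ Fusion.card_lt_card hX₁lt) X₁ rfl (inf_le_left.trans hXY) hX₁n ?_
  · exact le_inf ((LocalP.resOf_le _).trans inf_le_left) hrec
  · intro R hRL hR hR'
    refine le_trans (hred R hRL hR fun r hr => ?_)
      (Subgroup.centralizer_le (SetLike.coe_subset_coe.2 inf_le_left))
    obtain ⟨e, he⟩ := hR' r hr
    obtain ⟨k, hk⟩ := LocalP.exists_pow_coprime (p := p) r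
    refine ⟨k, hMX (LocalP.mem_resOf ⟨pow_mem (hRL hr) _, ?_⟩ hk)⟩
    obtain ⟨m, hm⟩ := exists_pow_eq_self_of_coprime (n := p ^ e) (x := r ^ p ^ k)
      (Nat.Coprime.pow_right e hk).symm
    rw [← hm]
    refine pow_mem ?_ m
    rw [← pow_mul, mul_comm, pow_mul]
    exact pow_mem he _

theorem step {L Z : Subgroup G} (hLZ : L ≤ Z) (hn : Z ≤ Subgroup.normalizer (L : Set G)) :
    L ⊓ Subgroup.centralizer (Cfsg.largestPReducedOf p Z : Set G) ≤
      Subgroup.centralizer (Cfsg.largestPReducedOf p L : Set G) := by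
  obtain ⟨hYn, hYe, hred⟩ := LocalP.largestPReducedOf_spec (p := p) L
  refine hred _ inf_le_left ((le_inf Subgroup.le_normalizer
    ((hLZ.trans (LocalP.largestPReducedOf_spec (p := p) Z).1).trans
      (LocalP.normalizer_le_normalizer_centralizer _))).trans
      Subgroup.inf_normalizer_le_normalizer_inf) fun q hq => ?_
  obtain ⟨k, hk⟩ := LocalP.exists_pow_mem_resOf (p := p) hq
  exact ⟨k, claim hLZ hn (LocalP.largestPReducedOf_le L) hYe _ _ rfl le_rfl
    (hn.trans (normalizer_le_largest L)) hred hk⟩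

theorem largestPReducedOf_top :
    Cfsg.largestPReducedOf p (⊤ : Subgroup G) = Cfsg.largestPReduced p G := by
  obtain ⟨hn, he, hred⟩ := LocalP.largestPReducedOf_spec (p := p) (⊤ : Subgroup G)
  obtain ⟨hn', he', hred'⟩ :=
    (LocalP.isPReducedNormal_iff _).1 (LocalP.largestPReduced_reduced (p := p) (G := G))
  exact le_antisymm
    (LocalP.le_largestPReduced ((LocalP.isPReducedNormal_iff _).2
      ⟨Subgroup.normalizer_eq_top_iff.1 (top_le_iff.1 hn), he, hred⟩))
    (LocalP.le_largestPReducedOf le_top ((Subgroup.normalizer_eq_top_iff.2 hn').ge) he' hred')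

theorem chain (L : Subgroup G) (hL : L.IsSubnormal) :
    L ⊓ Subgroup.centralizer (Cfsg.largestPReduced p G : Set G) ≤
      Subgroup.centralizer (Cfsg.largestPReducedOf p L : Set G) := by
  induction hL with
  | top => rw [largestPReducedOf_top]; exact inf_le_right
  | step Y Z hle _ hn ih =>
    refine le_trans ?_ (step hle ((Subgroup.normal_subgroupOf_iff_le_normalizer hle).1 hn))
    exact le_inf inf_le_left ((inf_le_inf_right _ hle).trans ih)



/-- Let L be a subnormal subgroup of the finite group H, p a prime, Y_H and Y_L the largest p-reduced normal subgroups. Then Y_H ∩ L = Y_H ∩ Y_L and this subgroup is a p-reduced normal subgroup of L; C_L(Y_L) = C_L(Y_H) = C_L(Y_H ∩ L); and if O^p(H) ≤ L, then [Y_L, L] = 1 if and only if [Y_H, H] = 1. -/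
theorem result {H : Type*} [Group H] [Finite H] {p : ℕ} [Fact p.Prime] (L : Subgroup H) (hL : L.IsSubnormal) : Cfsg.largestPReduced p H ⊓ L = Cfsg.largestPReduced p H ⊓ (Cfsg.largestPReducedOf p L) ∧ Cfsg.IsPReducedNormal p ((Cfsg.largestPReduced p H ⊓ L).subgroupOf L) ∧ L ⊓ Subgroup.centralizer ((Cfsg.largestPReducedOf p L : Subgroup H) : Set H) = L ⊓ Subgroup.centralizer (Cfsg.largestPReduced p H : Set H) ∧ L ⊓ Subgroup.centralizer (Cfsg.largestPReduced p H : Set H) = L ⊓ Subgroup.centralizer ((Cfsg.largestPReduced p H ⊓ L : Subgroup H) : Set H) ∧ (Cfsg.pResidual p H ≤ L → (⁅(Cfsg.largestPReducedOf p L), L⁆ = ⊥ ↔ ⁅Cfsg.largestPReduced p H, (⊤ : Subgroup H)⁆ = ⊥)) := by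
  set YH := Cfsg.largestPReduced p H with hYH
  set YL := Cfsg.largestPReducedOf p L with hYL
  obtain ⟨hYHn, hYHe, hYHred⟩ :=
    (LocalP.isPReducedNormal_iff YH).1 LocalP.largestPReduced_reduced
  haveI := hYHn
  have hYHL : L ≤ Subgroup.normalizer ((YH ⊓ L : Subgroup H) : Set H) :=
    (le_inf ((Subgroup.normalizer_eq_top (H := YH)).ge.trans' le_top) Subgroup.le_normalizer).trans
      Subgroup.inf_normalizer_le_normalizer_inf
  have hYHO : YH ≤ Cfsg.pCore p H :=
    LocalP.largestPReduced_le_omega.trans ((LocalP.omega_le _).trans inf_le_left)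
  have hkey : ∀ Q : Subgroup H, Q ≤ L →
      (∀ q ∈ Q, ∃ e : ℕ, q ^ p ^ e ∈ Subgroup.centralizer ((YH ⊓ L : Subgroup H) : Set H)) →
      ∀ q ∈ Q, ∃ e : ℕ, q ^ p ^ e ∈ Subgroup.centralizer (YH : Set H) := by
    intro Q hQL hpow q hq
    obtain ⟨e, he⟩ := hpow q hq
    obtain ⟨k, hk⟩ := LocalP.exists_pow_coprime (p := p) q
    refine ⟨k, Subgroup.mem_centralizer_iff.2 fun v hv => ?_⟩
    have hx : q ^ p ^ k ∈ Subgroup.centralizer ((YH ⊓ L : Subgroup H) : Set H) := by
      obtain ⟨m, hm⟩ := exists_pow_eq_self_of_coprime (n := p ^ e) (x := q ^ p ^ k)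
        (Nat.Coprime.pow_right e hk).symm
      rw [← hm]
      refine pow_mem ?_ m
      rw [← pow_mul, mul_comm, pow_mul]
      exact pow_mem he _
    refine (LocalP.commute_of_commutator_le (B := YH) (A := YH ⊓ L)
      (isPGroup_of_elementary (elementary_mono hYHe inf_le_left)) hk
      (fun a ha => (Subgroup.mem_centralizer_iff.1 hx a ha).symm)
      (le_inf (Subgroup.commutator_le_left _ _) ?_) hv).eq.symm
    refine le_trans (Subgroup.commutator_mono le_rfl
      (Subgroup.zpowers_le.2 (LocalP.mem_resOf (pow_mem (hQL hq) _) hk))) ?_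
    rw [Subgroup.commutator_comm]
    exact (LocalP.commutator_le_of_le_normalizer
      (hYHO.trans (LocalP.pCore_le_normalizer_resOf hL))).trans (LocalP.resOf_le L)
  have hrL : LocalP.RedAct p YH L := LocalP.redAct_of_subnormal hYHn hL hYHred
  have hred : LocalP.RedAct p (YH ⊓ L) L := fun Q hQL hQ hpow =>
    (hrL Q hQL hQ (hkey Q hQL hpow)).trans
      (Subgroup.centralizer_le (SetLike.coe_subset_coe.2 inf_le_left))
  have hle : YH ⊓ L ≤ YL :=
    LocalP.le_largestPReducedOf inf_le_right hYHL (elementary_mono hYHe inf_le_left) hred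
  have hC : L ⊓ Subgroup.centralizer ((YH ⊓ L : Subgroup H) : Set H) ≤
      Subgroup.centralizer (YH : Set H) :=
    hrL _ inf_le_left ((le_inf Subgroup.le_normalizer
      (hYHL.trans (LocalP.normalizer_le_normalizer_centralizer _))).trans
        Subgroup.inf_normalizer_le_normalizer_inf)
      (hkey _ inf_le_left fun q hq => ⟨0, by simpa using hq.2⟩)
  have heq : L ⊓ Subgroup.centralizer (YL : Set H) = L ⊓ Subgroup.centralizer (YH : Set H) :=
    le_antisymm (le_inf inf_le_left ((le_inf inf_le_left (inf_le_right.trans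
      (Subgroup.centralizer_le (SetLike.coe_subset_coe.2 hle)))).trans hC))
      (le_inf inf_le_left (chain L hL))
  refine ⟨le_antisymm (le_inf inf_le_left hle) (inf_le_inf_left _ (LocalP.largestPReducedOf_le L)),
    (LocalP.isPReducedNormal_subgroupOf_iff inf_le_right).2
      ⟨hYHL, elementary_mono hYHe inf_le_left, hred⟩, heq,
    le_antisymm (inf_le_inf_left _ (Subgroup.centralizer_le (SetLike.coe_subset_coe.2 inf_le_left)))
      (le_inf inf_le_left hC), fun hres => ?_⟩
  rw [Subgroup.commutator_eq_bot_iff_le_centralizer, Subgroup.commutator_eq_bot_iff_le_centralizer,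
    Subgroup.le_centralizer_iff, Subgroup.le_centralizer_iff (H := YH)]
  constructor
  · intro h
    have hLc : L ≤ Subgroup.centralizer (YH : Set H) :=
      (le_inf le_rfl h).trans (heq.le.trans inf_le_right)
    refine hYHred ⊤ le_top ((Subgroup.normalizer_eq_top (H := (⊤ : Subgroup H))).ge) fun q _ => ?_
    obtain ⟨k, hk⟩ := LocalP.exists_pow_mem_resOf (p := p) (H := (⊤ : Subgroup H)) (Subgroup.mem_top q)
    rw [LocalP.resOf_top] at hk
    exact ⟨k, hLc (hres hk)⟩
  · intro h
    exact (le_inf le_rfl (le_top.trans h)).trans (heq.ge.trans inf_le_right)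

end Cfsg.Agent.S2825
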