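import Cfsg.Statements.S2826
import Cfsg.Agent.LocalP.PReducedFacts

set_option autoImplicit false
open Cfsg
open scoped commutatorElement

namespace Cfsg.Agent.S2826



/-- Let H be a finite group of characteristic p, T a Sylow p-subgroup, and V a normal elementary abelian p-subgroup of H containing Ω₁(Z(T)). Then C_H(Ω₁(Z(T))) = C_H([V, O^p(H)] ∩ Ω₁(Z(T))), O^p(H) being generated by the elements of order prime to p. -/
theorem result {H : Type*} [Group H] [Finite H] {p : ℕ} [Fact p.Prime] (hH : Subgroup.centralizer (Cfsg.pCore p H : Set H) ≤ Cfsg.pCore p H) (T : Sylow p H) (V : Subgroup H) [V.Normal] (hV : Cfsg.IsElementaryAbelian p V) (hZV : (Cfsg.omegaOne p ((T : Subgroup H) ⊓ Subgroup.centralizer (((T : Subgroup H) : Subgroup H) : Set H))) ≤ V) : Subgroup.centralizer ((Cfsg.omegaOne p ((T : Subgroup H) ⊓ Subgroup.centralizer (((T : Subgroup H) : Subgroup H) : Set H))) : Set H) = Subgroup.centralizer (((⁅V, Cfsg.pResidual p H⁆ ⊓ (Cfsg.omegaOne p ((T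 : Subgroup H) ⊓ Subgroup.centralizer (((T : Subgroup H) : Subgroup H) : Set H)))) : Subgroup H) : Set H) := by
  set Z := Cfsg.omegaOne p ((T : Subgroup H) ⊓ Subgroup.centralizer ((T : Subgroup H) : Set H))
  set D := ⁅V, Cfsg.pResidual p H⁆ with hD
  refine le_antisymm (Subgroup.centralizer_le (SetLike.coe_subset_coe.2 inf_le_right)) ?_
  set K := Subgroup.centralizer ((D ⊓ Z : Subgroup H) : Set H) with hK
  have hTK : (T : Subgroup H) ≤ K := Subgroup.le_centralizer_iff.1
    (inf_le_right.trans ((LocalP.omega_le _).trans inf_le_right))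
  have hVn : K ≤ Subgroup.normalizer (V : Set H) :=
    (Subgroup.normalizer_eq_top (H := V)).ge.trans' le_top
  have hVT : V ≤ (T : Subgroup H) :=
    (Cores.le_pCore ‹V.Normal› fun v => ⟨1, Subtype.ext (by simpa using hV.2 v v.2)⟩).trans
      (Cores.pCore_le_sylow T)
  have hTi : ¬ p ∣ (T : Subgroup H).relIndex K := fun hd =>
    T.not_dvd_index (hd.trans (Subgroup.relIndex_dvd_index_of_le hTK))
  obtain ⟨N, h1, -, h3, -, -⟩ := LocalP.exists_norm hV.1 hVn hTK
  intro x hx
  refine Subgroup.mem_centralizer_iff.2 fun z hz => ?_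
  have hzV : z ∈ V := hZV hz
  have hzT : ∀ t ∈ (T : Subgroup H), t * z = z * t := fun t ht =>
    Subgroup.mem_centralizer_iff.1 (LocalP.omega_le _ hz).2 t ht
  have hzv : z ∈ V ⊓ Subgroup.centralizer ((T : Subgroup H) : Set H) :=
    ⟨hzV, Subgroup.mem_centralizer_iff.2 hzT⟩
  have hd : (z ^ (T : Subgroup H).relIndex K)⁻¹ * N z ∈ D := by
    refine h3 D z hzv fun k _ => ?_
    have hk' : k ∈ (Cfsg.pResidual p H ⊔ (T : Subgroup H) : Subgroup H) := by
      rw [LocalP.pResidual_sup_eq_top]; trivial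
    obtain ⟨r, hr, t, ht, rfl⟩ := Subgroup.mem_sup_of_normal_left.1 hk'
    have e : r * t * z * (r * t)⁻¹ * z⁻¹ = ⁅r, z⁆ := by
      calc r * t * z * (r * t)⁻¹ * z⁻¹ = r * (t * z) * t⁻¹ * r⁻¹ * z⁻¹ := by group
        _ = r * z * r⁻¹ * z⁻¹ := by rw [hzT t ht]; group
        _ = ⁅r, z⁆ := rfl
    rw [e, hD, Subgroup.commutator_comm]
    exact Subgroup.commutator_mem_commutator hr hzV
  set d := (z ^ (T : Subgroup H).relIndex K)⁻¹ * N z with hd'
  have hdV : d ∈ V := mul_mem (inv_mem (pow_mem hzV _)) (h1 z hzv).1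
  have hdT : d ∈ Subgroup.centralizer ((T : Subgroup H) : Set H) :=
    mul_mem (inv_mem (pow_mem hzv.2 _))
      (Subgroup.centralizer_le (SetLike.coe_subset_coe.2 hTK) (h1 z hzv).2)
  have hdZ : d ∈ Z := LocalP.mem_omega ⟨hVT hdV, hdT⟩ (hV.2 d hdV)
  have hcop : ((T : Subgroup H).relIndex K).Coprime (orderOf z) :=
    Nat.Coprime.coprime_dvd_right (orderOf_dvd_of_pow_eq_one (hV.2 z hzV))
      ((Cores.coprime_iff_not_dvd_prime Fact.out).2 hTi)
  obtain ⟨m, hm⟩ := exists_pow_eq_self_of_coprime hcop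
  have hzK : z ∈ Subgroup.centralizer (K : Set H) := by
    rw [← hm]
    refine pow_mem ?_ m
    rw [show z ^ (T : Subgroup H).relIndex K = N z * d⁻¹ by rw [hd']; group]
    refine mul_mem (h1 z hzv).2 (inv_mem (Subgroup.mem_centralizer_iff.2 fun k hk => ?_))
    exact (Subgroup.mem_centralizer_iff.1 hk d ⟨hd, hdZ⟩).symm
  exact (Subgroup.mem_centralizer_iff.1 hzK x hx).symm

end Cfsg.Agent.S2826
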