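import Cfsg.Statements.S2827
import Cfsg.Agent.LocalP.PClosed
import Cfsg.Agent.PGroup.Frattini

set_option autoImplicit false
open Cfsg
open scoped commutatorElement

namespace Cfsg.Agent.S2827



/-- Let H be a finite p-irreducible group (not p-closed, and O^p(H) lies in every normal subgroup that is not p-closed) and T a Sylow p-subgroup. Then H is generated by the conjugates of T and H = H'·T; O^p(H) ≤ H'; and for every normal subgroup Y of T not contained in O_p(H), O^p(H) = [O^p(H), Y] and O^p(H) is contained in the normal closure of Y in H. -/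
theorem result {H : Type*} [Group H] [Finite H] {p : ℕ} [Fact p.Prime] (hH : Cfsg.IsPIrreducible p H) (T : Sylow p H) : Subgroup.normalClosure ((T : Subgroup H) : Set H) = ⊤ ∧ commutator H ⊔ (T : Subgroup H) = ⊤ ∧ Cfsg.pResidual p H ≤ commutator H ∧ ∀ Y : Subgroup H, Y ≤ (T : Subgroup H) → (T : Subgroup H) ≤ Subgroup.normalizer (Y : Set H) → ¬ Y ≤ Cfsg.pCore p H → ⁅Cfsg.pResidual p H, Y⁆ = Cfsg.pResidual p H ∧ Cfsg.pResidual p H ≤ Subgroup.normalClosure (Y : Set H) := by
  obtain ⟨hnc, hirr⟩ := hH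
  set R := Cfsg.pResidual p H with hR
  have hncl : ∀ Y : Subgroup H, IsPGroup p Y → ¬ Y ≤ Cfsg.pCore p H →
      R ≤ Subgroup.normalClosure (Y : Set H) := by
    intro Y hY hYO
    refine hirr _ inferInstance fun hc => hYO fun y hy => ?_
    exact LocalP.isPClosed_normal_iff.1 hc y (Subgroup.subset_normalClosure hy)
      (LocalP.exists_pow_eq_one_of_mem hY hy)
  have htop : R ⊔ (T : Subgroup H) = ⊤ := LocalP.pResidual_sup_eq_top T
  have hTO : ¬ (T : Subgroup H) ≤ Cfsg.pCore p H := by
    intro h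
    refine hnc fun P => ?_
    obtain ⟨g, hg⟩ := Fusion.exists_cj_sylow T P
    have hTn : (T : Subgroup H).Normal := by
      rw [le_antisymm h (Cores.pCore_le_sylow T)]; infer_instance
    rw [← hg, Fusion.cj_eq_of_normal]
    exact hTn
  have hclo : Subgroup.normalClosure ((T : Subgroup H) : Set H) = ⊤ :=
    top_le_iff.1 (htop ▸ sup_le (hncl _ T.2 hTO) Subgroup.le_normalClosure)
  have hcT : commutator H ⊔ (T : Subgroup H) = ⊤ := by
    haveI : (commutator H ⊔ (T : Subgroup H)).Normal := PGroup.normal_of_commutator_le le_sup_left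
    exact LocalP.eq_top_of_le_normal_of_normalClosure hclo le_sup_right
  refine ⟨hclo, hcT, LocalP.pResidual_le_of_sup_eq_top T.2 hcT, fun Y hYT hTY hYO => ?_⟩
  have hYp : IsPGroup p Y := T.2.to_le hYT
  have hRY : R ≤ Subgroup.normalClosure (Y : Set H) := hncl Y hYp hYO
  refine ⟨le_antisymm (Subgroup.commutator_le_left _ _) ?_, hRY⟩
  set C := ⁅R, Y⁆ with hC
  haveI hCn : C.Normal := by
    rw [← Subgroup.normalizer_eq_top_iff, eq_top_iff, ← htop]
    refine sup_le ?_ ?_
    · apply LocalP.le_normalizer_of_conj_mem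
      intro k hk c hc
      have hle : C ≤ C.comap (MulAut.conj k).toMonoidHom := by
        nth_rewrite 1 [hC]
        rw [Subgroup.commutator_le]
        intro a ha y hy
        show k * ⁅a, y⁆ * k⁻¹ ∈ C
        have h3 : k * ⁅a, y⁆ * k⁻¹ = ⁅k * a, y⁆ * ⁅k, y⁆⁻¹ := by
          simp [commutatorElement_def, mul_assoc]
        rw [h3]
        exact mul_mem (Subgroup.commutator_mem_commutator (mul_mem hk ha) hy)
          (inv_mem (Subgroup.commutator_mem_commutator hk hy))
      exact hle hc
    · intro t ht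
      rw [Subgroup.mem_normalizer_iff_map_conj_eq, hC]
      change (⁅R, Y⁆ : Subgroup H).map (MulAut.conj t).toMonoidHom = _
      rw [Subgroup.map_commutator]
      erw [show R.map (MulAut.conj t).toMonoidHom = R from Fusion.cj_eq_of_normal t R, Subgroup.mem_normalizer_iff_map_conj_eq.1 (hTY ht)]
  haveI hCYn : (C ⊔ Y).Normal := by
    rw [← Subgroup.normalizer_eq_top_iff, eq_top_iff, ← htop]
    refine sup_le ?_ ((le_inf (Subgroup.normalizer_eq_top (H := C) ▸ le_top) hTY).trans
      (Subgroup.normalizer_inf_normalizer_le_normalizer_sup _ _))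
    apply LocalP.le_normalizer_of_conj_mem
    intro r hr u hu
    obtain ⟨c, hc, y, hy, rfl⟩ := Subgroup.mem_sup_of_normal_left.1 hu
    have h1 : ⁅r, y⁆ ∈ C := Subgroup.commutator_mem_commutator hr hy
    have h2 : r * (c * y) * r⁻¹ = (r * c * r⁻¹) * ⁅r, y⁆ * y := by
      simp [commutatorElement_def, mul_assoc]
    rw [h2]
    exact mul_mem (Subgroup.mem_sup_left (mul_mem (hCn.conj_mem c hc r) h1)) (Subgroup.mem_sup_right hy)
  have hRle : R ≤ C ⊔ Y := hRY.trans (Subgroup.normalClosure_le_normal (SetLike.coe_subset_coe.2 le_sup_right))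
  rw [hR, ← LocalP.resOf_top] at hRle ⊢
  rw [← LocalP.resOf_resOf]
  refine (LocalP.resOf_mono hRle).trans (LocalP.resOf_le_of_pow_mem fun g hg => ?_)
  obtain ⟨c, hc, y, hy, rfl⟩ := Subgroup.mem_sup_of_normal_left.1 hg
  obtain ⟨k, hk⟩ := LocalP.exists_pow_eq_one_of_mem hYp hy
  refine ⟨k, ?_⟩
  rw [← QuotientGroup.eq_one_iff, QuotientGroup.mk_pow, QuotientGroup.mk_mul,
    (QuotientGroup.eq_one_iff c).2 hc, one_mul, ← QuotientGroup.mk_pow, hk, QuotientGroup.mk_one]

end Cfsg.Agent.S2827
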