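import Cfsg.Statements.S2828
import Cfsg.Agent.LocalP.PClosed

set_option autoImplicit false
open Cfsg

namespace Cfsg.Agent.S2828

theorem isPClosed_map_iff {H : Type*} [Group H] [Finite H] {p : ℕ} [Fact p.Prime] {D : Subgroup H}
    [D.Normal] (hD : IsPGroup p ↥D) (N : Subgroup H) :
    Cfsg.IsPClosed p ↥(N.map (QuotientGroup.mk' D)) ↔ Cfsg.IsPClosed p ↥N := by
  refine ⟨LocalP.isPClosed_of_ker (f := (QuotientGroup.mk' D).subgroupMap N)
    (MonoidHom.subgroupMap_surjective _ N) ?_,
    LocalP.isPClosed_of_surjective (MonoidHom.subgroupMap_surjective _ N)⟩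
  rintro ⟨⟨x, hx⟩, hxk⟩
  have hxD : x ∈ D := by
    rw [MonoidHom.mem_ker] at hxk
    have := congrArg Subtype.val hxk
    simpa [QuotientGroup.eq_one_iff] using this
  obtain ⟨k, hk⟩ := hD ⟨x, hxD⟩
  exact ⟨k, Subtype.ext (Subtype.ext (by simpa using congrArg Subtype.val hk))⟩



/-- Let H be a finite group, p a prime and D a normal p-subgroup of H. Then H is p-irreducible if and only if H/D is p-irreducible, and H is strongly p-irreducible if and only if H/D is strongly p-irreducible. -/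
theorem result {H : Type*} [Group H] [Finite H] {p : ℕ} [Fact p.Prime] (D : Subgroup H) [D.Normal] (hD : IsPGroup p ↥D) : (Cfsg.IsPIrreducible p H ↔ Cfsg.IsPIrreducible p (H ⧸ D)) ∧ (Cfsg.IsStronglyPIrreducible p H ↔ Cfsg.IsStronglyPIrreducible p (H ⧸ D)) := by
  set f := QuotientGroup.mk' D with hf
  have hfs : Function.Surjective f := QuotientGroup.mk'_surjective D
  have hclosed : Cfsg.IsPClosed p H ↔ Cfsg.IsPClosed p (H ⧸ D) :=
    ⟨LocalP.isPClosed_of_surjective hfs,
      LocalP.isPClosed_of_ker hfs (by rwa [hf, QuotientGroup.ker_mk'])⟩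
  have hres : (Cfsg.pResidual p H).map f = Cfsg.pResidual p (H ⧸ D) :=
    Cores.map_pResidual_of_surjective f hfs
  have hcore : Cfsg.pCore p (H ⧸ D) = (Cfsg.pCore p H).map f := Cores.pCore_quotient hD
  have hback : ∀ N : Subgroup H, N.Normal → Cfsg.pResidual p (H ⧸ D) ≤ N.map f →
      Cfsg.pResidual p H ≤ N := by
    intro N hN hle
    haveI := hN
    rw [← hres, Subgroup.map_le_iff_le_comap, Subgroup.comap_map_eq, hf, QuotientGroup.ker_mk'] at hle
    rw [← LocalP.resOf_top] at hle ⊢
    rw [← LocalP.resOf_resOf]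
    refine (LocalP.resOf_mono hle).trans (LocalP.resOf_le_of_pow_mem fun g hg => ?_)
    obtain ⟨n, hn, d, hd, rfl⟩ := Subgroup.mem_sup_of_normal_left.1 hg
    obtain ⟨k, hk⟩ := hD ⟨d, hd⟩
    refine ⟨k, ?_⟩
    rw [← QuotientGroup.eq_one_iff, QuotientGroup.mk_pow, QuotientGroup.mk_mul,
      (QuotientGroup.eq_one_iff n).2 hn, one_mul, ← QuotientGroup.mk_pow]
    have := congrArg Subtype.val hk
    simp only [SubmonoidClass.coe_pow, Subgroup.coe_one] at this
    rw [this, QuotientGroup.mk_one]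
  have hfwd : ∀ M : Subgroup (H ⧸ D), Cfsg.pResidual p H ≤ M.comap f →
      Cfsg.pResidual p (H ⧸ D) ≤ M := fun M hle => by
    rw [← hres, Subgroup.map_le_iff_le_comap]; exact hle
  constructor
  · constructor
    · rintro ⟨h1, h2⟩
      refine ⟨fun h => h1 (hclosed.2 h), fun M hM hMc => hfwd M (h2 _ (hM.comap f) fun h => hMc ?_)⟩
      rw [← Subgroup.map_comap_eq_self_of_surjective hfs M]
      exact (isPClosed_map_iff hD _).2 h
    · rintro ⟨h1, h2⟩
      exact ⟨fun h => h1 (hclosed.1 h), fun N hN hNc =>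
        hback N hN (h2 _ (hN.map f hfs) fun h => hNc ((isPClosed_map_iff hD N).1 h))⟩
  · constructor
    · rintro ⟨h1, h2⟩
      refine ⟨fun h => h1 (hclosed.2 h), fun M hM hMc => hfwd M (h2 _ (hM.comap f) fun h => hMc ?_)⟩
      have := Subgroup.map_mono (f := f) h
      rwa [Subgroup.map_commutator, Subgroup.map_comap_eq_self_of_surjective hfs,
        Subgroup.map_top_of_surjective f hfs, ← hcore] at this
    · rintro ⟨h1, h2⟩
      refine ⟨fun h => h1 (hclosed.1 h), fun N hN hNc => hback N hN (h2 _ (hN.map f hfs) fun h => hNc ?_)⟩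
      rw [hcore, ← Subgroup.map_top_of_surjective f hfs, ← Subgroup.map_commutator,
        Subgroup.map_le_iff_le_comap, Subgroup.comap_map_eq, hf, QuotientGroup.ker_mk',
        sup_eq_left.2 (Cores.le_pCore inferInstance hD)] at h
      exact h

end Cfsg.Agent.S2828
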