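import Cfsg.Statements.S2829
import Cfsg.Agent.LocalP.PClosed

set_option autoImplicit false
open Cfsg

namespace Cfsg.Agent.S2829



/-- Every strongly p-irreducible finite group is p-irreducible. -/
theorem result {H : Type*} [Group H] [Finite H] {p : ℕ} [Fact p.Prime] (hH : Cfsg.IsStronglyPIrreducible p H) : Cfsg.IsPIrreducible p H := by
  refine ⟨hH.1, fun N hN hnc => hH.2 N hN fun hle => hnc ?_⟩
  rw [LocalP.isPClosed_normal_iff]
  rintro x hx ⟨k, hk⟩
  have hn : (Cfsg.pCore p H ⊔ Subgroup.zpowers x).Normal := by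
    refine ⟨fun y hy g => ?_⟩
    obtain ⟨a, ha, b, hb, rfl⟩ := Subgroup.mem_sup_of_normal_left.1 hy
    obtain ⟨m, rfl⟩ := hb
    have h1 : g * x ^ m * g⁻¹ * (x ^ m)⁻¹ ∈ Cfsg.pCore p H := by
      apply hle
      rw [Subgroup.commutator_comm]
      exact Subgroup.commutator_mem_commutator (Subgroup.mem_top g) (zpow_mem hx m)
    have : g * (a * x ^ m) * g⁻¹ = (g * a * g⁻¹ * (g * x ^ m * g⁻¹ * (x ^ m)⁻¹)) * x ^ m := by group
    show g * (a * x ^ m) * g⁻¹ ∈ _
    rw [this]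
    exact mul_mem (Subgroup.mem_sup_left (mul_mem ((inferInstance : (Cfsg.pCore p H).Normal).conj_mem a ha g) h1))
      (Subgroup.mem_sup_right (zpow_mem (Subgroup.mem_zpowers x) m))
  have hz : IsPGroup p (Subgroup.zpowers x) := by
    rintro ⟨y, m, rfl⟩
    refine ⟨k, Subtype.ext ?_⟩
    show (x ^ m) ^ p ^ k = 1
    rw [← zpow_natCast (x ^ m), ← zpow_mul, mul_comm, zpow_mul, zpow_natCast, hk, one_zpow]
  exact Cores.le_pCore hn (Cores.pCore_isPGroup.to_sup_of_normal_left hz)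
    (Subgroup.mem_sup_right (Subgroup.mem_zpowers x))

end Cfsg.Agent.S2829
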