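import Cfsg.Statements.S2830
import Cfsg.Agent.LocalP.PClosed

set_option autoImplicit false
open Cfsg

namespace Cfsg.Agent.S2830



/-- Let H act by conjugation on the elementary abelian p-subgroup V of a finite group G (H ≤ N(V)), with H p-irreducible and O^p(H) not centralizing V. Then C_H(V) is p-closed and C_T(V) ≤ O_p(H) for every p-subgroup T of H. If in addition O_p(H) centralizes V, then C_T(V) = T ∩ O_p(H) for every p-subgroup T of H, and V is p-reduced for H: O_p(H/C_H(V)) = 1. -/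
theorem result {G : Type*} [Group G] [Finite G] {p : ℕ} [Fact p.Prime] (V H : Subgroup G) (hV : Cfsg.IsElementaryAbelian p V) (hHV : H ≤ Subgroup.normalizer (V : Set G)) (hH : Cfsg.IsPIrreducible p ↥H) (hnc : ¬ (Cfsg.pResidual p ↥H).map H.subtype ≤ Subgroup.centralizer (V : Set G)) [hn : ((Subgroup.centralizer (V : Set G)).subgroupOf H).Normal] : Cfsg.IsPClosed p ↥(H ⊓ Subgroup.centralizer (V : Set G)) ∧ (∀ T : Subgroup G, T ≤ H → IsPGroup p ↥T → T ⊓ Subgroup.centralizer (V : Set G) ≤ Cfsg.pCoreOf p H) ∧ (Cfsg.pCoreOf p H ≤ Subgroup.centralizer (V : Set G) → (∀ T : Subgroup G, T ≤ H → IsPGroup p ↥T → T ⊓ Subgroup.centralizer (V : Set G) = T ⊓ Cfsg.pCoreOf p H) ∧ Cfsg.pCore p (↥H ⧸ (Subgroup.centralizer (V : Set G)).subgroupOf H) = ⊥) := by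
  obtain ⟨hncl, hirr⟩ := hH
  set C := (Subgroup.centralizer (V : Set G)).subgroupOf H with hC
  have hCmap : C.map H.subtype = H ⊓ Subgroup.centralizer (V : Set G) := by
    rw [hC, Subgroup.subgroupOf_map_subtype, inf_comm]
  have hRC : ¬ Cfsg.pResidual p ↥H ≤ C := fun h => hnc (by
    refine (Subgroup.map_mono h).trans ?_
    rw [hCmap]; exact inf_le_right)
  have hCc : Cfsg.IsPClosed p ↥C := by
    by_contra h
    exact hRC (hirr C hn h)
  have hCT : ∀ T : Subgroup G, T ≤ H → IsPGroup p ↥T →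
      T ⊓ Subgroup.centralizer (V : Set G) ≤ Cfsg.pCoreOf p H := by
    rintro T hTH hT x ⟨hxT, hxC⟩
    obtain ⟨k, hk⟩ := LocalP.exists_pow_eq_one_of_mem hT hxT
    exact ⟨⟨x, hTH hxT⟩, LocalP.isPClosed_normal_iff.1 hCc _ hxC ⟨k, Subtype.ext hk⟩, rfl⟩
  refine ⟨?_, hCT, fun hO => ⟨fun T hTH hT => le_antisymm (le_inf inf_le_left (hCT T hTH hT))
    (le_inf inf_le_left (inf_le_right.trans hO)), ?_⟩⟩
  · exact (LocalP.isPClosed_congr ((C.equivMapOfInjective H.subtype H.subtype_injective).trans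
      (MulEquiv.subgroupCongr hCmap))).1 hCc
  have hOC : Cfsg.pCore p ↥H ≤ C := fun x hx =>
    hO (Subgroup.mem_map_of_mem H.subtype hx)
  set K := (Cfsg.pCore p (↥H ⧸ C)).comap (QuotientGroup.mk' C) with hK
  haveI : K.Normal := inferInstance
  have hKc : Cfsg.IsPClosed p ↥K := by
    by_contra h
    refine hRC ?_
    have h1 := hirr K inferInstance h
    rw [← LocalP.resOf_top] at h1 ⊢
    rw [← LocalP.resOf_resOf]
    refine (LocalP.resOf_mono h1).trans (LocalP.resOf_le_of_pow_mem fun g hg => ?_)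
    obtain ⟨k, hk⟩ := LocalP.exists_pow_eq_one_of_mem Cores.pCore_isPGroup hg
    refine ⟨k, ?_⟩
    rw [← QuotientGroup.eq_one_iff, QuotientGroup.mk_pow]
    exact hk
  rw [eq_bot_iff]
  intro q hq
  obtain ⟨g, rfl⟩ := QuotientGroup.mk'_surjective C q
  have hgK : g ∈ K := hq
  obtain ⟨k, hk⟩ := LocalP.exists_pow_eq_one_of_mem Cores.pCore_isPGroup hq
  set m := (Cfsg.pCore p ↥K).index with hm
  have hmC : g ^ m ∈ C := by
    apply hOC
    have h := Subgroup.pow_index_mem (Cfsg.pCore p ↥K) ⟨g, hgK⟩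
    have h2 : g ^ m ∈ Cfsg.pCoreOf p K := ⟨_, h, rfl⟩
    rw [LocalP.pCoreOf_normal_eq] at h2
    exact h2.2
  have h1 : QuotientGroup.mk' C g ^ m = 1 := by
    rw [← map_pow]
    exact (QuotientGroup.eq_one_iff _).2 hmC
  rw [Subgroup.mem_bot, ← orderOf_eq_one_iff]
  exact Nat.eq_one_of_dvd_coprimes
    (((Fact.out : p.Prime).coprime_iff_not_dvd.2
      (LocalP.not_dvd_index_pCore_of_isPClosed hKc)).pow_left k)
    (orderOf_dvd_of_pow_eq_one hk) (orderOf_dvd_of_pow_eq_one h1)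

end Cfsg.Agent.S2830
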