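import Cfsg.Statements.S2831
import Cfsg.Agent.LocalP.PClosed

set_option autoImplicit false
open Cfsg

namespace Cfsg.Agent.S2831



/-- Let H be a finite group with Sylow p-subgroup T such that H is T-minimal (H is generated by the conjugates of T and T lies in exactly one maximal subgroup of H). Then H is p-irreducible: H is not p-closed and O^p(H) lies in every normal subgroup of H that is not p-closed. -/
theorem result {H : Type*} [Group H] [Finite H] {p : ℕ} [Fact p.Prime] (T : Sylow p H) (hmin : Cfsg.IsMinimalOver (T : Subgroup H)) : Cfsg.IsPIrreducible p H := by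
  refine ⟨fun hc => LocalP.not_normal_of_isMinimalOver hmin (hc T), fun N hN hNc => ?_⟩
  obtain ⟨M, ⟨hM, hTM⟩, -⟩ := hmin.2
  haveI := hN
  refine LocalP.pResidual_le_of_sup_eq_top T.2 ?_
  by_contra hne
  have hNT : N ⊔ (T : Subgroup H) ≤ M :=
    LocalP.le_of_isMinimalOver hmin hM hTM le_sup_right hne
  set Q := (T : Subgroup H) ⊓ N with hQ
  have hTQ : (T : Subgroup H) ≤ Subgroup.normalizer (Q : Set H) :=
    (le_inf Subgroup.le_normalizer ((Subgroup.normalizer_eq_top (H := N)).ge.trans' le_top)).trans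
      Subgroup.inf_normalizer_le_normalizer_inf
  have hQne : Subgroup.normalizer (Q : Set H) ≠ ⊤ := by
    intro h
    apply hNc
    rw [LocalP.isPClosed_normal_iff_sylow T]
    exact Cores.le_pCore (Subgroup.normalizer_eq_top_iff.1 h) (T.2.to_le inf_le_left)
  have hQM : Subgroup.normalizer (Q : Set H) ≤ M :=
    LocalP.le_of_isMinimalOver hmin hM hTM hTQ hQne
  refine hM.1 (top_le_iff.1 ?_)
  intro g _
  have hQp : ¬ p ∣ Q.relIndex N := by
    rw [hQ, Subgroup.inf_relIndex_right]
    exact fun h => T.not_dvd_index (h.trans (LocalP.relIndex_dvd_index (T : Subgroup H) N))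
  have hQ' : ¬ p ∣ (Fusion.cj g Q).relIndex N := by
    nth_rewrite 1 [← Fusion.cj_eq_of_normal g N]
    rw [Fusion.cj, Fusion.cj, Subgroup.relIndex_map_map_of_injective _ _ (MulEquiv.injective _)]
    exact hQp
  have hQN : Fusion.cj g Q ≤ N := by
    rw [← Fusion.cj_eq_of_normal g N]; exact Fusion.cj_mono g inf_le_right
  obtain ⟨y, hy, hy'⟩ := Fusion.exists_conj_of_relIndex (Fusion.isPGroup_cj (T.2.to_le inf_le_left) g)
    (T.2.to_le inf_le_left) hQN inf_le_right hQ' hQp
  rw [Fusion.cj_cj, Fusion.cj_eq_iff_mem_normalizer] at hy'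
  have := mul_mem (inv_mem (hNT (Subgroup.mem_sup_left hy))) (hQM hy')
  simpa using this

end Cfsg.Agent.S2831
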