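import Cfsg.Statements.S2832
import Cfsg.Agent.LocalP.PClosed

set_option autoImplicit false
open Cfsg

namespace Cfsg.Agent.S2832



/-- Let H be a finite group with Sylow p-subgroup T such that H is T-minimal (generated by the conjugates of T, with T in exactly one maximal subgroup), and let N be a normal subgroup of H. Then either H/N is a p-group or H/N is minimal over the image of T in the same sense. -/
theorem result {H : Type*} [Group H] [Finite H] {p : ℕ} [Fact p.Prime] (T : Sylow p H) (hmin : Cfsg.IsMinimalOver (T : Subgroup H)) (N : Subgroup H) [N.Normal] : IsPGroup p (H ⧸ N) ∨ Cfsg.IsMinimalOver ((T : Subgroup H).map (QuotientGroup.mk' N)) := by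
  set f := QuotientGroup.mk' N with hf
  have hfs : Function.Surjective f := QuotientGroup.mk'_surjective N
  obtain ⟨M, ⟨hM, hTM⟩, -⟩ := hmin.2
  by_cases hTN : N ⊔ (T : Subgroup H) = ⊤
  · left
    refine T.2.of_surjective (f.comp (T : Subgroup H).subtype) fun q => ?_
    obtain ⟨g, rfl⟩ := hfs q
    obtain ⟨n, hn, x, hx, rfl⟩ := Subgroup.mem_sup_of_normal_left.1 (hTN ▸ Subgroup.mem_top g :
      g ∈ N ⊔ (T : Subgroup H))
    exact ⟨⟨x, hx⟩, by simp [hf, (QuotientGroup.eq_one_iff n).2 hn]⟩
  · right
    have hNTM : N ⊔ (T : Subgroup H) ≤ M := LocalP.le_of_isMinimalOver hmin hM hTM le_sup_right hTN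
    refine ⟨?_, M.map f, ⟨⟨?_, fun K hK => ?_⟩, Subgroup.map_mono hTM⟩, fun K ⟨hK, hTK⟩ => ?_⟩
    · rw [Subgroup.coe_map, ← Subgroup.map_normalClosure _ f hfs, hmin.1,
        Subgroup.map_top_of_surjective f hfs]
    · intro h
      have := congrArg (Subgroup.comap f) h
      rw [Subgroup.comap_map_eq, Subgroup.comap_top, hf, QuotientGroup.ker_mk',
        sup_eq_left.2 (le_sup_left.trans hNTM)] at this
      exact hM.1 this
    · have h1 := Subgroup.comap_lt_comap_of_surjective hfs |>.2 hK
      rw [Subgroup.comap_map_eq, hf, QuotientGroup.ker_mk',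
        sup_eq_left.2 (le_sup_left.trans hNTM)] at h1
      have h2 := congrArg (Subgroup.map f) (hM.2 _ h1)
      rwa [Subgroup.map_comap_eq_self_of_surjective hfs, Subgroup.map_top_of_surjective f hfs] at h2
    · have hne : K.comap f ≠ ⊤ := fun h => hK.1 (by
        rw [← Subgroup.map_comap_eq_self_of_surjective hfs K, h, Subgroup.map_top_of_surjective f hfs])
      have hle : K ≤ M.map f := by
        rw [← Subgroup.map_comap_eq_self_of_surjective hfs K]
        exact Subgroup.map_mono
          (LocalP.le_of_isMinimalOver hmin hM hTM (Subgroup.map_le_iff_le_comap.1 hTK) hne)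
      rcases eq_or_lt_of_le hle with h | h
      · exact h
      · have h2 := congrArg (Subgroup.comap f) (hK.2 _ h)
        rw [Subgroup.comap_map_eq, Subgroup.comap_top, hf, QuotientGroup.ker_mk',
          sup_eq_left.2 (le_sup_left.trans hNTM)] at h2
        exact absurd h2 hM.1

end Cfsg.Agent.S2832
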