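import Cfsg.Statements.S2833
import Cfsg.Agent.LocalP.Basic

set_option autoImplicit false
open Cfsg
open scoped commutatorElement
open scoped Pointwise

namespace Cfsg.Agent.S2833

theorem le_normalizer_commutator {G : Type*} [Group G] {V X : Subgroup G} :
    V ≤ Subgroup.normalizer ((⁅V, X⁆ : Subgroup G) : Set G) := by
  apply LocalP.le_normalizer_of_conj_mem
  intro k hk c hc
  have hle : ⁅V, X⁆ ≤ (⁅V, X⁆ : Subgroup G).comap (MulAut.conj k).toMonoidHom := by
    rw [Subgroup.commutator_le]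
    intro a ha y hy
    show k * ⁅a, y⁆ * k⁻¹ ∈ ⁅V, X⁆
    have h3 : k * ⁅a, y⁆ * k⁻¹ = ⁅k * a, y⁆ * ⁅k, y⁆⁻¹ := by
      simp [commutatorElement_def, mul_assoc]
    rw [h3]
    exact mul_mem (Subgroup.commutator_mem_commutator (mul_mem hk ha) hy)
      (inv_mem (Subgroup.commutator_mem_commutator hk hy))
  exact hle hc



/-- Let V be a subgroup of a finite group G normalized by the subgroup L, let X ≤ L and g ∈ L with [V, X, X] = 1 and L generated by X and gXg⁻¹. Put W = [V, L]. Then W = [V, X]·[V, gXg⁻¹], C_W(X) = [V, X], and C_W(L) = [V, X] ∩ [V, gXg⁻¹]. -/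
theorem result {G : Type*} [Group G] [Finite G] (V L : Subgroup G) (hLV : L ≤ Subgroup.normalizer (V : Set G)) (X : Subgroup G) (hX : X ≤ L) (g : G) (hg : g ∈ L) (hq : ⁅⁅V, X⁆, X⁆ = ⊥) (hgen : X ⊔ X.map (MulAut.conj g).toMonoidHom = L) (W : Subgroup G) (hW : W = ⁅V, L⁆) : ⁅V, X⁆ ⊔ ⁅V, X.map (MulAut.conj g).toMonoidHom⁆ = W ∧ W ⊓ Subgroup.centralizer (X : Set G) = ⁅V, X⁆ ∧ W ⊓ Subgroup.centralizer (L : Set G) = ⁅V, X⁆ ⊓ ⁅V, X.map (MulAut.conj g).toMonoidHom⁆ := by
  subst W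
  set X' := X.map (MulAut.conj g).toMonoidHom with hX'
  have hX'L : X' ≤ L := hgen ▸ le_sup_right
  set Z := ⁅V, X⁆ with hZ
  set Z' := ⁅V, X'⁆ with hZ'
  have hVg : V.map (MulAut.conj g).toMonoidHom = V :=
    Subgroup.mem_normalizer_iff_map_conj_eq.1 (hLV hg)
  have hZg : Z.map (MulAut.conj g).toMonoidHom = Z' := by
    rw [hZ, Subgroup.map_commutator, hVg]
  have hZV : Z ≤ V := LocalP.commutator_le_of_le_normalizer (hX.trans hLV)
  have hZ'V : Z' ≤ V := LocalP.commutator_le_of_le_normalizer (hX'L.trans hLV)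
  have hq' : ⁅Z', X'⁆ = ⊥ := by
    rw [← hZg, hX', ← Subgroup.map_commutator, hq, Subgroup.map_bot]
  have hsup : ∀ X₁ : Subgroup G, ∀ Y₁ : Subgroup G, ⁅V, X₁⁆ ≤ Y₁ → Y₁ ≤ V →
      ∀ y ∈ X₁, ∀ u ∈ Y₁, y * u * y⁻¹ ∈ Y₁ := by
    intro X₁ Y₁ h1 h2 y hy u hu
    have h3 : ⁅y, u⁆ ∈ Y₁ := h1 (Subgroup.commutator_comm X₁ V ▸
      Subgroup.commutator_mem_commutator hy (h2 hu))
    simpa [commutatorElement_def] using mul_mem h3 hu
  have hL : L ≤ Subgroup.normalizer ((Z ⊔ Z' : Subgroup G) : Set G) := by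
    rw [← hgen, sup_le_iff]
    exact ⟨LocalP.le_normalizer_of_conj_mem (hsup X _ le_sup_left (sup_le hZV hZ'V)),
      LocalP.le_normalizer_of_conj_mem (hsup X' _ le_sup_right (sup_le hZV hZ'V))⟩
  have hW : Z ⊔ Z' = ⁅V, L⁆ := by
    refine le_antisymm (sup_le (Subgroup.commutator_mono le_rfl hX)
      (Subgroup.commutator_mono le_rfl hX'L)) ?_
    rw [Subgroup.commutator_le]
    intro v hv l hl
    rw [← hgen, Subgroup.sup_eq_closure] at hl
    induction hl using Subgroup.closure_induction with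
    | mem x hx =>
      rcases hx with hx | hx
      · exact Subgroup.mem_sup_left (Subgroup.commutator_mem_commutator hv hx)
      · exact Subgroup.mem_sup_right (Subgroup.commutator_mem_commutator hv hx)
    | one => simp
    | mul x y hx' _ hx hy =>
      rw [← Subgroup.sup_eq_closure, hgen] at hx'
      rw [show ⁅v, x * y⁆ = ⁅v, x⁆ * (x * ⁅v, y⁆ * x⁻¹) by simp [commutatorElement_def, mul_assoc]]
      exact mul_mem hx (LocalP.conj_mem_of_le_normalizer hL hx' hy)
    | inv x hx' hx =>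
      rw [← Subgroup.sup_eq_closure, hgen] at hx'
      rw [show ⁅v, x⁻¹⁆ = x⁻¹ * ⁅v, x⁆⁻¹ * x⁻¹⁻¹ by simp [commutatorElement_def, mul_assoc]]
      exact LocalP.conj_mem_of_le_normalizer hL (inv_mem hx') (inv_mem hx)
  have hZc : ∀ z ∈ Z, ∀ x ∈ X, x * z = z * x := by
    intro z hz x hx
    have h := Subgroup.commutator_mem_commutator hz hx
    rw [hq, Subgroup.mem_bot, commutatorElement_eq_one_iff_commute] at h
    exact h.symm
  have hZ'c : ∀ z ∈ Z', ∀ x ∈ X', x * z = z * x := by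
    intro z hz x hx
    have h := Subgroup.commutator_mem_commutator hz hx
    rw [hq', Subgroup.mem_bot, commutatorElement_eq_one_iff_commute] at h
    exact h.symm
  have hWle : Z ≤ ⁅V, L⁆ ∧ Z' ≤ ⁅V, L⁆ := ⟨hW ▸ le_sup_left, hW ▸ le_sup_right⟩
  have hmain : ⁅V, L⁆ ⊓ Subgroup.centralizer (X : Set G) = Z := by
    refine le_antisymm ?_ (le_inf hWle.1 fun z hz => Subgroup.mem_centralizer_iff.2 (hZc z hz))
    rintro w ⟨hw, hwc⟩
    have hw' : w ∈ ((Z ⊔ Z' : Subgroup G) : Set G) := hW.symm ▸ hw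
    rw [Subgroup.coe_mul_of_right_le_normalizer_left Z Z' (hZ'V.trans le_normalizer_commutator)] at hw'
    obtain ⟨a, ha, b, hb, rfl⟩ := Set.mem_mul.1 hw'
    have hbX : ∀ x ∈ X, x * b = b * x := by
      intro x hx
      have h1 := Subgroup.mem_centralizer_iff.1 hwc x hx
      rw [← mul_assoc, hZc a ha x hx, mul_assoc, mul_assoc] at h1
      exact mul_left_cancel h1
    have hbL : b ∈ Subgroup.centralizer (L : Set G) := by
      rw [← hgen, Subgroup.sup_eq_closure, Subgroup.centralizer_closure, Subgroup.mem_centralizer_iff]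
      rintro x (hx | hx)
      · exact hbX x hx
      · exact hZ'c b hb x hx
    have hbg : b ∈ Z := by
      rw [← hZg] at hb
      obtain ⟨z, hz, hzb⟩ := hb
      simp only [MulEquiv.coe_toMonoidHom, MulAut.conj_apply] at hzb
      have h2 := Subgroup.mem_centralizer_iff.1 hbL g hg
      have : z = b := by
        have e : z = g⁻¹ * b * g := by rw [← hzb]; group
        rw [e, mul_assoc, ← h2, inv_mul_cancel_left]
      exact this ▸ hz
    exact mul_mem ha hbg
  refine ⟨hW, hmain, le_antisymm (fun w hw => ?_) (fun z hz => ⟨hWle.1 hz.1, ?_⟩)⟩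
  · have hwX : w ∈ Z := by
      rw [← hmain]
      exact ⟨hw.1, Subgroup.centralizer_le (SetLike.coe_subset_coe.2 hX) hw.2⟩
    refine ⟨hwX, ?_⟩
    rw [← hZg]
    refine ⟨w, hwX, ?_⟩
    simp only [MulEquiv.coe_toMonoidHom, MulAut.conj_apply]
    rw [Subgroup.mem_centralizer_iff.1 hw.2 g hg, mul_inv_cancel_right]
  · rw [← hgen, Subgroup.sup_eq_closure]
    refine (Subgroup.centralizer_closure _).ge ?_
    rw [Subgroup.mem_centralizer_iff]
    rintro x (hx | hx)
    · exact hZc z hz.1 x hx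
    · exact hZ'c z hz.2 x hx

end Cfsg.Agent.S2833
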