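import Cfsg.Statements.S2834
import Cfsg.Agent.LocalP.PClosed

set_option autoImplicit false
open Cfsg

namespace Cfsg.Agent.S2834

open Cfsg.Agent.Fusion

variable {H : Type*} [Group H] [Finite H] {p : ℕ} [Fact p.Prime]

theorem isCoatom_cj {X : Subgroup H} (hX : IsCoatom X) (h : H) : IsCoatom (cj h X) := by
  refine ⟨fun e => hX.1 ?_, fun Y hY => ?_⟩
  · rw [← cj_inv_cj h X, e, cj_eq_of_normal]
  · have h2 : X < cj h⁻¹ Y := by
      refine lt_of_le_not_ge ?_ fun hle => hY.not_ge ?_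
      · exact (cj_inv_cj h X).symm.le.trans (cj_mono _ hY.le)
      · rw [← cj_cj_inv h Y]; exact cj_mono h hle
    rw [← cj_cj_inv h Y, hX.2 _ h2, cj_eq_of_normal]

theorem exists_mem_of_lt {ι : Type*} {Q : ι → Subgroup H} {D : Subgroup H}
    (h : ¬ (⨆ i, Q i) ≤ D) : ∃ i, ¬ Q i ≤ D := by
  by_contra hne
  exact h (iSup_le fun i => not_not.1 fun hi => hne ⟨i, hi⟩)

theorem main (T : Sylow p H) (hmin : Cfsg.IsMinimalOver (T : Subgroup H)) (M : Subgroup H)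
    (hM : IsCoatom M) (hTM : (T : Subgroup H) ≤ M) (U : Subgroup H) (hUT : U ≤ (T : Subgroup H))
    (hU : ¬ U ≤ Cfsg.pCore p H) (hQU : Cfsg.pCore p H ≤ U) :
    ∃ (h g : H) (L : Subgroup H),
      cj h U ⊔ Cfsg.pCoreOf p L ≤ L ⊓ cj g M ∧ L ⊓ cj g M < L ∧ cj h U ≤ L ∧
      (∀ X : Subgroup H, cj h U ⊔ Cfsg.pCoreOf p L ≤ X → X < L → X ≤ L ⊓ cj g M) ∧
      ∀ x ∈ L, x ∉ L ⊓ cj g M → cj h U ⊔ cj x (cj h U) ⊔ Cfsg.pCoreOf p L = L := by
  classical
  -- maximal subgroups over Sylow subgroups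
  have huniq : ∀ (S : Sylow p H) (X Y : Subgroup H), IsCoatom X → IsCoatom Y →
      (S : Subgroup H) ≤ X → (S : Subgroup H) ≤ Y → X = Y := by
    intro S X Y hX hY hSX hSY
    obtain ⟨k, hk⟩ := exists_cj_sylow S T
    have h1 := hmin.2.unique ⟨isCoatom_cj hX k, hk.ge.trans (cj_mono k hSX)⟩
      ⟨isCoatom_cj hY k, hk.ge.trans (cj_mono k hSY)⟩
    rw [← cj_inv_cj k X, h1, cj_inv_cj]
  have hex : ∀ S : Sylow p H, ∃ k, (S : Subgroup H) ≤ cj k M ∧ cj k (T : Subgroup H) = S := by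
    intro S
    obtain ⟨k, hk⟩ := exists_cj_sylow T S
    exact ⟨k, hk.ge.trans (cj_mono k hTM), hk⟩
  have hselfnorm : ∀ k : H, ∀ x ∈ Subgroup.normalizer (cj k M : Set H), x ∈ cj k M := by
    intro k x hx
    rcases eq_or_lt_of_le (Subgroup.le_normalizer (H := cj k M)) with he | hlt
    · exact he.symm ▸ hx
    · exfalso
      have hn : (cj k M).Normal :=
        Subgroup.normalizer_eq_top_iff.1 ((isCoatom_cj hM k).2 _ hlt)
      have := LocalP.eq_top_of_le_normal_of_normalClosure (N := cj k M) hmin.1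
        ((cj_eq_of_normal k⁻¹ (cj k M)).le.trans' ((cj_inv_cj k M).ge.trans' hTM))
      exact (isCoatom_cj hM k).1 this
  -- the class and the subgroups generated by it
  let gen : Subgroup H → Subgroup H := fun P => ⨆ v : {v : H // cj v U ≤ P}, cj (v : H) U
  have gen_le : ∀ P, gen P ≤ P := fun P => iSup_le fun v => v.2
  have le_gen : ∀ (P : Subgroup H) (v : H), cj v U ≤ P → cj v U ≤ gen P := fun P v hv =>
    le_iSup (fun v : {v : H // cj v U ≤ P} => cj (v : H) U) ⟨v, hv⟩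
  have gen_mono : ∀ P P' : Subgroup H, P ≤ P' → gen P ≤ gen P' := fun P P' hle =>
    iSup_le fun v => le_gen P' v (v.2.trans hle)
  have gen_idem : ∀ P, gen (gen P) = gen P := fun P =>
    le_antisymm (gen_le _) (iSup_le fun v => le_gen _ v (le_gen P v v.2))
  have gen_cj : ∀ (k : H) (P : Subgroup H), cj k (gen P) = gen (cj k P) := by
    have h1 : ∀ (k : H) (P : Subgroup H), cj k (gen P) ≤ gen (cj k P) := by
      intro k P
      rw [cj, Subgroup.map_iSup]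
      refine iSup_le fun v => ?_
      change cj k (cj (v : H) U) ≤ _
      rw [cj_cj]
      exact le_gen _ _ (by rw [← cj_cj]; exact cj_mono k v.2)
    intro k P
    refine le_antisymm (h1 k P) ?_
    have h2 := cj_mono k (h1 k⁻¹ (cj k P))
    rwa [cj_cj_inv, cj_inv_cj] at h2
  have genU : ∀ S : Sylow p H, ∃ v, cj v U ≤ (S : Subgroup H) := by
    intro S
    obtain ⟨k, -, hk⟩ := hex S
    exact ⟨k, (cj_mono k hUT).trans hk.le⟩
  -- a pair with maximal intersection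
  let P := {q : Sylow p H × Sylow p H // ∃ X Y : Subgroup H, IsCoatom X ∧ IsCoatom Y ∧
    (q.1 : Subgroup H) ≤ X ∧ (q.2 : Subgroup H) ≤ Y ∧ X ≠ Y}
  haveI : Nonempty P := by
    by_contra hP
    rw [not_nonempty_iff] at hP
    have hall : ∀ k, cj k M = M := fun k => by
      by_contra hne
      exact hP.elim ⟨(T, k • T), M, cj k M, hM, isCoatom_cj hM k, hTM,
        by rw [coe_smul_sylow]; exact cj_mono k hTM, Ne.symm hne⟩
    have : M.Normal := Subgroup.normalizer_eq_top_iff.1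
      (top_le_iff.1 fun k _ => cj_eq_iff_mem_normalizer.1 (hall k))
    exact hM.1 (LocalP.eq_top_of_le_normal_of_normalClosure hmin.1 hTM)
  obtain ⟨⟨⟨S, S'⟩, M₁, M₂, hM₁, hM₂, hS, hS', hne⟩, hmax⟩ := Finite.exists_max
    fun q : P => Nat.card (gen ((q.1.1 : Subgroup H) ⊓ (q.1.2 : Subgroup H)))
  dsimp only at hS hS' hmax
  set D := gen ((S : Subgroup H) ⊓ (S' : Subgroup H)) with hD
  have hDS : D ≤ (S : Subgroup H) := (gen_le _).trans inf_le_left
  have hDS' : D ≤ (S' : Subgroup H) := (gen_le _).trans inf_le_right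
  have hkey : ∀ (S₁ S₂ : Sylow p H) (X Y : Subgroup H), IsCoatom X → IsCoatom Y →
      (S₁ : Subgroup H) ≤ X → (S₂ : Subgroup H) ≤ Y →
      D < gen ((S₁ : Subgroup H) ⊓ (S₂ : Subgroup H)) → X = Y := by
    intro S₁ S₂ X Y hX hY h1 h2 hlt
    by_contra hXY
    exact (card_lt_card hlt).not_ge (hmax ⟨(S₁, S₂), X, Y, hX, hY, h1, h2, hXY⟩)
  have hRne : ∀ S₀ : Sylow p H, D ≤ (S₀ : Subgroup H) → (∀ v, cj v U ≤ (S₀ : Subgroup H) → cj v U ≤ D) →
      False := by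
    intro S₀ hD₀ hall
    set R := gen (S₀ : Subgroup H) with hR
    have hDR : D = R := by
      refine le_antisymm ?_ (iSup_le fun v => hall v v.2)
      rw [hD, ← gen_idem]
      exact gen_mono _ _ hD₀
    have hcard : ∀ S₁ : Sylow p H, Nat.card (gen (S₁ : Subgroup H)) = Nat.card R := by
      intro S₁
      obtain ⟨k, hk⟩ := exists_cj_sylow S₀ S₁
      rw [← hk, ← gen_cj, card_cj]
    have heq : ∀ S₁ : Sylow p H, D ≤ (S₁ : Subgroup H) → gen (S₁ : Subgroup H) = D := by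
      intro S₁ h1
      refine (Subgroup.eq_of_le_of_card_ge ?_ (le_of_eq ((hcard S₁).trans (congrArg (fun X : Subgroup H => Nat.card X) hDR.symm)))).symm
      rw [hD, ← gen_idem]
      exact gen_mono _ _ h1
    have hN : ∀ S₁ : Sylow p H, D ≤ (S₁ : Subgroup H) →
        (S₁ : Subgroup H) ≤ Subgroup.normalizer (D : Set H) := by
      intro S₁ h1 s hs
      refine cj_eq_iff_mem_normalizer.1 ?_
      rw [← heq S₁ h1, gen_cj, cj_eq_self_of_mem hs]
    have hne' : Subgroup.normalizer (D : Set H) ≠ ⊤ := by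
      intro htop
      apply hU
      have hDO : D ≤ Cfsg.pCore p H :=
        Cores.le_pCore (Subgroup.normalizer_eq_top_iff.1 htop) (S.2.to_le hDS)
      obtain ⟨v, hv⟩ := genU S₀
      have h2 := cj_mono v⁻¹ ((hall v hv).trans hDO)
      rwa [cj_inv_cj, cj_eq_of_normal] at h2
    obtain ⟨X, hX, hle⟩ := LocalP.exists_le_isCoatom hne'
    exact hne ((huniq S M₁ X hM₁ hX hS ((hN S hDS).trans hle)).trans
      (huniq S' M₂ X hM₂ hX hS' ((hN S' hDS').trans hle)).symm)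
  have hgrow : ∀ S₀ : Sylow p H, D ≤ (S₀ : Subgroup H) →
      ∃ v, cj v U ≤ (S₀ : Subgroup H) ⊓ Subgroup.normalizer (D : Set H) ∧ ¬ cj v U ≤ D := by
    intro S₀ hD₀
    by_contra hne'
    push Not at hne'
    set N₀ := (S₀ : Subgroup H) ⊓ Subgroup.normalizer (D : Set H) with hN₀
    have hgenN : gen N₀ = D := by
      refine le_antisymm (iSup_le fun v => hne' v v.2) ?_
      rw [hD, ← gen_idem]
      exact gen_mono _ _ (le_inf hD₀ Subgroup.le_normalizer)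
    have heq : N₀ = (S₀ : Subgroup H) := by
      by_contra hlt
      obtain ⟨n, ⟨hnS, hn⟩, hn'⟩ := SetLike.exists_of_lt
        (lt_normalizer_inf S₀.2 (lt_of_le_of_ne inf_le_left hlt))
      refine hn' ⟨hnS, cj_eq_iff_mem_normalizer.1 ?_⟩
      rw [← hgenN, gen_cj, cj_eq_of_mem hn]
    exact hRne S₀ hD₀ fun v hv => hne' v (heq.ge.trans' hv)
  obtain ⟨w, hw, hwD⟩ := hgrow S hDS
  obtain ⟨z, hz, hzD⟩ := hgrow S' hDS'
  set P₀ := D ⊔ cj w U with hP₀
  have hP₀S : P₀ ≤ (S : Subgroup H) := sup_le hDS (hw.trans inf_le_left)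
  have hlt₀ : ∀ (S₁ : Sylow p H), P₀ ≤ (S₁ : Subgroup H) →
      D < gen ((S : Subgroup H) ⊓ (S₁ : Subgroup H)) := by
    intro S₁ h1
    refine lt_of_le_not_ge ?_ fun hle => hwD ((le_gen _ w ?_).trans hle)
    · rw [hD, ← gen_idem]
      exact gen_mono _ _ (le_inf hDS (le_sup_left.trans h1))
    · exact le_inf (hw.trans inf_le_left) (le_sup_right.trans h1)
  have hone : ∀ X : Subgroup H, (∃ k, X = cj k M) → P₀ ≤ X → X = M₁ := by
    rintro X ⟨k, rfl⟩ hPX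
    obtain ⟨V, hV⟩ := ((S.2.to_le hP₀S).comap_subtype (K := cj k M)).exists_le_sylow
    obtain ⟨m, hm⟩ := exists_cj_sylow ((k • T).subtype
      (show ((k • T : Sylow p H) : Subgroup H) ≤ cj k M by rw [coe_smul_sylow]; exact cj_mono k hTM)) V
    set S₁ := (m : H) • (k • T) with hS₁
    have hS₁k : (S₁ : Subgroup H) = (V : Subgroup ↥(cj k M)).map (cj k M).subtype := by
      have hle' : ((k • T : Sylow p H) : Subgroup H) ≤ cj k M := by
        rw [coe_smul_sylow]; exact cj_mono k hTM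
      rw [← hm, hS₁, coe_smul_sylow, Sylow.coe_subtype]
      conv_lhs => rw [← Subgroup.map_subgroupOf_eq_of_le hle']
      simp only [cj, Subgroup.map_map]
      rfl
    exact (hkey S S₁ M₁ _ hM₁ (isCoatom_cj hM k) hS (hS₁k ▸ Subgroup.map_subtype_le _)
      (hlt₀ S₁ (hS₁k ▸ fun x hx => ⟨⟨x, hPX hx⟩, hV hx, rfl⟩))).symm
  set K := P₀ ⊔ cj z U with hK
  have hKN : K ≤ Subgroup.normalizer (D : Set H) :=
    sup_le (sup_le Subgroup.le_normalizer (hw.trans inf_le_right)) (hz.trans inf_le_right)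
  have hKM : ¬ K ≤ M₁ := by
    intro hle
    set P₁ := D ⊔ cj z U
    have hP₁S : P₁ ≤ (S' : Subgroup H) := sup_le hDS' (hz.trans inf_le_left)
    have hP₁K : P₁ ≤ K := sup_le (le_sup_left.trans le_sup_left) le_sup_right
    obtain ⟨V₀, hV₀⟩ := ((S.2.to_le hP₀S).comap_subtype (K := K)).exists_le_sylow
    obtain ⟨V₁, hV₁⟩ := ((S'.2.to_le hP₁S).comap_subtype (K := K)).exists_le_sylow
    obtain ⟨e, he⟩ := exists_cj_sylow V₀ V₁
    obtain ⟨S₃, hS₃⟩ := (V₀.2.map K.subtype).exists_le_sylow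
    have hP₀S₃ : P₀ ≤ (S₃ : Subgroup H) := fun x hx =>
      hS₃ ⟨⟨x, (le_sup_left : P₀ ≤ K) hx⟩, hV₀ hx, rfl⟩
    have hP₁S₄ : P₁ ≤ cj (e : H) (S₃ : Subgroup H) := by
      intro x hx
      refine cj_mono (e : H) hS₃ ?_
      have h1 : (⟨x, hP₁K hx⟩ : ↥K) ∈ cj e (V₀ : Subgroup ↥K) := he.symm ▸ hV₁ hx
      obtain ⟨y, hy, hyx⟩ := h1
      exact ⟨_, ⟨y, hy, rfl⟩, congrArg Subtype.val hyx⟩
    obtain ⟨k, hk, -⟩ := hex S₃
    have h3 : cj k M = M₁ := (hkey S S₃ M₁ _ hM₁ (isCoatom_cj hM k) hS hk (hlt₀ S₃ hP₀S₃)).symm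
    have h4 : M₁ = M₂ := by
      refine (hkey S' ((e : H) • S₃) M₂ M₁ hM₂ hM₁ hS' ?_ ?_).symm
      · rw [coe_smul_sylow, ← cj_eq_self_of_mem (hle e.2)]
        exact cj_mono _ (hk.trans h3.le)
      · refine lt_of_le_not_ge ?_ fun hle' => hzD ((le_gen _ z ?_).trans hle')
        · rw [hD, ← gen_idem]
          refine gen_mono _ _ (le_inf hDS' ?_)
          rw [coe_smul_sylow]; exact le_sup_left.trans hP₁S₄
        · refine le_inf (hz.trans inf_le_left) ?_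
          rw [coe_smul_sylow]; exact le_sup_right.trans hP₁S₄
    exact hne h4
  obtain ⟨L, ⟨hP₀L, hLK, hLM⟩, hLmin⟩ := Set.Finite.exists_minimal (s :=
    {L : Subgroup H | P₀ ≤ L ∧ L ≤ K ∧ ¬ L ≤ M₁}) (Set.toFinite _) ⟨K, le_sup_left, le_rfl, hKM⟩
  obtain ⟨k, hk⟩ : ∃ k, cj k M = M₁ := by
    obtain ⟨k, hk, -⟩ := hex S
    exact ⟨k, huniq S _ _ (isCoatom_cj hM k) hM₁ hk hS⟩
  have hprop : ∀ X : Subgroup H, P₀ ≤ X → X < L → X ≤ M₁ := fun X h1 h2 => by
    by_contra h3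
    exact h2.not_ge (hLmin ⟨h1, h2.le.trans hLK, h3⟩ h2.le)
  have hDO : D ≤ Cfsg.pCoreOf p L :=
    LocalP.le_pCoreOf (le_sup_left.trans hP₀L) (hLK.trans hKN) (S.2.to_le hDS)
  have hwL : cj w U ≤ L := le_sup_right.trans hP₀L
  set E := cj w U ⊔ Cfsg.pCoreOf p L with hE
  have hEP : P₀ ≤ E := sup_le (hDO.trans le_sup_right) le_sup_left
  have hEp : IsPGroup p E := (S.2.to_le (hw.trans inf_le_left)).to_sup_of_normal_right'
    (LocalP.pCoreOf_isPGroup L) (hwL.trans (LocalP.le_normalizer_pCoreOf L))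
  have hEM : E ≤ M₁ := by
    obtain ⟨S₁, hS₁⟩ := hEp.exists_le_sylow
    obtain ⟨k₁, hk₁, -⟩ := hex S₁
    exact hS₁.trans (hk₁.trans (hone _ ⟨k₁, rfl⟩ ((hEP.trans hS₁).trans hk₁)).le)
  refine ⟨w, k, L, ?_, ?_, hwL, ?_, ?_⟩
  · rw [hk]; exact le_inf (sup_le hwL (LocalP.pCoreOf_le L)) hEM
  · rw [hk]; exact lt_of_le_of_ne inf_le_left fun e => hLM (inf_eq_left.1 e)
  · intro X hX hXL
    rw [hk]
    exact le_inf hXL.le (hprop X (hEP.trans hX) hXL)
  · intro x hx hxL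
    refine le_antisymm (sup_le (sup_le hwL
      ((cj_mono x hwL).trans (cj_eq_self_of_mem hx).le)) (LocalP.pCoreOf_le L)) ?_
    by_contra hne'
    set X := cj w U ⊔ cj x (cj w U) ⊔ Cfsg.pCoreOf p L with hX
    have hXle : X ≤ L := sup_le (sup_le hwL ((cj_mono x hwL).trans (cj_eq_self_of_mem hx).le))
      (LocalP.pCoreOf_le L)
    have hXM : X ≤ M₁ := hprop X
      (hEP.trans (sup_le (le_sup_left.trans le_sup_left) le_sup_right))
      (lt_of_le_not_ge hXle hne')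
    have h1 : cj x E ≤ M₁ := by
      refine le_trans ?_ hXM
      rw [hE, cj, Subgroup.map_sup]
      exact sup_le (le_sup_right.trans le_sup_left)
        ((cj_eq_of_mem (LocalP.le_normalizer_pCoreOf L hx)).le.trans le_sup_right)
    have h2 : cj x⁻¹ M₁ = M₁ := by
      refine hone _ ⟨x⁻¹ * k, by rw [← cj_cj, hk]⟩ (hEP.trans ?_)
      have h3 := cj_mono x⁻¹ h1
      rwa [cj_inv_cj] at h3
    have h4 := hselfnorm k x⁻¹ (by rw [hk]; exact cj_eq_iff_mem_normalizer.1 h2)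
    exact hxL ⟨hx, by simpa using inv_mem h4⟩

theorem pCoreOf_cj (h : H) (L : Subgroup H) :
    cj h (Cfsg.pCoreOf p L) = Cfsg.pCoreOf p (cj h L) := by
  have key : ∀ (h : H) (L : Subgroup H), cj h (Cfsg.pCoreOf p L) ≤ Cfsg.pCoreOf p (cj h L) := by
    intro h L
    refine LocalP.le_pCoreOf (cj_mono h (LocalP.pCoreOf_le L)) ?_
      (isPGroup_cj (LocalP.pCoreOf_isPGroup L) h)
    rw [← cj_normalizer]
    exact cj_mono h (LocalP.le_normalizer_pCoreOf L)
  refine le_antisymm (key h L) ?_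
  have h2 := cj_mono h (key h⁻¹ (cj h L))
  rwa [cj_cj_inv, cj_inv_cj] at h2



/-- The L-Lemma: let H be a finite group with Sylow p-subgroup T such that H is T-minimal (generated by the conjugates of T, T in exactly one maximal subgroup M), and let A ≤ T with A not contained in O_p(H). Then there is a subgroup L of H containing A·O_p(H) such that (a) A·O_p(L) lies in exactly one maximal subgroup L₀ of L, and L₀ = L ∩ gMg⁻¹ for some g ∈ H; (b) L = ⟨A, xAx⁻¹⟩·O_p(L) for every x ∈ L outside L₀. -/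
theorem result {H : Type*} [Group H] [Finite H] {p : ℕ} [Fact p.Prime] (T : Sylow p H) (hmin : Cfsg.IsMinimalOver (T : Subgroup H)) (M : Subgroup H) (hM : IsCoatom M ∧ (T : Subgroup H) ≤ M) (A : Subgroup H) (hAT : A ≤ (T : Subgroup H)) (hA : ¬ A ≤ Cfsg.pCore p H) : ∃ L : Subgroup H, A ⊔ Cfsg.pCore p H ≤ L ∧ ∃ L₀ : Subgroup H, A ⊔ (Cfsg.pCoreOf p L) ≤ L₀ ∧ L₀ < L ∧ (∀ X : Subgroup H, A ⊔ (Cfsg.pCoreOf p L) ≤ X → X < L → X ≤ L₀) ∧ (∃ g : H, L₀ = L ⊓ ((M : Subgroup H).map (MulAut.conj (g : H)).toMonoidHom)) ∧ ∀ x ∈ L, x ∉ L₀ → (A ⊔ ((A : Subgroup H).map (MulAut.conj (x : H)).toMonoidHom)) ⊔ (Cfsg.pCoreOf p L) = L := by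
  set U := A ⊔ Cfsg.pCore p H with hU
  have hUT : U ≤ (T : Subgroup H) := sup_le hAT (Cores.pCore_le_sylow T)
  obtain ⟨h, g, L, h1, h2, h3, h4, h5⟩ :=
    main T hmin M hM.1 hM.2 U hUT (fun hle => hA (le_sup_left.trans hle)) le_sup_right
  set L' := Fusion.cj h⁻¹ L with hL'
  have hUL : U ≤ L' := by
    have := Fusion.cj_mono h⁻¹ h3
    rwa [Fusion.cj_inv_cj] at this
  have hQO : Cfsg.pCore p H ≤ Cfsg.pCoreOf p L' := LocalP.le_pCoreOf (le_sup_right.trans hUL)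
    ((Subgroup.normalizer_eq_top (H := Cfsg.pCore p H)).ge.trans' le_top) Cores.pCore_isPGroup
  have hsup : U ⊔ Cfsg.pCoreOf p L' = A ⊔ Cfsg.pCoreOf p L' := by
    rw [hU, sup_assoc, sup_eq_right.2 hQO]
  have hconj : Fusion.cj h⁻¹ (L ⊓ Fusion.cj g M) = L' ⊓ Fusion.cj (h⁻¹ * g) M := by
    rw [Fusion.cj_inf, Fusion.cj_cj]
  refine ⟨L', hUL, L' ⊓ Fusion.cj (h⁻¹ * g) M, ?_, ?_, ?_, ⟨h⁻¹ * g, rfl⟩, ?_⟩
  · rw [← hsup, ← hconj, hL', ← pCoreOf_cj]
    have := Fusion.cj_mono h⁻¹ h1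
    rwa [Fusion.cj, Subgroup.map_sup, ← Fusion.cj, ← Fusion.cj, Fusion.cj_inv_cj] at this
  · rw [← hconj, hL']
    refine lt_of_le_not_ge (Fusion.cj_mono _ h2.le) fun hle => h2.not_ge ?_
    have := Fusion.cj_mono h hle
    rwa [Fusion.cj_cj_inv, Fusion.cj_cj_inv] at this
  · intro X hX hXL
    rw [← hconj]
    have hX' : Fusion.cj h U ⊔ Cfsg.pCoreOf p L ≤ Fusion.cj h X := by
      have := Fusion.cj_mono h (hsup.le.trans hX)
      rwa [Fusion.cj, Subgroup.map_sup, ← Fusion.cj, ← Fusion.cj, pCoreOf_cj, hL',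
        Fusion.cj_cj_inv] at this
    have hlt : Fusion.cj h X < L := by
      refine lt_of_le_not_ge ?_ fun hle => hXL.not_ge ?_
      · exact (Fusion.cj_mono h hXL.le).trans (Fusion.cj_cj_inv h L).le
      · have := Fusion.cj_mono h⁻¹ hle
        rwa [Fusion.cj_inv_cj] at this
    have := Fusion.cj_mono h⁻¹ (h4 _ hX' hlt)
    rwa [Fusion.cj_inv_cj] at this
  · intro x hx hxL
    have hx' : h * x * h⁻¹ ∈ L := Fusion.mem_cj_inv.1 hx
    have hxL' : h * x * h⁻¹ ∉ L ⊓ Fusion.cj g M := fun hm =>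
      hxL (by rw [← hconj]; exact Fusion.mem_cj_inv.2 hm)
    have h6 := congrArg (Fusion.cj h⁻¹) (h5 _ hx' hxL')
    rw [Fusion.cj, Subgroup.map_sup, Subgroup.map_sup, ← Fusion.cj, ← Fusion.cj, ← Fusion.cj,
      Fusion.cj_inv_cj, pCoreOf_cj, Fusion.cj_cj, Fusion.cj_cj, ← hL',
      show h⁻¹ * (h * x * h⁻¹) * h = x by group, hU, Fusion.cj, Subgroup.map_sup, ← Fusion.cj,
      ← Fusion.cj, Fusion.cj_eq_of_normal x (Cfsg.pCore p H)] at h6
    refine le_antisymm ?_ (le_trans h6.ge (sup_le (sup_le (sup_le ?_ ?_) (sup_le ?_ ?_)) le_sup_right))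
    · exact sup_le (sup_le (le_sup_left.trans hUL)
        ((Fusion.cj_mono x (le_sup_left.trans hUL)).trans (Fusion.cj_eq_self_of_mem hx).le))
        (LocalP.pCoreOf_le L')
    · exact le_sup_left.trans le_sup_left
    · exact hQO.trans le_sup_right
    · exact le_sup_right.trans le_sup_left
    · exact hQO.trans le_sup_right

end Cfsg.Agent.S2834
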