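import Cfsg.Statements.S2836
import Cfsg.Agent.LocalP.YMinimal
import Cfsg.Agent.Coprime.Action

set_option autoImplicit false
open Cfsg

namespace Cfsg.Agent.S2836



/-- Let L be a finite group, L₀ a maximal subgroup, T a Sylow p-subgroup of L₀, Y ≤ T, and suppose L is Y-minimal. Let D be the intersection of the conjugates of L₀ (the core of L₀). Then D contains O_p(L) and D/O_p(L) is the Frattini subgroup of L/O_p(L), so D is p-closed; and every normal subgroup N of L contained in L₀ is p-closed with N/O_p(N) a nilpotent group of order prime to p. -/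
theorem result {L : Type*} [Group L] [Finite L] {p : ℕ} [Fact p.Prime] (L₀ : Subgroup L) (hL₀ : IsCoatom L₀) (T : Sylow p ↥L₀) (Y : Subgroup L) (hYT : Y ≤ (T : Subgroup ↥L₀).map L₀.subtype) (hmin : Cfsg.IsMinimalOver Y) : (Cfsg.pCore p L ≤ L₀.normalCore ∧ (L₀.normalCore).map (QuotientGroup.mk' (Cfsg.pCore p L)) = frattini (L ⧸ Cfsg.pCore p L) ∧ Cfsg.IsPClosed p ↥(L₀.normalCore)) ∧ ∀ (N : Subgroup L) [N.Normal], N ≤ L₀ → Cfsg.IsPClosed p ↥N ∧ Group.IsNilpotent (↥N ⧸ Cfsg.pCore p ↥N) ∧ (Nat.card (↥N ⧸ Cfsg.pCore p ↥N)).Coprime p := by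
  have h : LocalP.YConf p L₀ Y :=
    ⟨hL₀, hYT.trans (Subgroup.map_subtype_le _), (T.2.map L₀.subtype).to_le hYT, hmin⟩
  obtain ⟨P, hP⟩ := h.exists_sylow_eq T hYT
  have hYP : Y ≤ (P : Subgroup L) := hP ▸ hYT
  set O := Cfsg.pCore p L with hO
  set f := QuotientGroup.mk' O with hf
  have hfs : Function.Surjective f := QuotientGroup.mk'_surjective O
  have hker : f.ker = O := QuotientGroup.ker_mk' O
  have hup : ∀ X : Subgroup (L ⧸ O), Y.map f ≤ X → X ≠ ⊤ → X ≤ L₀.map f := by
    intro X hX hne
    rw [← Subgroup.map_comap_eq_self_of_surjective hfs X]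
    refine Subgroup.map_mono (h.le_of (Subgroup.map_le_iff_le_comap.1 hX) fun he => hne ?_)
    rw [← Subgroup.map_comap_eq_self_of_surjective hfs X, he, Subgroup.map_top_of_surjective f hfs]
  have hcomapL₀ : (L₀.map f).comap f = L₀ := by
    rw [Subgroup.comap_map_eq, hker, sup_eq_left.2 h.pCore_le]
  -- normal subgroups inside `L₀` are p-closed
  have hclosed : ∀ (N : Subgroup L) [N.Normal], N ≤ L₀ → Cfsg.IsPClosed p ↥N := by
    intro N _ hN
    rw [LocalP.isPClosed_normal_iff_sylow P]
    set Q := (P : Subgroup L) ⊓ N with hQ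
    have hYQ : Y ≤ Subgroup.normalizer (Q : Set L) := by
      refine hYP.trans ((le_inf Subgroup.le_normalizer ?_).trans Subgroup.inf_normalizer_le_normalizer_inf)
      exact (Subgroup.normalizer_eq_top (H := N)).ge.trans' le_top
    by_cases hQn : Subgroup.normalizer (Q : Set L) = ⊤
    · exact Cores.le_pCore (Subgroup.normalizer_eq_top_iff.1 hQn) (P.2.to_le inf_le_left)
    exfalso
    have hNQ := h.le_of hYQ hQn
    refine h.coatom.1 (top_le_iff.1 fun g _ => ?_)
    have hi := LocalP.not_dvd_relIndex_sylow_normal P N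
    have h1 : Fusion.cj g Q ≤ N := (Fusion.cj_mono g inf_le_right).trans (Fusion.cj_eq_of_normal g N).le
    have h2 : ¬ p ∣ (Fusion.cj g Q).relIndex N := by
      nth_rewrite 1 [← Fusion.cj_eq_of_normal g N]
      rw [Fusion.cj, Fusion.cj, Subgroup.relIndex_map_map_of_injective _ _ (MulEquiv.injective _)]
      exact hi
    obtain ⟨n, hn, hn'⟩ := Fusion.exists_conj_of_relIndex (Fusion.isPGroup_cj (P.2.to_le inf_le_left) g)
      (P.2.to_le inf_le_left) h1 inf_le_right h2 hi
    rw [Fusion.cj_cj, Fusion.cj_eq_iff_mem_normalizer] at hn'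
    simpa using mul_mem (inv_mem (hN hn)) (hNQ hn')
  -- their images in `L / O_p(L)` have order prime to `p` and are nilpotent
  have himg : ∀ (N : Subgroup L) [N.Normal], N ≤ L₀ →
      (Nat.card ↥(N.map f)).Coprime p ∧ Group.IsNilpotent ↥(N.map f) := by
    intro N _ hN
    haveI hNn : (N.map f).Normal := (inferInstance : N.Normal).map f hfs
    have hcop : (Nat.card ↥(N.map f)).Coprime p := by
      rw [Cores.coprime_iff_not_dvd_prime Fact.out]
      intro hd
      obtain ⟨⟨x, hx⟩, hxo⟩ := exists_prime_orderOf_dvd_card' (G := ↥(N.map f)) p hd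
      rw [← Subgroup.orderOf_coe] at hxo
      change orderOf x = p at hxo
      have hxp : x ^ p ^ 1 = 1 := by
        have h0 := pow_orderOf_eq_one x
        rw [pow_one]
        rwa [hxo] at h0
      have hcl := LocalP.isPClosed_of_surjective (MonoidHom.subgroupMap_surjective f N) (hclosed N hN)
      have h1 := LocalP.isPClosed_normal_iff.1 hcl x hx ⟨1, hxp⟩
      have h1' : x = 1 := Subgroup.mem_bot.1 ((Cores.pCore_quotient_pCore_eq_bot (p := p) (G := L)).le h1)
      rw [h1', orderOf_one] at hxo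
      exact (Fact.out : p.Prime).ne_one hxo.symm
    refine ⟨hcop, Group.isNilpotent_of_finite_tfae.out 0 3 |>.2 fun r hr R => ?_⟩
    haveI := hr
    have hA : Y.map f ≤ Subgroup.normalizer (N.map f : Set (L ⧸ O)) :=
      (Subgroup.normalizer_eq_top (H := N.map f)).ge.trans' le_top
    have hAp : IsPGroup p ↥(Y.map f) := h.isPGroup.map f
    have hAcop : (Nat.card ↥(Y.map f)).Coprime (Nat.card ↥(N.map f)) := by
      obtain ⟨e, he⟩ := IsPGroup.iff_card.1 hAp
      rw [he]; exact (hcop.pow_right e).symm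
    have hsol : Group.IsSolvable ↥(Y.map f) := by
      haveI := hAp.isNilpotent
      infer_instance
    obtain ⟨R', hR'⟩ := Coprime.exists_invariant_sylow r hA hAcop (Or.inl hsol)
    set R₁ := (R' : Subgroup ↥(N.map f)).map (N.map f).subtype
    have hnorm : (R' : Subgroup ↥(N.map f)).Normal := by
      by_cases hn : Subgroup.normalizer (R₁ : Set (L ⧸ O)) = ⊤
      · haveI := Subgroup.normalizer_eq_top_iff.1 hn
        have : (R' : Subgroup ↥(N.map f)) = R₁.subgroupOf (N.map f) := by
          rw [Subgroup.subgroupOf, Subgroup.comap_map_eq_self_of_injective (N.map f).subtype_injective]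
        rw [this]; infer_instance
      exfalso
      have hle := hup _ hR' hn
      have htop := Sylow.normalizer_sup_eq_top R'
      have h2 : Subgroup.normalizer (R₁ : Set (L ⧸ O)) ⊔ N.map f ≤ L₀.map f :=
        sup_le hle (Subgroup.map_mono hN)
      rw [htop] at h2
      exact h.coatom.1 (by rw [← hcomapL₀, top_le_iff.1 h2, Subgroup.comap_top])
    obtain ⟨m, hm⟩ := Fusion.exists_cj_sylow R' R
    rw [← hm, Fusion.cj_eq_of_normal]
    exact hnorm
  have hON : Cfsg.pCore p L ≤ L₀.normalCore := Subgroup.normal_le_normalCore.2 h.pCore_le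
  have hcoat : IsCoatom (L₀.map f) := by
    refine ⟨fun he => h.coatom.1 (by rw [← hcomapL₀, he, Subgroup.comap_top]), fun X hX => ?_⟩
    have h1 := (Subgroup.comap_lt_comap_of_surjective hfs).2 hX
    rw [hcomapL₀] at h1
    have h2 := congrArg (Subgroup.map f) (h.coatom.2 _ h1)
    rwa [Subgroup.map_comap_eq_self_of_surjective hfs, Subgroup.map_top_of_surjective f hfs] at h2
  refine ⟨⟨hON, le_antisymm ?_ ?_, hclosed _ L₀.normalCore_le⟩, fun N _ hN => ⟨hclosed N hN, ?_⟩⟩
  · -- every maximal subgroup of the quotient contains the image of the core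
    haveI : (L₀.normalCore.map f).Normal := (inferInstance : L₀.normalCore.Normal).map f hfs
    refine le_iInf₂ fun X (hX : IsCoatom X) => ?_
    by_contra hne
    have hsup : X ⊔ L₀.normalCore.map f = ⊤ :=
      hX.2 _ (lt_of_le_of_ne le_sup_left fun e => hne (e ▸ le_sup_right))
    have hindex : ¬ p ∣ X.index := by
      intro hd
      apply (Cores.coprime_iff_not_dvd_prime Fact.out).1 (himg _ L₀.normalCore_le).1
      refine hd.trans ?_
      have h2 := Subgroup.relIndex_mul_relIndex (X ⊓ L₀.normalCore.map f) X (X ⊔ L₀.normalCore.map f)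
        inf_le_left le_sup_left
      have h3 := Subgroup.relIndex_mul_relIndex (X ⊓ L₀.normalCore.map f) (L₀.normalCore.map f)
        (X ⊔ L₀.normalCore.map f) inf_le_right le_sup_right
      rw [Subgroup.relIndex_sup_right, Subgroup.inf_relIndex_right] at h3
      rw [Subgroup.inf_relIndex_left] at h2
      have h4 : X.relIndex (X ⊔ L₀.normalCore.map f) = X.relIndex (L₀.normalCore.map f) :=
        Nat.eq_of_mul_eq_mul_left (Nat.pos_of_ne_zero Subgroup.index_ne_zero_of_finite)
          ((h2.trans h3.symm).trans (mul_comm _ _))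
      rw [hsup, Subgroup.relIndex_top_right] at h4
      rw [h4]
      exact Subgroup.relIndex_dvd_card _ _
    obtain ⟨V⟩ := (inferInstance : Nonempty (Sylow p ↥X))
    obtain ⟨W, hW⟩ := (V.2.map X.subtype).exists_le_sylow
    have hWX : (W : Subgroup (L ⧸ O)) ≤ X := by
      have hV : ¬ p ∣ ((V : Subgroup ↥X).map X.subtype).index := by
        rw [← Subgroup.relIndex_mul_index (Subgroup.map_subtype_le _), Subgroup.relIndex,
          Subgroup.subgroupOf, Subgroup.comap_map_eq_self_of_injective X.subtype_injective]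
        exact (Fact.out : p.Prime).not_dvd_mul V.not_dvd_index hindex
      obtain ⟨e, he⟩ := IsPGroup.iff_card.1 W.2
      have h5 : ((V : Subgroup ↥X).map X.subtype).relIndex (W : Subgroup (L ⧸ O)) = 1 := by
        obtain ⟨i, -, hi⟩ := (Nat.dvd_prime_pow Fact.out).1
          (he ▸ Subgroup.relIndex_dvd_card ((V : Subgroup ↥X).map X.subtype) (W : Subgroup (L ⧸ O)))
        rcases i with _ | i
        · simpa using hi
        · exact absurd ((dvd_pow_self p (Nat.succ_ne_zero i)).trans
            (hi ▸ Subgroup.relIndex_dvd_index_of_le hW)) hV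
      exact (Subgroup.relIndex_eq_one.1 h5).trans (Subgroup.map_subtype_le _)
    obtain ⟨m, hm⟩ := Fusion.exists_cj_sylow W (P.mapSurjective hfs)
    have hY1 : Y.map f ≤ Fusion.cj m X :=
      ((Subgroup.map_mono hYP).trans hm.ge).trans (Fusion.cj_mono m hWX)
    have hne1 : Fusion.cj m X ≠ ⊤ := fun e => hX.1 (by
      rw [← Fusion.cj_inv_cj m X, e, Fusion.cj_eq_of_normal])
    have hle : X ≤ Fusion.cj m⁻¹ (L₀.map f) :=
      Fusion.cj_le_iff.1 (hup _ hY1 hne1)
    refine hne ?_
    rcases eq_or_lt_of_le hle with he | hlt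
    · rw [he, ← Fusion.cj_eq_of_normal m⁻¹ (L₀.normalCore.map f)]
      exact Fusion.cj_mono _ (Subgroup.map_mono L₀.normalCore_le)
    · exact absurd (hX.2 _ hlt) fun e => hcoat.1 (by
        rw [← Fusion.cj_cj_inv m (L₀.map f), e, Fusion.cj_eq_of_normal])
  · rw [← Subgroup.map_comap_eq_self_of_surjective hfs (frattini (L ⧸ O))]
    haveI : (frattini (L ⧸ O)).Normal := inferInstance
    refine Subgroup.map_mono (Subgroup.normal_le_normalCore.2 ?_)
    exact (Subgroup.comap_mono (frattini_le_coatom hcoat)).trans hcomapL₀.le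
  · obtain ⟨hcop, hnil⟩ := himg N hN
    set φ := f.subgroupMap N
    have hk : φ.ker = Cfsg.pCore p ↥N := by
      rw [← Subgroup.comap_map_eq_self_of_injective N.subtype_injective (Cfsg.pCore p ↥N),
        Cores.map_subtype_pCore_eq]
      ext x
      rw [MonoidHom.mem_ker, Subgroup.mem_comap, Subgroup.mem_inf]
      constructor
      · intro hx
        exact ⟨x.2, (QuotientGroup.eq_one_iff _).1 (congrArg Subtype.val hx)⟩
      · intro hx
        exact Subtype.ext ((QuotientGroup.eq_one_iff _).2 hx.2)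
    let e : ↥N ⧸ Cfsg.pCore p ↥N ≃* ↥(N.map f) :=
      (QuotientGroup.quotientMulEquivOfEq hk.symm).trans
        (QuotientGroup.quotientKerEquivOfSurjective φ (MonoidHom.subgroupMap_surjective f N))
    haveI := hnil
    exact ⟨Group.nilpotent_of_mulEquiv e.symm, Nat.card_congr e.toEquiv ▸ hcop⟩

end Cfsg.Agent.S2836
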