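import Cfsg.Statements.S2837
import Cfsg.Agent.LocalP.YMinimal
import Cfsg.Agent.PGroup.Frattini

set_option autoImplicit false
open Cfsg
open scoped commutatorElement Pointwise

namespace Cfsg.Agent.S2837

open scoped Pointwise in
theorem coe_sup_eq {G : Type*} [Group G] (A B : Subgroup G)
    (h : B ≤ Subgroup.normalizer (A : Set G)) : ((A ⊔ B : Subgroup G) : Set G) = (A : Set G) * B :=
  Subgroup.coe_mul_of_right_le_normalizer_left A B h



/-- Let L be a finite group of characteristic p, L₀ a maximal subgroup, Y an elementary abelian p-subgroup of L₀ with L Y-minimal and O_p(L) ≤ N_L(Y). Put A = the normal closure of O_p(L) ∩ Y in L. Then for every g ∈ L outside L₀: Φ(A) = A' = [A ∩ Y, A] = [A ∩ Y, A ∩ gYg⁻¹] ≤ C_Y(L), and Y ∩ gYg⁻¹ = (A ∩ Y) ∩ (A ∩ gYg⁻¹) = C_Y(L) = C_A(L). -/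
theorem result {L : Type*} [Group L] [Finite L] {p : ℕ} [Fact p.Prime] (hchar : Subgroup.centralizer (Cfsg.pCore p L : Set L) ≤ Cfsg.pCore p L) (L₀ : Subgroup L) (hL₀ : IsCoatom L₀) (Y : Subgroup L) (hYL₀ : Y ≤ L₀) (hYel : Cfsg.IsElementaryAbelian p Y) (hmin : Cfsg.IsMinimalOver Y) (hOY : Cfsg.pCore p L ≤ Subgroup.normalizer (Y : Set L)) (A : Subgroup L) (hA : A = Subgroup.normalClosure (((Cfsg.pCore p L ⊓ Y : Subgroup L)) : Set L)) (g : L) (hg : g ∉ L₀) : (frattini ↥A).map A.subtype = ⁅A, A⁆ ∧ ⁅A, A⁆ = ⁅A ⊓ Y, A⁆ ∧ ⁅A ⊓ Y, A⁆ = ⁅A ⊓ Y, A ⊓ Y.map (MulAut.conj g).toMonoidHom⁆ ∧ ⁅A ⊓ Y, A⁆ ≤ Y ⊓ Subgroup.center L ∧ Y ⊓ Y.map (MulAut.conj g).toMonoidHom = Y ⊓ Subgroup.center L ∧ (A ⊓ Y) ⊓ (A ⊓ Y.map (MulAut.conj g).toMonoidHom) = Y ⊓ Subgroup.center L ∧ A ⊓ Subgroup.center L = Y ⊓ Subgroup.center L := by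
  have hYp : IsPGroup p ↥Y := fun y => ⟨1, Subtype.ext (by simpa using hYel.2 y y.2)⟩
  have h : LocalP.YConf p L₀ Y := ⟨hL₀, hYL₀, hYp, hmin⟩
  have hYY' := h.inf_conj_eq_center hYel.1 hg
  set Q := Cfsg.pCore p L with hQ
  set Y' := Y.map (MulAut.conj g).toMonoidHom with hY'
  change Y ⊓ Y' = _ at hYY'
  have htop : Y ⊔ Y' = ⊤ := h.sup_conj_eq_top hg
  have hQY' : Q ≤ Subgroup.normalizer (Y' : Set L) := by
    have := Fusion.cj_mono g hOY
    rwa [Fusion.cj_eq_of_normal, Fusion.cj_normalizer] at this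
  have hQn : ∀ X : Subgroup L, X ≤ Subgroup.normalizer (Q : Set L) := fun X =>
    (Subgroup.normalizer_eq_top (H := Q)).ge.trans' le_top
  set B := Q ⊓ Y with hB
  set B' := Q ⊓ Y' with hB'
  have hcB : Fusion.cj g B = B' := by
    rw [hB, Fusion.cj_inf, Fusion.cj_eq_of_normal]
  have hcomm : ∀ y ∈ Y, ∀ z ∈ Y, y * z = z * y := fun y hy z hz =>
    congrArg Subtype.val (hYel.1.is_comm.comm (⟨y, hy⟩ : ↥Y) ⟨z, hz⟩)
  have hcomm' : ∀ y ∈ Y', ∀ z ∈ Y', y * z = z * y := by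
    rintro _ ⟨y, hy, rfl⟩ _ ⟨z, hz, rfl⟩
    rw [← map_mul, hcomm y hy z hz, map_mul]
  have hstep : ∀ y ∈ Y, ∀ u ∈ B', y * u * y⁻¹ * u⁻¹ ∈ B := by
    intro y hy u hu
    refine ⟨mul_mem (LocalP.conj_mem_of_le_normalizer (hQn Y) hy hu.1) (Q.inv_mem hu.1), ?_⟩
    rw [show y * u * y⁻¹ * u⁻¹ = y * (u * y⁻¹ * u⁻¹) by group]
    exact mul_mem hy (LocalP.conj_mem_of_le_normalizer hOY hu.1 (inv_mem hy))
  have hstep' : ∀ y ∈ Y', ∀ u ∈ B, y * u * y⁻¹ * u⁻¹ ∈ B' := by
    intro y hy u hu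
    refine ⟨mul_mem (LocalP.conj_mem_of_le_normalizer (hQn Y') hy hu.1) (Q.inv_mem hu.1), ?_⟩
    rw [show y * u * y⁻¹ * u⁻¹ = y * (u * y⁻¹ * u⁻¹) by group]
    exact mul_mem hy (LocalP.conj_mem_of_le_normalizer hQY' hu.1 (inv_mem hy))
  have hB'nB : B' ≤ Subgroup.normalizer (B : Set L) := inf_le_left.trans
    ((le_inf Subgroup.le_normalizer hOY).trans Subgroup.inf_normalizer_le_normalizer_inf)
  have hBnB' : B ≤ Subgroup.normalizer (B' : Set L) := inf_le_left.trans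
    ((le_inf Subgroup.le_normalizer hQY').trans Subgroup.inf_normalizer_le_normalizer_inf)
  set W := B ⊔ B' with hW
  haveI hWn : W.Normal := by
    rw [← Subgroup.normalizer_eq_top_iff, eq_top_iff, ← htop]
    refine sup_le (LocalP.le_normalizer_of_conj_mem ?_) (LocalP.le_normalizer_of_conj_mem ?_)
    · intro y hy w hw
      have hw' : w ∈ ((B ⊔ B' : Subgroup L) : Set L) := hw
      rw [coe_sup_eq B B' hB'nB] at hw'
      obtain ⟨b, hb, b', hb', rfl⟩ := Set.mem_mul.1 hw'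
      have e : y * (b * b') * y⁻¹ = (y * b * y⁻¹) * (y * b' * y⁻¹ * b'⁻¹) * b' := by group
      rw [e]
      refine mul_mem (Subgroup.mem_sup_left (mul_mem ?_ (hstep y hy b' hb'))) (Subgroup.mem_sup_right hb')
      rw [hcomm y hy b hb.2, mul_inv_cancel_right]; exact hb
    · intro y hy w hw
      have hw' : w ∈ ((B ⊔ B' : Subgroup L) : Set L) := hw
      rw [coe_sup_eq B B' hB'nB] at hw'
      obtain ⟨b, hb, b', hb', rfl⟩ := Set.mem_mul.1 hw'
      have e : y * (b * b') * y⁻¹ = (y * b * y⁻¹ * b⁻¹) * b * (y * b' * y⁻¹) := by group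
      rw [e]
      refine mul_mem (mul_mem (Subgroup.mem_sup_right (hstep' y hy b hb)) (Subgroup.mem_sup_left hb))
        (Subgroup.mem_sup_right ?_)
      rw [hcomm' y hy b' hb'.2, mul_inv_cancel_right]; exact hb'
  have hAW : A = W := by
    rw [hA]
    refine le_antisymm (Subgroup.normalClosure_le_normal (SetLike.coe_subset_coe.2 le_sup_left)) ?_
    refine sup_le Subgroup.le_normalClosure ?_
    rw [← hcB]
    exact (Fusion.cj_mono g Subgroup.le_normalClosure).trans (Fusion.cj_eq_of_normal g _).le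
  have hAQ : A ≤ Q := hAW.le.trans (sup_le inf_le_left inf_le_left)
  have hAY : A ⊓ Y = B := le_antisymm (inf_le_inf_right _ hAQ)
    (le_inf (hAW ▸ le_sup_left) inf_le_right)
  have hAY' : A ⊓ Y' = B' := le_antisymm (inf_le_inf_right _ hAQ)
    (le_inf (hAW ▸ le_sup_right) inf_le_right)
  set Z := Y ⊓ Subgroup.center L with hZ
  have hZQ : Z ≤ Q := Cores.le_pCore
    ⟨fun z hz k => by rw [Subgroup.mem_center_iff.1 hz.2 k, mul_inv_cancel_right]; exact hz⟩
    (hYp.to_le inf_le_left)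
  have hBB' : B ⊓ B' = Z := by
    rw [← hYY']
    refine le_antisymm (inf_le_inf inf_le_right inf_le_right) fun z hz => ?_
    have hzQ : z ∈ Q := hZQ (hYY' ▸ hz)
    exact ⟨⟨hzQ, hz.1⟩, hzQ, hz.2⟩
  have hcBB' : ⁅B, B'⁆ ≤ Z := by
    rw [← hBB']
    refine le_inf (LocalP.commutator_le_of_le_normalizer hB'nB) ?_
    rw [Subgroup.commutator_comm]
    exact LocalP.commutator_le_of_le_normalizer hBnB'
  set N := ⁅B, B'⁆ with hN
  have hNc : N ≤ Subgroup.center L := hcBB'.trans inf_le_right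
  haveI hNn : N.Normal :=
    ⟨fun z hz k => by rw [Subgroup.mem_center_iff.1 (hNc hz) k, mul_inv_cancel_right]; exact hz⟩
  have hAsup : A = B ⊔ B' := hAW
  set f := QuotientGroup.mk' N
  have hcl : A.map f = Subgroup.closure (f '' (B : Set L) ∪ f '' (B' : Set L)) := by
    rw [hAsup, Subgroup.map_sup, Subgroup.sup_eq_closure, Subgroup.coe_map, Subgroup.coe_map]
  have hgen : ∀ a ∈ A, ∀ b ∈ A, Commute (f a) (f b) := by
    intro a ha b hb
    have hle : A.map f ≤ Subgroup.centralizer (A.map f : Set (L ⧸ N)) := by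
      rw [hcl, Subgroup.centralizer_closure, Subgroup.closure_le]
      intro x hx
      refine Subgroup.mem_centralizer_iff.2 fun y hy => ?_
      rcases hx with ⟨x, hx, rfl⟩ | ⟨x, hx, rfl⟩ <;> rcases hy with ⟨y, hy, rfl⟩ | ⟨y, hy, rfl⟩
      · rw [← map_mul, ← map_mul, hcomm y hy.2 x hx.2]
      · rw [eq_comm, ← commutatorElement_eq_one_iff_mul_comm, ← map_commutatorElement]
        exact (QuotientGroup.eq_one_iff _).2 (Subgroup.commutator_mem_commutator hx hy)
      · rw [← commutatorElement_eq_one_iff_mul_comm, ← map_commutatorElement]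
        exact (QuotientGroup.eq_one_iff _).2 (Subgroup.commutator_mem_commutator hy hx)
      · rw [← map_mul, ← map_mul, hcomm' y hy.2 x hx.2]
    exact (Subgroup.mem_centralizer_iff.1 (hle ⟨b, hb, rfl⟩) (f a) ⟨a, ha, rfl⟩)
  have hAA : ⁅A, A⁆ = N := by
    refine le_antisymm ?_ (Subgroup.commutator_mono (hAW ▸ le_sup_left) (hAW ▸ le_sup_right))
    rw [Subgroup.commutator_le]
    intro a ha b hb
    rw [← QuotientGroup.eq_one_iff, ← QuotientGroup.mk'_apply, map_commutatorElement,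
      commutatorElement_eq_one_iff_commute]
    exact hgen a ha b hb
  have hBA : ⁅B, A⁆ = N :=
    le_antisymm (hAA ▸ Subgroup.commutator_mono (hAW ▸ le_sup_left) le_rfl)
      (Subgroup.commutator_mono le_rfl (hAW ▸ le_sup_right))
  have hAp : IsPGroup p ↥A := Cores.pCore_isPGroup.to_le hAQ
  have hexp : ∀ a ∈ A, a ^ p ∈ N := by
    intro a ha
    have ha' : a ∈ ((B ⊔ B' : Subgroup L) : Set L) := hAsup ▸ ha
    rw [coe_sup_eq B B' hB'nB] at ha'
    obtain ⟨b, hb, b', hb', rfl⟩ := Set.mem_mul.1 ha'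
    rw [← QuotientGroup.eq_one_iff, ← QuotientGroup.mk'_apply, map_pow, map_mul,
      (hgen b (hAW ▸ Subgroup.mem_sup_left hb) b' (hAW ▸ Subgroup.mem_sup_right hb')).mul_pow,
      ← map_pow, ← map_pow, hYel.2 b hb.2]
    obtain ⟨y, hy, rfl⟩ := hb'.2
    rw [← map_pow (MulAut.conj g).toMonoidHom, hYel.2 y hy]
    simp
  have hfr : (frattini ↥A).map A.subtype = ⁅A, A⁆ := by
    refine le_antisymm ?_ ?_
    · rw [Subgroup.map_le_iff_le_comap, PGroup.frattini_le_iff hAp]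
      refine ⟨?_, fun x => ?_⟩
      · rw [commutator_def, ← Subgroup.map_le_iff_le_comap, Subgroup.map_commutator,
          ← MonoidHom.range_eq_map, Subgroup.range_subtype]
      · show ((x ^ p : ↥A) : L) ∈ ⁅A, A⁆
        rw [hAA, SubmonoidClass.coe_pow]
        exact hexp x x.2
    · have := Subgroup.map_mono (f := A.subtype) (PGroup.commutator_le_frattini hAp)
      rwa [commutator_def, Subgroup.map_commutator, ← MonoidHom.range_eq_map,
        Subgroup.range_subtype] at this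
  refine ⟨hfr, by rw [hAA, hAY, hBA], by rw [hAY, hAY', hBA], by rw [hAY, hBA]; exact hcBB',
    hYY', by rw [hAY, hAY', hBB'], le_antisymm ?_ ?_⟩
  · rintro a ⟨ha, hac⟩
    refine ⟨?_, hac⟩
    have ha' : a ∈ ((B ⊔ B' : Subgroup L) : Set L) := hAsup ▸ ha
    rw [coe_sup_eq B B' hB'nB] at ha'
    obtain ⟨b, hb, b', hb', rfl⟩ := Set.mem_mul.1 ha'
    have hbc : b' ∈ Subgroup.center L := by
      rw [Subgroup.mem_center_iff]
      intro k
      have hk : (⊤ : Subgroup L) ≤ Subgroup.centralizer ({b'} : Set L) := by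
        rw [← htop]
        refine sup_le (fun y hy => Subgroup.mem_centralizer_iff.2 fun z hz => ?_)
          (fun y hy => Subgroup.mem_centralizer_iff.2 fun z hz => ?_)
        · rw [Set.mem_singleton_iff.1 hz]
          have h1 := Subgroup.mem_center_iff.1 hac y
          rw [← mul_assoc, hcomm y hy b hb.2, mul_assoc, mul_assoc] at h1
          exact (mul_left_cancel h1).symm
        · rw [Set.mem_singleton_iff.1 hz]
          exact hcomm' _ hb'.2 _ hy
      exact (Subgroup.mem_centralizer_iff.1 (hk (Subgroup.mem_top k)) b' rfl).symm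
    obtain ⟨y, hy, rfl⟩ := hb'.2
    have : (MulAut.conj g).toMonoidHom y = y := by
      set w := (MulAut.conj g).toMonoidHom y with hw
      have e : y = g⁻¹ * w * g := by rw [hw]; simp [mul_assoc]
      rw [e, mul_assoc, ← Subgroup.mem_center_iff.1 hbc g, inv_mul_cancel_left]
    rw [this]
    exact mul_mem hb.2 hy
  · rintro z ⟨hz, hzc⟩
    refine ⟨?_, hzc⟩
    rw [hAsup]
    exact Subgroup.mem_sup_left ⟨hZQ ⟨hz, hzc⟩, hz⟩

end Cfsg.Agent.S2837
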