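import Cfsg.Statements.S2838
import Cfsg.Agent.LocalP.WeaklyClosed

set_option autoImplicit false
open Cfsg
open scoped commutatorElement

namespace Cfsg.Agent.S2838



/-- For a nontrivial p-subgroup Q of a finite group H the following are equivalent: Q is a weakly closed subgroup (it is the only H-conjugate of itself inside some Sylow p-subgroup containing it); Q = P for every conjugate P of Q with [Q, P] ≤ Q ∩ P; Q is normal in N_H(R) for every p-subgroup R of H containing Q. -/
theorem result {H : Type*} [Group H] [Finite H] {p : ℕ} [Fact p.Prime] (Q : Subgroup H) (hQp : IsPGroup p ↥Q) (hQ1 : Q ≠ ⊥) : (Cfsg.IsWeaklyClosedSubgroup p Q ↔ ∀ g : H, ⁅Q, ((Q : Subgroup H).map (MulAut.conj (g : H)).toMonoidHom)⁆ ≤ Q ⊓ ((Q : Subgroup H).map (MulAut.conj (g : H)).toMonoidHom) → ((Q : Subgroup H).map (MulAut.conj (g : H)).toMonoidHom) = Q) ∧ (Cfsg.IsWeaklyClosedSubgroup p Q ↔ ∀ R : Subgroup H, IsPGroup p ↥R → Q ≤ R → Subgroup.normalizer ((R : Subgroup H) : Set H) ≤ Subgroup.normalizer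 ((Q : Subgroup H) : Set H)) := by
  refine ⟨⟨fun hwc g hg => ?_, LocalP.wc_of_commutator hQp⟩,
    ⟨fun hwc R hR hQR => LocalP.wc_normalizer_le hwc hR hQR, LocalP.wc_of_normalizer_le hQp⟩⟩
  have h1 : Fusion.cj g Q ≤ Subgroup.normalizer (Q : Set H) := by
    apply LocalP.le_normalizer_of_conj_mem
    intro a ha q hq
    have h2 : ⁅a, q⁆ ∈ Q := (hg (Subgroup.commutator_comm (Fusion.cj g Q) Q ▸
      Subgroup.commutator_mem_commutator ha hq)).1
    simpa [commutatorElement_def] using mul_mem h2 hq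
  exact LocalP.wc_eq_of_le hwc
    (hQp.to_sup_of_normal_left' (Fusion.isPGroup_cj hQp g) h1) le_sup_left le_sup_right

end Cfsg.Agent.S2838
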