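import Cfsg.Statements.S2839
import Cfsg.Agent.LocalP.WeaklyClosed

set_option autoImplicit false
open Cfsg

namespace Cfsg.Agent.S2839



/-- Let Q be a nontrivial p-subgroup of the finite group H that is a weakly closed subgroup, K a subgroup containing Q and N a normal subgroup of H. Then Q is a weakly closed subgroup of K; every H-conjugate of Q contained in K is a K-conjugate of Q; N_K(Q) contains a Sylow p-subgroup of K; N = N_N(Q)·O^p(N); and QN/N is a weakly closed subgroup of H/N. -/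
theorem result {H : Type*} [Group H] [Finite H] {p : ℕ} [Fact p.Prime] (Q : Subgroup H) (hQp : IsPGroup p ↥Q) (hQ1 : Q ≠ ⊥) (hwc : Cfsg.IsWeaklyClosedSubgroup p Q) (K : Subgroup H) (hQK : Q ≤ K) (N' : Subgroup H) [N'.Normal] : Cfsg.IsWeaklyClosedSubgroup p (Q.subgroupOf K) ∧ (∀ g : H, ((Q : Subgroup H).map (MulAut.conj (g : H)).toMonoidHom) ≤ K → ∃ k ∈ K, ((Q : Subgroup H).map (MulAut.conj (g : H)).toMonoidHom) = ((Q : Subgroup H).map (MulAut.conj (k : H)).toMonoidHom)) ∧ Cfsg.IsParabolic p ((Subgroup.normalizer ((Q : Subgroup H) : Set H)).subgroupOf K) ∧ (N' ⊓ Subgroup.normalizer ((Q : Subgroup H) : Set H)) ⊔ (Cfsg.pResidual p ↥N').map N'.subtype = N' ∧ Cfsg.IsWeaklyClosedSubgroup p (Q.map (QuotientGroup.mk' N')) := by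
  obtain ⟨V, hV⟩ := (hQp.comap_subtype (K := K)).exists_le_sylow
  have hle : Q ≤ (V : Subgroup K).map K.subtype := fun x hx => ⟨⟨x, hQK hx⟩, hV hx, rfl⟩
  refine ⟨LocalP.wc_map_injective hQK hwc, fun g hg => LocalP.wc_exists_conj hwc hQK hg,
    ⟨V, fun x hx => LocalP.wc_le_normalizer hwc (V.2.map _) hle ⟨x, hx, rfl⟩⟩, ?_, ?_⟩
  · obtain ⟨T, hQT⟩ := hQp.exists_le_sylow
    refine le_antisymm (sup_le inf_le_left (LocalP.resOf_le _)) ?_
    calc N' = LocalP.resOf p N' ⊔ ((T : Subgroup H) ⊓ N') :=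
          (LocalP.resOf_sup_eq inf_le_right (LocalP.not_dvd_relIndex_sylow_normal T N')).symm
      _ ≤ _ := sup_le le_sup_right (le_trans (le_inf inf_le_right
          (inf_le_left.trans (LocalP.wc_le_normalizer hwc T.2 hQT))) le_sup_left)
  · obtain ⟨T, hQT⟩ := hQp.exists_le_sylow
    set f := QuotientGroup.mk' N' with hf
    have hfs : Function.Surjective f := QuotientGroup.mk'_surjective N'
    refine ⟨T.mapSurjective hfs, Subgroup.map_mono hQT, fun q hq => ?_⟩
    obtain ⟨g, rfl⟩ := hfs q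
    have e : ∀ x : H, (Q.map f).map (MulAut.conj (f x)).toMonoidHom = (Fusion.cj x Q).map f := by
      intro x
      rw [Fusion.cj, Subgroup.map_map, Subgroup.map_map]
      congr 1
    rw [e] at hq ⊢
    have hgU : Fusion.cj g Q ≤ (T : Subgroup H) ⊔ N' := by
      have := Subgroup.map_le_iff_le_comap.1 hq
      rwa [show ((T.mapSurjective hfs : Sylow p (H ⧸ N')) : Subgroup (H ⧸ N')) =
        (T : Subgroup H).map f from rfl, Subgroup.comap_map_eq, hf, QuotientGroup.ker_mk'] at this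
    obtain ⟨u, hu, hu'⟩ := LocalP.wc_exists_conj hwc (hQT.trans le_sup_left) hgU
    obtain ⟨t, ht, n, hn, rfl⟩ := Subgroup.mem_sup_of_normal_right.1 hu
    have htQ : Fusion.cj t Q = Q := Fusion.cj_eq_of_mem (LocalP.wc_le_normalizer hwc T.2 hQT ht)
    rw [hu', ← e, map_mul, show f n = 1 from (QuotientGroup.eq_one_iff n).2 hn, mul_one, e, htQ]

end Cfsg.Agent.S2839
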