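import Cfsg.Statements.S2840
import Cfsg.Agent.LocalP.WeaklyClosed

set_option autoImplicit false
open Cfsg

namespace Cfsg.Agent.S2840



/-- Let Q be a nontrivial p-subgroup of the finite group H that is a weakly closed subgroup and K a subgroup containing Q; let K° be the weak closure of Q in K (generated by the H-conjugates of Q inside K). Then K° is generated by the K-conjugates of Q, and K° is the subnormal closure of Q in K. -/
theorem result {H : Type*} [Group H] [Finite H] {p : ℕ} [Fact p.Prime] (Q : Subgroup H) (hQp : IsPGroup p ↥Q) (hQ1 : Q ≠ ⊥) (hwc : Cfsg.IsWeaklyClosedSubgroup p Q) (K : Subgroup H) (hQK : Q ≤ K) (Kc : Subgroup H) (hKc : Kc = Cfsg.weakClosure Q K) : Kc = ⨆ k : ↥K, ((Q : Subgroup H).map (MulAut.conj ((k : H) : H)).toMonoidHom) ∧ Kc = (Cfsg.subnormalClosure (Q.subgroupOf K)).map K.subtype := by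
  subst Kc
  have h1 : Cfsg.weakClosure Q K = ⨆ k : ↥K, Q.map (MulAut.conj (k : H)).toMonoidHom := by
    refine le_antisymm (iSup_le fun g => ?_) (iSup_le fun k => ?_)
    · obtain ⟨k, hk, hk'⟩ := LocalP.wc_exists_conj hwc hQK g.2
      exact hk'.le.trans (le_iSup (fun k : ↥K => Q.map (MulAut.conj (k : H)).toMonoidHom) ⟨k, hk⟩)
    · have hle : Q.map (MulAut.conj (k : H)).toMonoidHom ≤ K :=
        (Fusion.cj_mono (k : H) hQK).trans (Fusion.cj_eq_self_of_mem k.2).le
      exact le_iSup (fun g : {g : H // Q.map (MulAut.conj g).toMonoidHom ≤ K} =>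
        Q.map (MulAut.conj (g : H)).toMonoidHom) ⟨(k : H), hle⟩
  refine ⟨h1, ?_⟩
  have key : ∀ X : Subgroup ↥K, X.IsSubnormal → Q.subgroupOf K ≤ X →
      ∀ g : ↥K, Fusion.cj g (Q.subgroupOf K) ≤ X := by
    intro X hX
    induction hX with
    | top => exact fun _ _ => le_top
    | step Y Z hle _ hn ih =>
      intro hQY g
      obtain ⟨z, hz, hz'⟩ := LocalP.wc_exists_conj (LocalP.wc_map_injective hQK hwc)
        (hQY.trans hle) (ih (hQY.trans hle) g)
      rw [hz']
      rintro _ ⟨y, hy, rfl⟩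
      exact hn.conj_mem ⟨y, hle (hQY hy)⟩ (hQY hy) ⟨z, hz⟩
  refine le_antisymm ?_ ?_
  · rw [h1]
    refine iSup_le fun k => ?_
    rintro _ ⟨x, hx, rfl⟩
    refine ⟨k * ⟨x, hQK hx⟩ * k⁻¹, ?_, by simp⟩
    exact key _ (LocalP.subnormalClosure_isSubnormal _) (LocalP.le_subnormalClosure _) k
      (Fusion.conj_mem_cj.2 hx)
  · rw [Subgroup.map_le_iff_le_comap]
    refine LocalP.subnormalClosure_le (fun x hx => ?_) (Subgroup.Normal.isSubnormal ?_)
    · show (x : H) ∈ Cfsg.weakClosure Q K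
      rw [h1]
      exact Subgroup.mem_iSup_of_mem (1 : ↥K) ⟨x, hx, by simp⟩
    · refine ⟨fun x hx g => ?_⟩
      show ((g * x * g⁻¹ : ↥K) : H) ∈ Cfsg.weakClosure Q K
      have hmap : (Cfsg.weakClosure Q K).map (MulAut.conj (g : H)).toMonoidHom ≤ Cfsg.weakClosure Q K := by
        rw [h1, Subgroup.map_iSup]
        refine iSup_le fun k => ?_
        change Fusion.cj (g : H) (Fusion.cj (k : H) Q) ≤ _
        rw [Fusion.cj_cj]
        exact le_iSup (fun k : ↥K => Q.map (MulAut.conj (k : H)).toMonoidHom) (g * k)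
      have hx' : (x : H) ∈ Cfsg.weakClosure Q K := hx
      simpa using hmap ⟨(x : H), hx', rfl⟩

end Cfsg.Agent.S2840
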