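import Cfsg.Statements.S2841
import Cfsg.Agent.LAE60.Large
-- import your own Cfsg.Agent.* helpers here

set_option autoImplicit false
open Cfsg
set_option linter.unusedVariables false
open Subgroup Cfsg.Agent.LAE60
open scoped commutatorElement

namespace Cfsg.Agent.S2841

/-- Let Q be a nontrivial p-subgroup of the finite group H that is a weakly closed subgroup and N a normal subgroup of H. Then N = N_N(Q)·[N, Q] and [N, Q] = (Q ∩ [N, Q])·[N, Q, Q]. -/
theorem result {H : Type*} [Group H] [Finite H] {p : ℕ} [Fact p.Prime] (Q : Subgroup H) (hQp : IsPGroup p ↥Q) (hQ1 : Q ≠ ⊥) (hwc : Cfsg.IsWeaklyClosedSubgroup p Q) (N' : Subgroup H) [N'.Normal] : (∀ n : H, n ∈ N' → ∃ a ∈ N' ⊓ Subgroup.normalizer ((Q : Subgroup H) : Set H), ∃ b ∈ ⁅N', Q⁆, n = a * b) ∧ (∀ c : H, c ∈ ⁅N', Q⁆ → ∃ a ∈ Q ⊓ ⁅N', Q⁆, ∃ b ∈ ⁅⁅N', Q⁆, Q⁆, c = a * b) := by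
  have hQN : Q ≤ normalizer (N' : Set H) := by rw [normalizer_eq_top]; exact le_top
  refine ⟨fun n hn => wcs_exists_mul hwc hQN hn, fun c hc => ?_⟩
  set Y := ⁅N', Q⁆
  have hY : Q ≤ normalizer (Y : Set H) := right_le_normalizer_commutator N' Q
  have hle : Y ≤ (Q ⊓ Y) ⊔ ⁅Y, Q⁆ := by
    refine (Subgroup.commutator_le).2 fun n hn q hq => ?_
    obtain ⟨a, ha, b, hb, rfl⟩ := wcs_exists_mul hwc hQN hn
    have e : ⁅a * b, q⁆ = a * ⁅b, q⁆ * a⁻¹ * ⁅a, q⁆ := by simp only [commutatorElement_def]; group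
    rw [e]
    have haY : a ∈ normalizer (Y : Set H) := left_le_normalizer_commutator N' Q ha.1
    refine mul_mem (mem_sup_right ?_) (mem_sup_left ⟨?_, commutator_mem_commutator ha.1 hq⟩)
    · refine conj_mem_of_mem_normalizer ?_ (commutator_mem_commutator hb hq)
      exact le_normalizer_commutator (L := normalizer (Y : Set H) ⊓ normalizer (Q : Set H))
        inf_le_left inf_le_right ⟨haY, ha.2⟩
    · exact (commutator_le_right_of_le_normalizer le_rfl) (commutator_mem_commutator ha.2 hq)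
  have h := hle hc
  rw [← SetLike.mem_coe, Subgroup.coe_mul_of_left_le_normalizer_right _ _
    (inf_le_left.trans (right_le_normalizer_commutator Y Q))] at h
  obtain ⟨a, ha, b, hb, rfl⟩ := h
  exact ⟨a, ha, b, hb, rfl⟩

end Cfsg.Agent.S2841
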