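import Cfsg.Statements.S2842
import Cfsg.Agent.LAE60.Large
-- import your own Cfsg.Agent.* helpers here

set_option autoImplicit false
open Cfsg
set_option linter.unusedVariables false
open Subgroup Cfsg.Agent.LAE60

namespace Cfsg.Agent.S2842

/-- Let Q be a nontrivial p-subgroup of the finite group H that is a weakly closed subgroup with C_H(Q) ≤ Q, and Q ≤ L ≤ H. Suppose H has characteristic p, or more generally that C_H(y) has characteristic p for some nonidentity y ∈ C_{O_p(L)}(Q). Then [Q, C_H(O_p(L))] ≤ Q ∩ O_p(L), C_H(O_p(L)) is a p-group, and L has characteristic p. -/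
theorem result {H : Type*} [Group H] [Finite H] {p : ℕ} [Fact p.Prime] (Q : Subgroup H) (hQp : IsPGroup p ↥Q) (hQ1 : Q ≠ ⊥) (hwc : Cfsg.IsWeaklyClosedSubgroup p Q) (hCQ : Subgroup.centralizer ((Q : Subgroup H) : Set H) ≤ Q) (L : Subgroup H) (hQL : Q ≤ L) (hyp : Subgroup.centralizer (Cfsg.pCore p H : Set H) ≤ Cfsg.pCore p H ∨ ∃ y : H, y ≠ 1 ∧ y ∈ (Cfsg.pCoreOf p L) ⊓ Subgroup.centralizer ((Q : Subgroup H) : Set H) ∧ Subgroup.centralizer (Cfsg.pCore p ↥(Subgroup.centralizer ({y} : Set H)) : Set ↥(Subgroup.centralizer ({y} : Set H))) ≤ Cfsg.pCore p ↥(Subgroup.centralizer ({y} : Set H))) : ⁅Q, Subgroup.centralizer (((Cfsg.pCoreOf p L) : Subgroup H) : Set H)⁆ ≤ Q ⊓ (Cfsg.pCoreOf p L) ∧ IsPGroup p ↥(Subgroup.centralizer (((Cfsg.pCoreOf p L) : Subgroup H) : Set H)) ∧ Subgroup.centralizer (Cfsg.pCore p ↥L : Set ↥L) ≤ Cfsg.pCore p ↥L := by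
  set C := centralizer (Cfsg.pCoreOf p L : Set H) with hC
  have hp : IsPGroup p C := by
    rcases hyp with h | ⟨y, _, hy, h⟩
    · refine centralizer_pCoreOf_isPGroup hwc hCQ hQL (K := ⊤) le_top le_top ?_
      rw [pCoreOf_top, top_inf_eq]; exact h
    · refine centralizer_pCoreOf_isPGroup hwc hCQ hQL (K := centralizer ({y} : Set H)) ?_ ?_
        ((charP_core_iff _).1 h)
      · intro q hq; exact mem_centralizer_singleton_iff.2 (hy.2 q hq)
      · exact centralizer_le (Set.singleton_subset_iff.2 hy.1)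
  have hQC : Q ≤ normalizer (C : Set H) :=
    (hQL.trans (le_normalizer_pCoreOf L)).trans (normalizer_le_normalizer_centralizer _)
  have hN : C ≤ normalizer (Q : Set H) := le_normalizer_of_res_eq_bot hwc
    (res_eq_bot_iff.2 (hp.to_le (commutator_le_left_of_le_normalizer hQC)))
  refine ⟨?_, hp, (charP_core_iff L).2 (charP_of_centralizer_isPGroup hp)⟩
  have h1 : ⁅Q, C⁆ ≤ Q ⊓ C :=
    le_inf (commutator_le_left_of_le_normalizer hN) (commutator_le_right_of_le_normalizer hQC)
  exact le_inf (h1.trans inf_le_left) (h1.trans (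
    inf_centralizer_le_pCoreOf hQp hQL (le_normalizer_centralizer (le_normalizer_pCoreOf L)) hN))

end Cfsg.Agent.S2842
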