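import Cfsg.Statements.S2843
import Cfsg.Agent.LAE60.Large
-- import your own Cfsg.Agent.* helpers here

set_option autoImplicit false
open Cfsg
set_option linter.unusedVariables false
open Subgroup Cfsg.Agent.LAE60
open scoped commutatorElement

namespace Cfsg.Agent.S2843

/-- Let Q be a nontrivial large p-subgroup of the finite group H, Q ≤ L ≤ H, and Y a nontrivial p-subgroup of H normalized by L. Let L° be the weak closure of Q in L (generated by the conjugates of Q inside L). Then L° equals the weak closure of Q in L·C_H(Y), and [L°, C_H(Y)] ≤ O_p(L°); in particular C_H(Y) normalizes L°. -/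
theorem result {H : Type*} [Group H] [Finite H] {p : ℕ} [Fact p.Prime] (Q : Subgroup H) (hQp : IsPGroup p ↥Q) (hQ1 : Q ≠ ⊥) (hL : Cfsg.IsLarge Q) (L : Subgroup H) (hQL : Q ≤ L) (Y : Subgroup H) (hYp : IsPGroup p ↥Y) (hY1 : Y ≠ ⊥) (hLY : L ≤ Subgroup.normalizer ((Y : Subgroup H) : Set H)) : Cfsg.weakClosure Q L = Cfsg.weakClosure Q (L ⊔ Subgroup.centralizer ((Y : Subgroup H) : Set H)) ∧ ⁅Cfsg.weakClosure Q L, Subgroup.centralizer ((Y : Subgroup H) : Set H)⁆ ≤ (Cfsg.pCoreOf p (Cfsg.weakClosure Q L)) ∧ Subgroup.centralizer ((Y : Subgroup H) : Set H) ≤ Subgroup.normalizer (((Cfsg.weakClosure Q L) : Subgroup H) : Set H) := by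
  have hCW := large_centralizer_le_normalizer_weakClosure hL hQp (L := L) hYp hY1 hLY
  refine ⟨(large_weakClosure_sup_centralizer hL hQp hQ1 hQL hYp hY1 hLY).symm, ?_, hCW⟩
  set W := Cfsg.weakClosure Q L with hW
  set C := centralizer (Y : Set H)
  have hCP : C ≤ normalizer (Cfsg.pCoreOf p W : Set H) :=
    hCW.trans (normalizer_le_normalizer_pCoreOf W)
  have hWC : W ≤ normalizer (C : Set H) :=
    ((weakClosure_le L).trans hLY).trans (normalizer_le_normalizer_centralizer Y)
  have hgen : W ≤ closure (⋃ g : {g : H // Q.map (MulAut.conj g).toMonoidHom ≤ L},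
      (Q.map (MulAut.conj (g : H)).toMonoidHom : Set H)) := (iSup_eq_closure _).le
  refine (commutator_mono hgen le_rfl).trans (commutator_closure_le ?_ ?_)
  · rintro x hx
    obtain ⟨g, hxg⟩ := Set.mem_iUnion.1 hx
    exact le_normalizer_pCoreOf W (cj_le_weakClosure g.2 hxg)
  · rintro x hx c hc
    obtain ⟨g, hxg⟩ := Set.mem_iUnion.1 hx
    set Q' := Q.map (MulAut.conj (g : H)).toMonoidHom
    have hQ'p : IsPGroup p Q' := hQp.map _
    have hQ'W : Q' ≤ W := cj_le_weakClosure g.2
    have hCQ' : C ≤ normalizer (Q' : Set H) :=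
      large_centralizer_le_normalizer' (large_cj hL g) hQ'p hYp hY1 (g.2.trans hLY)
    refine inf_centralizer_le_pCoreOf hQ'p hQ'W hWC hCQ' ⟨?_, ?_⟩
    · exact commutator_le_left_of_le_normalizer hCQ' (commutator_mem_commutator hxg hc)
    · exact commutator_le_right_of_le_normalizer (hQ'W.trans hWC)
        (commutator_mem_commutator hxg hc)

end Cfsg.Agent.S2843
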