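import Cfsg.Statements.S2844
import Cfsg.Agent.LAE60.Large
-- import your own Cfsg.Agent.* helpers here

set_option autoImplicit false
open Cfsg
set_option linter.unusedVariables false
open Subgroup Cfsg.Agent.LAE60

namespace Cfsg.Agent.S2844

/-- Let Q be a nontrivial large p-subgroup of the finite group H and Q• = O_p(N_H(Q)). Then for every g ∈ H outside N_H(Q): C_H(Q) ∩ C_H(gQg⁻¹) = 1, C_H(Q•) ∩ C_H(gQ•g⁻¹) = 1, Z(Q) ∩ Z(gQg⁻¹) = 1 and Z(Q•) ∩ Z(gQ•g⁻¹) = 1; moreover N_H(Q) = N_H(Q•) and Q• is large in H. -/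
theorem result {H : Type*} [Group H] [Finite H] {p : ℕ} [Fact p.Prime] (Q : Subgroup H) (hQp : IsPGroup p ↥Q) (hQ1 : Q ≠ ⊥) (hL : Cfsg.IsLarge Q) (Qb : Subgroup H) (hQb : Qb = Cfsg.largeBullet p Q) : (∀ g : H, g ∉ Subgroup.normalizer ((Q : Subgroup H) : Set H) → Subgroup.centralizer ((Q : Subgroup H) : Set H) ⊓ Subgroup.centralizer ((((Q : Subgroup H).map (MulAut.conj (g : H)).toMonoidHom) : Subgroup H) : Set H) = ⊥ ∧ Subgroup.centralizer ((Qb : Subgroup H) : Set H) ⊓ Subgroup.centralizer ((((Qb : Subgroup H).map (MulAut.conj (g : H)).toMonoidHom) : Subgroup H) : Set H) = ⊥ ∧ (Q ⊓ Subgroup.centralizer ((Q : Subgroup H) : Set H)) ⊓ (((Q : Subgroup H).map (MulAut.conj (g : H)).toMonoidHom) ⊓ Subgroup.centralizer ((((Q : Subgroup H).map (MulAut.conj (g : H)).toMonoidHom) : Subgroup H) : Set H)) = ⊥ ∧ (Qb ⊓ Subgroup.centralizer ((Qb : Subgroup H) : Set H)) ⊓ (((Qb : Subgroup H).map (MulAut.conj (g : H)).toMonoidHom) ⊓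 Subgroup.centralizer ((((Qb : Subgroup H).map (MulAut.conj (g : H)).toMonoidHom) : Subgroup H) : Set H)) = ⊥) ∧ Subgroup.normalizer ((Q : Subgroup H) : Set H) = Subgroup.normalizer ((Qb : Subgroup H) : Set H) ∧ Cfsg.IsLarge Qb := by
  have hQb' : Qb = Cfsg.pCoreOf p (normalizer (Q : Set H)) := hQb
  have hle : Q ≤ Qb := hQb' ▸ le_pCoreOf Subgroup.le_normalizer le_rfl hQp
  have hbp : IsPGroup p Qb := hQb' ▸ pCoreOf_isPGroup _
  have hb1 : Qb ≠ ⊥ := fun e => hQ1 (eq_bot_iff.2 (e ▸ hle))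
  have hcle : centralizer (Qb : Set H) ≤ centralizer (Q : Set H) := centralizer_le hle
  have hN : normalizer (Q : Set H) = normalizer (Qb : Set H) := by
    refine le_antisymm ?_ ?_
    · rw [hQb']; exact Subgroup.le_normalizer.trans (normalizer_le_normalizer_pCoreOf _)
    · obtain ⟨u, hu1, huQ, huc⟩ :=
        exists_ne_one_centralizer hbp hb1 hbp Subgroup.le_normalizer
      have hU1 : Qb ⊓ centralizer (Qb : Set H) ≠ ⊥ :=
        fun e => hu1 (by simpa [e] using (show u ∈ Qb ⊓ centralizer (Qb : Set H) from ⟨huQ, huc⟩))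
      exact (le_normalizer_inf le_rfl (le_normalizer_centralizer le_rfl)).trans
        (hL.2 _ (inf_le_right.trans hcle) hU1)
  have hLb : Cfsg.IsLarge Qb :=
    ⟨hcle.trans (hL.1.trans hle), fun U hU hU1 => hN ▸ hL.2 U (hU.trans hcle) hU1⟩
  refine ⟨fun g hg => ?_, hN, hLb⟩
  have h1 := large_inf_centralizer_eq_bot hL hQp hQ1 hg
  have h2 := large_inf_centralizer_eq_bot hLb hbp hb1 (g := g) (hN ▸ hg)
  exact ⟨h1, h2, eq_bot_iff.2 ((inf_le_inf inf_le_right inf_le_right).trans h1.le),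
    eq_bot_iff.2 ((inf_le_inf inf_le_right inf_le_right).trans h2.le)⟩

end Cfsg.Agent.S2844
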