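import Cfsg.Statements.S2845
import Cfsg.Agent.LAE60.Large
-- import your own Cfsg.Agent.* helpers here

set_option autoImplicit false
open Cfsg
set_option linter.unusedVariables false
open Subgroup Cfsg.Agent.LAE60

namespace Cfsg.Agent.S2845

/-- Let Q be a nontrivial large p-subgroup of the finite group H. Then for every subgroup L ≥ Q with O_p(L) ≠ 1, C_H(O_p(L)) is a p-group and L has characteristic p, and either the weak closure L° of Q in L equals Q or C_H(L°) = 1; for every subgroup R of H containing a Sylow p-subgroup of H with O_p(R) ≠ 1, C_H(O_p(R)) ≤ O_p(R); and H has parabolic characteristic p. -/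
theorem result {H : Type*} [Group H] [Finite H] {p : ℕ} [Fact p.Prime] (Q : Subgroup H) (hQp : IsPGroup p ↥Q) (hQ1 : Q ≠ ⊥) (hL : Cfsg.IsLarge Q) : (∀ L : Subgroup H, Q ≤ L → Cfsg.pCore p ↥L ≠ ⊥ → IsPGroup p ↥(Subgroup.centralizer (((Cfsg.pCoreOf p L) : Subgroup H) : Set H)) ∧ Subgroup.centralizer (Cfsg.pCore p ↥L : Set ↥L) ≤ Cfsg.pCore p ↥L ∧ (Cfsg.weakClosure Q L = Q ∨ Subgroup.centralizer (((Cfsg.weakClosure Q L) : Subgroup H) : Set H) = ⊥)) ∧ (∀ R : Subgroup H, Cfsg.IsParabolic p R → Cfsg.pCore p ↥R ≠ ⊥ → Subgroup.centralizer (((Cfsg.pCoreOf p R) : Subgroup H) : Set H) ≤ (Cfsg.pCoreOf p R)) ∧ Cfsg.IsOfParabolicCharacteristic p H := by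
  refine ⟨fun L hQL hne => ?_, fun R ⟨T, hT⟩ hne => ?_, large_isOfParabolicCharacteristic hL hQp⟩
  · have hC := large_centralizer_pCoreOf_isPGroup hL hQp hQL (fun e => hne ((pCore_eq_bot_iff L).2 e))
    refine ⟨hC, (charP_core_iff L).2 (charP_of_centralizer_isPGroup hC), ?_⟩
    by_cases h : ∃ g, Fusion.cj g Q ≤ L ∧ g ∉ normalizer (Q : Set H)
    · obtain ⟨g, hg, hgn⟩ := h
      refine Or.inr (eq_bot_iff.2 ?_)
      exact (le_inf (centralizer_le (le_weakClosure hQL))
        (centralizer_le (cj_le_weakClosure hg))).trans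
        (large_inf_centralizer_eq_bot hL hQp hQ1 hgn).le
    · refine Or.inl (le_antisymm (weakClosure_le_iff.2 fun g hg => ?_) (le_weakClosure hQL))
      push Not at h
      rw [Fusion.cj_eq_of_mem (h g hg)]
  · exact large_parabolic_centralizer_le hL hQp T hT (fun e => hne ((pCore_eq_bot_iff R).2 e))

end Cfsg.Agent.S2845
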