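import Cfsg.Statements.S2846
import Cfsg.Agent.LAE60.BasicProperty
-- import your own Cfsg.Agent.* helpers here

set_option autoImplicit false
open Cfsg
set_option linter.unusedVariables false
open Cfsg.Agent.LAE60

namespace Cfsg.Agent.S2846

/-- Let Q be a nontrivial large p-subgroup of the finite group H, S a Sylow p-subgroup containing Q, and L a subgroup containing S with O_p(L) ≠ 1 and C_H(O_p(L)) ≤ O_p(L). Then there are a subgroup M containing S having the basic property (M ∈ 𝔐_H, writing Y_X for the largest p-reduced normal subgroup of X and 𝓛_H for the set of subgroups X with O_p(X) ≠ 1 and C_H(O_p(X)) ≤ O_p(X): M ∈ 𝓛_H, M·C_H(Y_M) is the only maximal member of 𝓛_H containing M and its largest p-reduced normal subgroup is again Y_M, C_M(Y_M) is p-closed, and the image of C_M(Y_M) in M/O_p(M) lies in the Frattini subgroup of M/O_p(M)) and a subgroup L* with S ≤ L* ≤ M, O_p(L*) ≠ 1, C_H(O_p(L*)) ≤ O_p(L*), such that L·C_H(Y_L) =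 L*·C_H(Y_L), the weak closures of Q in L and in L* agree and lie in that of M, and Y_L = Y_{L*} ≤ Y_M. If moreover Q is not normal in L, then Q is normal in neither L* nor M. -/
theorem result {H : Type*} [Group H] [Finite H] {p : ℕ} [Fact p.Prime] (Q : Subgroup H) (hQp : IsPGroup p ↥Q) (hQ1 : Q ≠ ⊥) (hLg : Cfsg.IsLarge Q) (S : Sylow p H) (hQS : Q ≤ (S : Subgroup H)) (L : Subgroup H) (hSL : (S : Subgroup H) ≤ L) (hL : L ∈ Cfsg.charPSubgroups p H) : ∃ M Ls : Subgroup H, (S : Subgroup H) ≤ M ∧ Cfsg.IsInFrakM p M ∧ (S : Subgroup H) ≤ Ls ∧ Ls ≤ M ∧ Ls ∈ Cfsg.charPSubgroups p H ∧ L ⊔ Subgroup.centralizer (((Cfsg.largestPReducedOf p L) : Subgroup H) : Set H) = Ls ⊔ Subgroup.centralizer (((Cfsg.largestPReducedOf p L) : Subgroup H) : Set H) ∧ Cfsg.weakClosure Q L = Cfsg.weakClosure Q Ls ∧ Cfsg.weakClosure Q Ls ≤ Cfsg.weakClosure Q M ∧ (Cfsg.largestPReducedOf p L) = (Cfsg.largestPReducedOf p Ls) ∧ (Cfsg.largestPReducedOf p Ls) ≤ (Cfsg.largestPReducedOf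 p M) ∧ (¬ L ≤ Subgroup.normalizer ((Q : Subgroup H) : Set H) → ¬ Ls ≤ Subgroup.normalizer ((Q : Subgroup H) : Set H) ∧ ¬ M ≤ Subgroup.normalizer ((Q : Subgroup H) : Set H)) := by
  have hpar := large_isOfParabolicCharacteristic hLg hQp
  have hwc := large_wcs hLg hQp hQ1
  obtain ⟨M, Ls, hSM, hM, hSLs, hLsM, hLs, hY, hYM, hC⟩ := exists_frakM hpar S L hSL hL
  have hQL : Q ≤ L := hQS.trans hSL
  have hQLs : Q ≤ Ls := hQS.trans hSLs
  have hred : IsRed p L (Cfsg.largestPReducedOf p L) := isRed_largest L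
  have hYp : IsPGroup p ↥(Cfsg.largestPReducedOf p L) :=
    Cfsg.Agent.Modules.elemAb_isPGroup hred.2.2.1
  have hY1 : Cfsg.largestPReducedOf p L ≠ ⊥ := largest_ne_bot S hSL hL
  have hYLs : Ls ≤ Subgroup.normalizer ((Cfsg.largestPReducedOf p L : Subgroup H) : Set H) := by
    rw [hY]; exact (isRed_largest Ls).2.1
  have e1 := large_weakClosure_sup_centralizer hLg hQp hQ1 hQL hYp hY1 hred.2.1
  have e2 := large_weakClosure_sup_centralizer hLg hQp hQ1 hQLs hYp hY1 hYLs
  have hwL : Cfsg.weakClosure Q L = Cfsg.weakClosure Q Ls := by rw [← e1, hC, e2]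
  refine ⟨M, Ls, hSM, hM, hSLs, hLsM, hLs, hC, hwL, weakClosure_mono hLsM, hY, hY ▸ hYM, ?_⟩
  intro hn
  have h1 : ¬ Ls ≤ Subgroup.normalizer ((Q : Subgroup H) : Set H) := fun h =>
    hn ((weakClosure_eq_iff_le_normalizer hwc hQL).1
      (hwL.trans ((weakClosure_eq_iff_le_normalizer hwc hQLs).2 h)))
  exact ⟨h1, fun h => h1 (hLsM.trans h)⟩

end Cfsg.Agent.S2846
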