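import Cfsg.Statements.S2848
import Cfsg.Agent.LAE60.FrakM
-- import your own Cfsg.Agent.* helpers here

set_option autoImplicit false
open Cfsg
set_option linter.unusedVariables false
open Subgroup Cfsg.Agent.LAE60 Cfsg.Agent.Fusion

namespace Cfsg.Agent.S2848

/-- Standing hypotheses: G a finite group, S a Sylow p-subgroup, Q a nontrivial large p-subgroup of G contained in S (C_G(Q) ≤ Q and N_G(U) ≤ N_G(Q) for all nontrivial U ≤ C_G(Q)), and M a subgroup containing S with the basic property (M ∈ 𝔐_G(S)); Y_M denotes the largest p-reduced normal subgroup of M and M† = M·C_G(Y_M). Then O_p(M) is a weakly closed subgroup of M† (for p): it is the only M†-conjugate of itself inside some Sylow p-subgroup of M† containing it. -/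
theorem result {G : Type*} [Group G] [Finite G] {p : ℕ} [Fact p.Prime] (S : Sylow p G) (Q : Subgroup G) (hQp : IsPGroup p ↥Q) (hQ1 : Q ≠ ⊥) (hQS : Q ≤ (S : Subgroup G)) (hQ : Cfsg.IsLarge Q) (M : Subgroup G) (hSM : (S : Subgroup G) ≤ M) (hM : Cfsg.IsInFrakM p M) : Cfsg.IsWeaklyClosedSubgroup p (((Cfsg.pCoreOf p M)).subgroupOf (M ⊔ Subgroup.centralizer (((Cfsg.largestPReducedOf p M) : Subgroup G) : Set G))) := by
  set Md := M ⊔ centralizer ((Cfsg.largestPReducedOf p M : Subgroup G) : Set G)
  set P := Cfsg.pCoreOf p M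
  have hPS : P ≤ (S : Subgroup G) := pCoreOf_le_of_sylow S hSM
  refine ⟨S.subtype (hSM.trans le_sup_left), ?_, fun g hg => ?_⟩
  · rw [Sylow.coe_subtype]; exact fun x hx => hPS hx
  rw [Sylow.coe_subtype] at hg
  refine Subgroup.eq_of_le_of_card_ge ?_ (Nat.card_congr (P.subgroupOf Md |>.equivMapOfInjective _
    (MulAut.conj g).injective).toEquiv).le
  intro x hx
  have h1 : (x : G) ∈ (S : Subgroup G) ⊓ centralizer ((Cfsg.largestPReducedOf p M : Subgroup G) : Set G) := by
    refine ⟨hg hx, ?_⟩
    obtain ⟨y, hy, rfl⟩ := hx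
    exact conj_mem_of_mem_normalizer
      (normalizer_le_normalizer_centralizer _ (dagger_le_normalizer (p := p) (M := M) g.2))
      (core_le_centralizer (p := p) (M := M) hy)
  rw [sylow_inf_centralizer S hSM hM] at h1
  exact h1

end Cfsg.Agent.S2848
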