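import Cfsg.Statements.S2849
import Cfsg.Agent.LAE60.FrakM
-- import your own Cfsg.Agent.* helpers here

set_option autoImplicit false
open Cfsg
set_option linter.unusedVariables false
open Subgroup Cfsg.Agent.LAE60 Cfsg.Agent.Fusion

namespace Cfsg.Agent.S2849

/-- Standing hypotheses: G a finite group, S a Sylow p-subgroup, Q a nontrivial large p-subgroup of G contained in S (C_G(Q) ≤ Q and N_G(U) ≤ N_G(Q) for all nontrivial U ≤ C_G(Q)), and M a subgroup containing S with the basic property (M ∈ 𝔐_G(S)); Y_M denotes the largest p-reduced normal subgroup of M and M† = M·C_G(Y_M). Suppose Y_M is asymmetric in G. Then for every subgroup R with Y_M ≤ R ≤ M†, the normal closure of Y_M in N_G(R) is elementary abelian. -/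
theorem result {G : Type*} [Group G] [Finite G] {p : ℕ} [Fact p.Prime] (S : Sylow p G) (Q : Subgroup G) (hQp : IsPGroup p ↥Q) (hQ1 : Q ≠ ⊥) (hQS : Q ≤ (S : Subgroup G)) (hQ : Cfsg.IsLarge Q) (M : Subgroup G) (hSM : (S : Subgroup G) ≤ M) (hM : Cfsg.IsInFrakM p M) (hasym : ¬ Cfsg.IsSymmetricIn (Cfsg.largestPReducedOf p M)) (R : Subgroup G) (hYR : (Cfsg.largestPReducedOf p M) ≤ R) (hRM : R ≤ (M ⊔ Subgroup.centralizer (((Cfsg.largestPReducedOf p M) : Subgroup G) : Set G))) : Cfsg.IsElementaryAbelian p ((Subgroup.normalClosure ((((Cfsg.largestPReducedOf p M)).subgroupOf (Subgroup.normalizer ((R : Subgroup G) : Set G)) : Subgroup ↥(Subgroup.normalizer ((R : Subgroup G) : Set G))) : Set ↥(Subgroup.normalizer ((R : Subgroup G) : Set G)))).map (Subgroup.normalizer ((R : Subgroup G) : Set G)).subtype) := by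
  set Y := Cfsg.largestPReducedOf p M with hY
  set N := normalizer (R : Set G)
  have hRY : R ≤ normalizer (Y : Set G) := hRM.trans dagger_le_normalizer
  have hYN : Y ≤ N := hYR.trans Subgroup.le_normalizer
  have hRn : ∀ n ∈ N, R ≤ normalizer (cj n Y : Set G) := fun n hn => by
    conv_lhs => rw [← cj_eq_of_mem hn]
    rw [← cj_normalizer]; exact cj_mono n hRY
  have hcomm : ∀ a ∈ N, ∀ b ∈ N, ∀ u ∈ Y, ∀ v ∈ Y,
      (a * u * a⁻¹) * (b * v * b⁻¹) = (b * v * b⁻¹) * (a * u * a⁻¹) := by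
    intro a ha b hb u hu v hv
    have hn : a⁻¹ * b ∈ N := mul_mem (inv_mem ha) hb
    have h1 := commute_of_not_symmetric hasym (a := a⁻¹ * b) (hYR.trans (hRn _ hn))
      (((cj_mono _ hYR).trans (cj_eq_of_mem hn).le).trans hRY)
    have h2 := h1 hu _ (conj_mem_cj (g := a⁻¹ * b).2 hv)
    calc (a * u * a⁻¹) * (b * v * b⁻¹)
        = a * (u * ((a⁻¹ * b) * v * (a⁻¹ * b)⁻¹)) * a⁻¹ := by group
      _ = a * (((a⁻¹ * b) * v * (a⁻¹ * b)⁻¹) * u) * a⁻¹ := by rw [h2]
      _ = _ := by group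
  set K : Set G := {x | ∃ a ∈ N, ∃ u ∈ Y, a * u * a⁻¹ = x}
  have hKc : IsMulCommutative (closure K) := by
    have hle : closure K ≤ centralizer (closure K : Set G) := by
      rw [centralizer_closure]
      refine (closure_le _).2 ?_
      rintro _ ⟨a, ha, u, hu, rfl⟩ _ ⟨b, hb, v, hv, rfl⟩
      exact hcomm b hb a ha v hv u hu
    exact ⟨⟨fun a b => Subtype.ext (hle b.2 a a.2)⟩⟩
  refine Modules.elemAb_mono (?_ : _ ≤ Cfsg.omegaOne p (closure K)) (Modules.elemAb_omegaOne hKc)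
  rw [Subgroup.normalClosure, MonoidHom.map_closure]
  refine (closure_le _).2 ?_
  rintro _ ⟨z, hz, rfl⟩
  obtain ⟨y, hy, hc⟩ := Group.mem_conjugatesOfSet_iff.1 hz
  obtain ⟨c, rfl⟩ := isConj_iff.1 hc
  refine Modules.mem_omegaOne_of_pow (subset_closure ⟨c, c.2, y, hy, by simp⟩) ?_
  have hyp : (y : G) ^ p = 1 := (isRed_largest M).2.2.1.2 _ hy
  simp [conj_pow, hyp]

end Cfsg.Agent.S2849
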