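import Cfsg.Statements.S2850
import Cfsg.Agent.LAE60.FrakM
-- import your own Cfsg.Agent.* helpers here

set_option autoImplicit false
open Cfsg
set_option linter.unusedVariables false
open Subgroup Cfsg.Agent.LAE60 Cfsg.Agent.Fusion

namespace Cfsg.Agent.S2850

/-- Standing hypotheses: G a finite group, S a Sylow p-subgroup, Q a nontrivial large p-subgroup of G contained in S (C_G(Q) ≤ Q and N_G(U) ≤ N_G(Q) for all nontrivial U ≤ C_G(Q)), and M a subgroup containing S with the basic property (M ∈ 𝔐_G(S)); Y_M denotes the largest p-reduced normal subgroup of M and M† = M·C_G(Y_M). Suppose Y_M is asymmetric in G. Then N_G(L) ≤ N_G(O_p(M)) ≤ M† for every p-subgroup L containing O_p(M); O_p(M) is a weakly closed subgroup of G; for every subgroup L containing O_p(M), L ∩ M† contains a Sylow p-subgroup of L; and two elements of Y_M conjugate in G are conjugate in M. -/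
theorem result {G : Type*} [Group G] [Finite G] {p : ℕ} [Fact p.Prime] (S : Sylow p G) (Q : Subgroup G) (hQp : IsPGroup p ↥Q) (hQ1 : Q ≠ ⊥) (hQS : Q ≤ (S : Subgroup G)) (hQ : Cfsg.IsLarge Q) (M : Subgroup G) (hSM : (S : Subgroup G) ≤ M) (hM : Cfsg.IsInFrakM p M) (hasym : ¬ Cfsg.IsSymmetricIn (Cfsg.largestPReducedOf p M)) : (∀ L : Subgroup G, IsPGroup p ↥L → (Cfsg.pCoreOf p M) ≤ L → Subgroup.normalizer ((L : Subgroup G) : Set G) ≤ Subgroup.normalizer (((Cfsg.pCoreOf p M) : Subgroup G) : Set G) ∧ Subgroup.normalizer (((Cfsg.pCoreOf p M) : Subgroup G) : Set G) ≤ (M ⊔ Subgroup.centralizer (((Cfsg.largestPReducedOf p M) : Subgroup G) : Set G))) ∧ Cfsg.IsWeaklyClosedSubgroup p (Cfsg.pCoreOf p M) ∧ (∀ L : Subgroup G, (Cfsg.pCoreOf p M) ≤ L → Cfsg.IsParabolic p ((L ⊓ (M ⊔ Subgroup.centralizer (((Cfsg.largestPReducedOf p M) : Subgroup G) : Set G))).subgroupOf L)) ∧ (∀ x ∈ (Cfsg.largestPReducedOf p M), ∀ g : G, g * x * g⁻¹ ∈ (Cfsg.largestPReducedOf p M) → ∃ m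 ∈ M, m * x * m⁻¹ = g * x * g⁻¹) := by
  have hpar := large_isOfParabolicCharacteristic hQ hQp
  set P := Cfsg.pCoreOf p M
  set Y := Cfsg.largestPReducedOf p M
  have hNP := normalizer_core_le hpar S hSM hM
  have hwc := core_wcs hpar S hSM hM hasym
  refine ⟨fun L hL hPL => ⟨core_normalizer_le hpar S hSM hM hasym hL hPL, hNP⟩, hwc,
    fun L hPL => ?_, fun x hx g hgx => ?_⟩
  · obtain ⟨T, hT1, hT2⟩ := exists_sylow_inf_relIndex (pCoreOf_isPGroup (p := p) M) hPL
    have hidx : ¬ p ∣ (((T : Subgroup G) ⊓ L).subgroupOf L).index := hT2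
    refine ⟨((show IsPGroup p ↥((T : Subgroup G) ⊓ L) from T.2.to_inf_left).comap_subtype
      (K := L)).toSylow hidx, fun z hz => ?_⟩
    exact parabolic_inf_dagger hpar S hSM hM hasym hPL (T := (T : Subgroup G) ⊓ L) T.2.to_inf_left
      inf_le_right (le_inf hT1 hPL) hz
  · set C := centralizer ({g * x * g⁻¹} : Set G)
    have hPC : P ≤ C := (core_le_centralizer (p := p) (M := M)).trans
      (centralizer_le (Set.singleton_subset_iff.2 hgx))
    have hgP : cj g P ≤ C := by
      rintro _ ⟨y, hy, rfl⟩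
      have := core_le_centralizer (p := p) (M := M) hy x hx
      refine mem_centralizer_singleton_iff.2 ?_
      change g * y * g⁻¹ * (g * x * g⁻¹) = g * x * g⁻¹ * (g * y * g⁻¹)
      calc g * y * g⁻¹ * (g * x * g⁻¹) = g * (y * x) * g⁻¹ := by group
        _ = g * (x * y) * g⁻¹ := by rw [this]
        _ = _ := by group
    obtain ⟨c, hc, hce⟩ := wcs_exists_conj hwc hPC hgP
    have h1 : c⁻¹ * g ∈ normalizer (P : Set G) := by
      rw [← cj_eq_iff_mem_normalizer, ← cj_cj, ← hce, cj_cj, inv_mul_cancel, cj_one]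
    have h2 := hNP h1
    rw [← SetLike.mem_coe, Subgroup.coe_mul_of_left_le_normalizer_right _ _
      (le_normalizer_centralizer (le_normalizer_largest M))] at h2
    obtain ⟨m, hm, k, hk, hmk⟩ := h2
    refine ⟨m, hm, ?_⟩
    have hkx := hk x hx
    have hcx : c⁻¹ * (g * x * g⁻¹) * c = g * x * g⁻¹ := by
      rw [mul_assoc, ← mem_centralizer_singleton_iff.1 hc]; group
    calc m * x * m⁻¹ = m * (k * x * k⁻¹) * m⁻¹ := by rw [← hkx]; group
      _ = (m * k) * x * (m * k)⁻¹ := by group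
      _ = (c⁻¹ * g) * x * (c⁻¹ * g)⁻¹ := by rw [show m * k = c⁻¹ * g from hmk]
      _ = c⁻¹ * (g * x * g⁻¹) * c := by group
      _ = g * x * g⁻¹ := hcx

end Cfsg.Agent.S2850
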