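import Cfsg.Statements.S2851
import Cfsg.Agent.LAE60.FrakM
import Cfsg.Agent.LAE60.BasicProperty
import Cfsg.Agent.Components.FStar
-- import your own Cfsg.Agent.* helpers here

set_option autoImplicit false
open Cfsg
set_option linter.unusedVariables false
set_option linter.style.haveILetI false
open Cfsg.Agent.LAE60
open Cfsg.Agent.Fusion (cj)

theorem aux_fstar {Qb : Type*} [Group Qb] [Finite Qb] {p : ℕ} [Fact p.Prime]
    (h : Cfsg.pCore p Qb = ⊥) {X : Subgroup Qb} (hX : IsPGroup p X)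
    (hn : Cfsg.generalizedFittingSubgroup Qb ≤ Subgroup.normalizer (X : Set Qb)) : X = ⊥ := by
  set Fs := Cfsg.generalizedFittingSubgroup Qb
  haveI : Fs.Normal := Cfsg.Agent.Components.genFitting_normal
  have hFn : ∀ Y : Subgroup Qb, Y ≤ Subgroup.normalizer (Fs : Set Qb) := fun Y => by
    rw [Subgroup.normalizer_eq_top]; exact le_top
  have hbot : Cfsg.pCoreOf p Fs = ⊥ := by
    refine eq_bot_iff.2 (h ▸ Cfsg.Agent.Cores.le_pCore ?_ (pCoreOf_isPGroup Fs))
    refine Subgroup.normalizer_eq_top_iff.1 (top_le_iff.1 ?_)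
    exact (hFn ⊤).trans (normalizer_le_normalizer_pCoreOf Fs)
  have h1 : X ⊓ Fs = ⊥ := eq_bot_iff.2 (hbot ▸ le_pCoreOf inf_le_right
    (le_normalizer_inf hn Subgroup.le_normalizer) hX.to_inf_left)
  have h2 : X ≤ Subgroup.centralizer (Fs : Set Qb) := by
    rw [← Subgroup.commutator_eq_bot_iff_le_centralizer, eq_bot_iff, ← h1]
    exact le_inf (commutator_le_left_of_le_normalizer hn)
      (commutator_le_right_of_le_normalizer (hFn X))
  exact eq_bot_iff.2 (h1 ▸ le_inf le_rfl (h2.trans Cfsg.Agent.Components.centralizer_genFitting_le))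

namespace Cfsg.Agent.S2851

/-- Standing hypotheses: G a finite group, S a Sylow p-subgroup, Q a nontrivial large p-subgroup of G contained in S, M a subgroup containing S with the basic property (M ∈ 𝔐_G(S)); Y_M the largest p-reduced normal subgroup of M and M† = M·C_G(Y_M). Let F be the preimage in M† of the generalized Fitting subgroup of M†/C_{M†}(Y_M). If Y_M is asymmetric in G and H is a subgroup of characteristic p containing F, then Y_M ≤ Y_H. -/
theorem result {G : Type*} [Group G] [Finite G] {p : ℕ} [Fact p.Prime] (S : Sylow p G) (Q : Subgroup G) (hQp : IsPGroup p ↥Q) (hQ1 : Q ≠ ⊥) (hQS : Q ≤ (S : Subgroup G)) (hQ : Cfsg.IsLarge Q) (M : Subgroup G) (hSM : (S : Subgroup G) ≤ M) (hM : Cfsg.IsInFrakM p M) (hasym : ¬ Cfsg.IsSymmetricIn (Cfsg.largestPReducedOf p M)) [hn : ((Subgroup.centralizer (((Cfsg.largestPReducedOf p M) : Subgroup G) : Set G)).subgroupOf (M ⊔ Subgroup.centralizer (((Cfsg.largestPReducedOf p M) : Subgroup G) : Set G))).Normal] (F : Subgroup G)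 (hF : F = ((Cfsg.generalizedFittingSubgroup (↥(M ⊔ Subgroup.centralizer (((Cfsg.largestPReducedOf p M) : Subgroup G) : Set G)) ⧸ (Subgroup.centralizer (((Cfsg.largestPReducedOf p M) : Subgroup G) : Set G)).subgroupOf (M ⊔ Subgroup.centralizer (((Cfsg.largestPReducedOf p M) : Subgroup G) : Set G)))).comap (QuotientGroup.mk' ((Subgroup.centralizer (((Cfsg.largestPReducedOf p M) : Subgroup G) : Set G)).subgroupOf (M ⊔ Subgroup.centralizer (((Cfsg.largestPReducedOf p M) : Subgroup G) : Set G))))).map ((M ⊔ Subgroup.centralizer (((Cfsg.largestPReducedOf p M) : Subgroup G) : Set G))).subtype) (H : Subgroup G) (hFH : F ≤ H) (hH : Subgroup.centralizer (Cfsg.pCore p ↥H : Set ↥H) ≤ Cfsg.pCore p ↥H) : (Cfsg.largestPReducedOf p M) ≤ Cfsg.largestPReducedOf p H := by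
  have hpar := large_isOfParabolicCharacteristic hQ hQp
  set Y := Cfsg.largestPReducedOf p M with hYdef
  set Md := M ⊔ Subgroup.centralizer (Y : Set G) with hMd
  set C := Subgroup.centralizer (Y : Set G) with hC
  set q := QuotientGroup.mk' (C.subgroupOf Md)
  have hCMd : C ≤ Md := le_sup_right
  have hYred : IsRed p Md Y := by
    have := isRed_largest (p := p) Md
    rwa [← hM.2.2.2.1] at this
  have hbar : Cfsg.pCore p (↥Md ⧸ C.subgroupOf Md) = ⊥ := by
    set D' := (Cfsg.pCore p (↥Md ⧸ C.subgroupOf Md)).comap q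
    haveI : D'.Normal := inferInstance
    have hDC : D'.map Md.subtype ≤ C := by
      refine hYred.2.2.2 _ (Subgroup.map_subtype_le _) ?_ ?_
      · rw [← Subgroup.normal_subgroupOf_iff_le_normalizer (Subgroup.map_subtype_le _),
          show (D'.map Md.subtype).subgroupOf Md = D' from
            Subgroup.comap_map_eq_self_of_injective Md.subtype_injective D']
        infer_instance
      · rintro _ ⟨y, hy, rfl⟩
        obtain ⟨k, hk⟩ := Cfsg.Agent.Cores.pCore_isPGroup ⟨q y, hy⟩
        refine ⟨k, ?_⟩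
        have h1 : q y ^ p ^ k = 1 := congrArg Subtype.val hk
        rw [← map_pow, QuotientGroup.mk'_apply, QuotientGroup.eq_one_iff] at h1
        exact h1
    refine eq_bot_iff.2 fun z hz => ?_
    obtain ⟨y, rfl⟩ := QuotientGroup.mk'_surjective _ z
    rw [Subgroup.mem_bot, QuotientGroup.mk'_apply, QuotientGroup.eq_one_iff]
    exact hDC ⟨y, hz, rfl⟩
  set F' := (Cfsg.generalizedFittingSubgroup (↥Md ⧸ C.subgroupOf Md)).comap q with hF'
  have hCF : C ≤ F := by
    rw [hF]
    intro c hc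
    exact ⟨⟨c, hCMd hc⟩, by
      show q ⟨c, hCMd hc⟩ ∈ Cfsg.generalizedFittingSubgroup (↥Md ⧸ C.subgroupOf Md)
      rw [show q ⟨c, hCMd hc⟩ = 1 from (QuotientGroup.eq_one_iff _).2 hc]
      exact one_mem _, rfl⟩
  -- a `p`-group modulo `C` normalized by `F` lies in `C`
  have key : ∀ X : Subgroup G, X ≤ Md → F ≤ Subgroup.normalizer (X : Set G) →
      (∀ x ∈ X, ∃ k : ℕ, x ^ p ^ k ∈ C) → X ≤ C := by
    intro X hXMd hFX hX
    have h1 : (X.subgroupOf Md).map q = ⊥ := by
      refine aux_fstar hbar ?_ ?_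
      · rintro ⟨_, y, hy, rfl⟩
        obtain ⟨k, hk⟩ := hX y hy
        refine ⟨k, Subtype.ext ?_⟩
        show q y ^ p ^ k = 1
        rw [← map_pow]
        exact (QuotientGroup.eq_one_iff _).2 hk
      · intro z hz
        obtain ⟨f, rfl⟩ := QuotientGroup.mk'_surjective _ z
        have hfF : (f : G) ∈ F := by rw [hF]; exact ⟨f, hz, rfl⟩
        refine Subgroup.le_normalizer_map q ⟨f, Subgroup.mem_normalizer_iff.2 fun y => ?_, rfl⟩
        exact Subgroup.mem_normalizer_iff.1 (hFX hfF) y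
    intro x hx
    have : q ⟨x, hXMd hx⟩ ∈ (⊥ : Subgroup _) := h1 ▸ ⟨⟨x, hXMd hx⟩, hx, rfl⟩
    rw [Subgroup.mem_bot, QuotientGroup.mk'_apply, QuotientGroup.eq_one_iff] at this
    exact this
  have hHc := (charP_core_iff H).1 hH
  have hPH : Cfsg.pCoreOf p M ≤ H := ((core_le_centralizer (p := p) (M := M)).trans hCF).trans hFH
  set R := Cfsg.pCoreOf p H
  have hRMd : R ≤ Md :=
    (wcs_le_normalizer_of_normalized (core_wcs hpar S hSM hM hasym) (pCoreOf_isPGroup H)
      (hPH.trans (le_normalizer_pCoreOf H))).trans (normalizer_core_le hpar S hSM hM)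
  have hRC : R ≤ C := by
    refine key R hRMd (hFH.trans (le_normalizer_pCoreOf H)) fun x hx => ?_
    obtain ⟨k, hk⟩ := Cfsg.Agent.LocalP.exists_pow_eq_one_of_mem (pCoreOf_isPGroup H) hx
    exact ⟨k, hk ▸ one_mem _⟩
  obtain ⟨T, hT1, hT2⟩ := Cfsg.Agent.Fusion.exists_sylow_inf_relIndex (pCoreOf_isPGroup M) hPH
  have hTMd : (T : Subgroup G) ⊓ H ≤ H ⊓ Md :=
    parabolic_inf_dagger hpar S hSM hM hasym hPH T.2.to_inf_left inf_le_right (le_inf hT1 hPH)
  have hYH : Y ≤ H ⊓ Subgroup.centralizer (R : Set G) :=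
    le_inf ((largest_le_core (p := p) (M := M)).trans hPH) (mem_centralizer_comm hRC)
  obtain ⟨W, hW, hYW⟩ := exists_red_of_le hHc T.2.to_inf_left inf_le_right hT2 hYH
    (isRed_largest M).2.2.1.2 (fun D hDH hDn hD => by
      refine le_trans (le_inf inf_le_left (inf_le_right.trans (hTMd.trans inf_le_right))) ?_
      refine key (D ⊓ Md) inf_le_right ?_ fun x hx => hD x hx.1
      refine le_normalizer_inf (hFH.trans hDn) ((?_ : F ≤ Md).trans Subgroup.le_normalizer)
      rw [hF]; exact Subgroup.map_subtype_le _)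
  exact hYW.trans (le_largestPReducedOf hW)

end Cfsg.Agent.S2851
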