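import Cfsg.Statements.S2852
import Cfsg.Agent.LAE60.FrakM
import Cfsg.Agent.LAE60.BasicProperty
-- import your own Cfsg.Agent.* helpers here

set_option autoImplicit false
open Cfsg
set_option linter.unusedVariables false
open Cfsg.Agent.LAE60
open Cfsg.Agent.Fusion (cj cj_mono cj_eq_of_mem isPGroup_cj)

namespace Cfsg.Agent.S2852

/-- Standing hypotheses: G a finite group, S a Sylow p-subgroup, Q a nontrivial large p-subgroup of G contained in S, M a subgroup containing S with the basic property (M ∈ 𝔐_G(S)); Y_M the largest p-reduced normal subgroup of M. If Y_M is char-p-tall and asymmetric in G, then some subgroup H of G lies in ℌ_G(O_p(M)): H has characteristic p, O_p(M) ≤ H, Y_M ≰ O_p(H), and Y_M ≤ O_p(P) for every proper subgroup P of H containing O_p(M). -/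
theorem result {G : Type*} [Group G] [Finite G] {p : ℕ} [Fact p.Prime] (S : Sylow p G) (Q : Subgroup G) (hQp : IsPGroup p ↥Q) (hQ1 : Q ≠ ⊥) (hQS : Q ≤ (S : Subgroup G)) (hQ : Cfsg.IsLarge Q) (M : Subgroup G) (hSM : (S : Subgroup G) ≤ M) (hM : Cfsg.IsInFrakM p M) (htall : Cfsg.IsCharPTall p (Cfsg.largestPReducedOf p M)) (hasym : ¬ Cfsg.IsSymmetricIn (Cfsg.largestPReducedOf p M)) : ∃ H : Subgroup G, Cfsg.IsInFrakH p M H := by
  have hpar := large_isOfParabolicCharacteristic hQ hQp
  set Y := Cfsg.largestPReducedOf p M with hYdef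
  set C := Subgroup.centralizer (Y : Set G) with hC
  set P := Cfsg.pCoreOf p M with hPdef
  obtain ⟨T, L, hTL, hL, hYL⟩ := htall
  set T' := (T : Subgroup ↥C).map C.subtype with hT'
  have hTi : ¬ p ∣ T'.relIndex C := by
    have e : T'.subgroupOf C = (T : Subgroup ↥C) :=
      Subgroup.comap_map_eq_self_of_injective C.subtype_injective _
    rw [Subgroup.relIndex, e]
    exact T.not_dvd_index
  have hPi : ¬ p ∣ P.relIndex C := by
    have := not_dvd_inf_relIndex (M := M ⊔ C) (D := C) (T := (S : Subgroup G)) S.2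
      (hSM.trans le_sup_left) (sylow_relIndex S (hSM.trans le_sup_left)) le_sup_right
      (le_normalizer_centralizer dagger_le_normalizer)
    rwa [inf_comm, sylow_inf_centralizer S hSM hM] at this
  obtain ⟨c, hc, hceq⟩ := Cfsg.Agent.Fusion.exists_conj_of_relIndex (T.2.map C.subtype)
    (pCoreOf_isPGroup M) (Subgroup.map_subtype_le _) (core_le_centralizer (p := p) (M := M)) hTi hPi
  have hYc : cj c Y = Y := cj_eq_of_mem (centralizer_le_normalizer' Y hc)
  have hL' : P ≤ cj c L := hceq.ge.trans (cj_mono c hTL)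
  have hcharL := charP_cj c L ((charP_core_iff L).1 hL)
  have hYL' : ¬ Y ≤ Cfsg.pCoreOf p (cj c L) := by
    intro h
    rw [show Cfsg.pCoreOf p (cj c L) = cj c (Cfsg.pCoreOf p L) from
      pCoreOf_map _ (MulAut.conj c).injective L] at h
    rw [← hYc] at h
    exact hYL ((Subgroup.map_le_map_iff_of_injective (MulAut.conj c).injective).1 h)
  obtain ⟨H, hHL, hmin⟩ := Finite.exists_le_minimal
    (p := fun H : Subgroup G => P ≤ H ∧
      H ⊓ Subgroup.centralizer (Cfsg.pCoreOf p H : Set G) ≤ Cfsg.pCoreOf p H ∧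
      ¬ Y ≤ Cfsg.pCoreOf p H) (a := cj c L) ⟨hL', hcharL, hYL'⟩
  obtain ⟨hPH, hHc, hYH⟩ := hmin.1
  refine ⟨H, (charP_core_iff H).2 hHc, hPH, hYH, fun X hPX hXH => ?_⟩
  by_contra hY
  have hXc : X ⊓ Subgroup.centralizer (Cfsg.pCoreOf p X : Set G) ≤ Cfsg.pCoreOf p X :=
    le_pCoreOf inf_le_left (le_normalizer_inf Subgroup.le_normalizer
      (le_normalizer_centralizer (le_normalizer_pCoreOf X))) (centralizer_isPGroup_of_charP
      (core_wcs hpar S hSM hM hasym) (mem_charPSubgroups_iff.1 hM.1).2 hPX hXH.le hHc)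
  exact hXH.not_ge (hmin.2 ⟨hPX, hXc, hY⟩ hXH.le)

end Cfsg.Agent.S2852
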