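import Cfsg.Statements.S2853
import Cfsg.Agent.LAE60.FrakH
import Cfsg.Agent.LAE60.BasicProperty
-- import your own Cfsg.Agent.* helpers here

set_option autoImplicit false
open Cfsg
set_option linter.unusedVariables false
open Cfsg.Agent.LAE60

namespace Cfsg.Agent.S2853

/-- Standing hypotheses: G a finite group, S a Sylow p-subgroup, Q a nontrivial large p-subgroup of G contained in S, M a subgroup containing S with the basic property (M ∈ 𝔐_G(S)); Y_M the largest p-reduced normal subgroup of M and M† = M·C_G(Y_M). Suppose Y_M is char-p-tall and asymmetric in G and H ∈ ℌ_G(O_p(M)). Then every Sylow p-subgroup of H ∩ M† is a Sylow p-subgroup of H; O_p(H) normalizes O_p(M) and Y_M; O^p(H) = [O^p(H), Y_M] and H = O^p(H)·O_p(M); O^p(H)·Y_M is the normal closure of Y_M in H; and H is the normal closure of O_p(M) in H. Here O^p(H) is the subgroup generated by the elements of H of order prime to p. -/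
theorem result {G : Type*} [Group G] [Finite G] {p : ℕ} [Fact p.Prime] (S : Sylow p G) (Q : Subgroup G) (hQp : IsPGroup p ↥Q) (hQ1 : Q ≠ ⊥) (hQS : Q ≤ (S : Subgroup G)) (hQ : Cfsg.IsLarge Q) (M : Subgroup G) (hSM : (S : Subgroup G) ≤ M) (hM : Cfsg.IsInFrakM p M) (htall : Cfsg.IsCharPTall p (Cfsg.largestPReducedOf p M)) (hasym : ¬ Cfsg.IsSymmetricIn (Cfsg.largestPReducedOf p M)) (H : Subgroup G) (hH : Cfsg.IsInFrakH p M H) (R : Subgroup G) (hR : R = (Cfsg.pResidual p ↥H).map H.subtype) : (∀ T : Sylow p ↥(H ⊓ (M ⊔ Subgroup.centralizer (((Cfsg.largestPReducedOf p M) : Subgroup G) : Set G))), ∃ P : Sylow p ↥H, ((P : Subgroup ↥H).map H.subtype) = (T : Subgroup ↥(H ⊓ (M ⊔ Subgroup.centralizer (((Cfsg.largestPReducedOf p M) : Subgroup G) : Set G)))).map (H ⊓ (M ⊔ Subgroup.centralizer (((Cfsg.largestPReducedOf p M) : Subgroup G) : Set G))).subtype) ∧ Cfsg.pCoreOf p H ≤ Subgroup.normalizer (((Cfsg.pCoreOf p M) : Subgroup G) : Set G) ⊓ Subgroup.normalizer (((Cfsg.largestPReducedOf p M) :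 Subgroup G) : Set G) ∧ ⁅R, (Cfsg.largestPReducedOf p M)⁆ = R ∧ R ⊔ (Cfsg.pCoreOf p M) = H ∧ R ⊔ (Cfsg.largestPReducedOf p M) = (Subgroup.normalClosure ((((Cfsg.largestPReducedOf p M)).subgroupOf H : Subgroup ↥H) : Set ↥H)).map H.subtype ∧ (Subgroup.normalClosure ((((Cfsg.pCoreOf p M)).subgroupOf H : Subgroup ↥H) : Set ↥H)).map H.subtype = H := by
  have hpar := large_isOfParabolicCharacteristic hQ hQp
  subst hR
  set Y := Cfsg.largestPReducedOf p M with hYdef
  set Md := M ⊔ Subgroup.centralizer (Y : Set G) with hMd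
  refine ⟨?_, ?_, frakH_commutator hpar S hSM hM hasym hH, frakH_res_sup hpar S hSM hM hasym hH,
    frakH_res_sup_largest hpar S hSM hM hasym hH, frakH_ncl_core hH⟩
  · set K := H ⊓ Md
    intro T
    obtain ⟨T0, hT1, hT2⟩ := Cfsg.Agent.Fusion.exists_sylow_inf_relIndex (pCoreOf_isPGroup M) hH.2.1
    have hle : (T0 : Subgroup G) ⊓ H ≤ K :=
      parabolic_inf_dagger hpar S hSM hM hasym hH.2.1 T0.2.to_inf_left inf_le_right
        (le_inf hT1 hH.2.1)
    have hTK : ((T : Subgroup ↥K).map K.subtype).relIndex K = (T : Subgroup ↥K).index := by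
      rw [Subgroup.relIndex, show ((T : Subgroup ↥K).map K.subtype).subgroupOf K = (T : Subgroup ↥K)
        from Subgroup.comap_map_eq_self_of_injective K.subtype_injective _]
    have hi : ¬ p ∣ ((T : Subgroup ↥K).map K.subtype).relIndex H := by
      rw [← Subgroup.relIndex_mul_relIndex _ _ _ (Subgroup.map_subtype_le _) inf_le_left, hTK]
      exact fun h => ((Fact.out : p.Prime).dvd_mul.1 h).elim T.not_dvd_index
        fun h' => hT2 (h'.trans (Subgroup.relIndex_dvd_of_le_left _ hle))
    refine ⟨((T.2.map K.subtype).comap_subtype (K := H)).toSylow hi, ?_⟩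
    exact (Subgroup.subgroupOf_map_subtype _ _).trans
      (inf_eq_left.2 (le_trans (Subgroup.map_subtype_le (T : Subgroup ↥K)) inf_le_left))
  · have h := frakH_core_le_normalizer hpar S hSM hM hasym hH
    exact le_inf h (h.trans ((normalizer_core_le hpar S hSM hM).trans dagger_le_normalizer))

end Cfsg.Agent.S2853
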