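import Cfsg.Statements.S2854
import Cfsg.Agent.LAE60.FrakH
import Cfsg.Agent.LAE60.BasicProperty
-- import your own Cfsg.Agent.* helpers here

set_option autoImplicit false
open Cfsg
set_option linter.unusedVariables false
set_option linter.style.haveILetI false
open Cfsg.Agent.LAE60
open Cfsg.Agent.Fusion (cj cj_mono cj_eq_of_mem isPGroup_cj)
open scoped commutatorElement
open Subgroup in
theorem aux_pclosed {G : Type*} [Group G] [Finite G] {p : ℕ} [Fact p.Prime] {N R W : Subgroup G}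
    (hR : res p N ≤ R) (hW : IsPGroup p W) (hWN : N ≤ normalizer (W : Set G))
    (hRN : R ≤ normalizer (N : Set G)) (h : ⁅R, N⁆ ≤ W) :
    ∃ T : Subgroup G, T ≤ Cfsg.pCoreOf p N ∧ ¬ p ∣ T.relIndex N := by
  obtain ⟨T, hT1, hT2⟩ := Cfsg.Agent.Fusion.exists_sylow_inf_relIndex (hW.to_inf_left (K := N))
    (inf_le_right : W ⊓ N ≤ N)
  refine ⟨(T : Subgroup G) ⊓ N, le_pCoreOf inf_le_right ?_ T.2.to_inf_left, hT2⟩
  refine (le_res_sup T.2.to_inf_left inf_le_right hT2).trans (sup_le (hR.trans ?_) le_normalizer)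
  refine le_normalizer_of_commutator_le ((le_inf ?_ ?_).trans (le_inf hT1 inf_le_right))
  · exact (commutator_mono le_rfl inf_le_right).trans h
  · exact (commutator_mono le_rfl inf_le_right).trans (commutator_le_right_of_le_normalizer hRN)

theorem aux_pow {G : Type*} [Group G] [Finite G] {p : ℕ} [Fact p.Prime] {K W T N : Subgroup G}
    (hWn : K ≤ Subgroup.normalizer (W : Set G)) (hW : W ≤ K) (hTW : T ≤ W) (hNK : N ≤ K)
    (hT : ¬ p ∣ T.relIndex N) (hTN : T ≤ N) (hTn : N ≤ Subgroup.normalizer (T : Set G))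
    {h : G} (hh : h ∈ N) {k : ℕ} (hk : h ^ p ^ k ∈ W) : h ∈ W := by
  haveI : (T.subgroupOf N).Normal := (Subgroup.normal_subgroupOf_iff_le_normalizer hTN).2 hTn
  have hm : h ^ T.relIndex N ∈ T := by
    have := Subgroup.pow_index_mem (T.subgroupOf N) (⟨h, hh⟩ : ↥N)
    exact this
  haveI : (W.subgroupOf K).Normal := (Subgroup.normal_subgroupOf_iff_le_normalizer hW).2 hWn
  set q := QuotientGroup.mk' (W.subgroupOf K)
  set z : ↥K := ⟨h, hNK hh⟩
  have h1 : q z ^ p ^ k = 1 := by rw [← map_pow]; exact (QuotientGroup.eq_one_iff _).2 hk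
  have h2 : q z ^ T.relIndex N = 1 := by
    rw [← map_pow]; exact (QuotientGroup.eq_one_iff _).2 (hTW hm)
  have h3 : orderOf (q z) = 1 := Nat.eq_one_of_dvd_coprimes
    (Nat.Coprime.pow_left k ((Fact.out : p.Prime).coprime_iff_not_dvd.2 hT))
    (orderOf_dvd_of_pow_eq_one h1) (orderOf_dvd_of_pow_eq_one h2)
  exact (QuotientGroup.eq_one_iff z).1 (orderOf_eq_one_iff.1 h3)

namespace Cfsg.Agent.S2854

/-- Standing hypotheses: G a finite group, S a Sylow p-subgroup, Q a nontrivial large p-subgroup of G contained in S, M a subgroup containing S with the basic property (M ∈ 𝔐_G(S)); Y_M the largest p-reduced normal subgroup of M and M† = M·C_G(Y_M). Suppose Y_M is asymmetric in G, H ∈ ℌ_G(O_p(M)), and H ≤ N_G(gQg⁻¹) for some g ∈ G. Then gQg⁻¹ ≤ O_p(H·gQg⁻¹) ≤ N_G(O_p(M)) ≤ N_G(Y_M) = M†; H is normal in H·gQg⁻¹ with O^p(H) = O^p(H·gQg⁻¹); and H·gQg⁻¹ is p-irreducible. -/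
theorem result {G : Type*} [Group G] [Finite G] {p : ℕ} [Fact p.Prime] (S : Sylow p G) (Q : Subgroup G) (hQp : IsPGroup p ↥Q) (hQ1 : Q ≠ ⊥) (hQS : Q ≤ (S : Subgroup G)) (hQ : Cfsg.IsLarge Q) (M : Subgroup G) (hSM : (S : Subgroup G) ≤ M) (hM : Cfsg.IsInFrakM p M) (hasym : ¬ Cfsg.IsSymmetricIn (Cfsg.largestPReducedOf p M)) (H : Subgroup G) (hH : Cfsg.IsInFrakH p M H) (g : G) (hHQ : H ≤ Subgroup.normalizer ((((Q : Subgroup G).map (MulAut.conj (g : G)).toMonoidHom) : Subgroup G) : Set G)) : ((Q : Subgroup G).map (MulAut.conj (g : G)).toMonoidHom) ≤ Cfsg.pCoreOf p (H ⊔ ((Q : Subgroup G).map (MulAut.conj (g : G)).toMonoidHom)) ∧ Cfsg.pCoreOf p (H ⊔ ((Q : Subgroup G).map (MulAut.conj (g : G)).toMonoidHom)) ≤ Subgroup.normalizer (((Cfsg.pCoreOf p M) : Subgroup G) : Set G) ∧ Subgroup.normalizer (((Cfsg.pCoreOf p M) : Subgroup G) : Set G) ≤ Subgroup.normalizer (((Cfsg.largestPReducedOf p M) : Subgroup G) : Set G) ∧ Subgroup.normalizer (((Cfsg.largestPReducedOf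 p M) : Subgroup G) : Set G) = (M ⊔ Subgroup.centralizer (((Cfsg.largestPReducedOf p M) : Subgroup G) : Set G)) ∧ (H.subgroupOf (H ⊔ ((Q : Subgroup G).map (MulAut.conj (g : G)).toMonoidHom))).Normal ∧ (Cfsg.pResidual p ↥H).map H.subtype = (Cfsg.pResidual p ↥(H ⊔ ((Q : Subgroup G).map (MulAut.conj (g : G)).toMonoidHom))).map (H ⊔ ((Q : Subgroup G).map (MulAut.conj (g : G)).toMonoidHom)).subtype ∧ Cfsg.IsPIrreducible p ↥(H ⊔ ((Q : Subgroup G).map (MulAut.conj (g : G)).toMonoidHom)) := by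
  have hpar := large_isOfParabolicCharacteristic hQ hQp
  set Q' := Q.map (MulAut.conj g).toMonoidHom with hQ'
  have hQ'p : IsPGroup p Q' := hQp.map _
  set K := H ⊔ Q' with hK
  set P := Cfsg.pCoreOf p M with hP
  set Y := Cfsg.largestPReducedOf p M with hY
  have hKQ : K ≤ Subgroup.normalizer (Q' : Set G) := sup_le hHQ Subgroup.le_normalizer
  have hQW : Q' ≤ Cfsg.pCoreOf p K := le_pCoreOf le_sup_right hKQ hQ'p
  have hKP : Cfsg.pCoreOf p K ≤ Subgroup.normalizer (P : Set G) :=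
    wcs_le_normalizer_of_normalized (core_wcs hpar S hSM hM hasym) (pCoreOf_isPGroup K)
      ((hH.2.1.trans le_sup_left).trans (le_normalizer_pCoreOf K))
  have hQP : Q' ≤ Subgroup.normalizer (P : Set G) := hQW.trans hKP
  have hQH : Q' ≤ Subgroup.normalizer (H : Set G) := by
    set X := ⨅ q ∈ Q', cj q H with hX
    have hPX : P ≤ X := le_iInf₂ fun q hq => by
      rw [Cfsg.Agent.Fusion.le_cj_iff]
      exact (cj_eq_of_mem (hQP (inv_mem hq))).le.trans hH.2.1
    have hHX : H ≤ Subgroup.normalizer (X : Set G) := by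
      refine mem_normalizer_of_forall fun h hh y hy => ?_
      simp only [hX, Subgroup.mem_iInf] at hy ⊢
      intro q hq
      have hq' : h⁻¹ * q * h⁻¹⁻¹ ∈ Q' := conj_mem_of_mem_normalizer (hHQ (inv_mem hh)) hq
      have := (Cfsg.Agent.Fusion.conj_mem_cj (g := h)).2 (hy _ hq')
      rw [Cfsg.Agent.Fusion.cj_cj, show h * (h⁻¹ * q * h⁻¹⁻¹) = q * h by group,
        ← Cfsg.Agent.Fusion.cj_cj, cj_eq_of_mem (Subgroup.le_normalizer hh)] at this
      exact this
    have hle : H ≤ X := (frakH_ncl_core hH).ge.trans (ncl_le_of_le hPX hHX)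
    refine mem_normalizer_of_forall fun q hq y hy => ?_
    have := hle hy
    simp only [hX, Subgroup.mem_iInf] at this
    have h2 := this q⁻¹ (inv_mem hq)
    rw [Cfsg.Agent.Fusion.mem_cj_inv] at h2
    exact h2
  have hKH : K ≤ Subgroup.normalizer (H : Set G) := sup_le Subgroup.le_normalizer hQH
  have hres : res p K = res p H := le_antisymm
    (by rw [← res_res K]; exact res_mono (res_le_of_sup hQ'p le_rfl hQH)) (res_mono le_sup_left)
  refine ⟨hQW, hKP, (normalizer_core_le hpar S hSM hM).trans dagger_le_normalizer,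
    normalizer_largest_eq hpar S hSM hM,
    (Subgroup.normal_subgroupOf_iff_le_normalizer le_sup_left).2 hKH, hres.symm, ?_, ?_⟩
  · intro hc
    refine hH.2.2.1 fun y hy => ?_
    have hY1 : Y ≤ H := frakH_largest_le hH
    have h1 : Cfsg.IsPClosed p ↥H := Cfsg.Agent.LocalP.isPClosed_of_injective
      (f := Subgroup.inclusion (le_sup_left : H ≤ K)) (Subgroup.inclusion_injective _) hc
    exact Cfsg.Agent.LocalP.isPClosed_subgroup_iff.1 h1 y (hY1 hy)
      (Cfsg.Agent.LocalP.exists_pow_eq_one_of_mem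
        (Cfsg.Agent.Modules.elemAb_isPGroup (isRed_largest M).2.2.1) hy)
  intro N0 hN0 hnc
  set N := N0.map K.subtype with hN
  have hNK : N ≤ K := Subgroup.map_subtype_le _
  have hN0e : N.subgroupOf K = N0 := Subgroup.comap_map_eq_self_of_injective K.subtype_injective N0
  have hKN : K ≤ Subgroup.normalizer (N : Set G) := by
    rw [← Subgroup.normal_subgroupOf_iff_le_normalizer hNK, hN0e]; exact hN0
  suffices hsuf : res p H ≤ N by
    rw [← hres] at hsuf
    exact (Subgroup.map_le_map_iff_of_injective K.subtype_injective).1 hsuf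
  by_contra hRN
  apply hnc
  set R := res p H with hR
  set N2 := (N ⊔ Q') ⊓ H with hN2
  have hN2K : K ≤ Subgroup.normalizer (N2 : Set G) :=
    le_normalizer_inf (le_normalizer_sup hKN hKQ) hKH
  have hHN2 : H ≤ Subgroup.normalizer (N2 : Set G) := le_sup_left.trans hN2K
  have hRN2 : ¬ R ≤ N2 := fun h => hRN (by
    calc R = res p R := (res_res H).symm
      _ ≤ N := res_le_of_sup hQ'p (h.trans inf_le_left) (le_sup_right.trans hKN))
  have hlt : N2 ⊔ P < H := by
    refine lt_of_le_not_ge (sup_le inf_le_right hH.2.1) fun hle => hRN2 ?_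
    exact res_le_of_sup (pCoreOf_isPGroup M) hle (hH.2.1.trans hHN2)
  set W := Cfsg.pCoreOf p H
  have hNY : ⁅N2, Y⁆ ≤ W := by
    have hYX := hH.2.2.2 _ le_sup_right hlt
    refine (le_inf (commutator_le_left_of_le_normalizer ((frakH_largest_le hH).trans hHN2))
      ((Subgroup.commutator_mono le_rfl hYX).trans (commutator_le_right_of_le_normalizer
        (le_sup_left.trans (le_normalizer_pCoreOf (N2 ⊔ P)))))).trans ?_
    exact (inf_pCoreOf_le le_sup_left).trans (pCoreOf_le_pCoreOf inf_le_right hHN2)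
  have hW : H ≤ Subgroup.normalizer (W : Set G) := le_normalizer_pCoreOf H
  haveI : (W.subgroupOf H).Normal :=
    (Subgroup.normal_subgroupOf_iff_le_normalizer (pCoreOf_le H)).2 hW
  set q := QuotientGroup.mk' (W.subgroupOf H)
  haveI : (N2.subgroupOf H).Normal :=
    (Subgroup.normal_subgroupOf_iff_le_normalizer inf_le_right).2 hHN2
  set Nb : Subgroup (↥H ⧸ W.subgroupOf H) := (N2.subgroupOf H).map q with hNbdef
  haveI hNb : Nb.Normal :=
    Subgroup.Normal.map inferInstance q (QuotientGroup.mk'_surjective _)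
  haveI hcn : (Subgroup.centralizer (Nb : Set (↥H ⧸ W.subgroupOf H))).Normal :=
    inferInstance
  have hYc : Y.subgroupOf H ≤
      (Subgroup.centralizer (Nb : Set (↥H ⧸ W.subgroupOf H))).comap q := by
    rintro y hy _ ⟨n, hn, rfl⟩
    rw [← commutatorElement_eq_one_iff_mul_comm, ← map_commutatorElement]
    exact (QuotientGroup.eq_one_iff _).2 (hNY (Subgroup.commutator_mem_commutator hn hy))
  have hRc : ∀ r ∈ R, ∀ n ∈ N2, ⁅r, n⁆ ∈ W := by
    intro r hr n hn
    have hrV : r ∈ ncl H Y :=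
      (frakH_res_sup_largest hpar S hSM hM hasym hH).le (Subgroup.mem_sup_left hr)
    obtain ⟨r', hr', rfl⟩ := hrV
    have := Subgroup.normalClosure_le_normal (N := (Subgroup.centralizer
      (Nb : Set (↥H ⧸ W.subgroupOf H))).comap q) hYc hr'
    have h := this (q ⟨n, hn.2⟩) ⟨⟨n, hn.2⟩, hn, rfl⟩
    have h' : q ⁅r', ⟨n, hn.2⟩⁆ = 1 := by
      rw [map_commutatorElement, commutatorElement_eq_one_iff_mul_comm]; exact h.symm
    have h'' := (QuotientGroup.eq_one_iff _).1 h'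
    exact h''
  have hres2 : res p N2 ≤ R := res_mono inf_le_right
  obtain ⟨T, hTW, hTi⟩ := aux_pclosed hres2 (pCoreOf_isPGroup H) (inf_le_right.trans hW)
    ((res_le H).trans hHN2) (Subgroup.commutator_le.2 hRc)
  have hTcore : ¬ p ∣ (Cfsg.pCoreOf p N2).relIndex N2 := fun h =>
    hTi (h.trans (Subgroup.relIndex_dvd_of_le_left _ hTW))
  have hcoreK : Cfsg.pCoreOf p N2 ≤ Cfsg.pCoreOf p K :=
    pCoreOf_le_pCoreOf (inf_le_right.trans le_sup_left) hN2K
  rw [← hN0e]
  refine (Cfsg.Agent.LocalP.isPClosed_congr (Subgroup.subgroupOfEquivOfLe hNK).symm).1 ?_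
  rw [Cfsg.Agent.LocalP.isPClosed_subgroup_iff]
  intro x hx ⟨k, hk⟩
  refine inf_pCoreOf_le hNK ⟨hx, ?_⟩
  have hx' := hNK hx
  rw [← SetLike.mem_coe, hK, Subgroup.coe_mul_of_right_le_normalizer_left _ _ hQH] at hx'
  obtain ⟨h, hh, q', hq', rfl⟩ := hx'
  have hh2 : h ∈ N2 := by
    refine ⟨?_, hh⟩
    have := mul_mem (Subgroup.mem_sup_left (T := Q') hx) (Subgroup.mem_sup_right (S := N) (inv_mem hq'))
    simpa [mul_assoc] using this
  refine mul_mem ?_ (hQW hq')
  haveI : ((Cfsg.pCoreOf p K).subgroupOf K).Normal :=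
    (Subgroup.normal_subgroupOf_iff_le_normalizer (pCoreOf_le K)).2 (le_normalizer_pCoreOf K)
  set q2 := QuotientGroup.mk' ((Cfsg.pCoreOf p K).subgroupOf K)
  have hk2 : q2 ⟨h, Subgroup.mem_sup_left hh⟩ ^ p ^ k = 1 := by
    have e : q2 ⟨h, Subgroup.mem_sup_left hh⟩ =
        q2 (⟨h, Subgroup.mem_sup_left hh⟩ * ⟨q', Subgroup.mem_sup_right hq'⟩) := by
      rw [map_mul, show q2 ⟨q', Subgroup.mem_sup_right hq'⟩ = 1 from
        (QuotientGroup.eq_one_iff _).2 (hQW hq'), mul_one]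
    rw [e, ← map_pow]
    refine (QuotientGroup.eq_one_iff _).2 ?_
    show (h * q') ^ p ^ k ∈ Cfsg.pCoreOf p K
    rw [hk]; exact one_mem _
  rw [← map_pow] at hk2
  have h3 := (QuotientGroup.eq_one_iff _).1 hk2
  exact aux_pow (le_normalizer_pCoreOf K) (pCoreOf_le K) hcoreK (inf_le_right.trans le_sup_left)
    hTcore (pCoreOf_le N2) (le_normalizer_pCoreOf N2) hh2 h3

end Cfsg.Agent.S2854
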