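import Cfsg.Statements.S2855
import Cfsg.Agent.LAE60.TransitiveFamily
import Cfsg.Agent.Cores.Residual
import Cfsg.Agent.Fusion.Basic
-- import your own Cfsg.Agent.* helpers here

set_option autoImplicit false
open Cfsg
set_option linter.unusedVariables false
set_option linter.style.haveILetI false
open Cfsg.Agent.LAE60
open Cfsg.Agent.Fusion (cj)
open Subgroup

theorem minimalOver_surj {A B : Type*} [Group A] [Finite A] [Group B] [Finite B] {p : ℕ} [Fact p.Prime]
    (f : A →* B) (hf : Function.Surjective f) (hk : IsPGroup p f.ker)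
    (h : ∀ T : Sylow p A, Cfsg.IsMinimalOver (T : Subgroup A)) (T' : Sylow p B) :
    Cfsg.IsMinimalOver (T' : Subgroup B) := by
  obtain ⟨T, rfl⟩ := Sylow.mapSurjective_surjective hf p T'
  obtain ⟨hcl, M, ⟨hM, hTM⟩, huniq⟩ := h T
  have hkT : f.ker ≤ (T : Subgroup A) := by
    refine le_trans ?_ (Cfsg.Agent.Cores.pCore_le_sylow T)
    exact Cfsg.Agent.Cores.le_pCore inferInstance hk
  rw [Sylow.coe_mapSurjective]
  refine ⟨?_, M.map f, ⟨isCoatom_map_of_ker_le f hf hM (hkT.trans hTM), map_mono hTM⟩,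
    fun M' ⟨hM', hTM'⟩ => ?_⟩
  · have := congrArg (Subgroup.map f) hcl
    rwa [map_normalClosure _ f hf, map_top_of_surjective f hf, ← coe_map] at this
  · have := huniq (M'.comap f) ⟨isCoatom_comap_of_surjective f hf hM', map_le_iff_le_comap.1 hTM'⟩
    rw [← this, map_comap_eq_self_of_surjective hf]

theorem irreducible_surj {A B : Type*} [Group A] [Finite A] [Group B] [Finite B] {p : ℕ} [Fact p.Prime]
    (f : A →* B) (hf : Function.Surjective f) (hk : IsPGroup p f.ker)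
    (h : Cfsg.IsStronglyPIrreducible p A) : Cfsg.IsStronglyPIrreducible p B := by
  refine ⟨fun hc => h.1 (Cfsg.Agent.LocalP.isPClosed_of_ker hf hk hc), fun N hN hne => ?_⟩
  have h1 := h.2 (N.comap f) (hN.comap f) fun hle => hne ?_
  · calc Cfsg.pResidual p B = (Cfsg.pResidual p A).map f :=
          (Cfsg.Agent.Cores.map_pResidual_of_surjective f hf).symm
      _ ≤ N := map_le_iff_le_comap.2 h1
  · calc ⁅N, (⊤ : Subgroup B)⁆ = ⁅(N.comap f).map f, (⊤ : Subgroup A).map f⁆ := by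
          rw [map_comap_eq_self_of_surjective hf, map_top_of_surjective f hf]
      _ = (⁅N.comap f, (⊤ : Subgroup A)⁆).map f := (map_commutator _ _ f).symm
      _ ≤ (Cfsg.pCore p A).map f := map_mono hle
      _ ≤ _ := Cfsg.Agent.Cores.map_pCore_le_of_surjective f hf

namespace Cfsg.Agent.S2855

/-- Let H be a finite group, p a prime, and 𝒦 a nonempty set of subgroups of H permuted transitively by conjugation, with R the subgroup generated by the members of 𝒦. Suppose O^p(H) ≤ R, each E ∈ 𝒦 has E·O_p(H) normal in R·O_p(H), and each E ∈ 𝒦 is p-minimal (generated by the conjugates of a Sylow p-subgroup T_E of E, with T_E in exactly one maximal subgroup of E). Then H is p-minimal in the same sense. If instead each E ∈ 𝒦 is strongly p-irreducible, then H is p-irreducible and, for E, K ∈ 𝒦, either O^p(E·O_p(H)) = O^p(K·O_p(H)) or [E, K] ≤ O_p(H). -/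
theorem result {H : Type*} [Group H] [Finite H] {p : ℕ} [Fact p.Prime] (𝒦 : Set (Subgroup H)) (hne : 𝒦.Nonempty) (hinv : ∀ h : H, ∀ E ∈ 𝒦, E.map (MulAut.conj h).toMonoidHom ∈ 𝒦) (htr : ∀ E ∈ 𝒦, ∀ K ∈ 𝒦, ∃ h : H, K = E.map (MulAut.conj h).toMonoidHom) (hres : Cfsg.pResidual p H ≤ sSup 𝒦) (hnorm : ∀ E ∈ 𝒦, sSup 𝒦 ⊔ Cfsg.pCore p H ≤ Subgroup.normalizer ((E ⊔ Cfsg.pCore p H : Subgroup H) : Set H)) : ((∀ E ∈ 𝒦, ∀ T : Sylow p ↥E, Cfsg.IsMinimalOver (T : Subgroup ↥E)) → ∀ T : Sylow p H, Cfsg.IsMinimalOver (T : Subgroup H)) ∧ ((∀ E ∈ 𝒦, Cfsg.IsStronglyPIrreducible p ↥E) → Cfsg.IsPIrreducible p H ∧ ∀ E ∈ 𝒦, ∀ K ∈ 𝒦, (Cfsg.pResidual p ↥(E ⊔ Cfsg.pCore p H)).map (E ⊔ Cfsg.pCore p H).subtype = (Cfsg.pResidual p ↥(K ⊔ Cfsg.pCore p H)).map (K ⊔ Cfsg.pCore p H).subtype ∨ ⁅E, K⁆ ≤ Cfsg.pCore p H) := by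
  classical
  set O := Cfsg.pCore p H with hOdef
  set q := QuotientGroup.mk' O with hqdef
  have hqs : Function.Surjective q := QuotientGroup.mk'_surjective O
  have hOp : IsPGroup p O := Cfsg.Agent.Cores.pCore_isPGroup
  set R := sSup 𝒦 with hRdef
  set 𝒦' : Set (Subgroup (H ⧸ O)) := (fun E => E.map q) '' 𝒦 with h𝒦'
  have hqcj : ∀ (h : H) (E : Subgroup H), (cj h E).map q = cj (q h) (E.map q) := by
    intro h E
    rw [Cfsg.Agent.Fusion.cj, Cfsg.Agent.Fusion.cj, map_map, map_map]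
    congr 1
  have hne' : 𝒦'.Nonempty := hne.image _
  have hinv' : ∀ h : H ⧸ O, ∀ E ∈ 𝒦', cj h E ∈ 𝒦' := by
    rintro h _ ⟨E, hE, rfl⟩
    obtain ⟨g, rfl⟩ := hqs h
    exact ⟨_, hinv g E hE, hqcj g E⟩
  have htr' : ∀ E ∈ 𝒦', ∀ K ∈ 𝒦', ∃ h : H ⧸ O, K = cj h E := by
    rintro _ ⟨E, hE, rfl⟩ _ ⟨K, hK, rfl⟩
    obtain ⟨g, rfl⟩ := htr E hE K hK
    exact ⟨q g, hqcj g E⟩
  have hsSup : sSup 𝒦' = R.map q := by
    rw [h𝒦', sSup_image, hRdef, sSup_eq_iSup, Subgroup.map_iSup]
    simp only [Subgroup.map_iSup]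
  have hres' : Cfsg.pResidual p (H ⧸ O) ≤ sSup 𝒦' := by
    rw [hsSup, ← Cfsg.Agent.Cores.map_pResidual_of_surjective q hqs]
    exact map_mono hres
  have hn' : ∀ E ∈ 𝒦', sSup 𝒦' ≤ normalizer (E : Set (H ⧸ O)) := by
    rintro _ ⟨E, hE, rfl⟩
    rw [hsSup]
    refine (map_mono ((le_sup_left : R ≤ R ⊔ O).trans (hnorm E hE))).trans ?_
    refine (le_normalizer_map q).trans ?_
    rw [Subgroup.map_sup, show O.map q = ⊥ from QuotientGroup.map_mk'_self O, sup_bot_eq]
  have hker : ∀ E : Subgroup H, IsPGroup p (q.subgroupMap E).ker := by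
    rintro E ⟨x, hx⟩
    have h1 : (x : H) ∈ O := (QuotientGroup.eq_one_iff (x : H)).1 (congrArg Subtype.val hx)
    obtain ⟨k, hk⟩ := hOp ⟨x, h1⟩
    exact ⟨k, Subtype.ext (Subtype.ext (by simpa using congrArg Subtype.val hk))⟩
  haveI : Finite (H ⧸ O) := inferInstance
  refine ⟨fun hmin T => ?_, fun hirr => ?_⟩
  · have hmin' : ∀ E ∈ 𝒦', ∀ T : Sylow p ↥E, Cfsg.IsMinimalOver (T : Subgroup ↥E) := by
      rintro _ ⟨E, hE, rfl⟩ T'
      exact minimalOver_surj (q.subgroupMap E) (q.subgroupMap_surjective E) (hker E) (hmin E hE) T'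
    obtain ⟨hcl, M, ⟨hM, hTM⟩, huniq⟩ :=
      family_minimal hne' hinv' htr' hres' hn' hmin' (T.mapSurjective hqs)
    rw [Sylow.coe_mapSurjective] at hcl hTM huniq
    have hOT : O ≤ (T : Subgroup H) := Cfsg.Agent.Cores.pCore_le_sylow T
    have hkq : q.ker = O := QuotientGroup.ker_mk' O
    refine ⟨?_, M.comap q, ⟨isCoatom_comap_of_surjective q hqs hM, map_le_iff_le_comap.1 hTM⟩,
      fun M' ⟨hM', hTM'⟩ => ?_⟩
    · set N := normalClosure ((T : Subgroup H) : Set H)
      have h1 : N.map q = ⊤ := by rw [map_normalClosure _ q hqs, ← coe_map, hcl]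
      have h2 : q.ker ≤ N := by
        rw [hkq]
        exact hOT.trans fun t ht => subset_normalClosure ht
      rw [← comap_map_eq_self h2, h1, comap_top]
    · have h2 : q.ker ≤ M' := by rw [hkq]; exact hOT.trans hTM'
      rw [← huniq (M'.map q) ⟨isCoatom_map_of_ker_le q hqs hM' h2, map_mono hTM'⟩,
        comap_map_eq_self h2]
  have hcore' : Cfsg.pCore p (H ⧸ O) = ⊥ := Cfsg.Agent.Cores.pCore_quotient_pCore_eq_bot
  have hirr' : ∀ E ∈ 𝒦', Cfsg.IsStronglyPIrreducible p ↥E := by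
    rintro _ ⟨E, hE, rfl⟩
    exact irreducible_surj (q.subgroupMap E) (q.subgroupMap_surjective E) (hker E) (hirr E hE)
  obtain ⟨hN', hEK⟩ := family_irreducible hne' hinv' htr' hres' hn' hcore' hirr'
  refine ⟨⟨?_, fun N hN hnc => ?_⟩, fun E hE K hK => ?_⟩
  · intro hc
    obtain ⟨E, hE⟩ := hne
    exact (hirr E hE).1 (Cfsg.Agent.LocalP.isPClosed_of_injective (f := E.subtype)
      E.subtype_injective hc)
  · haveI := hN
    rcases hN' (N.map q) (hN.map q hqs) with h | h
    · have h1 : Cfsg.pResidual p H ≤ N ⊔ O := by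
        rw [← Cfsg.Agent.Cores.map_pResidual_of_surjective q hqs, map_le_iff_le_comap,
          comap_map_eq, QuotientGroup.ker_mk'] at h
        exact h
      have h2 := res_le_of_sup (p := p) hOp
        (show res p (⊤ : Subgroup H) ≤ N ⊔ O from le_trans (res_le_iff.2 fun z _ hz => ?_) h1)
        (by rw [normalizer_eq_top]; exact le_top)
      · rw [res_res] at h2
        refine (closure_le _).2 fun z hz => ?_
        exact h2 (mem_res (mem_top z) hz)
      · exact subset_closure hz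
    · exfalso
      refine hnc (Cfsg.Agent.LocalP.isPClosed_normal_iff.2 fun x hx ⟨k, hk⟩ => ?_)
      exact (QuotientGroup.eq_one_iff x).1 (h (q x) (mem_map_of_mem q hx)
        ⟨k, by rw [← map_pow, hk, map_one]⟩)
  · have hmapsup : ∀ E : Subgroup H, (E ⊔ O).map q = E.map q := fun E => by
      rw [Subgroup.map_sup, show O.map q = ⊥ from QuotientGroup.map_mk'_self O, sup_bot_eq]
    rcases hEK _ ⟨E, hE, rfl⟩ _ ⟨K, hK, rfl⟩ with h | h
    · left
      have hresmap : ∀ A : Subgroup H, (res p A).map q = res p (A.map q) := by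
        intro A
        have h1 : (q.comp A.subtype) = (A.map q).subtype.comp (q.subgroupMap A) := by ext; rfl
        rw [res, res, map_map, h1, ← map_map,
          Cfsg.Agent.Cores.map_pResidual_of_surjective _ (q.subgroupMap_surjective A)]
      have key : ∀ A B : Subgroup H, res p ((A ⊔ O).map q) = res p ((B ⊔ O).map q) →
          res p (A ⊔ O) ≤ res p (B ⊔ O) := by
        intro A B he
        rw [← hresmap, ← hresmap] at he
        have h1 := congrArg (Subgroup.comap q) he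
        rw [comap_map_eq, comap_map_eq, QuotientGroup.ker_mk'] at h1
        calc res p (A ⊔ O) = res p (res p (A ⊔ O)) := (res_res _).symm
          _ ≤ res p (B ⊔ O) := res_le_of_sup hOp (le_sup_left.trans h1.le)
              ((le_sup_right : O ≤ B ⊔ O).trans (le_normalizer_res _))
      exact le_antisymm (key E K (by rw [hmapsup, hmapsup]; exact h))
        (key K E (by rw [hmapsup, hmapsup]; exact h.symm))
    · right
      rwa [← map_commutator, Subgroup.map_eq_bot_iff, QuotientGroup.ker_mk'] at h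

end Cfsg.Agent.S2855
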