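import Cfsg.Statements.S2859
import Cfsg.Agent.LAE60.Large
import Cfsg.Agent.LAE60.BasicProperty
-- import your own Cfsg.Agent.* helpers here

set_option autoImplicit false
open Cfsg
set_option linter.unusedVariables false
set_option linter.style.haveILetI false
open Cfsg.Agent.LAE60
open Cfsg.Agent.Fusion (cj cj_cj cj_mono cj_eq_of_mem)
open scoped commutatorElement
open Subgroup

theorem aux_three {X : Type*} [Group X] {k h v : X} (hz : ∀ x, Commute ⁅v, k⁆ x)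
    (hw : ∀ x, Commute ⁅v, h⁆ x) : ⁅⁅k, h⁆, v⁆ = 1 := by
  have gen : ∀ z w : X, (∀ x, Commute z x) → (∀ x, Commute w x) → ⁅z * k, w * h⁆ = ⁅k, h⁆ := by
    intro z w hz hw
    simp only [commutatorElement_def, mul_inv_rev]
    calc z * k * (w * h) * (k⁻¹ * z⁻¹) * (h⁻¹ * w⁻¹)
        = z * (k * w) * (h * k⁻¹) * z⁻¹ * h⁻¹ * w⁻¹ := by group
      _ = z * (w * k * h * k⁻¹) * z⁻¹ * h⁻¹ * w⁻¹ := by rw [← (hw k).eq]; group
      _ = (w * k * h * k⁻¹) * z * z⁻¹ * h⁻¹ * w⁻¹ := by rw [(hz _).eq]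
      _ = w * (k * h * k⁻¹ * h⁻¹) * w⁻¹ := by group
      _ = (k * h * k⁻¹ * h⁻¹) * w * w⁻¹ := by rw [(hw _).eq]
      _ = _ := by group
  rw [commutatorElement_eq_one_iff_mul_comm]
  have e : v * ⁅k, h⁆ * v⁻¹ = ⁅k, h⁆ := by
    refine Eq.trans ?_ (gen _ _ hz hw)
    simp only [commutatorElement_def]; group
  calc ⁅k, h⁆ * v = (v * ⁅k, h⁆ * v⁻¹) * v := by rw [e]
    _ = v * ⁅k, h⁆ := by group

theorem aux_main {G : Type*} [Group G] [Finite G] {p : ℕ} [Fact p.Prime] {Q Hc H₁ H₂ : Subgroup G}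
    (hwc : Cfsg.IsWeaklyClosedSubgroup p Q) (hHc : Hc = Cfsg.weakClosure Q ⊤) (h1 : H₁ ≤ Hc)
    (hn₁ : Hc ≤ normalizer (H₁ : Set G)) (h2 : H₂ ≤ Hc) (hn₂ : Hc ≤ normalizer (H₂ : Set G))
    (hprod : H₁ ⊔ H₂ = Hc) (hcomm : ⁅H₁, H₂⁆ ≤ normalizer (Q : Set G)) :
    (⁅res p (Cfsg.weakClosure Q (H₁ ⊔ Q)), Q⁆ = res p (Cfsg.weakClosure Q (H₁ ⊔ Q)) ∧
      ⁅res p (Cfsg.weakClosure Q (H₁ ⊔ Q)), H₁⁆ = res p (Cfsg.weakClosure Q (H₁ ⊔ Q)) ∧
      res p (Cfsg.weakClosure Q (H₁ ⊔ Q)) ≤ ⁅H₁, H₁⁆ ∧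
      Hc ≤ normalizer (res p (Cfsg.weakClosure Q (H₁ ⊔ Q)) : Set G)) ∧
    res p (Cfsg.weakClosure Q (H₁ ⊔ Q)) ≤ H₁ ∧
    (∀ h ∈ H₁, cj h Q ≤ res p (Cfsg.weakClosure Q (H₁ ⊔ Q)) ⊔ Q) ∧
    ⁅⁅H₁, H₂⁆, Hc⁆ ≤ Cfsg.pCoreOf p ⁅H₁, H₂⁆ ∧ Hc ≤ normalizer ((⁅H₁, H₂⁆ : Subgroup G) : Set G) := by
  have hQp := wcs_isPGroup hwc
  have hQc : Q ≤ Hc := hHc ▸ le_weakClosure le_top
  set D := ⁅H₁, H₂⁆ with hD
  set W := Cfsg.pCoreOf p D
  set X := Cfsg.weakClosure Q (H₁ ⊔ Q)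
  set K := res p X
  have hDn : Hc ≤ normalizer (D : Set G) := le_normalizer_commutator hn₁ hn₂
  have hWn : Hc ≤ normalizer (W : Set G) := hDn.trans (normalizer_le_normalizer_pCoreOf D)
  have hD1 : D ≤ H₁ := commutator_le_left_of_le_normalizer (h2.trans hn₁)
  have hDHc : D ≤ Hc := hD1.trans h1
  have hDW : ⁅D, Hc⁆ ≤ W := by
    rw [commutator_comm, hHc]
    refine commutator_le.2 ?_
    have key : ∀ g : G, cj g Q ≤ Hc → cj g Q ≤ normalizer (W : Set G) ∧ ⁅cj g Q, D⁆ ≤ W := by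
      intro g hg
      refine ⟨hg.trans hWn, ?_⟩
      obtain ⟨x, hx, hxe⟩ := wcs_exists_conj hwc hQc hg
      have hDQ : D ≤ normalizer (cj g Q : Set G) := by
        rw [← hxe, ← Cfsg.Agent.Fusion.cj_normalizer]
        exact (cj_eq_of_mem (hDn hx)).ge.trans (cj_mono x hcomm)
      refine le_pCoreOf (commutator_le_right_of_le_normalizer (hg.trans hDn))
        (le_normalizer_commutator hDQ Subgroup.le_normalizer) ?_
      exact (hQp.map _).to_le (commutator_le_left_of_le_normalizer hDQ)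
    intro y hy d hd
    have hle : Cfsg.weakClosure Q ⊤ ≤ Hc := hHc.ge
    revert y
    suffices ⁅Cfsg.weakClosure Q ⊤, D⁆ ≤ W from fun y hy => this (commutator_mem_commutator hy hd)
    rw [Cfsg.weakClosure, iSup_eq_closure]
    refine commutator_closure_le ?_ ?_
    · intro z hz
      obtain ⟨g, hg⟩ := Set.mem_iUnion.1 hz
      exact (key g.1 ((cj_le_weakClosure g.2).trans hle)).1 hg
    · intro z hz d hd
      obtain ⟨g, hg⟩ := Set.mem_iUnion.1 hz
      exact (key g.1 ((cj_le_weakClosure g.2).trans hle)).2 (commutator_mem_commutator hg hd)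
  have hQH1 : Q ≤ normalizer (H₁ : Set G) := hQc.trans hn₁
  have hQX : Q ≤ X := le_weakClosure le_sup_right
  have hH1X : H₁ ≤ normalizer (K : Set G) :=
    le_sup_left.trans ((le_normalizer_weakClosure _).trans (normalizer_le_normalizer_res X))
  have hQK : Q ≤ normalizer (K : Set G) := hQX.trans (le_normalizer_res X)
  have hKH : K ≤ H₁ := res_le_of_sup hQp (weakClosure_le _) hQH1
  have hKQ : ⁅K, Q⁆ = K := by
    refine le_antisymm (commutator_le_left_of_le_normalizer hQK) ?_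
    obtain ⟨T, hT1, hT2⟩ := Cfsg.Agent.Fusion.exists_sylow_inf_relIndex hQp hQX
    have hle : X ≤ ⁅K, Q⁆ ⊔ Q := by
      refine weakClosure_le_iff.2 fun g hg => ?_
      obtain ⟨m, hm, hme⟩ := wcs_exists_conj hwc hQX (cj_le_weakClosure hg)
      rw [← hme]
      obtain ⟨t, ht, k, hk, rfl⟩ := exists_mul_of_mem_sup'
        (inf_le_right.trans (le_normalizer_res X))
        (show m ∈ (T : Subgroup G) ⊓ X ⊔ K by
          rw [sup_comm]; exact le_res_sup T.2.to_inf_left inf_le_right hT2 hm)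
      rw [show t * k = (t * k * t⁻¹) * t by group, ← cj_cj,
        cj_eq_of_mem (wcs_le_normalizer hwc T.2.to_inf_left (le_inf hT1 hQX) ht)]
      exact cj_le_commutator_sup (conj_mem_of_mem_normalizer ((le_normalizer_res X) ht.2) hk)
    calc K = res p K := (res_res X).symm
      _ ≤ _ := res_le_of_sup hQp ((res_le X).trans hle) (right_le_normalizer_commutator K Q)
  have hKH1 : ⁅K, H₁⁆ = K := by
    refine le_antisymm (commutator_le_left_of_le_normalizer hH1X) ?_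
    set N := ⁅K, H₁⁆
    have hNK : N ≤ K := commutator_le_left_of_le_normalizer hH1X
    have hNn : K ≤ normalizer (N : Set G) := left_le_normalizer_commutator _ _
    have hU : ⁅K, Q⁆ ≤ (K ⊓ D) ⊔ N := by
      refine commutator_le.2 fun k hk q hq => ?_
      obtain ⟨a, ha, b, hb, rfl⟩ := exists_mul_of_mem_sup' (h1.trans hn₂)
        (show q ∈ H₁ ⊔ H₂ from hprod ▸ hQc hq)
      have e : ⁅k, a * b⁆ = ⁅k, a⁆ * (a * ⁅k, b⁆ * a⁻¹) := by
        simp only [commutatorElement_def]; group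
      have hN : ⁅k, a⁆ ∈ N := commutator_mem_commutator hk ha
      have hD' : a * ⁅k, b⁆ * a⁻¹ ∈ D :=
        conj_mem_of_mem_normalizer (hDn (h1 ha)) (commutator_mem_commutator (hKH hk) hb)
      have hK' : a * ⁅k, b⁆ * a⁻¹ ∈ K := by
        have := mul_mem (inv_mem (hNK hN)) (hKQ.le (commutator_mem_commutator hk hq))
        rwa [e, inv_mul_cancel_left] at this
      rw [e]
      exact mul_mem (mem_sup_right hN) (mem_sup_left ⟨hK', hD'⟩)
    have hU2 : ⁅K, Q⁆ ≤ N ⊔ (W ⊓ K) := by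
      refine commutator_le.2 fun k hk q hq => ?_
      obtain ⟨e', he', n, hn, rfl⟩ := exists_mul_of_mem_sup' (inf_le_left.trans hNn)
        (hU (hKQ.ge hk))
      have he : ⁅e', q⁆ ∈ W ⊓ K :=
        ⟨hDW (commutator_mem_commutator he'.2 (hQc hq)),
          hKQ.le (commutator_mem_commutator he'.1 hq)⟩
      have hn2 : ⁅n, q⁆ ∈ N := by
        refine commutator_le_left_of_le_normalizer ?_ (commutator_mem_commutator hn hq)
        exact le_normalizer_commutator hQK hQH1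
      have e : ⁅e' * n, q⁆ = (e' * ⁅n, q⁆ * e'⁻¹) * ⁅e', q⁆ := by
        simp only [commutatorElement_def]; group
      rw [e]
      exact mul_mem (mem_sup_left (conj_mem_of_mem_normalizer (hNn he'.1) hn2)) (mem_sup_right he)
    calc K = res p K := (res_res X).symm
      _ ≤ N := res_le_of_sup ((pCoreOf_isPGroup D).to_inf_left) (hKQ.ge.trans hU2)
        (inf_le_right.trans hNn)
  have hH2 : H₂ ≤ normalizer (K : Set G) := by
    intro h hh
    rw [← Cfsg.Agent.Fusion.cj_eq_iff_mem_normalizer]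
    refine Subgroup.eq_of_le_of_card_ge ?_ (Cfsg.Agent.Fusion.card_cj h K).ge
    have hW1 : W ≤ normalizer (K : Set G) := ((pCoreOf_le D).trans hD1).trans hH1X
    have hres : res p (cj h K) = cj h K := by
      refine le_antisymm (res_le _) ?_
      conv_lhs => rw [show K = res p K from (res_res X).symm, res_eq_closure, Cfsg.Agent.Fusion.cj,
        MonoidHom.map_closure]
      refine (closure_le _).2 ?_
      rintro _ ⟨x, ⟨hx, hc⟩, rfl⟩
      exact mem_res ⟨x, hx, rfl⟩ (by rwa [show orderOf ((MulAut.conj h).toMonoidHom x) = orderOf x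
        from orderOf_injective _ (MulAut.conj h).injective x])
    have hKD : cj h K ≤ K ⊔ D := by
      rintro _ ⟨k, hk, rfl⟩
      have e : (MulAut.conj h).toMonoidHom k = ⁅h, k⁆ * k := by simp [commutatorElement_def]
      rw [e]
      refine mul_mem (mem_sup_right ?_) (mem_sup_left hk)
      rw [hD, commutator_comm]
      exact commutator_mem_commutator hh (hKH hk)
    have hle : cj h K ≤ K ⊔ W := by
      conv_lhs => rw [← hKH1, Cfsg.Agent.Fusion.cj, map_commutator]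
      refine commutator_le.2 fun x hx a ha => ?_
      change a ∈ cj h H₁ at ha
      rw [cj_eq_of_mem (h2.trans hn₁ hh)] at ha
      obtain ⟨d, hd, k, hk, rfl⟩ := exists_mul_of_mem_sup' (hD1.trans hH1X)
        (show x ∈ D ⊔ K by rw [sup_comm]; exact hKD hx)
      have e : ⁅d * k, a⁆ = (d * ⁅k, a⁆ * d⁻¹) * ⁅d, a⁆ := by
        simp only [commutatorElement_def]; group
      rw [e]
      exact mul_mem (mem_sup_left (conj_mem_of_mem_normalizer (hH1X (hD1 hd))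
        (hKH1.le (commutator_mem_commutator hk ha))))
        (mem_sup_right (hDW (commutator_mem_commutator hd (h1 ha))))
    rw [← hres]
    exact res_le_of_sup (pCoreOf_isPGroup D) hle hW1
  refine ⟨⟨hKQ, hKH1, ?_, hprod ▸ sup_le hH1X hH2⟩, hKH, fun h hh => ?_, hDW, hDn⟩
  · conv_lhs => rw [← hKH1]
    exact commutator_mono hKH le_rfl
  · have hle : X ≤ K ⊔ Q := by
      refine weakClosure_le_iff.2 fun g hg => ?_
      obtain ⟨m, hm, hme⟩ := wcs_exists_conj hwc hQX (cj_le_weakClosure hg)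
      rw [← hme]
      obtain ⟨T, hT1, hT2⟩ := Cfsg.Agent.Fusion.exists_sylow_inf_relIndex hQp hQX
      obtain ⟨t, ht, k, hk, rfl⟩ := exists_mul_of_mem_sup'
        (inf_le_right.trans (le_normalizer_res X))
        (show m ∈ (T : Subgroup G) ⊓ X ⊔ K by
          rw [sup_comm]; exact le_res_sup T.2.to_inf_left inf_le_right hT2 hm)
      rw [show t * k = (t * k * t⁻¹) * t by group, ← cj_cj,
        cj_eq_of_mem (wcs_le_normalizer hwc T.2.to_inf_left (le_inf hT1 hQX) ht)]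
      exact (cj_le_commutator_sup (conj_mem_of_mem_normalizer ((le_normalizer_res X) ht.2) hk)).trans
        (sup_le_sup_right hKQ.le Q)
    exact (cj_le_weakClosure (cj_le_of_mem le_sup_right (mem_sup_left hh))).trans hle

namespace Cfsg.Agent.S2859

/-- Let Q be a nontrivial p-subgroup of the finite group H that is a weakly closed subgroup, H° the weak closure of Q in H (generated by the conjugates of Q) and H_∘ = O^p(H°). Suppose H₁, H₂ are normal subgroups of H° with H° = H₁H₂ and [H₁, H₂] ≤ N_H(Q), and put Kᵢ = O^p of the weak closure of Q in HᵢQ. Then for i = 1, 2: Kᵢ = [Kᵢ, Q] = [Kᵢ, Hᵢ] ≤ Hᵢ′ and Kᵢ is normal in H°; H_∘ = K₁K₂; and [K₁, K₂] ≤ O_p(H°). -/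
theorem result {G : Type*} [Group G] [Finite G] {p : ℕ} [Fact p.Prime] (Q : Subgroup G) (hQp : IsPGroup p ↥Q) (hQ1 : Q ≠ ⊥) (hwc : Cfsg.IsWeaklyClosedSubgroup p Q) (Hc : Subgroup G) (hHc : Hc = Cfsg.weakClosure Q ⊤) (H₁ H₂ : Subgroup G) (hn₁ : H₁ ≤ Hc ∧ Hc ≤ Subgroup.normalizer ((H₁ : Subgroup G) : Set G)) (hn₂ : H₂ ≤ Hc ∧ Hc ≤ Subgroup.normalizer ((H₂ : Subgroup G) : Set G)) (hprod : H₁ ⊔ H₂ = Hc) (hcomm : ⁅H₁, H₂⁆ ≤ Subgroup.normalizer ((Q : Subgroup G) : Set G)) (K₁ K₂ : Subgroup G) (hK₁ : K₁ = ((Cfsg.pResidual p ↥(Cfsg.weakClosure Q (H₁ ⊔ Q))).map ((Cfsg.weakClosure Q (H₁ ⊔ Q))).subtype)) (hK₂ : K₂ = ((Cfsg.pResidual p ↥(Cfsg.weakClosure Q (H₂ ⊔ Q))).map ((Cfsg.weakClosure Q (H₂ ⊔ Q))).subtype)) : (⁅K₁, Q⁆ = K₁ ∧ ⁅K₁, H₁⁆ = K₁ ∧ K₁ ≤ ⁅H₁, H₁⁆ ∧ Hc ≤ Subgroup.normalizer ((K₁ : Subgroup G) : Set G)) ∧ (⁅K₂, Q⁆ = K₂ ∧ ⁅K₂, H₂⁆ = K₂ ∧ K₂ ≤ ⁅H₂, H₂⁆ ∧ Hc ≤ Subgroup.normalizer ((K₂ : Subgroup G) : Set G))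 ∧ K₁ ⊔ K₂ = ((Cfsg.pResidual p ↥Hc).map (Hc).subtype) ∧ ⁅K₁, K₂⁆ ≤ (Cfsg.pCoreOf p Hc) := by
  obtain ⟨⟨a1, a2, a3, a4⟩, aK, aQ, aW, aD⟩ :=
    aux_main hwc hHc hn₁.1 hn₁.2 hn₂.1 hn₂.2 hprod hcomm
  obtain ⟨⟨b1, b2, b3, b4⟩, bK, bQ, -, -⟩ := aux_main hwc hHc hn₂.1 hn₂.2 hn₁.1 hn₁.2
    (by rw [sup_comm]; exact hprod) (by rw [commutator_comm]; exact hcomm)
  subst hK₁ hK₂
  set K₁ := res p (Cfsg.weakClosure Q (H₁ ⊔ Q))
  set K₂ := res p (Cfsg.weakClosure Q (H₂ ⊔ Q))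
  have hQc : Q ≤ Hc := hHc ▸ le_weakClosure le_top
  have hres : res p Hc = K₁ ⊔ K₂ := by
    refine le_antisymm ?_ (sup_le ?_ ?_)
    · refine res_le_of_sup (wcs_isPGroup hwc) ?_ (hQc.trans (le_normalizer_sup a4 b4))
      have hle : ∀ g : G, cj g Q ≤ Hc → cj g Q ≤ K₁ ⊔ K₂ ⊔ Q := by
        intro g hg
        obtain ⟨m, hm, hme⟩ := wcs_exists_conj hwc hQc hg
        obtain ⟨a, ha, b, hb, rfl⟩ := exists_mul_of_mem_sup' (hn₁.1.trans hn₂.2) (hprod.ge hm)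
        rw [← hme, ← cj_cj]
        refine (cj_mono a (bQ b hb)).trans ?_
        rw [Cfsg.Agent.Fusion.cj, Subgroup.map_sup]
        exact sup_le (((cj_eq_of_mem (b4 (hn₁.1 ha))).le.trans le_sup_right).trans le_sup_left)
          ((aQ a ha).trans (sup_le_sup_right le_sup_left Q))
      conv_lhs => rw [hHc]
      exact weakClosure_le_iff.2 fun g hg => hle g ((cj_le_weakClosure hg).trans hHc.ge)
    · exact res_mono ((weakClosure_le _).trans (sup_le hn₁.1 hQc))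
    · exact res_mono ((weakClosure_le _).trans (sup_le hn₂.1 hQc))
  refine ⟨⟨a1, a2, a3, a4⟩, ⟨b1, b2, b3, b4⟩, hres.symm, ?_⟩
  set D := ⁅H₁, H₂⁆
  set W := Cfsg.pCoreOf p D
  have hWn : Hc ≤ normalizer (W : Set G) := aD.trans (normalizer_le_normalizer_pCoreOf D)
  refine le_trans ?_ (pCoreOf_le_pCoreOf
    ((commutator_le_left_of_le_normalizer (hn₂.1.trans hn₁.2)).trans hn₁.1) aD)
  refine le_trans (commutator_mono a2.ge le_rfl) ?_
  change ⁅closure {g | ∃ a ∈ K₁, ∃ b ∈ H₁, ⁅a, b⁆ = g}, K₂⁆ ≤ W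
  have hK1c : K₁ ≤ Hc := aK.trans hn₁.1
  have hK2c : K₂ ≤ Hc := bK.trans hn₂.1
  refine commutator_closure_le ?_ ?_
  · rintro _ ⟨a, ha, b, hb, rfl⟩
    exact hWn (hK1c (a2.le (commutator_mem_commutator ha hb)))
  · rintro _ ⟨a, ha, b, hb, rfl⟩ v hv
    haveI : (W.subgroupOf Hc).Normal := normal_subgroupOf_of_le_normalizer hWn
    set q := QuotientGroup.mk' (W.subgroupOf Hc)
    set a' : ↥Hc := ⟨a, hK1c ha⟩
    set b' : ↥Hc := ⟨b, hn₁.1 hb⟩
    set v' : ↥Hc := ⟨v, hK2c hv⟩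
    have hcent : ∀ d : ↥Hc, (d : G) ∈ D → ∀ x, Commute (q d) x := by
      intro d hd x
      obtain ⟨y, rfl⟩ := QuotientGroup.mk'_surjective _ x
      rw [commute_iff_eq, ← commutatorElement_eq_one_iff_mul_comm, ← map_commutatorElement]
      exact (QuotientGroup.eq_one_iff _).2 (aW (commutator_mem_commutator hd y.2))
    have hd1 : ((⁅v', a'⁆ : ↥Hc) : G) ∈ D := by
      show ⁅v, a⁆ ∈ D
      rw [show D = ⁅H₂, H₁⁆ from commutator_comm _ _]
      exact commutator_mem_commutator (bK hv) (aK ha)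
    have hd2 : ((⁅v', b'⁆ : ↥Hc) : G) ∈ D := by
      show ⁅v, b⁆ ∈ D
      rw [show D = ⁅H₂, H₁⁆ from commutator_comm _ _]
      exact commutator_mem_commutator (bK hv) hb
    have h3 := aux_three (k := q a') (h := q b') (v := q v')
      (fun x => by rw [← map_commutatorElement]; exact hcent _ hd1 x)
      (fun x => by rw [← map_commutatorElement]; exact hcent _ hd2 x)
    rw [← map_commutatorElement, ← map_commutatorElement] at h3
    have h4 := (QuotientGroup.eq_one_iff _).1 h3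
    exact h4

end Cfsg.Agent.S2859
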