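import Cfsg.Statements.S2860
import Cfsg.Agent.LAE60.WeakRes
import Cfsg.Agent.LAE60.BasicProperty
import Cfsg.Agent.Components.Basic
import Cfsg.Agent.LocalEven.CoprimeLemmas
import Cfsg.Agent.LocalP.PClosed
-- import your own Cfsg.Agent.* helpers here

set_option autoImplicit false
open Cfsg
set_option linter.unusedVariables false
set_option linter.style.haveILetI false
open Cfsg.Agent.LAE60
open Cfsg.Agent.Fusion (cj cj_cj cj_mono cj_eq_of_mem)
open Cfsg.Agent.LocalEven (three_subgroup_le)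
open scoped commutatorElement
open Subgroup

theorem aux_quot {X : Type*} [Group X] {W Cn : Subgroup X} [hWn : W.Normal] [hCn : Cn.Normal]
    (hperf : ⁅(⊤ : Subgroup X), (⊤ : Subgroup X)⁆ = ⊤) (hq : Cfsg.IsQuasisimple (X ⧸ Cn))
    (hW : W ≠ ⊤) (hc : ⁅Cn, (⊤ : Subgroup X)⁆ ≤ W) : Cfsg.IsQuasisimple (X ⧸ W) := by
  haveI : Group.IsPerfect X := ⟨hperf⟩
  haveI : Group.IsPerfect (X ⧸ W) := Group.IsPerfect.ofSurjective (QuotientGroup.mk'_surjective W)
  haveI : Nontrivial (X ⧸ W) := QuotientGroup.nontrivial_iff.2 hW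
  refine Cfsg.Agent.Components.quasisimple_of_forall_normal fun N' hN' => ?_
  set N := N'.comap (QuotientGroup.mk' W)
  haveI : N.Normal := hN'.comap _
  have hWN : W ≤ N := by
    intro w hw
    show QuotientGroup.mk' W w ∈ N'
    rw [show QuotientGroup.mk' W w = 1 from (QuotientGroup.eq_one_iff w).2 hw]
    exact one_mem _
  have hmap : N.map (QuotientGroup.mk' W) = N' :=
    Subgroup.map_comap_eq_self_of_surjective (QuotientGroup.mk'_surjective W) N'
  have hn : ∀ A : Subgroup X, A ≤ normalizer (W : Set X) := fun A => by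
    rw [normalizer_eq_top]; exact le_top
  rcases Cfsg.Agent.Components.quasisimple_normal hq
    ((inferInstance : N.Normal).map _ (QuotientGroup.mk'_surjective Cn)) with h | h
  · left
    have h1 : N ⊔ Cn = ⊤ := by
      have := congrArg (comap (QuotientGroup.mk' Cn)) h
      rwa [comap_map_eq, QuotientGroup.ker_mk', comap_top] at this
    have h2 : N = ⊤ := by
      refine top_le_iff.1 ?_
      rw [← hperf]
      refine commutator_le.2 fun a _ b _ => ?_
      have ha : a ∈ N ⊔ Cn := h1 ▸ mem_top a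
      obtain ⟨n, hn', c, hc', rfl⟩ := mem_sup_of_normal_right.1 ha
      have e : ⁅n * c, b⁆ = n * ⁅c, b⁆ * n⁻¹ * ⁅n, b⁆ := by
        simp only [commutatorElement_def]; group
      rw [e]
      refine mul_mem ((inferInstance : N.Normal).conj_mem _ (hWN (hc (commutator_mem_commutator hc'
        (mem_top b)))) n) ?_
      exact commutator_le_left N ⊤ (commutator_mem_commutator hn' (mem_top b))
    rw [← hmap, h2, map_top_of_surjective _ (QuotientGroup.mk'_surjective W)]
  · right
    have h1 : ⁅N, (⊤ : Subgroup X)⁆ ≤ Cn := by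
      refine commutator_le.2 fun n hn' x _ => ?_
      rw [← QuotientGroup.eq_one_iff]
      refine (map_commutatorElement (QuotientGroup.mk' Cn) n x).trans ?_
      rw [commutatorElement_eq_one_iff_mul_comm]
      exact (mem_center_iff.1 (h ⟨n, hn', rfl⟩) _).symm
    have h2 : ⁅⁅N, (⊤ : Subgroup X)⁆, ⊤⁆ ≤ W := (commutator_mono h1 le_rfl).trans hc
    have h3 : ⁅⁅(⊤ : Subgroup X), ⊤⁆, N⁆ ≤ W :=
      three_subgroup_le (hn _) (hn _) (hn _) (by rw [commutator_comm ⊤ N]; exact h2) h2
    rw [hperf] at h3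
    intro z hz
    rw [← hmap] at hz
    obtain ⟨n, hn', rfl⟩ := hz
    rw [mem_center_iff]
    intro y
    obtain ⟨x, rfl⟩ := QuotientGroup.mk'_surjective W y
    rw [← commutatorElement_eq_one_iff_mul_comm, ← map_commutatorElement]
    exact (QuotientGroup.eq_one_iff _).2 (h3 (commutator_mem_commutator (mem_top x) hn'))

namespace Cfsg.Agent.S2860

/-- Let Q be a nontrivial large p-subgroup of the finite group H, U a nontrivial elementary abelian p-subgroup of H, and Q ≤ E ≤ N_H(U) with Q not normal in E. Suppose O_p(E/C_E(U)) = 1 and O^p(E)·C_E(U)/C_E(U) is quasisimple. Let E° be the weak closure of Q in E (generated by the conjugates of Q inside E) and E_∘ = O^p(E°). Then O^p(E)·C_E(U) = E_∘·C_E(U); E_∘ is perfect and equals O^p(E_∘); E_∘/C_{E_∘}(U) and E_∘/O_p(E_∘) are quasisimple; and E_∘ = [E_∘, Y] for every p-subgroup Y of E not centralizing U. -/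
theorem result {G : Type*} [Group G] [Finite G] {p : ℕ} [Fact p.Prime] (Q : Subgroup G) (hQp : IsPGroup p ↥Q) (hQ1 : Q ≠ ⊥) (hQ : Cfsg.IsLarge Q) (U : Subgroup G) (hU : Cfsg.IsElementaryAbelian p U) (hU1 : U ≠ ⊥) (E : Subgroup G) (hQE : Q ≤ E) (hEU : E ≤ Subgroup.normalizer ((U : Subgroup G) : Set G)) (hQn : ¬ E ≤ Subgroup.normalizer ((Q : Subgroup G) : Set G)) [hn : ((Subgroup.centralizer ((U : Subgroup G) : Set G)).subgroupOf E).Normal] (hred : Cfsg.pCore p (↥E ⧸ (Subgroup.centralizer ((U : Subgroup G) : Set G)).subgroupOf E) = ⊥) (hqs : Cfsg.IsQuasisimple ↥(((Cfsg.pResidual p ↥E) ⊔ (Subgroup.centralizer ((U : Subgroup G) : Set G)).subgroupOf E).map (QuotientGroup.mk' ((Subgroup.centralizer ((U : Subgroup G) : Set G)).subgroupOf E)))) (Er : Subgroup G) (hEr : Er = ((Cfsg.pResidual p ↥(Cfsg.weakClosure Q E)).map ((Cfsg.weakClosure Q E)).subtype)) [hn2 : ((Subgroup.centralizer ((U : Subgroup G) : Set G)).subgroupOf Er).Normal] : ((Cfsg.pResidual p ↥E).map (E).subtype) ⊔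 (E ⊓ Subgroup.centralizer ((U : Subgroup G) : Set G)) = Er ⊔ (E ⊓ Subgroup.centralizer ((U : Subgroup G) : Set G)) ∧ ⁅Er, Er⁆ = Er ∧ ((Cfsg.pResidual p ↥Er).map (Er).subtype) = Er ∧ Cfsg.IsQuasisimple (↥Er ⧸ (Subgroup.centralizer ((U : Subgroup G) : Set G)).subgroupOf Er) ∧ Cfsg.IsQuasisimple (↥Er ⧸ Cfsg.pCore p ↥Er) ∧ ∀ Y : Subgroup G, Y ≤ E → IsPGroup p ↥Y → ¬ Y ≤ Subgroup.centralizer ((U : Subgroup G) : Set G) → ⁅Er, Y⁆ = Er := by
  set C := E ⊓ centralizer (U : Set G) with hCdef
  set R := res p E with hRdef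
  set Cs := (centralizer (U : Set G)).subgroupOf E with hCs
  set q := QuotientGroup.mk' Cs with hq
  have hwc := large_wcs hQ hQp hQ1
  have hUp : IsPGroup p U := Cfsg.Agent.Modules.elemAb_isPGroup hU
  have hEC : E ≤ normalizer (C : Set G) :=
    le_normalizer_inf Subgroup.le_normalizer (le_normalizer_centralizer hEU)
  have hRE : R ≤ E := res_le E
  have hER : E ≤ normalizer (R : Set G) := le_normalizer_res E
  have hCE : C ≤ E := inf_le_left
  have hRC : R ≤ normalizer (C : Set G) := hRE.trans hEC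
  set X := Cfsg.weakClosure Q E with hXdef
  have hXE : X ≤ E := weakClosure_le E
  have hEX : E ≤ normalizer (X : Set G) := le_normalizer_weakClosure E
  have hQX : Q ≤ X := le_weakClosure hQE
  subst hEr
  set Er := res p X
  obtain ⟨hErQ, hXQ⟩ := wcs_res_weakClosure hwc hQE
  have hEEr : E ≤ normalizer (Er : Set G) := hEX.trans (normalizer_le_normalizer_res X)
  have hErX : Er ≤ X := res_le X
  have hErE : Er ≤ E := hErX.trans hXE
  have hErR : Er ≤ R := res_mono hXE
  have hCQ : C ≤ normalizer (Q : Set G) :=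
    inf_le_right.trans (large_centralizer_le_normalizer' hQ hQp hUp hU1 (hQE.trans hEU))
  set W := Cfsg.pCoreOf p C with hWdef
  have hEW : E ≤ normalizer (W : Set G) := hEC.trans (normalizer_le_normalizer_pCoreOf C)
  have hXC : ⁅X, C⁆ ≤ W := by
    rw [hXdef, Cfsg.weakClosure, iSup_eq_closure]
    have key : ∀ g : G, cj g Q ≤ E → cj g Q ≤ normalizer (W : Set G) ∧ ⁅cj g Q, C⁆ ≤ W := by
      intro g hg
      refine ⟨hg.trans hEW, ?_⟩
      obtain ⟨x, hx, hxe⟩ := wcs_exists_conj hwc hQE hg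
      have hCg : C ≤ normalizer (cj g Q : Set G) := by
        rw [← hxe, ← Cfsg.Agent.Fusion.cj_normalizer]
        exact (cj_eq_of_mem (hEC hx)).ge.trans (cj_mono x hCQ)
      refine le_pCoreOf (commutator_le_right_of_le_normalizer (hg.trans hEC))
        (le_normalizer_commutator hCg Subgroup.le_normalizer) ?_
      exact (hQp.map _).to_le (commutator_le_left_of_le_normalizer hCg)
    refine commutator_closure_le ?_ ?_
    · intro z hz
      obtain ⟨g, hg⟩ := Set.mem_iUnion.1 hz
      exact (key g.1 g.2).1 hg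
    · intro z hz d hd
      obtain ⟨g, hg⟩ := Set.mem_iUnion.1 hz
      exact (key g.1 g.2).2 (commutator_mem_commutator hg hd)
  -- images in `E / C`
  let im : Subgroup G → Subgroup (↥E ⧸ Cs) := fun A => (A.subgroupOf E).map q
  have hCsub : ∀ x : ↥E, x ∈ Cs ↔ (x : G) ∈ C := fun x => ⟨fun h => ⟨x.2, h⟩, fun h => h.2⟩
  have him_le : ∀ {A B : Subgroup G}, A ≤ E → B ≤ E → im A ≤ im B → A ≤ B ⊔ C := by
    intro A B hA hB h a ha
    obtain ⟨b, hb, hbe⟩ := h ⟨⟨a, hA ha⟩, ha, rfl⟩
    have h1 : b⁻¹ * ⟨a, hA ha⟩ ∈ Cs := (QuotientGroup.eq (s := Cs)).1 hbe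
    rw [hCsub] at h1
    have h2 : (b : G)⁻¹ * a ∈ C := h1
    have := mul_mem (mem_sup_left (T := C) hb) (mem_sup_right (S := B) h2)
    simpa [← mul_assoc] using this
  have him_comm : ∀ {A B : Subgroup G}, A ≤ E → B ≤ E → ⁅im A, im B⁆ = ⊥ → ⁅A, B⁆ ≤ C := by
    intro A B hA hB h
    refine commutator_le.2 fun a ha b hb => (hCsub ⁅(⟨a, hA ha⟩ : ↥E), ⟨b, hB hb⟩⁆).1 ?_
    rw [← QuotientGroup.eq_one_iff]
    refine (map_commutatorElement q _ _).trans (mem_bot.1 ?_)
    exact h ▸ commutator_mem_commutator ⟨_, ha, rfl⟩ ⟨_, hb, rfl⟩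
  set Rb := (Cfsg.pResidual p ↥E ⊔ Cs).map q with hRb
  have hRbe : Rb = im R := by
    rw [hRb, Subgroup.map_sup, show Cs.map q = ⊥ from QuotientGroup.map_mk'_self _, sup_bot_eq]
    show _ = ((res p E).subgroupOf E).map q
    rw [show (res p E).subgroupOf E = Cfsg.pResidual p ↥E from
      comap_map_eq_self_of_injective E.subtype_injective _]
  have hperf : R ≤ ⁅R, R⁆ ⊔ C := by
    refine him_le hRE ((commutator_le_left_of_le_normalizer (hRE.trans hER)).trans hRE) ?_
    rw [← hRbe]
    refine le_trans (Cfsg.Agent.Components.quasisimple_commutator_self hqs).ge ?_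
    rw [hRbe, ← Subgroup.map_commutator]
    refine Subgroup.map_mono ?_
    exact commutator_le.2 fun a ha b hb => show ⁅(a : G), (b : G)⁆ ∈ ⁅R, R⁆ from
      commutator_mem_commutator ha hb
  have key : ∀ A : Subgroup G, A ≤ E → A ≤ R ⊔ C → R ≤ normalizer ((A ⊔ C : Subgroup G) : Set G) →
      R ≤ A ⊔ C ∨ ⁅A, R⁆ ≤ C := by
    intro A hAE hAR hRA
    haveI : (Rb : Subgroup _).Normal ∨ True := Or.inr trivial
    have hle : im A ≤ Rb := by
      rw [hRbe]
      rintro _ ⟨a, ha, rfl⟩
      have ha' := hAR (show (a : G) ∈ A from ha)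
      rw [← SetLike.mem_coe, Subgroup.coe_mul_of_left_le_normalizer_right _ _ hRC] at ha'
      obtain ⟨r, hr, c, hc, e⟩ := ha'
      refine ⟨⟨r, hRE hr⟩, hr, ?_⟩
      refine (QuotientGroup.eq (s := Cs)).2 ((hCsub _).2 ?_)
      show r⁻¹ * (a : G) ∈ C
      rw [← e]
      simpa using hc
    have hnorm : ((im A).subgroupOf Rb).Normal := by
      refine (normal_subgroupOf_iff_le_normalizer hle).2 ?_
      rw [hRbe]
      rintro _ ⟨r, hr, rfl⟩
      refine mem_normalizer_of_forall (S := zpowers (q r)) ?_ (mem_zpowers _)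
      rintro _ ⟨n, rfl⟩ _ ⟨a, ha, rfl⟩
      have hrn : ((r : G) ^ n) ∈ normalizer ((A ⊔ C : Subgroup G) : Set G) :=
        hRA (zpow_mem hr n)
      have h1 : ((r ^ n * a * (r ^ n)⁻¹ : ↥E) : G) ∈ A ⊔ C := by
        push_cast
        exact conj_mem_of_mem_normalizer hrn (mem_sup_left ha)
      rw [← SetLike.mem_coe, Subgroup.coe_mul_of_left_le_normalizer_right _ _
        (hAE.trans hEC)] at h1
      obtain ⟨a', ha', c, hc, e⟩ := h1
      refine ⟨⟨a', hAE ha'⟩, ha', ?_⟩
      simp only [← map_zpow, ← map_inv, ← map_mul]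
      refine (QuotientGroup.eq (s := Cs)).2 ((hCsub _).2 ?_)
      show a'⁻¹ * ((r ^ n * a * (r ^ n)⁻¹ : ↥E) : G) ∈ C
      rw [← e]
      simpa using hc
    rcases Cfsg.Agent.Components.quasisimple_normal hqs hnorm with h | h
    · left
      rw [subgroupOf_eq_top] at h
      exact him_le hRE hAE (hRbe ▸ h)
    · right
      refine him_comm hAE hRE ?_
      rw [← hRbe, commutator_eq_bot_iff_le_centralizer]
      intro z hz y hy
      exact congrArg Subtype.val (mem_center_iff.1 (h (x := ⟨z, hle hz⟩) hz) ⟨y, hy⟩)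
  have hnC : ∀ A : Subgroup G, A ≤ E → A ≤ normalizer (C : Set G) := fun A hA => hA.trans hEC
  -- `R C = Er C`
  have hRX : R ≤ X ⊔ C := by
    by_contra hne
    have hEXR : E ≤ normalizer ((X ⊓ R : Subgroup G) : Set G) := le_normalizer_inf hEX hER
    rcases key (X ⊓ R) (inf_le_right.trans hRE) (inf_le_right.trans le_sup_left)
      (le_normalizer_sup (hRE.trans hEXR) hRC) with h | h
    · exact hne (h.trans (sup_le_sup_right inf_le_left C))
    · have h1 : ⁅R, Q⁆ ≤ X ⊓ R :=
        le_inf ((commutator_mono le_rfl hQX).trans (commutator_le_right_of_le_normalizer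
          (hRE.trans hEX))) (commutator_le_left_of_le_normalizer (hQE.trans hER))
      have h2 : ⁅⁅R, Q⁆, R⁆ ≤ C := (commutator_mono h1 le_rfl).trans h
      have h3 : ⁅⁅R, R⁆, Q⁆ ≤ C := three_subgroup_le (hnC _ hRE) (hnC _ hRE) (hnC _ hQE)
        h2 (by rw [commutator_comm Q R]; exact h2)
      have h4 : ⁅R, Q⁆ ≤ C := by
        refine commutator_le.2 fun r hr x hx => ?_
        have hr' := hperf hr
        rw [← SetLike.mem_coe, Subgroup.coe_mul_of_left_le_normalizer_right _ _
          ((commutator_le_left_of_le_normalizer (hRE.trans hER)).trans hRC)] at hr'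
        obtain ⟨a, ha, c, hc, rfl⟩ := hr'
        have e : ⁅a * c, x⁆ = a * ⁅c, x⁆ * a⁻¹ * ⁅a, x⁆ := by
          simp only [commutatorElement_def]; group
        rw [e]
        exact mul_mem (conj_mem_of_mem_normalizer
          (hRC (commutator_le_left_of_le_normalizer (hRE.trans hER) ha))
          (commutator_le_left_of_le_normalizer (hQE.trans hEC) (commutator_mem_commutator hc hx)))
          (h3 (commutator_mem_commutator ha hx))
      obtain ⟨T, hT1, hT2⟩ := Cfsg.Agent.Fusion.exists_sylow_inf_relIndex hQp hQE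
      have hconj : ∀ e ∈ E, cj e Q ≤ C ⊔ Q := by
        intro e he
        have he' := le_res_sup T.2.to_inf_left inf_le_right hT2 he
        rw [← SetLike.mem_coe, Subgroup.coe_mul_of_right_le_normalizer_left _ _
          (inf_le_right.trans hER)] at he'
        obtain ⟨k, hk, t, ht, rfl⟩ := he'
        show cj (k * t) Q ≤ _
        rw [← cj_cj, cj_eq_of_mem (wcs_le_normalizer hwc T.2.to_inf_left (le_inf hT1 hQE) ht)]
        exact (cj_le_commutator_sup hk).trans (sup_le_sup_right h4 Q)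
      have hQC : Q ≤ C := by
        have hnorm : (im Q).Normal := by
          refine ⟨fun z hz g => ?_⟩
          obtain ⟨x, hx, rfl⟩ := hz
          obtain ⟨e, rfl⟩ := QuotientGroup.mk'_surjective _ g
          have h5 : ((e * x * e⁻¹ : ↥E) : G) ∈ C ⊔ Q := by
            push_cast
            exact hconj e e.2 ⟨x, hx, rfl⟩
          rw [← SetLike.mem_coe, Subgroup.coe_mul_of_right_le_normalizer_left _ _
            (hQE.trans hEC)] at h5
          obtain ⟨c, hc, y, hy, hcy⟩ := h5
          refine ⟨⟨y, hQE hy⟩, hy, ?_⟩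
          simp only [← map_inv, ← map_mul]
          refine (QuotientGroup.eq (s := Cs)).2 ((hCsub _).2 ?_)
          show y⁻¹ * ((e * x * e⁻¹ : ↥E) : G) ∈ C
          rw [← hcy, ← mul_assoc]
          simpa using conj_mem_of_mem_normalizer (hEC (hQE (inv_mem hy))) hc
        have h6 : im Q ≤ im ⊥ := le_trans (hred ▸ Cfsg.Agent.Cores.le_pCore hnorm
          ((hQp.comap_of_injective _ E.subtype_injective).map q)) bot_le
        exact (him_le hQE bot_le h6).trans (by rw [bot_sup_eq])
      refine hQn fun e he => ?_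
      obtain ⟨c, hc, hce⟩ := wcs_exists_conj hwc hQC
        ((cj_mono e hQC).trans (cj_eq_of_mem (hEC he)).le)
      rw [← Cfsg.Agent.Fusion.cj_eq_iff_mem_normalizer, ← hce, cj_eq_of_mem (hCQ hc)]
  have hRErC : R ≤ Er ⊔ C := by
    calc R = res p R := (res_res E).symm
      _ ≤ Er ⊔ C := res_le_of_sup hQp (hRX.trans (sup_le (hXQ.trans
          (sup_le_sup_right le_sup_left Q)) (le_sup_right.trans le_sup_left)))
          (le_normalizer_sup (hQE.trans hEEr) (hQE.trans hEC))
  have heq : R ⊔ C = Er ⊔ C :=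
    le_antisymm (sup_le hRErC le_sup_right) (sup_le_sup_right hErR C)
  have hErC : Er ≤ normalizer (C : Set G) := hErE.trans hEC
  have hWE : ⁅Er, C⁆ ≤ W ⊓ Er :=
    le_inf ((commutator_mono hErX le_rfl).trans hXC)
      (commutator_le_left_of_le_normalizer (hCE.trans hEEr))
  -- a subgroup covering `Er` modulo `C` contains it once it contains `[Er,A]`
  have cover : ∀ D A : Subgroup G, D ≤ Er → A ≤ E → Er ≤ D ⊔ C → Er ≤ normalizer (D : Set G) →
      ⁅Er, A⁆ = Er → ⁅D, A⁆ ≤ D → ⁅C, A⁆ ⊓ Er ≤ D ⊔ (W ⊓ Er) → Er ≤ D := by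
    intro D A hD hA hle hn hfix hDA hCA
    have h1 : Er ≤ D ⊔ (W ⊓ Er) := by
      conv_lhs => rw [← hfix]
      refine commutator_le.2 fun x hx a ha => ?_
      have hx' := hle hx
      rw [← SetLike.mem_coe, Subgroup.coe_mul_of_left_le_normalizer_right _ _
        (hD.trans hErC)] at hx'
      obtain ⟨d, hd, c, hc, rfl⟩ := hx'
      have hc' : c ∈ Er := by simpa using mul_mem (inv_mem (hD hd)) hx
      have e : ⁅d * c, a⁆ = d * ⁅c, a⁆ * d⁻¹ * ⁅d, a⁆ := by
        simp only [commutatorElement_def]; group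
      rw [e]
      refine mul_mem (conj_mem_of_mem_normalizer ?_ ?_) (mem_sup_left (hDA
        (commutator_mem_commutator hd ha)))
      · exact le_normalizer_sup Subgroup.le_normalizer
          (le_normalizer_inf ((hD.trans hErE).trans hEW) ((hD.trans hErE).trans hEEr)) hd
      · exact hCA ⟨commutator_mem_commutator hc ha,
          commutator_le_left_of_le_normalizer (hA.trans hEEr) (commutator_mem_commutator hc' ha)⟩
    calc Er = res p Er := (res_res X).symm
      _ ≤ D := res_le_of_sup ((pCoreOf_isPGroup C).to_inf_left) h1 (inf_le_right.trans hn)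
  have hperfEr : ⁅Er, Er⁆ = Er := by
    refine le_antisymm (commutator_le_left_of_le_normalizer Subgroup.le_normalizer) ?_
    set D := ⁅Er, Er⁆
    have hDle : D ≤ Er := commutator_le_left_of_le_normalizer Subgroup.le_normalizer
    refine cover D Q hDle hQE ?_ (left_le_normalizer_commutator _ _) hErQ
      (commutator_le_left_of_le_normalizer (hQE.trans (le_normalizer_commutator hEEr hEEr))) ?_
    · refine hErR.trans (hperf.trans (sup_le ?_ le_sup_right))
      refine commutator_le.2 fun a ha b hb => ?_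
      have ha' := hRErC ha
      have hb' := hRErC hb
      rw [← SetLike.mem_coe, Subgroup.coe_mul_of_left_le_normalizer_right _ _ hErC] at ha' hb'
      obtain ⟨a₁, ha₁, a₂, ha₂, rfl⟩ := ha'
      obtain ⟨b₁, hb₁, b₂, hb₂, rfl⟩ := hb'
      haveI : ((C : Subgroup G).subgroupOf E).Normal := normal_subgroupOf_of_le_normalizer hEC
      set r := QuotientGroup.mk' ((C : Subgroup G).subgroupOf E)
      have e1 : r ⟨a₁ * a₂, mul_mem (hErE ha₁) (hCE ha₂)⟩ = r ⟨a₁, hErE ha₁⟩ := by
        refine (QuotientGroup.eq (s := (C : Subgroup G).subgroupOf E)).2 ?_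
        show (a₁ * a₂)⁻¹ * a₁ ∈ C
        simpa [mul_assoc] using inv_mem ha₂
      have e2 : r ⟨b₁ * b₂, mul_mem (hErE hb₁) (hCE hb₂)⟩ = r ⟨b₁, hErE hb₁⟩ := by
        refine (QuotientGroup.eq (s := (C : Subgroup G).subgroupOf E)).2 ?_
        show (b₁ * b₂)⁻¹ * b₁ ∈ C
        simpa [mul_assoc] using inv_mem hb₂
      have e3 : r ⁅(⟨a₁, hErE ha₁⟩ : ↥E), ⟨b₁, hErE hb₁⟩⁆ =
          r ⁅(⟨a₁ * a₂, mul_mem (hErE ha₁) (hCE ha₂)⟩ : ↥E),
            ⟨b₁ * b₂, mul_mem (hErE hb₁) (hCE hb₂)⟩⁆ := by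
        rw [map_commutatorElement, map_commutatorElement, e1, e2]
      have h7 : (⁅a₁, b₁⁆)⁻¹ * ⁅a₁ * a₂, b₁ * b₂⁆ ∈ C :=
        (QuotientGroup.eq (s := (C : Subgroup G).subgroupOf E)).1 e3
      have := mul_mem (mem_sup_left (T := C) (commutator_mem_commutator ha₁ hb₁))
        (mem_sup_right (S := D) h7)
      rwa [mul_inv_cancel_left] at this
    · refine le_trans (inf_le_inf_right _ ?_) le_sup_right
      rw [commutator_comm]
      exact (commutator_mono hQX le_rfl).trans hXC
  haveI hWq : Nontrivial ↥Rb := Cfsg.Agent.Components.quasisimple_nontrivial hqs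
  set f0 := q.comp (inclusion hErE) with hf0
  have hf0r : ∀ x, f0 x ∈ Rb := fun x => by
    rw [hRbe]; exact ⟨inclusion hErE x, hErR x.2, rfl⟩
  set f := f0.codRestrict Rb hf0r with hf
  have hfs : Function.Surjective f := by
    rintro ⟨z, hz⟩
    rw [hRbe] at hz
    obtain ⟨r, hr, rfl⟩ := hz
    have hr' := hRErC (show (r : G) ∈ R from hr)
    rw [← SetLike.mem_coe, Subgroup.coe_mul_of_left_le_normalizer_right _ _ hErC] at hr'
    obtain ⟨e, he, c, hc, hec⟩ := hr'
    refine ⟨⟨e, he⟩, Subtype.ext ((QuotientGroup.eq (s := Cs)).2 ((hCsub _).2 ?_))⟩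
    show e⁻¹ * (r : G) ∈ C
    rw [← hec]
    simpa using hc
  have hker : f.ker = (centralizer (U : Set G)).subgroupOf Er := by
    ext x
    rw [MonoidHom.mem_ker, Subtype.ext_iff]
    show f0 x = 1 ↔ _
    exact (QuotientGroup.eq_one_iff _)
  have hqsC : Cfsg.IsQuasisimple (↥Er ⧸ (centralizer (U : Set G)).subgroupOf Er) :=
    Cfsg.Agent.Components.quasisimple_of_mulEquiv
      ((QuotientGroup.quotientMulEquivOfEq hker.symm).trans
        (QuotientGroup.quotientKerEquivOfSurjective f hfs)).symm hqs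
  have hCn : ⁅((centralizer (U : Set G)).subgroupOf Er), (⊤ : Subgroup ↥Er)⁆ ≤ Cfsg.pCore p ↥Er := by
    refine commutator_le.2 fun c hc x _ => ?_
    have h1 : ⁅(c : G), (x : G)⁆ ∈ W ⊓ Er := by
      refine hWE ?_
      rw [commutator_comm]
      exact commutator_mem_commutator ⟨hErE c.2, hc⟩ x.2
    have h2 : ⁅(c : G), (x : G)⁆ ∈ Cfsg.pCoreOf p Er :=
      le_pCoreOf inf_le_right (le_normalizer_inf (hErE.trans hEW) Subgroup.le_normalizer)
        (pCoreOf_isPGroup C).to_inf_left h1
    obtain ⟨y, hy, hye⟩ := h2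
    have e : y = ⁅c, x⁆ := Subtype.ext hye
    rwa [← e]
  have hperfTop : ⁅(⊤ : Subgroup ↥Er), (⊤ : Subgroup ↥Er)⁆ = ⊤ := by
    refine map_injective Er.subtype_injective ?_
    rw [map_commutator, ← MonoidHom.range_eq_map, range_subtype, hperfEr]
  have hWtop : Cfsg.pCore p ↥Er ≠ ⊤ := by
    intro e
    have h1 : res p Er = ⊥ := res_eq_bot_iff.2 (by
      have := pCoreOf_isPGroup (p := p) Er
      rwa [show Cfsg.pCoreOf p Er = Er by
        rw [Cfsg.pCoreOf, e, ← MonoidHom.range_eq_map, range_subtype]] at this)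
    rw [show res p Er = Er from res_res X] at h1
    have h2 : Nontrivial ↥Er := Function.Surjective.nontrivial hfs
    exact (Subgroup.nontrivial_iff_ne_bot Er).1 h2 h1
  refine ⟨?_, hperfEr, res_res X, hqsC, aux_quot hperfTop hqsC hWtop hCn, ?_⟩
  · exact heq
  intro Y hYE hYp hYC
  have hYEr : Y ≤ normalizer (Er : Set G) := hYE.trans hEEr
  set D := ⁅Er, Y⁆
  have hDle : D ≤ Er := commutator_le_left_of_le_normalizer hYEr
  refine le_antisymm hDle ?_
  have hED : Er ≤ normalizer (D : Set G) := left_le_normalizer_commutator _ _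
  have hRD : R ≤ normalizer ((D ⊔ C : Subgroup G) : Set G) :=
    hRErC.trans (sup_le (le_normalizer_sup hED hErC) (le_sup_right.trans Subgroup.le_normalizer))
  rcases key D (hDle.trans hErE) ((hDle.trans hErR).trans le_sup_left) hRD with h | h
  · refine cover D Er hDle hErE (hErR.trans h) hED hperfEr
      (commutator_le_left_of_le_normalizer hED) (le_trans inf_le_left ?_)
    exact (commutator_comm C Er).le.trans (hWE.trans le_sup_right)
  · exfalso
    have h1 : ⁅⁅Er, Y⁆, Er⁆ ≤ C := (commutator_mono le_rfl hErR).trans h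
    have h2 : ⁅⁅Er, Er⁆, Y⁆ ≤ C := three_subgroup_le hErC hErC (hYE.trans hEC) h1
      (by rw [commutator_comm Y Er]; exact h1)
    rw [hperfEr] at h2
    -- so `Y` lies in the centralizer of `Rb`, whose `p`-elements are trivial
    set Cc := centralizer (Rb : Set (↥E ⧸ Cs)) with hCc
    haveI : Rb.Normal := Subgroup.Normal.map (Subgroup.sup_normal _ _) q (QuotientGroup.mk'_surjective _)
    haveI : Cc.Normal := inferInstance
    have hYc : im Y ≤ Cc := by
      rintro _ ⟨y, hy, rfl⟩
      intro z hz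
      obtain ⟨e, rfl⟩ := hfs ⟨z, hz⟩ |>.imp fun e he => (congrArg Subtype.val he)
      show q (inclusion hErE e) * q y = q y * q (inclusion hErE e)
      rw [← commutatorElement_eq_one_iff_mul_comm, ← map_commutatorElement]
      refine (QuotientGroup.eq_one_iff _).2 ((hCsub _).2 ?_)
      exact h2 (commutator_mem_commutator e.2 hy)
    have hresC : res p Cc ≤ Rb := by
      obtain ⟨T⟩ := (inferInstance : Nonempty (Sylow p ↥E))
      refine res_le_of_sup (T.2.map q) ?_ (by rw [normalizer_eq_top]; exact le_top)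
      rw [hRb, ← Subgroup.map_sup]
      intro z _
      obtain ⟨e, rfl⟩ := QuotientGroup.mk'_surjective _ z
      refine mem_map_of_mem q ?_
      rw [sup_right_comm, Cfsg.Agent.LocalP.pResidual_sup_eq_top T, top_sup_eq]
      exact mem_top e
    obtain ⟨T, hT1, hT2⟩ := Cfsg.Agent.Fusion.exists_sylow_inf_relIndex
      ((hYp.comap_of_injective _ E.subtype_injective).map q) hYc
    have hTn : Cc ≤ normalizer (((T : Subgroup _) ⊓ Cc : Subgroup (↥E ⧸ Cs)) : Set (↥E ⧸ Cs)) := by
      refine (le_res_sup T.2.to_inf_left inf_le_right hT2).trans (sup_le ?_ Subgroup.le_normalizer)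
      refine le_trans ?_ (centralizer_le_normalizer' _)
      exact mem_centralizer_comm (le_trans inf_le_right (mem_centralizer_comm (B := Cc)
        (A := res p Cc) (le_trans hresC (mem_centralizer_comm (B := Rb) (A := Cc) le_rfl))))
    have h3 : (T : Subgroup _) ⊓ Cc ≤ ⊥ := hred ▸ (le_pCoreOf inf_le_right hTn T.2.to_inf_left).trans
      (Cfsg.Agent.LocalP.pCoreOf_normal_eq.le.trans inf_le_right)
    have h4 : im Y ≤ im ⊥ := ((le_inf hT1 hYc).trans h3).trans bot_le
    exact hYC ((him_le hYE bot_le h4).trans (sup_le bot_le inf_le_right))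

end Cfsg.Agent.S2860
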