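import Cfsg.Statements.S2861
import Cfsg.Agent.LAE60.FrakL
-- import your own Cfsg.Agent.* helpers here

set_option autoImplicit false
open Cfsg
set_option linter.unusedVariables false
open Subgroup
open Cfsg.Agent.LAE60
open Cfsg.Agent.LAE60.Residue

theorem main_aux {G : Type*} [Group G] [Finite G] {p : ℕ} [Fact p.Prime] {M L : Subgroup G}
    (hL : Cfsg.IsInFrakL p M L) {NL : Subgroup G}
    (hNL : NL = L ⊓ Subgroup.normalizer ((Cfsg.largestPReducedOf p M : Subgroup G) : Set G))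
    [hn : ((Cfsg.pCoreOf p L).subgroupOf NL).Normal]
    {H : Type*} [Group H] [Finite H] {π : L →* H} (hπ : Function.Surjective π)
    (hker : π.ker = Cfsg.pCore p L) {P : Sylow p H}
    (hP : RankOne p ((Cfsg.largestPReducedOf p M ⊓ Cfsg.pCoreOf p L).relIndex
      (Cfsg.largestPReducedOf p M)) P) :
    let Ybar : Subgroup (↥NL ⧸ (Cfsg.pCoreOf p L).subgroupOf NL) :=
      ((Cfsg.largestPReducedOf p M).subgroupOf NL).map (QuotientGroup.mk' _)
    Ybar ≠ ⊥ ∧ Ybar.Normal ∧ Cfsg.IsElementaryAbelian p Ybar ∧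
      ∀ V : Subgroup (↥NL ⧸ (Cfsg.pCoreOf p L).subgroupOf NL), V.Normal →
        Cfsg.IsElementaryAbelian p V → V ≠ ⊥ → V = Ybar := by
  intro Ybar
  set Y := Cfsg.largestPReducedOf p M with hY
  have hNLL : NL ≤ L := hNL.le.trans inf_le_left
  have hNLn : NL ≤ normalizer (Y : Set G) := hNL.le.trans inf_le_right
  have hYNL : Y ≤ NL := hNL ▸ le_inf hL.1 Subgroup.le_normalizer
  set f := π.comp (inclusion hNLL) with hf
  have hAker : (Cfsg.pCoreOf p L).subgroupOf NL = f.ker := by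
    ext n
    rw [hf, ← MonoidHom.comap_ker, hker, ← pCoreOf_subgroupOf]
    rfl
  set ψ := QuotientGroup.lift ((Cfsg.pCoreOf p L).subgroupOf NL) f hAker.le with hψ
  have hψinj : Function.Injective ψ := by
    rw [injective_iff_map_eq_one]
    intro x
    induction x using QuotientGroup.induction_on with
    | H n =>
      intro hx
      rw [QuotientGroup.eq_one_iff, hAker, MonoidHom.mem_ker]
      exact hx
  have hrange : ψ.range = normalizer (yImage p M π : Set H) := by
    ext x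
    constructor
    · rintro ⟨q, rfl⟩
      induction q using QuotientGroup.induction_on with
      | H n => exact map_mem_normalizer (l := inclusion hNLL n) (hNLn n.2) π
    · intro hx
      obtain ⟨l, rfl⟩ := hπ x
      have hl := (frakL_mem_normalizer_iff hL hπ hker).1 hx
      exact ⟨QuotientGroup.mk (⟨l, hNL ▸ ⟨l.2, hl⟩⟩ : NL), rfl⟩
  have hYimg : Ybar.map ψ = yImage p M π := by
    ext x
    constructor
    · rintro ⟨_, ⟨n, hn', rfl⟩, rfl⟩
      exact ⟨inclusion hNLL n, hn', rfl⟩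
    · rintro ⟨l, hl, rfl⟩
      exact ⟨_, ⟨⟨l, hYNL hl⟩, hl, rfl⟩, rfl⟩
  have ht := frakL_target hL hπ hker
  refine ⟨fun e => ht.ne_bot ?_, ?_, ?_, fun V hV hVe hV1 => ?_⟩
  · rw [← hYimg, e, Subgroup.map_bot]
  · refine Subgroup.Normal.map ?_ _ (QuotientGroup.mk'_surjective _)
    exact (normal_subgroupOf_iff_le_normalizer hYNL).2 hNLn
  · exact Cfsg.Agent.Modules.elemAb_map _ (Cfsg.Agent.Modules.elemAb_subgroupOf (largest_elemAb (p := p) M))
  · refine map_injective hψinj ?_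
    rw [hYimg]
    refine eq_of_le_normalizer hP ht ?_ ?_ ?_ ?_
    · exact fun e => hV1 ((map_eq_bot_iff_of_injective _ hψinj).1 e)
    · rintro _ ⟨v, hv, rfl⟩
      rw [← map_pow, hVe.2 v hv, map_one]
    · rw [← hrange]; exact map_le_range _ _
    · rw [← hrange]
      haveI := hV
      calc ψ.range = (normalizer (V : Set _)).map ψ := by
            rw [normalizer_eq_top_iff.2 hV, MonoidHom.range_eq_map]
        _ ≤ _ := le_normalizer_map ψ

namespace Cfsg.Agent.S2861

/-- Standing hypotheses: G a finite group, S a Sylow p-subgroup, Q a nontrivial large p-subgroup of G contained in S, M a subgroup containing S with the basic property (M ∈ 𝔐_G(S)); Y_M the largest p-reduced normal subgroup of M and M† = M·C_G(Y_M). Let L ∈ 𝔏_G(Y_M) (L ∈ 𝔏_G(Y_M): Y_M ≤ L; O_p(L) is the normal closure in L of Y_M ∩ O_p(L) and normalizes Y_M; L is Y_M-minimal of characteristic p with N_L(Y_M) its unique maximal subgroup over Y_M; and L/O_p(L) ≅ SL₂(q) with q = |Y_M : Y_M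 ∩ O_p(L)|, or p = 2 and L/O_p(L) is a Suzuki group Sz(q) or dihedral of order 2r, r an odd prime) and A = O_p(L). Then Y_M·A/A is the unique nontrivial elementary abelian normal p-subgroup of N_L(Y_M)/A. -/
theorem result {G : Type*} [Group G] [Finite G] {p : ℕ} [Fact p.Prime] (S : Sylow p G) (Q : Subgroup G) (hQp : IsPGroup p ↥Q) (hQ1 : Q ≠ ⊥) (hQS : Q ≤ (S : Subgroup G)) (hQ : Cfsg.IsLarge Q) (M : Subgroup G) (hSM : (S : Subgroup G) ≤ M) (hM : Cfsg.IsInFrakM p M) (L : Subgroup G) (hL : Cfsg.IsInFrakL p M L) (NL : Subgroup G) (hNL : NL = L ⊓ Subgroup.normalizer (((Cfsg.largestPReducedOf p M) : Subgroup G) : Set G)) [hn : (((Cfsg.pCoreOf p L)).subgroupOf NL).Normal] : let Ybar : Subgroup (↥NL ⧸ ((Cfsg.pCoreOf p L)).subgroupOf NL) := (((Cfsg.largestPReducedOf p M)).subgroupOf NL).map (QuotientGroup.mk' (((Cfsg.pCoreOf p L)).subgroupOf NL)); Ybar ≠ ⊥ ∧ Ybar.Normal ∧ Cfsg.IsElementaryAbelian p Ybar ∧ ∀ (V : Subgroup (↥NL ⧸ ((Cfsg.pCoreOf p L)).subgroupOf NL)),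 V.Normal → Cfsg.IsElementaryAbelian p V → V ≠ ⊥ → V = Ybar := by
  refine frakL_elim hL (fun F _ _ _ π hπ hker hcard => ?_)
    (fun H _ _ π hπ hker hP _ => ?_) (fun π hπ hker hP _ => ?_)
  · haveI : Finite (Matrix.SpecialLinearGroup (Fin 2) F) := inferInstance
    obtain ⟨P, hP, -, -⟩ := exists_rankOne_sl (F := F) (p := p)
    exact main_aux hL hNL hπ hker (hcard ▸ hP)
  · obtain ⟨P, hP⟩ := hP
    exact main_aux hL hNL hπ hker hP
  · obtain ⟨P, hP⟩ := hP
    exact main_aux hL hNL hπ hker hP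

end Cfsg.Agent.S2861
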