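import Cfsg.Statements.S2862
import Cfsg.Agent.LAE60.AsymL
import Cfsg.Agent.LAE60.AmalgamRes
-- import your own Cfsg.Agent.* helpers here

set_option autoImplicit false
open Cfsg
set_option linter.unusedVariables false
open Subgroup
open Cfsg.Agent.LAE60
open Cfsg.Agent.LAE60.AsymL
open scoped commutatorElement
open Cfsg.Agent.Fusion (cj mem_cj cj_cj cj_mono cj_one cj_eq_of_mem cj_eq_iff_mem_normalizer)

theorem isPGroup_sup' {G : Type*} [Group G] {p : ℕ} {A B : Subgroup G} (hA : IsPGroup p A)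
    (hB : IsPGroup p B) (h : B ≤ normalizer (A : Set G)) : IsPGroup p ↥(A ⊔ B) := by
  rw [sup_comm]; exact Cfsg.Agent.LAE60.isPGroup_sup hB hA h

theorem aux_main_S2862 {G : Type*} [Group G] [Finite G] {p : ℕ} [Fact p.Prime] {H P Y L : Subgroup G}
    (c : Ctx p H P Y) (hasym : ¬ Cfsg.IsSymmetricIn Y) (hYp : IsPGroup p Y)
    (hYc : Y ≤ centralizer (Y : Set G)) (hLH : L ≤ H) (hYL : Y ≤ L)
    (hYO : ¬ Y ≤ Cfsg.pCoreOf p L)
    (hmin : ∀ X : Subgroup G, Y ≤ X → X < L → Y ≤ Cfsg.pCoreOf p X) (hsup : L ⊔ P = H) :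
    ((∀ h ∈ L, h ∉ normalizer (Y : Set G) → cj h Y ⊔ P = H) ∧
      (Cfsg.IsMinimalOver (Y.subgroupOf L) ∧
        centralizer (Cfsg.pCore p L : Set L) ≤ Cfsg.pCore p L ∧
        L ⊓ normalizer (Y : Set G) < L ∧
        ∀ X : Subgroup G, Y ≤ X → X < L → X ≤ L ⊓ normalizer (Y : Set G)) ∧
      (∀ V W : Subgroup G, Fac p H V W → ¬ ⁅V, res p L⁆ ≤ W) ∧
      ncl L (Cfsg.pCoreOf p L ⊓ Y) ≤ Cfsg.pCoreOf p H) := by
  obtain ⟨M₀, hYM, hM, huniq⟩ := exists_unique_max hYL hYO hYp hmin
  set A := Cfsg.pCoreOf p L with hA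
  have hncl : ncl L Y = L := by
    by_contra hne
    exact hYO ((hmin _ (le_ncl hYL) (lt_of_le_of_ne (ncl_le _ _) hne)).trans
      (pCoreOf_le_pCoreOf (ncl_le _ _) (le_normalizer_ncl _ _)))
  have hNM : L ⊓ normalizer (M₀ : Set G) < L := by
    refine lt_of_le_of_ne inf_le_left fun e => hM.ne (le_antisymm hM.le ?_)
    conv_lhs => rw [← hncl]
    exact ncl_le_of_le hYM (inf_eq_left.1 e)
  have hself : ∀ h ∈ L, cj h Y ≤ M₀ → h ∈ M₀ := by
    intro h hh hle
    have hlt : cj h⁻¹ M₀ < L := by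
      refine lt_of_le_of_ne ((cj_mono _ hM.le).trans
        (cj_eq_of_mem (Subgroup.le_normalizer (inv_mem hh))).le) fun e => hM.ne ?_
      have := congrArg (cj h) e
      rwa [cj_cj, mul_inv_cancel, cj_one, cj_eq_of_mem (Subgroup.le_normalizer hh)] at this
    have h1 : Y ≤ cj h⁻¹ M₀ := by
      have := cj_mono h⁻¹ hle; rwa [cj_cj, inv_mul_cancel, cj_one] at this
    have h2 : h⁻¹ ∈ normalizer (M₀ : Set G) := cj_eq_iff_mem_normalizer.1
      (eq_of_le_of_card_ge (huniq _ h1 hlt) (card_map_of_injective (MulEquiv.injective _)).ge)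
    exact huniq _ (le_inf hYL (hYM.trans Subgroup.le_normalizer)) hNM ⟨hh, (Subgroup.inv_mem_iff _).1 h2⟩
  have hgenL : ∀ h ∈ L, h ∉ M₀ → L ≤ Y ⊔ cj h Y := by
    intro h hh hn
    by_contra hne
    have hle : Y ⊔ cj h Y ≤ L :=
      sup_le hYL ((cj_mono h hYL).trans (cj_eq_of_mem (Subgroup.le_normalizer hh)).le)
    exact hn (hself h hh (le_sup_right.trans (huniq _ le_sup_left (lt_of_le_not_ge hle hne))))
  have hgen : ∀ h ∈ L, h ∉ M₀ → cj h Y ⊔ P = H := by
    intro h hh hn
    refine le_antisymm (sup_le ((cj_mono h c.hYH).trans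
      (cj_eq_of_mem (Subgroup.le_normalizer (hLH hh))).le) c.hPH) ?_
    rw [← hsup]
    exact sup_le ((hgenL h hh hn).trans (sup_le (c.hYP.trans le_sup_right) le_sup_left)) le_sup_right
  obtain ⟨h, hh, hn⟩ := SetLike.exists_of_lt hM
  have hn' : h⁻¹ ∉ M₀ := fun e => hn (inv_mem_iff.1 e)
  have hg1 := (hgen h hh hn).ge
  have hg2 := (hgen _ (inv_mem hh) hn').ge
  have hcomm : ∀ x ∈ L, cj x Y ≤ centralizer (Y : Set G) → x ∈ normalizer (Y : Set G) :=
    fun x hx hxc => mem_normalizer_of_commute c hLH hYL hh hg1 hg2 (hgenL h hh hn) hx hxc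
  -- the maximal subgroup normalizes `Y`
  set R := Cfsg.pCoreOf p M₀ with hR
  have hYR : Y ≤ R := hmin M₀ hYM hM
  have hRY : R ≤ normalizer (Y : Set G) := by
    by_contra hne
    set T0 := R ⊓ normalizer (Y : Set G) with hT0
    haveI : Group.IsNilpotent R := (pCoreOf_isPGroup M₀).isNilpotent
    have hlt : T0.subgroupOf R < ⊤ := by
      rw [lt_top_iff_ne_top, Ne, subgroupOf_eq_top]
      exact fun hle => hne (hle.trans inf_le_right)
    obtain ⟨z, hz, hzn⟩ := SetLike.exists_of_lt (Group.normalizerCondition_of_isNilpotent _ hlt)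
    apply hzn
    refine mem_subgroupOf.2 ⟨z.2, ?_⟩
    have hzT : cj (z : G) T0 = T0 := by
      refine eq_of_le_of_card_ge (fun u hu => ?_) (card_map_of_injective (MulEquiv.injective _)).ge
      obtain ⟨t, ht, rfl⟩ := hu
      exact mem_subgroupOf.1 ((mem_normalizer_iff.1 hz ⟨t, ht.1⟩).1 (mem_subgroupOf.2 ht))
    have hYT : Y ≤ T0 := le_inf hYR Subgroup.le_normalizer
    have h2 : cj (z : G) Y ≤ normalizer (Y : Set G) :=
      ((cj_mono _ hYT).trans hzT.le).trans inf_le_right
    have h1 : Y ≤ normalizer (cj (z : G) Y : Set G) :=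
      (hYT.trans hzT.ge).trans ((cj_mono _ inf_le_right).trans (Cfsg.Agent.Fusion.cj_normalizer _ _).le)
    exact hcomm _ (hM.le (pCoreOf_le M₀ z.2))
      (mem_centralizer_comm (commute_of_not_symmetric hasym h1 h2))
  have hM0Y : M₀ ≤ normalizer (Y : Set G) := by
    intro x hx
    have hxR : cj x R = R := cj_eq_of_mem (le_normalizer_pCoreOf M₀ hx)
    have h2 : cj x Y ≤ normalizer (Y : Set G) := ((cj_mono x hYR).trans hxR.le).trans hRY
    have h1 : Y ≤ normalizer (cj x Y : Set G) :=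
      (hYR.trans hxR.ge).trans ((cj_mono x hRY).trans (Cfsg.Agent.Fusion.cj_normalizer _ _).le)
    exact hcomm x (hM.le hx) (mem_centralizer_comm (commute_of_not_symmetric hasym h1 h2))
  have hNlt : L ⊓ normalizer (Y : Set G) < L := by
    refine lt_of_le_of_ne inf_le_left fun e => hYO ?_
    exact le_pCoreOf hYL (inf_eq_left.1 e) hYp
  have hNeq : L ⊓ normalizer (Y : Set G) = M₀ :=
    le_antisymm (huniq _ (le_inf hYL Subgroup.le_normalizer) hNlt) (le_inf hM.le hM0Y)
  have hAM : A ≤ M₀ := by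
    have hle : A ⊔ Y ≤ L := sup_le (pCoreOf_le L) hYL
    by_contra hne
    have e : A ⊔ Y = L := by
      by_contra e
      exact hne (le_sup_left.trans (huniq _ le_sup_right (lt_of_le_of_ne hle e)))
    have hp : IsPGroup p L :=
      e ▸ isPGroup_sup' (pCoreOf_isPGroup L) hYp (hYL.trans (le_normalizer_pCoreOf L))
    exact hYO (by rw [hA, pCoreOf_eq_self hp]; exact hYL)
  -- action on chief factors
  have hcomI : ∀ V W, Fac p H V W → ∀ u ∈ ⁅V, Y⁆, u ∈ Y ∧ u ∈ A := by
    intro V W f u hu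
    have h1 : u ∈ Y := commutator_le_right_of_le_normalizer (f.le_core.trans c.hOY) hu
    exact ⟨h1, inf_pCoreOf_le hLH ⟨hYL h1,
      f.le_core (commutator_le_left_of_le_normalizer (c.hYH.trans f.normV) hu)⟩⟩
  have hOYh : Cfsg.pCoreOf p H ≤ normalizer (cj h Y : Set G) := by
    have := (cj_mono h c.hOY).trans (Cfsg.Agent.Fusion.cj_normalizer h _).le
    rwa [cj_eq_of_mem (le_normalizer_pCoreOf H (hLH hh))] at this
  have hC0 : ∀ V W, Fac p H V W → ∀ u ∈ fixJ Y V W ⊓ cj h (fixJ Y V W),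
      ∀ l ∈ L, ⁅l, u⁆ ∈ W := by
    intro V W f u hu
    refine (mem_modCent_of_generators (T := L) (S := (Y : Set G) ∪ (cj h Y : Set G)) ?_ ?_
      ⟨hu.1.2.1, ?_⟩).2
    · rw [Subgroup.closure_union, closure_eq, closure_eq]; exact hgenL h hh hn
    · exact Set.union_subset (c.hYH.trans f.normW) (((cj_mono h c.hYH).trans
        (cj_eq_of_mem (Subgroup.le_normalizer (hLH hh))).le).trans f.normW)
    · rintro s (hs | hs)
      · exact hu.1.2.2 s hs
      · exact ((mem_cj_fixJ f (hLH hh)).1 hu.2).2.2 s hs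
  have hfix : ∀ b ∈ L, ∀ V W, Fac p H V W → (∀ u ∈ ⁅V, Y⁆, ⁅b, u⁆ ∈ W) →
      (∀ u ∈ ⁅V, cj h Y⁆, ⁅b, u⁆ ∈ W) → ∀ v ∈ V, ⁅b, v⁆ ∈ W := by
    intro b hb V W f h1 h2 v hv
    obtain ⟨d1, -, -⟩ := fac_decomp c f (hLH hh) hg1 hg2
    have hW : W ≤ modCent W ({b} : Set G) := le_modCent Subgroup.le_normalizer fun s hs w hw => by
      rw [Set.mem_singleton_iff] at hs
      subst hs
      rw [commutatorElement_def]
      exact mul_mem (conj_mem_of_mem_normalizer (f.normW (hLH hb)) hw) (inv_mem hw)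
    have hVn : V ≤ normalizer (W : Set G) := f.le_H.trans f.normW
    have hI'V : ⁅V, cj h Y⁆ ≤ V := commutator_le_left_of_le_normalizer
      (((cj_mono h c.hYH).trans (cj_eq_of_mem (Subgroup.le_normalizer (hLH hh))).le).trans f.normV)
    have hle : V ≤ modCent W ({b} : Set G) := by
      refine d1.trans (sup_le (sup_le (sup_le ?_ hW) ?_) ?_)
      · exact le_modCent ((commutator_le_left_of_le_normalizer (c.hYH.trans f.normV)).trans hVn)
          fun s hs u hu => by rw [Set.mem_singleton_iff] at hs; exact hs ▸ h1 u hu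
      · rw [cj_comI f (hLH hh)]
        exact sup_le (le_modCent (hI'V.trans hVn) fun s hs u hu => by
          rw [Set.mem_singleton_iff] at hs; exact hs ▸ h2 u hu) hW
      · exact le_modCent ((inf_le_left.trans inf_le_left).trans hVn) fun s hs u hu => by
          rw [Set.mem_singleton_iff] at hs; exact hs ▸ hC0 V W f u hu b hb
    exact (hle hv).2 b rfl
  refine ⟨fun k hk hkn => hgen k hk fun e => hkn (hM0Y e), ⟨⟨?_, ?_⟩, ?_, hNlt, ?_⟩, ?_, ?_⟩
  · refine map_injective L.subtype_injective ?_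
    rw [← MonoidHom.range_eq_map, range_subtype]
    exact hncl
  · refine ⟨M₀.subgroupOf L, ⟨⟨?_, fun X hX => ?_⟩, fun y hy => hYM hy⟩, fun X hX => ?_⟩
    · rw [Ne, subgroupOf_eq_top]; exact hM.not_ge
    · by_contra hne
      have hlt : X.map L.subtype < L := by
        refine lt_of_le_of_ne (map_subtype_le _) fun e => hne ?_
        refine map_injective L.subtype_injective ?_
        rw [e, ← MonoidHom.range_eq_map, range_subtype]
      have hYX : Y ≤ X.map L.subtype := fun y hy =>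
        ⟨⟨y, hYL hy⟩, hX.le (show (⟨y, hYL hy⟩ : L) ∈ M₀.subgroupOf L from hYM hy), rfl⟩
      exact hX.not_ge fun x hx => huniq _ hYX hlt ⟨x, hx, rfl⟩
    · obtain ⟨hco, hXY⟩ := hX
      have hlt : X.map L.subtype < L := by
        refine lt_of_le_of_ne (map_subtype_le _) fun e => hco.1 ?_
        refine map_injective L.subtype_injective ?_
        rw [e, ← MonoidHom.range_eq_map, range_subtype]
      have hYX : Y ≤ X.map L.subtype := fun y hy => ⟨⟨y, hYL hy⟩, hXY hy, rfl⟩
      have hle : X ≤ M₀.subgroupOf L := fun x hx => huniq _ hYX hlt ⟨x, hx, rfl⟩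
      rcases hle.eq_or_lt with e | e
      · exact e
      · exfalso
        have := hco.2 _ e
        rw [subgroupOf_eq_top] at this
        exact hM.not_ge this
  · rw [charP_core_iff]
    rintro x ⟨hxL, hxA⟩
    refine inf_pCoreOf_le hLH ⟨hxL, mem_core_of_fix_factors c.hcharP (hLH hxL) fun V W f v hv => ?_⟩
    have hAx : ∀ u ∈ A, ⁅x, u⁆ ∈ W := fun u hu => by
      rw [commutatorElement_eq_one_iff_mul_comm.2 (mem_centralizer_iff.1 hxA u hu).symm]
      exact one_mem _
    refine hfix x hxL V W f (fun u hu => hAx u (hcomI V W f u hu).2) (fun u hu => hAx u ?_) v hv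
    have hYh : cj h Y ≤ H := (cj_mono h c.hYH).trans (cj_eq_of_mem (Subgroup.le_normalizer (hLH hh))).le
    exact inf_pCoreOf_le hLH ⟨((cj_mono h hYL).trans (cj_eq_of_mem (Subgroup.le_normalizer hh)).le)
        (commutator_le_right_of_le_normalizer (f.le_core.trans hOYh) hu),
      f.le_core (commutator_le_left_of_le_normalizer (hYh.trans f.normV) hu)⟩
  · intro X hYX hX
    exact (huniq X hYX hX).trans hNeq.ge
  · intro V W f hle
    set K := H ⊓ fixLayer V W with hK
    have hKn : H ≤ normalizer (K : Set G) := mem_normalizer_of_forall fun s hs x hx =>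
      ⟨mul_mem (mul_mem hs hx.1) (H.inv_mem hs), conj_mem_fixLayer (f.normV hs) (f.normW hs) hx.2⟩
    have hresK : res p L ≤ K := fun x hx => by
      have hxH := hLH (res_le L hx)
      refine ⟨hxH, f.normV hxH, f.normW hxH, fun v hv => ?_⟩
      rw [← commutatorElement_inv]
      exact inv_mem (hle (commutator_mem_commutator hv hx))
    obtain ⟨T, hT, hYT⟩ := Cfsg.Agent.FusionAlperin.exists_sylIn_ge hYL hYp
    have hTM : T ≤ M₀ := by
      refine huniq T hYT (lt_of_le_of_ne hT.le fun e => hYO ?_)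
      rw [hA, pCoreOf_eq_self (e ▸ hT.isPGroup)]; exact hYL
    have hLres : L ≤ res p L ⊔ Y := by
      by_contra hne
      have hle' : res p L ⊔ Y ≤ L := sup_le (res_le L) hYL
      refine hM.not_ge ((le_res_sup_sylIn hT).trans (sup_le ?_ hTM))
      exact le_sup_left.trans (huniq _ le_sup_right (lt_of_le_not_ge hle' hne))
    have hHK : H ≤ K ⊔ P := by
      rw [← hsup]
      exact sup_le (hLres.trans (sup_le (hresK.trans le_sup_left) (c.hYP.trans le_sup_right)))
        le_sup_right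
    set X := ⁅V, P⁆ ⊔ W with hX
    have hXV : X ≤ V := sup_le (commutator_le_left_of_le_normalizer (c.hPH.trans f.normV)) f.lt.le
    have hXn : H ≤ normalizer (X : Set G) := by
      refine hHK.trans (sup_le (le_normalizer_of_commutator_le ?_) (le_normalizer_of_commutator_le ?_))
      · refine (commutator_mono le_rfl hXV).trans (le_trans ?_ le_sup_right)
        rw [Subgroup.commutator_le]
        exact fun k hk v hv => hk.2.2.2 v hv
      · refine (commutator_mono le_rfl hXV).trans ?_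
        rw [Subgroup.commutator_comm]
        exact le_sup_left
    rcases f.irr X hXn le_sup_right hXV with e | e
    · apply f.noncentral
      rw [Subgroup.commutator_le]
      intro v hv s hs
      rw [← commutatorElement_inv]
      refine inv_mem ?_
      refine (mem_modCent_of_generators (S := (K : Set G) ∪ (P : Set G)) (T := H) ?_ ?_
        ⟨f.normW (f.le_H hv), ?_⟩).2 s hs
      · rw [Subgroup.closure_union, closure_eq, closure_eq]; exact hHK
      · exact Set.union_subset (fun k hk => f.normW hk.1) (c.hPH.trans f.normW)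
      · rintro s' (hs' | hs')
        · exact hs'.2.2.2 v hv
        · rw [← commutatorElement_inv]
          exact inv_mem (e.le (mem_sup_left (commutator_mem_commutator hv hs')))
    · have hT' : IsPGroup p ↥(Cfsg.pCoreOf p H ⊔ P) :=
        isPGroup_sup' (pCoreOf_isPGroup H) c.hP (c.hPH.trans (le_normalizer_pCoreOf H))
      refine f.lt.not_ge (eq_of_le_sup_commutator hT' (f.le_core.trans le_sup_left) f.lt.le
        ((sup_le (pCoreOf_le H) c.hPH).trans f.normW) (e.ge.trans (sup_le ?_ le_sup_left)))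
      exact le_sup_of_le_right (commutator_mono le_rfl le_sup_right)
  · refine ncl_le_of_le ?_ (hLH.trans (le_normalizer_pCoreOf H))
    rintro b ⟨hbA, hbY⟩
    refine mem_core_of_fix_factors c.hcharP (c.hYH hbY) fun V W f v hv => ?_
    refine hfix b (hYL hbY) V W f (fun u hu => ?_) (fun u hu => ?_) v hv
    · rw [commutatorElement_eq_one_iff_mul_comm.2
        (mem_centralizer_iff.1 (hYc hbY) u (hcomI V W f u hu).1).symm]
      exact one_mem _
    · have hbN : b ∈ normalizer (cj h Y : Set G) := by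
        have h0 : A ≤ normalizer (cj h Y : Set G) := by
          have := (cj_mono h (hAM.trans hM0Y)).trans (Cfsg.Agent.Fusion.cj_normalizer h _).le
          rwa [cj_eq_of_mem (le_normalizer_pCoreOf L hh)] at this
        exact h0 hbA
      have hI' : cj h (comI Y V W) = ⁅V, cj h Y⁆ ⊔ W := cj_comI f (hLH hh)
      have huI : u ∈ cj h (comI Y V W) := hI' ▸ mem_sup_left hu
      have huV : u ∈ V := commutator_le_left_of_le_normalizer
        (((cj_mono h c.hYH).trans (cj_eq_of_mem (Subgroup.le_normalizer (hLH hh))).le).trans f.normV) hu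
      refine (fac_split c f (hLH hh) hg1).1 ⟨?_, cj_mono h (comI_le_fixJ c f) ?_⟩
      · show ⁅b, u⁆ ∈ comI Y V W
        rw [← commutatorElement_inv]
        exact inv_mem (mem_sup_left (commutator_mem_commutator huV hbY))
      · have hbn : b ∈ normalizer (cj h (comI Y V W) : Set G) := by
          rw [hI']
          exact le_normalizer_sup (L := zpowers b)
            (le_normalizer_commutator (zpowers_le.2 (f.normV (c.hYH hbY))) (zpowers_le.2 hbN))
            (zpowers_le.2 (f.normW (c.hYH hbY))) (mem_zpowers b)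
        rw [commutatorElement_def]
        exact mul_mem (conj_mem_of_mem_normalizer hbn huI) (inv_mem huI)

namespace Cfsg.Agent.S2862

/-- Standing hypotheses: G a finite group, S a Sylow p-subgroup, Q a nontrivial large p-subgroup of G contained in S, M a subgroup containing S with the basic property (M ∈ 𝔐_G(S)); Y_M the largest p-reduced normal subgroup of M and M† = M·C_G(Y_M). Suppose Y_M is char-p-tall and asymmetric in G, H ∈ ℌ_G(O_p(M)), and L is minimal among the subgroups of H containing Y_M with Y_M ≰ O_p(L). Then H = ⟨L, O_p(M)⟩ = ⟨hY_Mh⁻¹, O_p(M)⟩ for every h ∈ L outside N_L(Y_M); L is Y_M-minimal and of characteristic p, with N_L(Y_M) the unique maximal subgroup of L containing Y_M; [V, O^p(L)] ≠ 1 for every noncentral chief factor V/W of H inside O_p(H) (that is, O^p(L) does not act trivially on V/W); and the normal closure of O_p(L) ∩ Y_M in L lies in O_p(H). -/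
theorem result {G : Type*} [Group G] [Finite G] {p : ℕ} [Fact p.Prime] (S : Sylow p G) (Q : Subgroup G) (hQp : IsPGroup p ↥Q) (hQ1 : Q ≠ ⊥) (hQS : Q ≤ (S : Subgroup G)) (hQ : Cfsg.IsLarge Q) (M : Subgroup G) (hSM : (S : Subgroup G) ≤ M) (hM : Cfsg.IsInFrakM p M) (htall : Cfsg.IsCharPTall p (Cfsg.largestPReducedOf p M)) (hasym : ¬ Cfsg.IsSymmetricIn (Cfsg.largestPReducedOf p M)) (H : Subgroup G) (hH : Cfsg.IsInFrakH p M H) (L : Subgroup G) (hLH : L ≤ H) (hYL : (Cfsg.largestPReducedOf p M) ≤ L) (hYO : ¬ (Cfsg.largestPReducedOf p M) ≤ (Cfsg.pCoreOf p L)) (hmin : ∀ L' : Subgroup G, L' ≤ L → (Cfsg.largestPReducedOf p M) ≤ L' → ¬ (Cfsg.largestPReducedOf p M) ≤ (Cfsg.pCoreOf p L') → L' = L) : (L ⊔ (Cfsg.pCoreOf p M) = H ∧ ∀ h ∈ L, h ∉ Subgroup.normalizer (((Cfsg.largestPReducedOf p M) : Subgroup G) : Set G) → (((Cfsg.largestPReducedOf p M) : Subgroup G).map (MulAut.conj (h : G)).toMonoidHom) ⊔ (Cfsg.pCoreOf p M) = H) ∧ (Cfsg.IsMinimalOver (((Cfsg.largestPReducedOf p M)).subgroupOf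 L) ∧ Subgroup.centralizer (Cfsg.pCore p ↥L : Set ↥L) ≤ Cfsg.pCore p ↥L ∧ L ⊓ Subgroup.normalizer (((Cfsg.largestPReducedOf p M) : Subgroup G) : Set G) < L ∧ ∀ X : Subgroup G, (Cfsg.largestPReducedOf p M) ≤ X → X < L → X ≤ L ⊓ Subgroup.normalizer (((Cfsg.largestPReducedOf p M) : Subgroup G) : Set G)) ∧ (∀ V W' : Subgroup G, V ≤ (Cfsg.pCoreOf p H) → H ≤ Subgroup.normalizer ((V : Subgroup G) : Set G) → H ≤ Subgroup.normalizer ((W' : Subgroup G) : Set G) → W' < V → (∀ Z' : Subgroup G, H ≤ Subgroup.normalizer ((Z' : Subgroup G) : Set G) → W' ≤ Z' → Z' ≤ V → Z' = W' ∨ Z' = V) → ¬ ⁅V, H⁆ ≤ W' → ¬ ⁅V, ((Cfsg.pResidual p ↥L).map (L).subtype)⁆ ≤ W') ∧ (Subgroup.normalClosure (((((Cfsg.pCoreOf p L) ⊓ (Cfsg.largestPReducedOf p M)).subgroupOf L : Subgroup ↥L)) : Set ↥L)).map L.subtype ≤ (Cfsg.pCoreOf p H) := by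
  have hpar := large_isOfParabolicCharacteristic hQ hQp
  have hcharP := (charP_core_iff H).1 hH.1
  have hNP : Subgroup.normalizer (Cfsg.pCoreOf p M : Set G) ≤
      Subgroup.normalizer (Cfsg.largestPReducedOf p M : Set G) :=
    (normalizer_core_le hpar S hSM hM).trans dagger_le_normalizer
  have c : Ctx p H (Cfsg.pCoreOf p M) (Cfsg.largestPReducedOf p M) :=
    ⟨largest_le_core, hH.2.1, core_le_centralizer, pCoreOf_isPGroup M,
      (frakH_core_le_normalizer hpar S hSM hM hasym hH).trans hNP, hcharP,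
      core_wcs hpar S hSM hM hasym, hNP⟩
  have he := (isRed_largest (p := p) M).2.2.1
  have hminX : ∀ X : Subgroup G, Cfsg.largestPReducedOf p M ≤ X → X < L →
      Cfsg.largestPReducedOf p M ≤ Cfsg.pCoreOf p X := by
    intro X hYX hXL
    by_contra hne
    exact hXL.ne (hmin X hXL.le hYX hne)
  have hsup : L ⊔ Cfsg.pCoreOf p M = H := by
    by_contra hne
    have hle : L ⊔ Cfsg.pCoreOf p M ≤ H := sup_le hLH hH.2.1
    exact hYO ((le_inf hYL (hH.2.2.2 _ le_sup_right (lt_of_le_of_ne hle hne))).trans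
      (inf_pCoreOf_le le_sup_left))
  obtain ⟨r1, r2, r3, r4⟩ := aux_main_S2862 c hasym (Cfsg.Agent.Modules.elemAb_isPGroup he)
    (Cfsg.Agent.Modules.comm_le_centralizer he.1) hLH hYL hYO hminX hsup
  exact ⟨⟨hsup, r1⟩, r2,
    fun V W' a b c' d e g => r3 V W' ⟨a, b, c', d, e, g⟩, r4⟩

end Cfsg.Agent.S2862
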