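import Cfsg.Statements.S2863
import Cfsg.Agent.LAE60.FrakL
import Cfsg.Agent.LAE60.SL2Fixed
-- import your own Cfsg.Agent.* helpers here

set_option autoImplicit false
open Cfsg
set_option linter.unusedVariables false
open Subgroup
open Cfsg.Agent.LAE60
open Cfsg.Agent.LAE60.Residue
open scoped commutatorElement MatrixGroups
open Cfsg.Agent.Fusion (cj mem_cj)

section
variable {G : Type*} [Group G] [Finite G] {p : ℕ} [Fact p.Prime] {M L : Subgroup G}

local notation "Y" => Cfsg.largestPReducedOf p M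
local notation "A" => Cfsg.pCoreOf p L
local notation "B" => Cfsg.largestPReducedOf p M ⊓ Cfsg.pCoreOf p L
local notation "C" => Cfsg.largestPReducedOf p M ⊓ centralizer ((L : Subgroup G) : Set G)

theorem isPPower_of_mem {L : Subgroup G} {x : G} (hx : x ^ p ∈ Cfsg.pCoreOf p L) :
    ∃ k : ℕ, orderOf x = p ^ k := by
  obtain ⟨k, hk⟩ := pCoreOf_isPGroup (p := p) L ⟨_, hx⟩
  have h1 : x ^ (p ^ (k + 1)) = 1 := by
    rw [pow_succ', pow_mul]
    simpa [Subtype.ext_iff] using hk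
  obtain ⟨j, -, hj⟩ := (Nat.dvd_prime_pow (Fact.out : p.Prime)).1 (orderOf_dvd_of_pow_eq_one h1)
  exact ⟨j, hj⟩

theorem fixed_mem_C {x u v : G} (hx : x ∈ L) (hu : u ∈ L) (h1 : ⁅x, u⁆ ∈ C) (h2 : ⁅x, v⁆ ∈ C) :
    ⁅x, u * v⁆ ∈ C := by
  have : ⁅x, u * v⁆ = ⁅x, u⁆ * (u * ⁅x, v⁆ * u⁻¹) := by simp [commutatorElement_def, mul_assoc]
  rw [this]
  exact mul_mem h1 (conj_mem_of_mem_normalizer (frakL_C_normal hu) h2)

theorem not_fixed_of_inverters (hL : Cfsg.IsInFrakL p M L) {H : Type*} [Group H] [Finite H]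
    {π : L →* H} (hπ : Function.Surjective π) (hker : π.ker = Cfsg.pCore p L) {P : Sylow p H}
    (hP : RankOne p ((B).relIndex Y) P) (hinv : HasInverters p H) {h : G} (hh : h ∈ L)
    (hnp : ¬ ∃ k : ℕ, orderOf h = p ^ k) {a : G} (ha : a ∈ A) (hc : ⁅h, a⁆ ∈ C) : a ∈ C := by
  by_contra haC
  have hK : TIProp p M L := frakL_inf_normalizer hL hπ hker hP
  have hn0 : orderOf h ≠ 0 := (orderOf_pos h).ne'
  obtain ⟨r, hr, hrd, hrp⟩ : ∃ r, r.Prime ∧ r ∣ orderOf h ∧ r ≠ p := by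
    by_contra hne
    push Not at hne
    exact hnp ⟨_, Nat.eq_prime_pow_of_unique_prime_dvd hn0 fun {d} hd hdd => hne d hd hdd⟩
  let K : G → Subgroup G := fun a =>
    { carrier := {x | x ∈ L ∧ ⁅x, a⁆ ∈ C}
      one_mem' := ⟨one_mem _, by simp⟩
      mul_mem' := fun {x z} hx hz => by
        refine ⟨mul_mem hx.1 hz.1, ?_⟩
        have : ⁅x * z, a⁆ = x * ⁅z, a⁆ * x⁻¹ * ⁅x, a⁆ := by simp [commutatorElement_def, mul_assoc]
        rw [this]
        exact mul_mem (conj_mem_of_mem_normalizer (frakL_C_normal hx.1) hz.2) hx.2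
      inv_mem' := fun {x} hx => by
        refine ⟨inv_mem hx.1, ?_⟩
        have : ⁅x⁻¹, a⁆ = x⁻¹ * ⁅x, a⁆⁻¹ * x⁻¹⁻¹ := by simp [commutatorElement_def, mul_assoc]
        rw [this]
        exact conj_mem_of_mem_normalizer (frakL_C_normal (inv_mem hx.1)) (inv_mem hx.2) }
  set h1 := h ^ (orderOf h / r) with hh1
  have ho1 : orderOf h1 = r := orderOf_pow_orderOf_div hn0 hrd
  have h1L : h1 ∈ L := pow_mem hh _
  have hc1 : ⁅h1, a⁆ ∈ C := (pow_mem (show h ∈ K a from ⟨hh, hc⟩) _ : h1 ∈ K a).2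
  set l : L := ⟨h1, h1L⟩ with hl
  have hol : orderOf (π l) = r := by
    have hd : orderOf (π l) ∣ r := by rw [← ho1, ← orderOf_mk h1 h1L]; exact orderOf_map_dvd π l
    rcases (Nat.dvd_prime hr).1 hd with e | e
    · exfalso
      rw [orderOf_eq_one_iff, ← MonoidHom.mem_ker, hker, ← mem_pCoreOf_coe] at e
      obtain ⟨k, hk⟩ := isPPower_of_mem (L := L) (pow_mem e p)
      change orderOf h1 = p ^ k at hk
      rw [ho1] at hk
      exact hrp ((Nat.prime_dvd_prime_iff_eq hr Fact.out).1 (hr.dvd_of_dvd_pow hk.dvd))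
    · exact e
  obtain ⟨y0, hy0, hyn, hyc⟩ := hinv (π l) (by rw [hol]; exact hr) (by rw [hol]; exact hrp)
  have ht := frakL_target hL hπ hker
  obtain ⟨g0, hg0⟩ := exists_conj_mem hP ht hy0
  obtain ⟨g, rfl⟩ := hπ g0
  obtain ⟨y, hy, hye⟩ := hg0
  rw [SetLike.mem_coe, mem_subgroupOf] at hy
  set z := π (g⁻¹ * l * g) with hz
  have hze : z = (π g)⁻¹ * π l * π g := by rw [hz, map_mul, map_mul, map_inv]
  have hyn' : π y * z * (π y)⁻¹ ∈ zpowers z := by
    obtain ⟨j, hj⟩ := hyn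
    refine ⟨j, ?_⟩
    have hj' : π l ^ j = y0 * π l * y0⁻¹ := hj
    have e1 : z ^ j = (π g)⁻¹ * π l ^ j * π g := by
      have := conj_zpow (a := (π g)⁻¹) (b := π l) (i := j)
      rwa [inv_inv, ← hze] at this
    show z ^ j = _
    rw [e1, hj', hye, hze]; group
  have hyc' : π y * z ≠ z * π y := fun e => hyc (by
    rw [hye, hze] at e
    calc y0 * π l = π g * (((π g)⁻¹ * y0 * π g) * ((π g)⁻¹ * π l * π g)) * (π g)⁻¹ := by group
      _ = π g * (((π g)⁻¹ * π l * π g) * ((π g)⁻¹ * y0 * π g)) * (π g)⁻¹ := by rw [e]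
      _ = π l * y0 := by group)
  set l2 : G := (g : G)⁻¹ * h1 * g with hl2
  set a2 : G := (g : G)⁻¹ * a * g with ha2
  have hl2L : l2 ∈ L := mul_mem (mul_mem (inv_mem g.2) h1L) g.2
  have ha2A : a2 ∈ A := by
    have := conj_mem_of_mem_normalizer (le_normalizer_pCoreOf L (inv_mem g.2)) ha
    simpa [ha2] using this
  have ha2C : a2 ∉ C := fun hmem => haC (by
    have := conj_mem_of_mem_normalizer (frakL_C_normal g.2) hmem
    simpa [ha2, mul_assoc] using this)
  have hc2 : ⁅l2, a2⁆ ∈ C := by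
    have := conj_mem_of_mem_normalizer (frakL_C_normal (inv_mem g.2)) hc1
    convert this using 1
    simp [hl2, ha2, commutatorElement_def, mul_assoc]
  have hzl : z = π ⟨l2, hl2L⟩ := rfl
  have hlift : ∀ x ∈ L, ∀ hx : x ∈ L, π ⟨x, hx⟩ ∈ zpowers z → x ∈ K a2 := by
    intro x _ hx hxz
    obtain ⟨j, hj⟩ := hxz
    have hj' : z ^ j = π ⟨x, hx⟩ := hj
    have hker' : (⟨l2, hl2L⟩ : L) ^ (-j) * ⟨x, hx⟩ ∈ π.ker := by
      rw [MonoidHom.mem_ker, map_mul, map_zpow, ← hzl, ← hj', ← zpow_add, neg_add_cancel, zpow_zero]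
    rw [hker, ← mem_pCoreOf_coe] at hker'
    simp only [Subgroup.coe_mul, SubgroupClass.coe_zpow] at hker'
    have hA : l2 ^ (-j) * x ∈ K a2 :=
      ⟨mul_mem (zpow_mem hl2L _) hx, frakL_commutator_A hL hK hker' ha2A⟩
    have := mul_mem (zpow_mem (show l2 ∈ K a2 from ⟨hl2L, hc2⟩) j) hA
    simpa using this
  have hyL : (y : G) ∈ L := y.2
  set b0 : G := ⁅(y : G)⁻¹, a2⁆ with hb0
  have hb0B : b0 ∈ B := frakL_commutator_mem hL (inv_mem hy) ha2A
  have hfix0 : ⁅l2, b0⁆ ∈ C := by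
    have h1 : (y : G) * l2 * (y : G)⁻¹ ∈ K a2 := by
      have hmem : (y : G) * l2 * (y : G)⁻¹ ∈ L := mul_mem (mul_mem hyL hl2L) (inv_mem hyL)
      refine hlift _ hmem hmem ?_
      convert hyn' using 1
      rw [hzl, ← map_inv, ← map_mul, ← map_mul]
      rfl
    have h2 : ⁅l2, (y : G)⁻¹ * a2 * y⁆ ∈ C := by
      have := conj_mem_of_mem_normalizer (frakL_C_normal (inv_mem hyL)) h1.2
      convert this using 1
      simp [commutatorElement_def, mul_assoc]
    have h3 : ⁅l2, a2⁻¹⁆ ∈ C := by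
      have : ⁅l2, a2⁻¹⁆ = a2⁻¹ * ⁅l2, a2⁆⁻¹ * a2⁻¹⁻¹ := by simp [commutatorElement_def, mul_assoc]
      rw [this]
      exact conj_mem_of_mem_normalizer (frakL_C_normal (inv_mem (pCoreOf_le L ha2A))) (inv_mem hc2)
    have e : b0 = ((y : G)⁻¹ * a2 * y) * a2⁻¹ := by simp [hb0, commutatorElement_def]
    rw [e]
    exact fixed_mem_C hl2L (mul_mem (mul_mem (inv_mem hyL) (pCoreOf_le L ha2A)) hyL) h2 h3
  have hyA : (y : G)⁻¹ ∉ A := fun hyA => hyc' (by
    rw [inv_mem_iff, mem_pCoreOf_coe, ← hker, MonoidHom.mem_ker] at hyA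
    rw [hyA, one_mul, mul_one])
  obtain ⟨b, hbB, hbC, hbfix⟩ : ∃ b ∈ B, b ∉ C ∧ ⁅l2, b⁆ ∈ C := by
    by_cases hb : b0 ∈ C
    · exact ⟨a2, frakL_fixed_mem hL hK (inv_mem hy) hyA ha2A hb, ha2C, hc2⟩
    · exact ⟨b0, hb0B, hb, hfix0⟩
  have hl2N : l2 ∈ normalizer (Y : Set G) := by
    by_contra hn
    refine hbC ?_
    have e : l2 * b * l2⁻¹ = ⁅l2, b⁆ * b := by simp [commutatorElement_def]
    have h1 : l2 * b * l2⁻¹ ∈ B := e ▸ mul_mem (frakL_C_le_B hL hbfix) hbB
    have h2 : l2 * b * l2⁻¹ ∈ C := frakL_B_inf hL hK hl2L hn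
      ⟨h1, mem_cj.2 (by simpa [mul_assoc] using hbB)⟩
    have := mul_mem (inv_mem hbfix) h2
    rwa [e, inv_mul_cancel_left] at this
  have hzN : z ∈ normalizer (yImage p M π : Set H) := map_mem_normalizer (l := ⟨l2, hl2L⟩) hl2N π
  have hyY : π y ∈ yImage p M π := ⟨y, hy, rfl⟩
  set w := π y * z * (π y)⁻¹ * z⁻¹ with hw
  have hw1 : w ∈ zpowers z := mul_mem hyn' (inv_mem (mem_zpowers z))
  have hw2 : w ∈ yImage p M π := by
    have := mul_mem hyY (conj_mem_of_mem_normalizer hzN (inv_mem hyY))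
    simpa [hw, mul_assoc] using this
  have hoz : orderOf z = r := by
    rw [hze, ← hol]
    simpa [MulAut.conj_apply] using
      orderOf_injective (MulAut.conj (π g)⁻¹).toMonoidHom (MulAut.conj (π g)⁻¹).injective (π l)
  have hw0 : w = 1 := orderOf_eq_one_iff.1 (Nat.eq_one_of_dvd_coprimes
    ((Nat.coprime_primes hr Fact.out).2 hrp) (hoz ▸ orderOf_dvd_of_mem_zpowers hw1)
    (orderOf_dvd_of_pow_eq_one (ht.pow w hw2)))
  refine hyc' ?_
  calc π y * z = w * z * π y := by rw [hw]; group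
    _ = z * π y := by rw [hw0, one_mul]

theorem pow_eq_one_of_trace {F : Type*} [Field F] [CharP F p] {g : SL(2, F)}
    (htr : g.1 0 0 + g.1 1 1 = 2) : g ^ p = 1 := by
  have hd : g.1 0 0 * g.1 1 1 - g.1 0 1 * g.1 1 0 = 1 := by
    rw [← Matrix.det_fin_two]; exact g.2
  set N : Matrix (Fin 2) (Fin 2) F := (g : Matrix (Fin 2) (Fin 2) F) - 1 with hN
  have hNN : N ^ 2 = 0 := by
    rw [pow_two]
    ext i j
    fin_cases i <;> fin_cases j <;> simp [hN, Matrix.mul_apply, Fin.sum_univ_two] <;>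
      first | linear_combination (g.1 0 0) * htr - hd | linear_combination (g.1 1 1) * htr - hd |
        linear_combination (g.1 0 1) * htr | linear_combination (g.1 1 0) * htr
  have hNp : N ^ p = 0 := by
    obtain ⟨k, hk⟩ : ∃ k, p = 2 + k := ⟨p - 2, by
      have := (Fact.out : p.Prime).two_le; omega⟩
    rw [hk, pow_add, hNN, zero_mul]
  apply Subtype.ext
  rw [Matrix.SpecialLinearGroup.coe_pow, Matrix.SpecialLinearGroup.coe_one,
    show (g : Matrix (Fin 2) (Fin 2) F) = N + 1 by rw [hN, sub_add_cancel]]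
  haveI : CharP (Matrix (Fin 2) (Fin 2) F) p := inferInstance
  rw [add_pow_char_of_commute p (Commute.one_right N), hNp, one_pow, zero_add]

set_option maxHeartbeats 1600000 in
theorem not_fixed_of_sl (hL : Cfsg.IsInFrakL p M L) {F : Type*} [Field F] [Fintype F] [CharP F p]
    {π₀ : L →* SL(2, F)} (hπ₀ : Function.Surjective π₀) (hker₀ : π₀.ker = Cfsg.pCore p L)
    (hcard : Fintype.card F = (B).relIndex Y) {h : G} (hh : h ∈ L)
    (hnp : ¬ ∃ k : ℕ, orderOf h = p ^ k) {a : G} (ha : a ∈ A) (hc : ⁅h, a⁆ ∈ C) : a ∈ C := by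
  by_contra haC
  obtain ⟨P, hP, hPc, hpow⟩ := exists_rankOne_sl (F := F) (p := p)
  rw [hcard] at hP
  obtain ⟨g0, -, hmem, -⟩ := exists_sylow hP (frakL_target hL hπ₀ hker₀)
  set π : L →* SL(2, F) := (MulAut.conj g0⁻¹).toMonoidHom.comp π₀ with hπdef
  have hπ : Function.Surjective π := (MulAut.conj g0⁻¹).surjective.comp hπ₀
  have hker : π.ker = Cfsg.pCore p L := by
    rw [hπdef, ← MonoidHom.comap_ker, (MonoidHom.ker_eq_bot_iff _).2 (MulEquiv.injective _),
      MonoidHom.comap_bot, hker₀]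
  have hU : yImage p M π = unipSub F := by
    ext x
    constructor
    · rintro ⟨y, hy, rfl⟩
      have h2 := (mem_smul_sylow.1 ((hmem _).1 ⟨y, hy, rfl⟩).1)
      rw [hPc] at h2
      simpa [hπdef] using h2
    · intro hx
      obtain ⟨y, hy, he⟩ := (hmem (g0 * x * g0⁻¹)).2
        ⟨mem_smul_sylow.2 (by rw [hPc]; simpa [mul_assoc] using hx),
          by rw [conj_pow, hpow x hx]; group⟩
      exact ⟨y, hy, by simp [hπdef, he, mul_assoc]⟩
  have hK : TIProp p M L := frakL_inf_normalizer hL hπ hker hP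
  obtain ⟨wl, hwl⟩ := hπ wW
  have hwn : (wl : G) ∉ normalizer (Y : Set G) := by
    intro hn
    have h1 := map_mem_normalizer hn π
    rw [hwl, hU] at h1
    have := entry_of_conj_mem one_ne_zero ((mem_normalizer_iff.1 h1 (uU 1)).1 (mem_unipSub.2 ⟨1, rfl⟩))
    simp [wW] at this
  set C' : Subgroup A := (C).subgroupOf A with hC'
  have hCB : ∀ c ∈ C, c ∈ B := fun c hc => frakL_C_le_B hL hc
  haveI : C'.Normal := (normal_subgroupOf_iff_le_normalizer fun c hc => (hCB c hc).2).2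
    ((pCoreOf_le L).trans frakL_C_normal)
  letI : CommGroup (A ⧸ C') :=
    { (inferInstance : Group (A ⧸ C')) with
      mul_comm := by
        intro x z
        induction x using QuotientGroup.induction_on with | H x =>
        induction z using QuotientGroup.induction_on with | H z =>
        rw [← QuotientGroup.mk_mul, ← QuotientGroup.mk_mul, QuotientGroup.eq_iff_div_mem]
        show ((x * z / (z * x) : A) : G) ∈ C
        have := frakL_commutator_A hL hK x.2 z.2
        simpa [commutatorElement_def, div_eq_mul_inv, mul_assoc] using this }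
  have hcjA : ∀ (l : L) (x : A), (l : G) * x * (l : G)⁻¹ ∈ A := fun l x =>
    conj_mem_of_mem_normalizer (le_normalizer_pCoreOf L l.2) x.2
  let cA : L → (A →* A) := fun l => MonoidHom.mk' (fun x => ⟨_, hcjA l x⟩) fun x z =>
    Subtype.ext (by simp [mul_assoc])
  have hcC : ∀ l : L, C' ≤ C'.comap (cA l) := fun l x hx =>
    conj_mem_of_mem_normalizer (frakL_C_normal l.2) (show (x : G) ∈ C from hx)
  let ρ₀ : L →* AddMonoid.End (Additive (A ⧸ C')) :=
    { toFun := fun l => MonoidHom.toAdditive (QuotientGroup.map C' C' (cA l) (hcC l))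
      map_one' := by
        refine AddMonoidHom.ext fun x => ?_
        obtain ⟨x, rfl⟩ := Additive.ofMul.surjective x
        induction x using QuotientGroup.induction_on with | H x =>
        show Additive.ofMul (QuotientGroup.mk (cA 1 x)) = Additive.ofMul (QuotientGroup.mk x)
        simp [cA]
      map_mul' := fun l l' => by
        refine AddMonoidHom.ext fun x => ?_
        obtain ⟨x, rfl⟩ := Additive.ofMul.surjective x
        induction x using QuotientGroup.induction_on with | H x =>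
        show Additive.ofMul (QuotientGroup.mk (cA (l * l') x)) =
          Additive.ofMul (QuotientGroup.mk (cA l (cA l' x)))
        congr 2
        exact Subtype.ext (by simp [cA, mul_assoc]) }
  have hkerρ : ∀ l ∈ π.ker, ρ₀ l = 1 := by
    intro l hl
    rw [hker, ← mem_pCoreOf_coe] at hl
    refine AddMonoidHom.ext fun x => ?_
    obtain ⟨x, rfl⟩ := Additive.ofMul.surjective x
    induction x using QuotientGroup.induction_on with | H x =>
    show Additive.ofMul (QuotientGroup.mk (cA l x)) = Additive.ofMul (QuotientGroup.mk x)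
    congr 1
    rw [QuotientGroup.eq_iff_div_mem]
    show ((cA l x / x : A) : G) ∈ C
    have := frakL_commutator_A hL hK hl x.2
    simpa [cA, commutatorElement_def, div_eq_mul_inv, mul_assoc] using this
  have hwell : ∀ l l' : L, π l = π l' → ρ₀ l = ρ₀ l' := by
    intro l l' e
    have h1 : l⁻¹ * l' ∈ π.ker := by rw [MonoidHom.mem_ker, map_mul, map_inv, e, inv_mul_cancel]
    rw [show l' = l * (l⁻¹ * l') by group, map_mul, hkerρ _ h1, mul_one]
  let sec : SL(2, F) → L := Function.surjInv hπ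
  have hsec : ∀ g, π (sec g) = g := Function.surjInv_eq hπ
  let ρ : SL(2, F) →* AddMonoid.End (Additive (A ⧸ C')) :=
    { toFun := fun g => ρ₀ (sec g)
      map_one' := (hwell _ 1 (by rw [hsec, map_one])).trans (map_one ρ₀)
      map_mul' := fun g g' =>
        (hwell _ (sec g * sec g') (by rw [hsec, map_mul, hsec, hsec])).trans (map_mul ρ₀ _ _) }
  let q : A → Additive (A ⧸ C') := fun x => Additive.ofMul (QuotientGroup.mk x)
  have hρ : ∀ (l : L) (x : A), ρ (π l) (q x) = q ⟨_, hcjA l x⟩ := by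
    intro l x
    show ρ₀ (sec (π l)) (q x) = _
    rw [hwell _ l (hsec _)]
    rfl
  have hq : ∀ x z : A, q x = q z ↔ (x : G) * (z : G)⁻¹ ∈ C := by
    intro x z
    show QuotientGroup.mk x = QuotientGroup.mk z ↔ _
    rw [QuotientGroup.eq_iff_div_mem]
    show ((x / z : A) : G) ∈ C ↔ _
    simp [div_eq_mul_inv]
  let Bb : AddSubgroup (Additive (A ⧸ C')) :=
    Subgroup.toAddSubgroup (((B).subgroupOf A).map (QuotientGroup.mk' C'))
  have hBb : ∀ x : A, q x ∈ Bb ↔ (x : G) ∈ B := by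
    intro x
    constructor
    · rintro ⟨z, hz, he⟩
      have h1 := (hq x z).1 (congrArg Additive.ofMul he).symm
      have := mul_mem (hCB _ h1) (show (z : G) ∈ B from hz)
      simpa using this
    · exact fun hx => ⟨x, hx, rfl⟩
  have hqsurj : ∀ m, ∃ x, q x = m := by
    intro m
    obtain ⟨x, rfl⟩ := Additive.ofMul.surjective m
    induction x using QuotientGroup.induction_on with | H x => exact ⟨x, rfl⟩
  have hu : ∀ t : F, ∃ y : L, (y : G) ∈ Y ∧ π y = uU t := by
    intro t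
    obtain ⟨y, hy, he⟩ : uU t ∈ yImage p M π := by rw [hU]; exact mem_unipSub.2 ⟨t, rfl⟩
    exact ⟨y, hy, he⟩
  have hsub : ∀ x z : A, q x - q z = q (x * z⁻¹) := fun x z => by
    show Additive.ofMul ((QuotientGroup.mk x : A ⧸ C') / QuotientGroup.mk z) = _
    rw [div_eq_mul_inv]; rfl
  have := slTwo_trace_eq_two ρ Bb ?_ ?_ ?_ ?_ ?_ (g := π ⟨h, hh⟩) (v := q ⟨a, ha⟩) ?_ ?_
  · have h1 := pow_eq_one_of_trace (p := p) this
    rw [← map_pow, ← MonoidHom.mem_ker, hker, ← mem_pCoreOf_coe] at h1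
    exact hnp (isPPower_of_mem (by simpa using h1))
  · intro t m
    obtain ⟨x, rfl⟩ := hqsurj m
    obtain ⟨y, hy, he⟩ := hu t
    rw [← he, hρ, hsub, hBb]
    have := frakL_commutator_mem hL hy x.2
    simpa [commutatorElement_def] using this
  · intro t m hm
    obtain ⟨x, rfl⟩ := hqsurj m
    obtain ⟨y, hy, he⟩ := hu t
    rw [hBb] at hm
    rw [← he, hρ, hq]
    have e : (y : G) * x * (y : G)⁻¹ = x := by rw [largest_comm hy hm.1]; group
    show (y : G) * x * (y : G)⁻¹ * (x : G)⁻¹ ∈ C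
    rw [e, mul_inv_cancel]; exact one_mem _
  · intro t ht m hm
    obtain ⟨x, rfl⟩ := hqsurj m
    obtain ⟨y, hy, he⟩ := hu t
    rw [← he, hρ, hq] at hm
    rw [hBb]
    refine frakL_fixed_mem hL hK hy (fun hyA => ht ?_) x.2 hm
    rw [mem_pCoreOf_coe, ← hker, MonoidHom.mem_ker, he, ← uU_zero] at hyA
    exact uU_inj hyA
  · intro m hm1 hm2
    obtain ⟨x, rfl⟩ := hqsurj m
    rw [hBb] at hm1
    rw [← hwl, hρ, hBb] at hm2
    have h2 : (wl : G) * x * (wl : G)⁻¹ ∈ C := frakL_B_inf hL hK wl.2 hwn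
      ⟨hm2, mem_cj.2 (by simpa [mul_assoc] using hm1)⟩
    have h3 : (x : G) ∈ C := by
      have := conj_mem_of_mem_normalizer (frakL_C_normal (inv_mem wl.2)) h2
      simpa [mul_assoc] using this
    show q x = q 1
    rw [hq]
    simpa using h3
  · intro m
    obtain ⟨x, rfl⟩ := hqsurj m
    have hmem := frakL_A_le hL hK wl.2 hwn x.2
    have hB'A : cj (wl : G) B ≤ A :=
      (Cfsg.Agent.Fusion.cj_mono _ inf_le_right).trans (frakL_cj_A (p := p) wl.2).le
    rw [← SetLike.mem_coe, coe_mul_of_right_le_normalizer_left _ _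
      (hB'A.trans (frakL_A_normalizes hL))] at hmem
    obtain ⟨b, hb, c, hc, e⟩ := hmem
    have hc' := mem_cj.1 hc
    refine ⟨q ⟨b, hb.2⟩, (hBb _).2 hb, q ⟨_, hc'.2⟩, (hBb _).2 hc', ?_⟩
    rw [← hwl, hρ]
    show q x = q (⟨b, hb.2⟩ * _)
    rw [hq]
    simp only [Subgroup.coe_mul]
    rw [← e]
    simp [mul_assoc]
  · intro e
    have h1 := (hq ⟨a, ha⟩ 1).1 e
    exact haC (by simpa using h1)
  · rw [hρ, hq]
    simpa [commutatorElement_def] using hc

end

namespace Cfsg.Agent.S2863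

/-- Standing hypotheses: G a finite group, S a Sylow p-subgroup, Q a nontrivial large p-subgroup of G contained in S, M a subgroup containing S with the basic property (M ∈ 𝔐_G(S)); Y_M the largest p-reduced normal subgroup of M and M† = M·C_G(Y_M). Let L ∈ 𝔏_G(Y_M) (L ∈ 𝔏_G(Y_M): Y_M ≤ L; O_p(L) is the normal closure in L of Y_M ∩ O_p(L) and normalizes Y_M; L is Y_M-minimal of characteristic p with N_L(Y_M) its unique maximal subgroup over Y_M; and L/O_p(L) ≅ SL₂(q) with q = |Y_M : Y_M ∩ O_p(L)|, or p = 2 and L/O_p(L) is a Suzuki group Sz(q) or dihedral of order 2r, r an odd prime), A = O_p(L), and C = C_{Y_M}(L). Then every element h of L whose order is not a power of p acts without nontrivial fixed points on A/C: for a ∈ A, hah⁻¹a⁻¹ ∈ C implies a ∈ C. -/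
theorem result {G : Type*} [Group G] [Finite G] {p : ℕ} [Fact p.Prime] (S : Sylow p G) (Q : Subgroup G) (hQp : IsPGroup p ↥Q) (hQ1 : Q ≠ ⊥) (hQS : Q ≤ (S : Subgroup G)) (hQ : Cfsg.IsLarge Q) (M : Subgroup G) (hSM : (S : Subgroup G) ≤ M) (hM : Cfsg.IsInFrakM p M) (L : Subgroup G) (hL : Cfsg.IsInFrakL p M L) (h : G) (hh : h ∈ L) (hnp : ¬ ∃ k : ℕ, orderOf h = p ^ k) : ∀ a ∈ (Cfsg.pCoreOf p L), h * a * h⁻¹ * a⁻¹ ∈ (Cfsg.largestPReducedOf p M) ⊓ Subgroup.centralizer ((L : Subgroup G) : Set G) → a ∈ (Cfsg.largestPReducedOf p M) ⊓ Subgroup.centralizer ((L : Subgroup G) : Set G) := by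
  intro a ha hc
  refine frakL_elim hL (fun F _ _ _ π hπ hker hcard => ?_)
    (fun H _ _ π hπ hker hP hinv => ?_) (fun π hπ hker hP hinv => ?_)
  · exact not_fixed_of_sl hL hπ hker hcard hh hnp ha hc
  · obtain ⟨P, hP⟩ := hP
    exact not_fixed_of_inverters hL hπ hker hP hinv hh hnp ha hc
  · obtain ⟨P, hP⟩ := hP
    exact not_fixed_of_inverters hL hπ hker hP hinv hh hnp ha hc

end Cfsg.Agent.S2863
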