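import Cfsg.Statements.S2864
import Cfsg.Agent.LAE60.FrakH
import Cfsg.Agent.LAE60.BasicProperty
import Cfsg.Agent.PGroup.Frattini
-- import your own Cfsg.Agent.* helpers here

set_option autoImplicit false
open Cfsg
set_option linter.unusedVariables false
open Cfsg.Agent.LAE60
open scoped commutatorElement
open Subgroup

theorem aux_ncl {G : Type*} [Group G] {L Y A W : Subgroup G} (hY : Y ≤ L)
    (hA : L ≤ normalizer (A : Set G)) (hW : L ≤ normalizer (W : Set G)) (h : ⁅Y, A⁆ ≤ W) :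
    ⁅ncl L Y, A⁆ ≤ W := by
  rw [ncl, normalClosure, MonoidHom.map_closure]
  refine commutator_closure_le ?_ ?_
  · rintro _ ⟨x, -, rfl⟩
    exact hW x.2
  · rintro _ ⟨x, hx, rfl⟩ a ha
    obtain ⟨y, hy, hc⟩ := Group.mem_conjugatesOfSet_iff.1 hx
    obtain ⟨g, rfl⟩ := isConj_iff.1 hc
    show ⁅((g * y * g⁻¹ : ↥L) : G), a⁆ ∈ W
    push_cast
    have e : ⁅(g : G) * y * (g : G)⁻¹, a⁆ =
        (g : G) * ⁅(y : G), (g : G)⁻¹ * a * (g : G)⁻¹⁻¹⁆ * (g : G)⁻¹ := by
      simp only [commutatorElement_def]; group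
    rw [e]
    exact conj_mem_of_mem_normalizer (hW g.2) (h (commutator_mem_commutator hy
      (conj_mem_of_mem_normalizer (inv_mem (hA g.2)) ha)))

namespace Cfsg.Agent.S2864

/-- Standing hypotheses: G a finite group, S a Sylow p-subgroup, Q a nontrivial large p-subgroup of G contained in S, M a subgroup containing S with the basic property (M ∈ 𝔐_G(S)); Y_M the largest p-reduced normal subgroup of M and M† = M·C_G(Y_M). Let I be a nontrivial normal p-subgroup of M and Y ≤ O_p(M†); let L be a subgroup of G containing Y and A a normal p-subgroup of L with I ≤ A ≤ M. If [Y, A] ≤ [I, A], then Y ≤ O_p(L). -/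
theorem result {G : Type*} [Group G] [Finite G] {p : ℕ} [Fact p.Prime] (S : Sylow p G) (Q : Subgroup G) (hQp : IsPGroup p ↥Q) (hQ1 : Q ≠ ⊥) (hQS : Q ≤ (S : Subgroup G)) (hQ : Cfsg.IsLarge Q) (M : Subgroup G) (hSM : (S : Subgroup G) ≤ M) (hM : Cfsg.IsInFrakM p M) (I : Subgroup G) (hI1 : I ≠ ⊥) (hIp : IsPGroup p ↥I) (hIM : I ≤ M ∧ M ≤ Subgroup.normalizer ((I : Subgroup G) : Set G)) (Y : Subgroup G) (hY : Y ≤ (Cfsg.pCoreOf p (M ⊔ Subgroup.centralizer (((Cfsg.largestPReducedOf p M) : Subgroup G) : Set G)))) (L : Subgroup G) (hYL : Y ≤ L) (A : Subgroup G) (hAp : IsPGroup p ↥A) (hAL : A ≤ L ∧ L ≤ Subgroup.normalizer ((A : Subgroup G) : Set G)) (hIA : I ≤ A) (hAM : A ≤ M) (hc : ⁅Y, A⁆ ≤ ⁅I, A⁆) : Y ≤ (Cfsg.pCoreOf p L) := by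
  have hpar := large_isOfParabolicCharacteristic hQ hQp
  set Md := M ⊔ centralizer (Cfsg.largestPReducedOf p M : Set G)
  set C := L ⊓ centralizer (A : Set G) with hC
  have hLC : L ≤ normalizer (C : Set G) :=
    le_normalizer_inf Subgroup.le_normalizer (le_normalizer_centralizer hAL.2)
  have hCMd : C ≤ Md :=
    (inf_le_right.trans (centralizer_le hIA)).trans ((centralizer_le_normalizer' I).trans
      (normalizer_le_dagger hpar S hSM hM hIp hI1 hIM.2))
  set W := Cfsg.pCoreOf p C with hW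
  have hLW : L ≤ normalizer (W : Set G) := hLC.trans (normalizer_le_normalizer_pCoreOf C)
  have hYC : ⁅Y, C⁆ ≤ W := by
    refine le_pCoreOf (commutator_le_right_of_le_normalizer (hYL.trans hLC))
      (right_le_normalizer_commutator _ _) ?_
    exact (pCoreOf_isPGroup Md).to_le ((commutator_mono hY le_rfl).trans
      (commutator_le_left_of_le_normalizer (hCMd.trans (le_normalizer_pCoreOf Md))))
  set N := ncl L Y
  have hNL : N ≤ L := ncl_le L Y
  have hNC : ⁅N, C⁆ ≤ W := aux_ncl hYL hLC hLW hYC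
  have hA' : ⁅N, A⁆ ≤ ⁅A, A⁆ :=
    aux_ncl hYL hAL.2 (le_normalizer_commutator hAL.2 hAL.2)
      (hc.trans (commutator_mono hIA le_rfl))
  have hres : res p N ≤ C := by
    refine res_le_iff.2 fun x hx hcop => ⟨hNL hx, ?_⟩
    have hfr : ∀ a ∈ A, a⁻¹ * (x * a * x⁻¹) ∈ (frattini ↥A).map A.subtype := by
      intro a ha
      have h1 : a⁻¹ * (x * a * x⁻¹) ∈ ⁅A, A⁆ := by
        have h2 : ⁅x, a⁆ ∈ ⁅A, A⁆ := hA' (commutator_mem_commutator hx ha)
        have h3 := conj_mem_of_mem_normalizer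
          (left_le_normalizer_commutator A A (inv_mem ha)) h2
        have e : a⁻¹ * (x * a * x⁻¹) = a⁻¹ * ⁅x, a⁆ * a⁻¹⁻¹ := by
          simp only [commutatorElement_def]; group
        rwa [e]
      have h4 : (⁅(⊤ : Subgroup ↥A), (⊤ : Subgroup ↥A)⁆ : Subgroup ↥A).map A.subtype = ⁅A, A⁆ := by
        rw [map_commutator, ← MonoidHom.range_eq_map, range_subtype]
      rw [← h4] at h1
      exact Subgroup.map_mono (Cfsg.Agent.PGroup.commutator_le_frattini hAp) h1
    intro a ha
    exact (Cfsg.Agent.PGroup.commute_of_coprime_of_frattini hAp hcop (hAL.2 (hNL hx)) hfr a ha).symm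
  have hLN : L ≤ normalizer (N : Set G) := le_normalizer_ncl L Y
  obtain ⟨T, hT1, hT2⟩ := Cfsg.Agent.Fusion.exists_sylow_inf_relIndex
    (isPGroup_sup ((pCoreOf_isPGroup Md).to_le hY) ((pCoreOf_isPGroup C).to_inf_left (K := N))
      (hYL.trans (le_normalizer_inf hLW hLN)))
    (sup_le (le_ncl hYL) inf_le_right : Y ⊔ W ⊓ N ≤ N)
  have hTn : N ≤ normalizer (((T : Subgroup G) ⊓ N : Subgroup G) : Set G) := by
    refine (le_res_sup T.2.to_inf_left inf_le_right hT2).trans (sup_le ?_ Subgroup.le_normalizer)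
    refine le_normalizer_of_commutator_le (le_trans (le_inf ?_ ?_)
      (le_inf ((le_sup_right : W ⊓ N ≤ Y ⊔ W ⊓ N).trans hT1) inf_le_right))
    · rw [commutator_comm]
      exact (commutator_mono inf_le_right hres).trans hNC
    · exact (commutator_mono (res_le N) inf_le_right).trans
        (commutator_le_left_of_le_normalizer Subgroup.le_normalizer)
  exact (le_inf (le_sup_left.trans hT1) (le_ncl hYL)).trans
    ((le_pCoreOf inf_le_right hTn T.2.to_inf_left).trans (pCoreOf_le_pCoreOf hNL hLN))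

end Cfsg.Agent.S2864
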