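import Cfsg.Statements.S2872
import Cfsg.Agent.LocalEven.TransferIndexTwo
import Cfsg.Agent.PGroup.Frattini
import Cfsg.Agent.Cores.Residual
-- import your own Cfsg.Agent.* helpers here

set_option autoImplicit false
open Cfsg
set_option linter.unusedVariables false

namespace Cfsg.Agent.S2872

/-- Let S be a Sylow 2-subgroup of the finite group G. Then G has a proper normal subgroup of 2-power index (O²(G) ≠ G), or Ω₁(Z(S)) is contained in the Frattini subgroup of S, or N_G(S) acts nontrivially on Ω₁(Z(S)) by conjugation. -/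
theorem result {G : Type*} [Group G] [Finite G] (S : Sylow 2 G) : Cfsg.pResidual 2 G ≠ ⊤ ∨ Cfsg.omegaOne 2 ((S : Subgroup G) ⊓ Subgroup.centralizer ((S : Subgroup G) : Set G)) ≤ (frattini ↥(S : Subgroup G)).map (S : Subgroup G).subtype ∨ ∃ g ∈ Subgroup.normalizer ((S : Subgroup G) : Set G), ∃ z ∈ Cfsg.omegaOne 2 ((S : Subgroup G) ⊓ Subgroup.centralizer ((S : Subgroup G) : Set G)), g * z * g⁻¹ ≠ z := by
  classical
  by_contra hcon
  push Not at hcon
  obtain ⟨hres, hfr, hfix⟩ := hcon
  set Z := (S : Subgroup G) ⊓ Subgroup.centralizer ((S : Subgroup G) : Set G)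
  obtain ⟨z, ⟨hz, hz2⟩, hzΦ⟩ : ∃ z ∈ {x : G | x ∈ Z ∧ x ^ 2 = 1},
      z ∉ (frattini ↥(S : Subgroup G)).map (S : Subgroup G).subtype := by
    by_contra h
    push Not at h
    exact hfr ((Subgroup.closure_le _).2 h)
  have hzΩ : z ∈ Cfsg.omegaOne 2 Z := Subgroup.subset_closure ⟨hz, hz2⟩
  obtain ⟨Mx, hMx, hzM⟩ : ∃ Mx : Subgroup ↥(S : Subgroup G), IsCoatom Mx ∧ ⟨z, hz.1⟩ ∉ Mx := by
    by_contra h
    push Not at h
    exact hzΦ ⟨⟨z, hz.1⟩, by rw [frattini, Order.radical]; simpa [Subgroup.mem_iInf] using h, rfl⟩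
  have hi : Mx.index = 2 := Cfsg.Agent.PGroup.index_of_isCoatom S.2 hMx
  let χ : ↥(S : Subgroup G) →* Multiplicative (ZMod 2) :=
    { toFun := fun s => if s ∈ Mx then 1 else Multiplicative.ofAdd 1
      map_one' := by simp [Mx.one_mem]
      map_mul' := fun a b => by
        have h := Subgroup.mul_mem_iff_of_index_two hi (a := a) (b := b)
        by_cases ha : a ∈ Mx <;> by_cases hb : b ∈ Mx <;> simp [h, ha, hb] <;> decide }
  obtain ⟨H, hH⟩ := Cfsg.Agent.LocalEven.exists_index_two_of_central S χ hz.1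
    (by rw [← sq]; exact hz2) (fun s hs => hz.2 s hs) (by
      intro g hg h
      have e : g⁻¹ * z * g = z := by
        have := hfix g⁻¹ (inv_mem hg) z hzΩ
        rwa [inv_inv] at this
      show (if _ ∈ Mx then (1 : Multiplicative (ZMod 2)) else _) ≠ 1
      rw [if_neg (by simpa [e] using hzM)]
      decide)
  haveI : H.Normal := Subgroup.normal_of_index_eq_two hH
  have hle : Cfsg.pResidual 2 G ≤ H := Cfsg.Agent.Cores.pResidual_le_of_isPGroup_quotient
    (IsPGroup.of_card (n := 1) (by rw [← Subgroup.index_eq_card, hH, pow_one]))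
  rw [hres, top_le_iff] at hle
  rw [hle, Subgroup.index_top] at hH
  omega

end Cfsg.Agent.S2872
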