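import Cfsg.Statements.S2873
import Cfsg.Agent.Cores.Basic
import Mathlib.GroupTheory.IndexNormal
import Cfsg.Agent.Fusion.Basic
-- import your own Cfsg.Agent.* helpers here

set_option autoImplicit false
open Cfsg
set_option linter.unusedVariables false
set_option linter.style.haveILetI false
open Subgroup

theorem prod_le {O : Type*} [Group O] [Finite O] (α β : O →* O)
    (h : ∀ o, α o = o → β o = o → o = 1) :
    Nat.card {o : O // α o = o} * Nat.card {o : O // β o = o} ≤ Nat.card O := by
  rw [← Nat.card_prod]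
  refine Nat.card_le_card_of_injective (fun x => x.1.1 * x.2.1) ?_
  rintro ⟨⟨a, ha⟩, ⟨b, hb⟩⟩ ⟨⟨c, hc⟩, ⟨d, hd⟩⟩ e
  have e' : a * b = c * d := e
  have h1 : c⁻¹ * a = d * b⁻¹ := by
    calc c⁻¹ * a = c⁻¹ * (a * b) * b⁻¹ := by group
      _ = _ := by rw [e']; group
  have h2 : c⁻¹ * a = 1 := h _ (by rw [map_mul, map_inv, hc, ha]) (by
    rw [h1, map_mul, map_inv, hd, hb])
  have hac : a = c := (inv_mul_eq_one.1 h2).symm
  subst hac
  simp [mul_left_cancel e']

theorem sq_eq_of_le {A B N : ℕ} (h : A * B ≤ N) (hA : N ≤ A * A) (hB : N ≤ B * B) (hN : 0 < N) :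
    A * A = N := by
  rcases Nat.lt_or_ge A B with hlt | hge
  · have : A * A < A * B := Nat.mul_lt_mul_of_pos_left hlt (by nlinarith)
    omega
  · rcases Nat.lt_or_ge B A with hlt | hge'
    · have : B * B < A * B := Nat.mul_lt_mul_of_pos_right hlt (by nlinarith)
      omega
    · have : A = B := by omega
      subst this
      omega

theorem base {V : Type*} [Group V] [Finite V] (h2 : ∀ v : V, v * v = 1) (α β : V →* V)
    (ha : ∀ v, α (α v) = v) (hb : ∀ v, β (β v) = v) (h : ∀ v, α v = v → β v = v → v = 1) :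
    Nat.card {v : V // α v = v} * Nat.card {v : V // α v = v} = Nat.card V ∧
      Nat.card {v : V // α v = v⁻¹} = Nat.card {v : V // α v = v} := by
  have hinv : ∀ v : V, v⁻¹ = v := fun v => inv_eq_of_mul_eq_one_right (h2 v)
  have hcomm : ∀ a b : V, a * b = b * a := fun a b => by
    calc a * b = (a * b)⁻¹ := (hinv _).symm
      _ = _ := by rw [mul_inv_rev, hinv, hinv]
  have key : ∀ γ : V →* V, (∀ v, γ (γ v) = v) →
      Nat.card V ≤ Nat.card {v : V // γ v = v} * Nat.card {v : V // γ v = v} := by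
    intro γ hγ
    let φ : V →* V :=
      { toFun := fun v => v * γ v
        map_one' := by simp
        map_mul' := fun a b => by
          rw [map_mul]
          calc a * b * (γ a * γ b) = a * (b * γ a) * γ b := by group
            _ = a * (γ a * b) * γ b := by rw [hcomm b]
            _ = _ := by group }
    have h1 := φ.ker.card_mul_index
    rw [index_ker] at h1
    rw [← h1]
    refine Nat.mul_le_mul (le_of_eq ?_) ?_
    · refine Nat.card_congr (Equiv.subtypeEquivRight fun v => ?_)
      show v * γ v = 1 ↔ _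
      constructor
      · intro e
        rw [← inv_eq_of_mul_eq_one_right e, hinv]
      · intro e; rw [e, h2]
    · refine Nat.card_le_card_of_injective (fun v => ⟨v.1, ?_⟩) ?_
      · obtain ⟨w, hw⟩ := v.2
        rw [← hw]
        show γ (w * γ w) = w * γ w
        rw [map_mul, hγ, hcomm]
      · rintro ⟨a, _⟩ ⟨b, _⟩ e
        simpa using e
  refine ⟨sq_eq_of_le (prod_le α β h) (key α ha) (key β hb) Nat.card_pos, ?_⟩
  exact Nat.card_congr (Equiv.subtypeEquivRight fun v => by rw [hinv])

universe u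

theorem main_ind : ∀ n : ℕ, ∀ {O : Type u} [Group O] [Finite O], Nat.card O = n →
    IsPGroup 2 O → ∀ α β : O →* O, (∀ o, α (α o) = o) → (∀ o, β (β o) = o) →
    (∀ o, α (β o) = o → o = 1) →
    Nat.card {o : O // α o = o} * Nat.card {o : O // α o = o} = Nat.card O ∧
      Nat.card {o : O // α o = o⁻¹} ≤ Nat.card {o : O // α o = o} := by
  intro n
  induction n using Nat.strong_induction_on with
  | _ n ih =>
    intro O _ _ hn hO α β ha hb hf
    classical
    have hf' : ∀ o, β (α o) = o → o = 1 := fun o ho => hf o (by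
      have := hb (α o)
      rw [ho] at this
      rw [this, ha])
    rcases subsingleton_or_nontrivial O with hs | hs
    · refine ⟨?_, le_of_eq (Nat.card_congr (Equiv.subtypeEquivRight fun o =>
        ⟨fun _ => Subsingleton.elim _ _, fun _ => Subsingleton.elim _ _⟩))⟩
      · haveI : Nonempty {o : O // α o = o} := ⟨⟨1, map_one α⟩⟩
        simp [Nat.card_unique]
    let V : Subgroup O :=
      { carrier := {v | v ∈ center O ∧ v * v = 1}
        one_mem' := ⟨one_mem _, one_mul 1⟩
        mul_mem' := fun {a b} hx hy => ⟨mul_mem hx.1 hy.1, by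
          calc a * b * (a * b) = a * (b * a) * b := by group
            _ = a * a * (b * b) := by rw [mem_center_iff.1 hx.1 b]; group
            _ = 1 := by rw [hx.2, hy.2, mul_one]⟩
        inv_mem' := fun {a} hx => ⟨inv_mem hx.1, by rw [← mul_inv_rev, hx.2, inv_one]⟩ }
    haveI : V.Normal := ⟨fun v hv g => by
      rw [mem_center_iff.1 hv.1 g, mul_inv_cancel_right]; exact hv⟩
    have hVinv : ∀ γ : O →* O, (∀ o, γ (γ o) = o) → ∀ v ∈ V, γ v ∈ V := by
      intro γ hγ v hv
      refine ⟨mem_center_iff.2 fun g => ?_, by rw [← map_mul, hv.2, map_one]⟩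
      conv_lhs => rw [← hγ g, ← map_mul, mem_center_iff.1 hv.1 (γ g), map_mul, hγ g]
    let r : ∀ γ : O →* O, (∀ o, γ (γ o) = o) → (↥V →* ↥V) := fun γ hγ =>
      (γ.comp V.subtype).codRestrict V fun v => hVinv γ hγ v v.2
    have hVf : ∀ v : ↥V, r α ha (r β hb v) = v → v = 1 := fun v hv =>
      Subtype.ext (hf _ (congrArg Subtype.val hv))
    obtain ⟨hV1, hV2⟩ := base (fun v : ↥V => Subtype.ext v.2.2) (r α ha) (r β hb)
      (fun v => Subtype.ext (ha v)) (fun v => Subtype.ext (hb v))
      (fun v h1 h2 => hVf v (by rw [h2, h1]))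
    obtain ⟨hW1, -⟩ := base (fun v : ↥V => Subtype.ext v.2.2) (r β hb) (r α ha)
      (fun v => Subtype.ext (hb v)) (fun v => Subtype.ext (ha v))
      (fun v h1 h2 => hVf v (by rw [h1, h2]))
    have hVne : V ≠ ⊥ := by
      haveI := hO.center_nontrivial
      obtain ⟨c, hc⟩ := exists_ne (1 : center O)
      obtain ⟨k, hk⟩ := IsPGroup.iff_orderOf.1 hO (c : O)
      have hk0 : k ≠ 0 := by
        rintro rfl
        rw [pow_zero, orderOf_eq_one_iff] at hk
        exact hc (Subtype.ext hk)
      intro e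
      have h1 : (c : O) ^ 2 ^ (k - 1) ∈ V := by
        refine ⟨pow_mem c.2 _, ?_⟩
        rw [← pow_add, ← two_mul, ← pow_succ', Nat.sub_add_cancel (Nat.pos_of_ne_zero hk0), ← hk,
          pow_orderOf_eq_one]
      rw [e, mem_bot] at h1
      have h2 := Nat.le_of_dvd (pow_pos two_pos _) (orderOf_dvd_of_pow_eq_one h1)
      rw [hk] at h2
      have h3 : 2 ^ (k - 1) < 2 ^ k := Nat.pow_lt_pow_right one_lt_two (by omega)
      omega
    have hcard : Nat.card (O ⧸ V) < n := by
      have h1 := V.card_mul_index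
      have h2 : 1 < Nat.card V := (one_lt_card_iff_ne_bot (H := V)).2 hVne
      rw [index_eq_card] at h1
      have h3 : 0 < Nat.card (O ⧸ V) := Nat.card_pos
      nlinarith
    let qm : ∀ γ : O →* O, (∀ o, γ (γ o) = o) → (O ⧸ V →* O ⧸ V) := fun γ hγ =>
      QuotientGroup.map V V γ fun v hv => hVinv γ hγ v hv
    have hqf : ∀ z, qm α ha (qm β hb z) = z → z = 1 := by
      intro z hz
      obtain ⟨o, rfl⟩ := QuotientGroup.mk_surjective z
      have hu : o⁻¹ * α (β o) ∈ V := QuotientGroup.eq.1 hz.symm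
      have hsurj : Function.Surjective fun v : ↥V => v * (r α ha (r β hb v))⁻¹ := by
        refine Finite.surjective_of_injective fun v w hvw => ?_
        have hc : ∀ a b : ↥V, a * b = b * a := fun a b => Subtype.ext (mem_center_iff.1 b.2.1 a)
        have h2 : (v * w⁻¹) * (r α ha (r β hb (v * w⁻¹)))⁻¹ = 1 := by
          simp only [map_mul, map_inv, mul_inv_rev, inv_inv]
          change v * (r α ha (r β hb v))⁻¹ = w * (r α ha (r β hb w))⁻¹ at hvw
          rw [hc (r α ha (r β hb w)) _, ← mul_assoc, mul_assoc v, hc w⁻¹ _, ← mul_assoc, hvw,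
            hc w (r α ha (r β hb w))⁻¹]
          group
        exact eq_of_mul_inv_eq_one (hVf _ (mul_inv_eq_one.1 h2).symm)
      obtain ⟨v, hv⟩ := hsurj ⟨_, hu⟩
      have hv' : (v : O) * (α (β v))⁻¹ = o⁻¹ * α (β o) := congrArg Subtype.val hv
      have hfix : α (β (o * v)) = o * v := by
        rw [map_mul, map_mul]
        have h3 : α (β o) = o * ((v : O) * (α (β v))⁻¹) := by rw [hv']; group
        rw [h3]; group
      have h4 := hf _ hfix
      rw [QuotientGroup.eq_one_iff, eq_inv_of_mul_eq_one_left h4]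
      exact inv_mem v.2
    have hqf' : ∀ z, qm β hb (qm α ha z) = z → z = 1 := fun z hz => by
      refine hqf z ?_
      have hbb : ∀ z, qm β hb (qm β hb z) = z := fun z => by
        obtain ⟨o, rfl⟩ := QuotientGroup.mk_surjective z
        exact congrArg QuotientGroup.mk (hb o)
      have haa : ∀ z, qm α ha (qm α ha z) = z := fun z => by
        obtain ⟨o, rfl⟩ := QuotientGroup.mk_surjective z
        exact congrArg QuotientGroup.mk (ha o)
      have := hbb (qm α ha z)
      rw [hz] at this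
      rw [this, haa]
    have hfixle : ∀ (γ : O →* O) (hγ : ∀ o, γ (γ o) = o),
        Nat.card {v : ↥V // r γ hγ v = v} * Nat.card {v : ↥V // r γ hγ v = v} = Nat.card V →
        Nat.card {z : O ⧸ V // qm γ hγ z = z} * Nat.card {z : O ⧸ V // qm γ hγ z = z} =
          Nat.card (O ⧸ V) →
        Nat.card O ≤ Nat.card {o : O // γ o = o} * Nat.card {o : O // γ o = o} := by
      intro γ hγ hv hq
      have hlift : ∀ z : {z : O ⧸ V // qm γ hγ z = z}, ∃ o : O, γ o = o ∧ (o : O ⧸ V) = z.1 := by
        rintro ⟨z, hz⟩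
        obtain ⟨o, rfl⟩ := QuotientGroup.mk_surjective z
        have hu : o⁻¹ * γ o ∈ V := QuotientGroup.eq.1 hz.symm
        -- `u = w (γ w)` for some `w ∈ V`
        let φ : ↥V →* ↥V :=
          { toFun := fun v => v * r γ hγ v
            map_one' := by simp
            map_mul' := fun a b => by
              rw [map_mul]
              have hc : b * r γ hγ a = r γ hγ a * b :=
                Subtype.ext (mem_center_iff.1 (r γ hγ a).2.1 (b : O))
              calc a * b * (r γ hγ a * r γ hγ b) = a * (b * r γ hγ a) * r γ hγ b := by group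
                _ = _ := by rw [hc]; group }
        have hker : Nat.card φ.ker = Nat.card {v : ↥V // r γ hγ v = v} := by
          refine Nat.card_congr (Equiv.subtypeEquivRight fun v => ?_)
          show v * r γ hγ v = 1 ↔ _
          have h2 : v * v = 1 := Subtype.ext v.2.2
          constructor
          · intro e; exact mul_left_cancel (e.trans h2.symm)
          · intro e; rw [e, h2]
        have hle : φ.range ≤ MonoidHom.eqLocus (r γ hγ) (MonoidHom.id _) := by
          rintro _ ⟨w, rfl⟩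
          show r γ hγ (w * r γ hγ w) = w * r γ hγ w
          rw [map_mul, show r γ hγ (r γ hγ w) = w from Subtype.ext (hγ _)]
          exact Subtype.ext (mem_center_iff.1 w.2.1 _)
        have heq : φ.range = MonoidHom.eqLocus (r γ hγ) (MonoidHom.id _) := by
          refine eq_of_le_of_card_ge hle (le_of_eq ?_)
          have h1 := φ.ker.card_mul_index
          rw [index_ker, hker, ← hv] at h1
          exact (Nat.eq_of_mul_eq_mul_left (Nat.card_pos_iff.2 ⟨⟨⟨1, map_one _⟩⟩, inferInstance⟩)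
            h1).symm
        have hu2 : (⟨_, hu⟩ : ↥V) ∈ MonoidHom.eqLocus (r γ hγ) (MonoidHom.id _) := by
          refine Subtype.ext ?_
          show γ (o⁻¹ * γ o) = o⁻¹ * γ o
          have h2 := hu.2
          rw [map_mul, map_inv, hγ]
          calc (γ o)⁻¹ * o = (o⁻¹ * γ o)⁻¹ := by group
            _ = _ := inv_eq_of_mul_eq_one_right h2
        obtain ⟨w, hw⟩ := heq.ge hu2
        have hw' : (w : O) * γ w = o⁻¹ * γ o := congrArg Subtype.val hw
        refine ⟨o * w, ?_, (QuotientGroup.mk_mul_of_mem o w.2)⟩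
        have hc : (w : O) * γ w = γ w * w := (mem_center_iff.1 w.2.1 _).symm
        rw [map_mul, show γ o = o * (o⁻¹ * γ o) by group, ← hw', mul_assoc, mul_assoc,
          show γ (w : O) * γ w = 1 by rw [← map_mul, w.2.2, map_one], mul_one]
      choose s hs hs' using hlift
      have hinj : Nat.card {z : O ⧸ V // qm γ hγ z = z} * Nat.card {v : ↥V // r γ hγ v = v} ≤
          Nat.card {o : O // γ o = o} := by
        rw [← Nat.card_prod]
        refine Nat.card_le_card_of_injective (fun x => ⟨s x.1 * x.2.1.1, by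
          rw [map_mul, hs]; exact congrArg _ (congrArg Subtype.val x.2.2)⟩) ?_
        rintro ⟨z, v⟩ ⟨z', v'⟩ e
        have e' : s z * (v.1.1 : O) = s z' * v'.1.1 := congrArg Subtype.val e
        have e1 : z = z' := by
          have := congrArg (fun o : O => (o : O ⧸ V)) e'
          simp only [QuotientGroup.mk_mul_of_mem _ v.1.2, QuotientGroup.mk_mul_of_mem _ v'.1.2,
            hs'] at this
          exact Subtype.ext this
        subst e1
        simp only [Prod.mk.injEq, true_and]
        exact Subtype.ext (Subtype.ext (mul_left_cancel e'))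
      calc Nat.card O = Nat.card V * Nat.card (O ⧸ V) := by
            rw [← V.card_mul_index, index_eq_card]
        _ ≤ _ := by
          rw [← hv, ← hq]
          have := Nat.mul_le_mul hinj hinj
          nlinarith
    have hQP : IsPGroup 2 (O ⧸ V) := hO.to_quotient V
    have hqa : ∀ z, qm α ha (qm α ha z) = z := fun z => by
      obtain ⟨o, rfl⟩ := QuotientGroup.mk_surjective z
      exact congrArg QuotientGroup.mk (ha o)
    have hqb : ∀ z, qm β hb (qm β hb z) = z := fun z => by
      obtain ⟨o, rfl⟩ := QuotientGroup.mk_surjective z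
      exact congrArg QuotientGroup.mk (hb o)
    obtain ⟨hQ1, hQ2⟩ := ih _ hcard rfl hQP (qm α ha) (qm β hb) hqa hqb hqf
    obtain ⟨hQ3, -⟩ := ih _ hcard rfl hQP (qm β hb) (qm α ha) hqb hqa hqf'
    have hA := hfixle α ha hV1 hQ1
    have hB := hfixle β hb hW1 hQ3
    have hsq := sq_eq_of_le (prod_le α β fun o h1 h2 => hf o (by rw [h2, h1])) hA hB Nat.card_pos
    refine ⟨hsq, ?_⟩
    have hI : Nat.card {o : O // α o = o⁻¹} ≤
        Nat.card {z : O ⧸ V // qm α ha z = z⁻¹} * Nat.card {v : ↥V // r α ha v = v⁻¹} := by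
      rw [← Nat.card_prod]
      let s : O ⧸ V → O := fun z =>
        if h : ∃ o : O, α o = o⁻¹ ∧ (o : O ⧸ V) = z then h.choose else 1
      have hs : ∀ o : {o : O // α o = o⁻¹}, α (s (o.1 : O ⧸ V)) = (s (o.1 : O ⧸ V))⁻¹ ∧
          (s (o.1 : O ⧸ V) : O ⧸ V) = (o.1 : O ⧸ V) := fun o => by
        have h : ∃ o' : O, α o' = o'⁻¹ ∧ (o' : O ⧸ V) = o.1 := ⟨o.1, o.2, rfl⟩
        simp only [s, dif_pos h]
        exact h.choose_spec
      refine Nat.card_le_card_of_injective (fun o => (⟨(o.1 : O ⧸ V), by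
          show ((α o.1 : O) : O ⧸ V) = _
          rw [o.2]; rfl⟩,
        ⟨⟨(s (o.1 : O ⧸ V))⁻¹ * o.1, QuotientGroup.eq.1 (hs o).2⟩, Subtype.ext (by
          show α ((s (o.1 : O ⧸ V))⁻¹ * o.1) = ((s (o.1 : O ⧸ V))⁻¹ * o.1)⁻¹
          have hw := mem_center_iff.1 (QuotientGroup.eq.1 (hs o).2).1
          set s0 := s (o.1 : O ⧸ V)
          rw [map_mul, map_inv, (hs o).1, o.2, inv_inv]
          calc s0 * o.1⁻¹ = s0 * (s0 * (s0⁻¹ * o.1))⁻¹ := by group
            _ = s0 * ((s0⁻¹ * o.1) * s0)⁻¹ := by rw [hw s0]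
            _ = _ := by group)⟩)) ?_
      intro o o' e
      simp only [Prod.mk.injEq, Subtype.mk.injEq] at e
      rw [e.1] at e
      exact Subtype.ext (mul_left_cancel e.2)
    rw [hV2] at hI
    have h1 : Nat.card {o : O // α o = o⁻¹} * Nat.card {o : O // α o = o⁻¹} ≤
        Nat.card {o : O // α o = o} * Nat.card {o : O // α o = o} := by
      have h2 := Nat.mul_le_mul hI hI
      have h3 := Nat.mul_le_mul hQ2 (le_refl (Nat.card {v : ↥V // r α ha v = v}))
      have h4 : Nat.card O = Nat.card V * Nat.card (O ⧸ V) := by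
        rw [← V.card_mul_index, index_eq_card]
      rw [hsq, h4, ← hV1, ← hQ1]
      nlinarith
    exact Nat.mul_self_le_mul_self_iff.1 h1

namespace Cfsg.Agent.S2873

/-- Let G be a finite group and r an odd prime such that G ⧸ O₂(G) is dihedral of order 2r, and let R be a Sylow r-subgroup of G with C_{O₂(G)}(R) = 1. Then N_G(R) is dihedral of order 2r; for any involution a of N_G(R), every involution of G outside O₂(G) is conjugate to a; and |C_{O₂(G)}(a)|² = |O₂(G)|. -/
theorem result {G : Type*} [Group G] [Finite G] {r : ℕ} [Fact r.Prime] (hr : r ≠ 2) [hN : (Cfsg.pCore 2 G).Normal] (hquot : Nonempty (G ⧸ Cfsg.pCore 2 G ≃* DihedralGroup r)) (R : Sylow r G) (hC : Cfsg.pCore 2 G ⊓ Subgroup.centralizer ((R : Subgroup G) : Set G) = ⊥) : Nonempty (↥(Subgroup.normalizer ((R : Subgroup G) : Set G)) ≃* DihedralGroup r) ∧ ∀ a : G, a ∈ Subgroup.normalizer ((R : Subgroup G) : Set G) → orderOf a = 2 → (∀ b : G, orderOf b = 2 → b ∉ Cfsg.pCore 2 G → ∃ g : G, g * a * g⁻¹ = b) ∧ Nat.card ↥(Cfsg.pCore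 2 G ⊓ Subgroup.centralizer ({a} : Set G)) ^ 2 = Nat.card ↥(Cfsg.pCore 2 G) := by
  set O := Cfsg.pCore 2 G with hOdef
  set q := QuotientGroup.mk' O
  obtain ⟨e⟩ := hquot
  have hr' : r.Prime := Fact.out
  have hq2r : Nat.card (G ⧸ O) = 2 * r := by rw [Nat.card_congr e.toEquiv, DihedralGroup.nat_card]
  have hOp : IsPGroup 2 O := Cfsg.Agent.Cores.pCore_isPGroup
  have hcop : Nat.Coprime 2 r := (Nat.coprime_primes Nat.prime_two hr').2 (Ne.symm hr)
  haveI : Fact (Nat.Prime 2) := ⟨Nat.prime_two⟩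
  have hRO : (R : Subgroup G) ⊓ O = ⊥ := by
    refine disjoint_iff.1 (disjoint_of_coprime_natCard ?_)
    obtain ⟨a, ha⟩ := IsPGroup.iff_card.1 R.2
    obtain ⟨b, hb⟩ := IsPGroup.iff_card.1 hOp
    rw [ha, hb]
    exact Nat.Coprime.pow _ _ hcop.symm
  set Rb := (R : Subgroup G).map q with hRb
  have hRbcard : Nat.card Rb = r := by
    obtain ⟨a, ha⟩ := IsPGroup.iff_card.1 (R.2.map q)
    have h1 := Rb.card_mul_index
    rw [hq2r] at h1
    have h2 : ¬ r ∣ Rb.index := fun h => R.not_dvd_index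
      (h.trans (Subgroup.index_map_dvd _ (QuotientGroup.mk'_surjective O)))
    have h3 : r ∣ Nat.card Rb := (hr'.dvd_mul.1 (h1 ▸ dvd_mul_left r 2)).resolve_right h2
    have h4 : Nat.card Rb ∣ r := by
      refine Nat.Coprime.dvd_of_dvd_mul_left ?_ (h1 ▸ dvd_mul_right _ _)
      rw [ha]; exact Nat.Coprime.pow_left _ hcop.symm
    exact Nat.dvd_antisymm h4 h3
  haveI hRbn : Rb.Normal := Subgroup.normal_of_index_eq_two (by
    have h1 := Rb.card_mul_index
    rw [hRbcard, hq2r, mul_comm 2 r] at h1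
    exact Nat.eq_of_mul_eq_mul_left hr'.pos h1)
  set N := normalizer ((R : Subgroup G) : Set G)
  have hNO : ∀ x ∈ N, x ∈ O → x = 1 := by
    intro x hxN hxO
    have h1 : x ∈ O ⊓ centralizer ((R : Subgroup G) : Set G) := by
      refine ⟨hxO, fun y hy => ?_⟩
      have h2 : x * y * x⁻¹ * y⁻¹ ∈ (R : Subgroup G) ⊓ O := by
        refine ⟨mul_mem ((mem_normalizer_iff.1 hxN y).1 hy) ((R : Subgroup G).inv_mem hy), ?_⟩
        have : x * (y * x⁻¹ * y⁻¹) ∈ O := mul_mem hxO (hN.conj_mem _ (O.inv_mem hxO) y)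
        simpa [mul_assoc] using this
      rw [hRO, mem_bot, mul_inv_eq_one, mul_inv_eq_iff_eq_mul] at h2
      exact h2.symm
    rwa [hC, mem_bot] at h1
  have hNs : ∀ z : G ⧸ O, ∃ x ∈ N, q x = z := by
    intro z
    obtain ⟨g, rfl⟩ := QuotientGroup.mk'_surjective O z
    have hsup : (R : Subgroup G) ⊔ O = Rb.comap q := by
      rw [hRb, comap_map_eq, QuotientGroup.ker_mk']
    haveI : ((R : Subgroup G) ⊔ O).Normal := hsup ▸ hRbn.comap q
    have hidx : ¬ r ∣ (R : Subgroup G).relIndex ((R : Subgroup G) ⊔ O) := fun h =>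
      R.not_dvd_index (h.trans (relIndex_dvd_index_of_le le_sup_left))
    have hidx' : ¬ r ∣ (Cfsg.Agent.Fusion.cj g (R : Subgroup G)).relIndex ((R : Subgroup G) ⊔ O) :=
      fun h => (g • R : Sylow r G).not_dvd_index (h.trans (relIndex_dvd_index_of_le
        (((Cfsg.Agent.Fusion.cj_mono g le_sup_left)).trans (Cfsg.Agent.Fusion.cj_eq_of_mem (by
          rw [normalizer_eq_top]; exact mem_top g)).le)))
    obtain ⟨y, hy, hye⟩ := Cfsg.Agent.Fusion.exists_conj_of_relIndex (R.2.map _) R.2
      ((Cfsg.Agent.Fusion.cj_mono g le_sup_left).trans (Cfsg.Agent.Fusion.cj_eq_of_mem (by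
        rw [normalizer_eq_top]; exact mem_top g)).le) le_sup_left hidx' hidx
    rw [← SetLike.mem_coe, mul_normal] at hy
    obtain ⟨a, ha, c, hc, rfl⟩ := hy
    have h1 : Cfsg.Agent.Fusion.cj (a * c * g) (R : Subgroup G) = R := by
      rw [← Cfsg.Agent.Fusion.cj_cj]; exact hye
    refine ⟨c * g, ?_, ?_⟩
    · have h2 : a * c * g ∈ N := Cfsg.Agent.Fusion.cj_eq_iff_mem_normalizer.1 h1
      have h3 : a⁻¹ * (a * c * g) ∈ N := N.mul_mem (N.inv_mem (le_normalizer ha)) h2
      rwa [show a⁻¹ * (a * c * g) = c * g by group] at h3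
    · rw [map_mul, show q c = 1 from (QuotientGroup.eq_one_iff c).2 hc, one_mul]
  let f : ↥N →* G ⧸ O := q.comp N.subtype
  have hfinj : Function.Injective f := by
    rw [injective_iff_map_eq_one]
    intro x hx
    exact Subtype.ext (hNO x x.2 ((QuotientGroup.eq_one_iff (x : G)).1 hx))
  have hfsurj : Function.Surjective f := fun z => by
    obtain ⟨x, hx, rfl⟩ := hNs z
    exact ⟨⟨x, hx⟩, rfl⟩
  refine ⟨⟨(MulEquiv.ofBijective f ⟨hfinj, hfsurj⟩).trans e⟩, fun a haN ha2 => ?_⟩
  have haO : a ∉ O := fun h => by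
    rw [hNO a haN h, orderOf_one] at ha2
    omega
  have haa : a * a = 1 := by rw [← sq, ← ha2, pow_orderOf_eq_one]
  obtain ⟨x, hx, hxo⟩ : ∃ x ∈ (R : Subgroup G), q x ≠ 1 := by
    by_contra h
    push Not at h
    have : Rb = ⊥ := eq_bot_iff.2 (by rintro _ ⟨y, hy, rfl⟩; exact mem_bot.2 (h y hy))
    rw [this, card_bot] at hRbcard
    exact hr'.ne_one hRbcard.symm
  have hx1 : x ≠ 1 := fun h => hxo (by rw [h, map_one])
  have hgen : zpowers x = (R : Subgroup G) := by
    have hcardR : Nat.card (R : Subgroup G) = r := by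
      refine Eq.trans ?_ hRbcard
      refine (Nat.card_congr (Equiv.ofBijective (q.subgroupMap (R : Subgroup G))
        ⟨?_, MonoidHom.subgroupMap_surjective _ _⟩))
      rw [injective_iff_map_eq_one]
      intro y hy
      have h1 : (y : G) ∈ (R : Subgroup G) ⊓ O :=
        ⟨y.2, (QuotientGroup.eq_one_iff (y : G)).1 (congrArg Subtype.val hy)⟩
      rw [hRO, mem_bot] at h1
      exact Subtype.ext h1
    refine eq_of_le_of_card_ge (zpowers_le.2 hx) ?_
    rw [hcardR, Nat.card_zpowers]
    have h2 := orderOf_dvd_natCard (R : Subgroup G) hx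
    rw [hcardR] at h2
    rcases (Nat.dvd_prime hr').1 h2 with h3 | h3
    · exact absurd (orderOf_eq_one_iff.1 h3) hx1
    · exact h3.ge
  -- `a` inverts `x`
  have hinv : a * x * a = x⁻¹ := by
    have hxN : x ∈ N := le_normalizer hx
    set f' := (MulEquiv.ofBijective f ⟨hfinj, hfsurj⟩).trans e
    set A : ↥N := ⟨a, haN⟩
    set X : ↥N := ⟨x, hxN⟩
    have key : ∀ u v : DihedralGroup r, u * u = 1 → u ≠ 1 → v ^ r = 1 → v ≠ 1 →
        u * v * u = v⁻¹ := by
      intro u v hu hu1 hv hv1
      cases v with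
      | sr j =>
        exfalso
        have h1 := orderOf_dvd_of_pow_eq_one hv
        rw [DihedralGroup.orderOf_sr] at h1
        exact hr ((Nat.prime_dvd_prime_iff_eq Nat.prime_two hr').1 h1).symm
      | r j =>
        cases u with
        | r i =>
          exfalso
          have h1 : orderOf (DihedralGroup.r i) ∣ 2 :=
            orderOf_dvd_of_pow_eq_one (by rw [sq]; exact hu)
          have h2 : (DihedralGroup.r i : DihedralGroup r) ^ r = 1 := by
            rw [DihedralGroup.r_pow]
            simp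
          have h3 := Nat.dvd_gcd h1 (orderOf_dvd_of_pow_eq_one h2)
          rw [hcop, Nat.dvd_one, orderOf_eq_one_iff] at h3
          exact hu1 h3
        | sr i => simp
    have hA2 : A * A = 1 := Subtype.ext haa
    have h1 := key (f' A) (f' X) (by rw [← map_mul, hA2, map_one]) (by
        rw [Ne, map_eq_one_iff _ f'.injective]
        exact fun h => haO (by rw [show a = 1 from congrArg Subtype.val h]; exact one_mem O))
      (by rw [← map_pow, map_eq_one_iff _ f'.injective]
          refine Subtype.ext ?_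
          show x ^ r = 1
          have := Nat.card_zpowers x
          have h5 : zpowers x ≤ (R : Subgroup G) := hgen.le
          have h6 : orderOf (q x) ∣ r := hRbcard ▸ orderOf_dvd_natCard Rb ⟨x, hx, rfl⟩
          have h7 : (q x) ^ r = 1 := orderOf_dvd_iff_pow_eq_one.1 h6
          rw [← map_pow] at h7
          exact hNO _ (pow_mem hxN r) ((QuotientGroup.eq_one_iff _).1 h7))
      (by rw [Ne, map_eq_one_iff _ f'.injective]
          exact fun h => hx1 (congrArg Subtype.val h))
    rw [← map_mul, ← map_mul, ← map_inv] at h1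
    exact congrArg Subtype.val (f'.injective h1)
  set b := a * x with hbdef
  have hbb : b * b = 1 := by
    rw [hbdef, show a * x * (a * x) = (a * x * a) * x by group, hinv, inv_mul_cancel]
  let α : ↥O →* ↥O := (MulAut.conjNormal a).toMonoidHom
  let β : ↥O →* ↥O := (MulAut.conjNormal b).toMonoidHom
  have hinvol : ∀ c : G, c * c = 1 → ∀ o : ↥O, MulAut.conjNormal c (MulAut.conjNormal c o) = o := by
    intro c hc o
    rw [← MulAut.mul_apply, ← map_mul, hc, map_one, MulAut.one_apply]
  have hfree : ∀ o : ↥O, α (β o) = o → o = 1 := by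
    intro o ho
    have h1 : a * ((a * x) * (o : G) * (a * x)⁻¹) * a⁻¹ = o := congrArg Subtype.val ho
    have h2 : x * (o : G) * x⁻¹ = o := by
      calc x * (o : G) * x⁻¹ = (a * a) * (x * (o : G) * x⁻¹) * (a * a)⁻¹ := by
            rw [haa]; group
        _ = _ := by conv_rhs => rw [← h1]
                    group
    have h3 : (o : G) ∈ O ⊓ centralizer ((R : Subgroup G) : Set G) := by
      refine ⟨o.2, fun y hy => ?_⟩
      rw [← hgen] at hy
      obtain ⟨k, rfl⟩ := hy
      have hc : Commute (o : G) x := (mul_inv_eq_iff_eq_mul.1 h2).symm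
      exact (hc.zpow_right k).eq.symm
    rw [hC, mem_bot] at h3
    exact Subtype.ext h3
  obtain ⟨hsq, hI⟩ := main_ind _ rfl hOp α β (hinvol a haa) (hinvol b hbb) hfree
  have hCcard : Nat.card ↥(O ⊓ centralizer ({a} : Set G)) = Nat.card {o : ↥O // α o = o} := by
    refine Nat.card_congr
      { toFun := fun z => ⟨⟨z.1, z.2.1⟩, Subtype.ext ?_⟩
        invFun := fun o => ⟨o.1.1, o.1.2, mem_centralizer_singleton_iff.2 ?_⟩
        left_inv := fun z => rfl
        right_inv := fun o => rfl }
    · have h := mem_centralizer_singleton_iff.1 z.2.2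
      show a * (z : G) * a⁻¹ = z
      rw [← h]; group
    · have h : a * (o.1 : G) * a⁻¹ = o.1 := congrArg Subtype.val o.2
      conv_lhs => rw [← h]
      group
  refine ⟨fun c hc hcO => ?_, by rw [hCcard, sq]; exact hsq⟩
  -- conjugate `c` into `a O`
  obtain ⟨g0, hg0⟩ : ∃ g0 : G, q (g0 * a * g0⁻¹) = q c := by
    have h2 : ∀ d : G, d * d = 1 → d ∉ O → IsPGroup 2 (zpowers (q d)) ∧ orderOf (q d) = 2 := by
      intro d hd hdO
      have h3 : orderOf (q d) = 2 :=
        orderOf_eq_prime (by rw [sq, ← map_mul, hd, map_one])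
          (fun h => hdO ((QuotientGroup.eq_one_iff d).1 h))
      exact ⟨IsPGroup.of_card (n := 1) (by rw [Nat.card_zpowers, h3, pow_one]), h3⟩
    have hcc : c * c = 1 := by rw [← sq, ← hc, pow_orderOf_eq_one]
    obtain ⟨ha1, ha2'⟩ := h2 a haa haO
    obtain ⟨hc1, hc2'⟩ := h2 c hcc hcO
    have hidx : ∀ z : G ⧸ O, orderOf z = 2 → ¬ 2 ∣ (zpowers z).relIndex ⊤ := by
      intro z hz
      rw [relIndex_top_right]
      have h4 := (zpowers z).card_mul_index
      rw [Nat.card_zpowers, hz, hq2r] at h4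
      rw [Nat.eq_of_mul_eq_mul_left two_pos h4]
      exact fun h => hr ((Nat.prime_dvd_prime_iff_eq Nat.prime_two hr').1 h).symm
    obtain ⟨y, -, hy⟩ := Cfsg.Agent.Fusion.exists_conj_of_relIndex ha1 hc1 le_top le_top
      (hidx _ ha2') (hidx _ hc2')
    obtain ⟨g, rfl⟩ := QuotientGroup.mk'_surjective O y
    refine ⟨g, ?_⟩
    have h5 : q (g * a * g⁻¹) ∈ zpowers (q c) := by
      rw [← hy]
      exact ⟨q a, mem_zpowers _, by simp [q]⟩
    obtain ⟨k, hk⟩ := h5
    rcases Int.emod_two_eq_zero_or_one k with hk2 | hk2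
    · exfalso
      have h6 : (q c) ^ k = 1 := by
        rw [← orderOf_dvd_iff_zpow_eq_one, hc2']
        exact Int.dvd_of_emod_eq_zero hk2
      have hk' : (q c) ^ k = q (g * a * g⁻¹) := hk
      rw [h6] at hk'
      have h7 : g * a * g⁻¹ ∈ O := (QuotientGroup.eq_one_iff _).1 hk'.symm
      exact haO (by simpa [mul_assoc] using hN.conj_mem _ h7 g⁻¹)
    · have hk' : (q c) ^ k = q (g * a * g⁻¹) := hk
      have h8 : (q c) ^ k = q c := by
        conv_lhs => rw [← Int.emod_add_ediv_mul k 2]
        rw [hk2, zpow_add, zpow_one, mul_comm _ (2 : ℤ), zpow_mul, zpow_two, ← map_mul, hcc, map_one,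
          one_zpow, mul_one]
      exact (hk'.symm.trans h8)
  set c' := g0⁻¹ * c * g0 with hc'
  have hv : a * c' ∈ O := by
    rw [← QuotientGroup.eq_one_iff]
    show q (a * c') = 1
    rw [map_mul, hc', map_mul, map_mul, ← hg0, map_mul, map_mul, map_inv]
    calc q a * ((q g0)⁻¹ * (q g0 * q a * (q g0)⁻¹) * q g0) = q a * q a := by group
      _ = 1 := by rw [← map_mul, haa, map_one]
  have hcc : c' * c' = 1 := by
    rw [hc', show g0⁻¹ * c * g0 * (g0⁻¹ * c * g0) = g0⁻¹ * (c * c) * g0 by group, ← sq, ← hc,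
      pow_orderOf_eq_one]
    group
  set v : ↥O := ⟨a * c', hv⟩
  have hvI : α v = v⁻¹ := by
    refine Subtype.ext ?_
    show a * (a * c') * a⁻¹ = (a * c')⁻¹
    rw [mul_inv_rev, inv_eq_of_mul_eq_one_right hcc, ← mul_assoc a a, haa, one_mul]
  -- `u ↦ α(u⁻¹) u` covers all inverted elements
  have hsurj : ∃ u : ↥O, (α u)⁻¹ * u = v := by
    classical
    haveI := Fintype.ofFinite ↥O
    set I : Finset ↥O := Finset.univ.filter fun o => α o = o⁻¹
    set T : Finset ↥O := Finset.univ.image fun u => (α u)⁻¹ * u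
    have hTI : T ⊆ I := by
      intro t ht
      obtain ⟨u, -, rfl⟩ := Finset.mem_image.1 ht
      refine Finset.mem_filter.2 ⟨Finset.mem_univ _, ?_⟩
      have haa' : α (α u) = u := hinvol a haa u
      rw [map_mul, map_inv, haa']
      group
    have hfib : ∀ t ∈ T, (Finset.univ.filter fun u => (α u)⁻¹ * u = t).card ≤
        Nat.card {o : ↥O // α o = o} := by
      intro t ht
      obtain ⟨u₀, -, rfl⟩ := Finset.mem_image.1 ht
      rw [← Nat.card_eq_finsetCard]
      refine Nat.card_le_card_of_injective (fun u => ⟨u.1 * u₀⁻¹, ?_⟩) ?_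
      · have h := (Finset.mem_filter.1 u.2).2
        rw [map_mul, map_inv]
        calc α u.1 * (α u₀)⁻¹ = α u.1 * ((α u₀)⁻¹ * u₀) * u₀⁻¹ := by group
          _ = α u.1 * ((α u.1)⁻¹ * u.1) * u₀⁻¹ := by rw [h]
          _ = _ := by group
      · intro u w huw
        exact Subtype.ext (mul_right_cancel (congrArg Subtype.val huw))
    have hcardO := Finset.card_le_mul_card_image Finset.univ _ hfib
    rw [Finset.card_univ, ← Nat.card_eq_fintype_card, ← hsq] at hcardO
    have hpos : 0 < Nat.card {o : ↥O // α o = o} :=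
      Nat.card_pos_iff.2 ⟨⟨⟨1, map_one α⟩⟩, inferInstance⟩
    have hI' : I.card ≤ T.card := by
      have e1 : I.card = Nat.card {o : ↥O // α o = o⁻¹} := by
        rw [Nat.card_eq_fintype_card, Fintype.card_subtype]
      rw [e1]
      exact hI.trans (Nat.le_of_mul_le_mul_left hcardO hpos)
    have hTeq := Finset.eq_of_subset_of_card_le hTI hI'
    have hvT : v ∈ T := hTeq ▸ Finset.mem_filter.2 ⟨Finset.mem_univ _, hvI⟩
    obtain ⟨u, -, hu⟩ := Finset.mem_image.1 hvT
    exact ⟨u, hu⟩
  obtain ⟨u, hu⟩ := hsurj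
  refine ⟨g0 * (u : G)⁻¹, ?_⟩
  have hu' : (a * (u : G) * a⁻¹)⁻¹ * u = a * c' := congrArg Subtype.val hu
  calc g0 * (u : G)⁻¹ * a * (g0 * (u : G)⁻¹)⁻¹
      = g0 * (u : G)⁻¹ * a⁻¹ * (g0 * (u : G)⁻¹)⁻¹ := by rw [inv_eq_of_mul_eq_one_right haa]
    _ = g0 * (a⁻¹ * ((a * (u : G) * a⁻¹)⁻¹ * u)) * g0⁻¹ := by group
    _ = c := by rw [hu', hc']; group

end Cfsg.Agent.S2873
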