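import Cfsg.Statements.S2874
import Mathlib.Tactic.LinearCombination
import Mathlib.Tactic.NoncommRing
import Mathlib.Data.ZMod.Units

-- import your own Cfsg.Agent.* helpers here

set_option autoImplicit false
open Cfsg
set_option linter.unusedVariables false
set_option linter.style.haveILetI false
open Matrix

def C0 {R : Type*} [CommRing R] : Matrix (Fin 2) (Fin 2) R := !![0, -1; 1, -1]

/-- `(p + qω) + (r + sω)σ`. -/
def mk {R : Type*} [CommRing R] (p q r s : R) : Matrix (Fin 2) (Fin 2) R :=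
  !![p + r, -q - r + s; q + s, p - q - r]

theorem mk_mul {R : Type*} [CommRing R] (p q r s p' q' r' s' : R) :
    mk p q r s * mk p' q' r' s' = mk (p * p' - q * q' + (r * (r' - s') + s * s'))
      (p * q' + q * p' - q * q' + (r * (-s') + s * (r' - s') - s * (-s')))
      (p * r' - q * s' + (r * (p' - q') + s * q'))
      (p * s' + q * r' - q * s' + (r * (-q') + s * (p' - q') - s * (-q'))) := by
  ext i j
  fin_cases i <;> fin_cases j <;> simp [mk, Matrix.mul_apply, Fin.sum_univ_two] <;> ring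

theorem mk_one {R : Type*} [CommRing R] : mk (1 : R) 0 0 0 = 1 := by
  ext i j
  fin_cases i <;> fin_cases j <;> simp [mk]

theorem C0_eq {R : Type*} [CommRing R] : (C0 : Matrix (Fin 2) (Fin 2) R) = mk 0 1 0 0 := by
  ext i j
  fin_cases i <;> fin_cases j <;> simp [mk, C0]

theorem mk_inj {R : Type*} [CommRing R] {u : R} (hu : u * 3 = 1) {p q r s p' q' r' s' : R}
    (h : mk p q r s = mk p' q' r' s') : p = p' ∧ q = q' ∧ r = r' ∧ s = s' := by
  have h00 := congrFun (congrFun h 0) 0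
  have h01 := congrFun (congrFun h 0) 1
  have h10 := congrFun (congrFun h 1) 0
  have h11 := congrFun (congrFun h 1) 1
  simp [mk] at h00 h01 h10 h11
  -- `2r + q` and `2q + r`
  have hq : q = q' := by
    linear_combination 2 * u * (h10 - h01) - u * (h00 - h11) - (q - q') * hu
  have hr : r = r' := by
    linear_combination 2 * u * (h00 - h11) - u * (h10 - h01) - (r - r') * hu
  exact ⟨by linear_combination h00 - hr, hq, hr, by linear_combination h10 - hq⟩

theorem exists_mk {R : Type*} [CommRing R] {u : R} (hu : u * 3 = 1)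
    (M : Matrix (Fin 2) (Fin 2) R) : ∃ p q r s : R, M = mk p q r s := by
  refine ⟨M 0 0 - u * (2 * (M 0 0 - M 1 1) - (M 1 0 - M 0 1)),
    u * (2 * (M 1 0 - M 0 1) - (M 0 0 - M 1 1)), u * (2 * (M 0 0 - M 1 1) - (M 1 0 - M 0 1)),
    M 1 0 - u * (2 * (M 1 0 - M 0 1) - (M 0 0 - M 1 1)), ?_⟩
  ext i j
  fin_cases i <;> fin_cases j <;> simp [mk]
  · linear_combination -(M 0 1 - M 1 0) * hu
  · linear_combination -(M 1 1 - M 0 0) * hu

theorem cj_C0 {R : Type*} [CommRing R] (p q r s : R) :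
    C0 * mk p q r s * (C0 * C0) = mk p q (-r + s) (-r) ∧
      C0 * C0 * mk p q r s * C0 = mk p q (-s) (r - s) := by
  rw [C0_eq, mk_mul, mk_mul, mk_mul, mk_mul, mk_mul]
  constructor <;> congr 1 <;> ring

theorem key_alg {R : Type*} [CommRing R] {u : R} (hu : u * 3 = 1) {X : Matrix (Fin 2) (Fin 2) R}
    (hunit : ∀ p q r s : R, X = mk p q r s → IsUnit p)
    (h2 : X * X = 1) (hc : X * (C0 * X * (C0 * C0)) = (C0 * X * (C0 * C0)) * X)
    (h3 : X * (C0 * X * (C0 * C0)) = C0 * C0 * X * C0) :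
    ∃ r s : R, r + r = 0 ∧ s + s = 0 ∧ X = mk 1 0 r s ∧
      C0 * X * (C0 * C0) = mk 1 0 (r + s) r ∧ C0 * C0 * X * C0 = mk 1 0 s (r + s) := by
  obtain ⟨p, q, r, s, rfl⟩ := exists_mk hu X
  obtain ⟨eY, eZ⟩ := cj_C0 p q r s
  rw [eY, eZ] at h3
  rw [eY] at hc
  rw [mk_mul, mk_mul] at hc
  rw [mk_mul] at h3
  rw [mk_mul, ← mk_one] at h2
  obtain ⟨a1, a2, a3, a4⟩ := mk_inj hu h2
  obtain ⟨b1, b2, b3, b4⟩ := mk_inj hu hc
  obtain ⟨c1, c2, c3, c4⟩ := mk_inj hu h3
  have hn : r * r - r * s + s * s = 0 := by linear_combination b1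
  have hqs : q * s = 0 := by linear_combination u * b3 - q * s * hu
  have hqr : q * r = 0 := by linear_combination (-u) * b4 + hqs - (q * r - q * s) * hu
  obtain ⟨v, hv⟩ := (hunit p q r s rfl).exists_left_inv
  have hr : r + r = 0 := by linear_combination v * a3 + v * hqr - 2 * r * hv
  have hs : s + s = 0 := by linear_combination v * a4 + v * hqs - 2 * s * hv
  have hp : p = 1 := by linear_combination -c1 + a1 - hn
  have hq : q = 0 := by linear_combination -c2 + a2 + hn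
  subst hp hq
  refine ⟨r, s, hr, hs, rfl, ?_, ?_⟩
  · rw [eY]; congr 1
    · linear_combination -hr
    · linear_combination -hr
  · rw [eZ]; congr 1
    · linear_combination -hs
    · linear_combination -hs

set_option synthInstance.maxSize 5000 in
theorem mod_two_facts : ∀ A B : Matrix (Fin 2) (Fin 2) (ZMod 2), A * (A * A) = 1 → B * B = 1 →
    B * (A * B * (A * A)) = (A * B * (A * A)) * B →
    B * (A * B * (A * A)) = A * A * B * A →
    B = 1 ∧ (A ≠ 1 → A * A + A + 1 = 0 ∧ A 1 0 = 1 ∧ (A - 1).det = 1) := by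
  decide +kernel

set_option synthInstance.maxSize 5000 in
theorem alt_data : ∃ v c : alternatingGroup (Fin 4), v * v = 1 ∧ c * (c * c) = 1 ∧ c ≠ 1 ∧ v ≠ 1 ∧
    v * (c * v * (c * c)) = (c * v * (c * c)) * v ∧ v * (c * v * (c * c)) = c * c * v * c ∧
    ∀ g, ∃ w ∈ [1, v, c * v * (c * c), c * c * v * c], ∃ i : Fin 3, g = w * c ^ (i : ℕ) := by
  decide +kernel

theorem four_cases {A : Type*} [AddGroup A] {m r s r' s' : A} (hm : m + m = 0)
    (h1 : r = 0 ∨ r = m) (h2 : s = 0 ∨ s = m) (h3 : r' = 0 ∨ r' = m) (h4 : s' = 0 ∨ s' = m)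
    (hne : ¬ (r = 0 ∧ s = 0)) :
    (r' = 0 ∧ s' = 0) ∨ (r' = r ∧ s' = s) ∨ (r' = r + s ∧ s' = r) ∨ (r' = s ∧ s' = r + s) := by
  rcases h1 with rfl | rfl <;> rcases h2 with rfl | rfl <;> rcases h3 with rfl | rfl <;>
    rcases h4 with rfl | rfl <;> simp [hm] at hne ⊢

theorem normal_form {k : ℕ} (hk : 2 ≤ k) (H : Subgroup (GL (Fin 2) (ZMod (2 ^ k))))
    (e : ↥H ≃* ↥(alternatingGroup (Fin 4))) :
    ∃ (g : GL (Fin 2) (ZMod (2 ^ k))), ∀ x : GL (Fin 2) (ZMod (2 ^ k)),
      g⁻¹ * x * g ∈ H ↔ ∃ (r s : ZMod (2 ^ k)) (i : Fin 3), r + r = 0 ∧ s + s = 0 ∧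
        (x : Matrix (Fin 2) (Fin 2) (ZMod (2 ^ k))) = mk 1 0 r s * C0 ^ (i : ℕ) := by
  classical
  set R := ZMod (2 ^ k)
  haveI : NeZero (2 ^ k) := ⟨by positivity⟩
  let f : R →+* ZMod 2 := ZMod.castHom (dvd_pow_self 2 (by omega)) (ZMod 2)
  have hf : ∀ r : R, f r = 1 → IsUnit r := by
    intro r hr
    obtain ⟨m, rfl⟩ := ZMod.natCast_zmod_surjective (n := 2 ^ k) r
    rw [map_natCast] at hr
    refine (ZMod.isUnit_iff_coprime m (2 ^ k)).2 (Nat.Coprime.pow_right _ ?_)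
    have h1 : m % 2 = 1 := by
      have := congrArg ZMod.val hr
      rwa [ZMod.val_natCast, ZMod.val_one] at this
    exact Nat.coprime_two_right.2 (Nat.odd_iff.2 h1)
  obtain ⟨u, hu⟩ := (hf 3 (by rw [map_ofNat]; decide)).exists_left_inv
  obtain ⟨v0, c0, hv2, hc3, hc1, hv1, hcomm, hprod, hall⟩ := alt_data
  let ψ : ↥(alternatingGroup (Fin 4)) →* Matrix (Fin 2) (Fin 2) R :=
    (Units.coeHom _).comp (H.subtype.comp e.symm.toMonoidHom)
  have hψinj : Function.Injective ψ := fun a b h => e.symm.injective (Subtype.ext (Units.ext h))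
  set C := ψ c0 with hC
  set V := ψ v0 with hV
  have hC3 : C * (C * C) = 1 := by rw [hC, ← map_mul, ← map_mul, hc3, map_one]
  have hCne : C ≠ 1 := fun h => hc1 (hψinj (h.trans (map_one ψ).symm))
  let π : Matrix (Fin 2) (Fin 2) R →+* Matrix (Fin 2) (Fin 2) (ZMod 2) := f.mapMatrix
  obtain ⟨hB, hA⟩ := mod_two_facts (π C) (π V)
    (by rw [← map_mul, ← map_mul, hC3, map_one])
    (by rw [← map_mul, hV, ← map_mul, hv2, map_one, map_one])
    (by simp only [← map_mul, hC, hV, hcomm])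
    (by simp only [← map_mul, hC, hV, hprod])
  have hAne : π C ≠ 1 := by
    intro h
    apply hCne
    have h1 : (C - 1) * (C * C + C + 1) = 0 := by
      rw [show (C - 1) * (C * C + C + 1) = C * (C * C) - 1 by
        simp only [mul_add, sub_mul, one_mul, mul_one]; abel, hC3, sub_self]
    have h2 : IsUnit (C * C + C + 1) := by
      rw [Matrix.isUnit_iff_isUnit_det]
      refine hf _ ?_
      rw [RingHom.map_det]
      show (π (C * C + C + 1)).det = 1
      rw [map_add, map_add, map_mul, map_one, h]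
      decide
    exact sub_eq_zero.1 (h2.mul_left_eq_zero.1 h1)
  obtain ⟨hA1, hA2, hA3⟩ := hA hAne
  have hCq : C * C + C + 1 = 0 := by
    have h1 : (C - 1) * (C * C + C + 1) = 0 := by
      rw [show (C - 1) * (C * C + C + 1) = C * (C * C) - 1 by
        simp only [mul_add, sub_mul, one_mul, mul_one]; abel, hC3, sub_self]
    have h2 : IsUnit (C - 1) := by
      rw [Matrix.isUnit_iff_isUnit_det]
      refine hf _ ?_
      rw [RingHom.map_det]
      show (π (C - 1)).det = 1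
      rw [map_sub, map_one]
      exact hA3
    exact h2.mul_right_eq_zero.1 h1
  set P : Matrix (Fin 2) (Fin 2) R := !![1, C 0 0; 0, C 1 0] with hP
  have hPdet : IsUnit P := by
    rw [Matrix.isUnit_iff_isUnit_det, hP, Matrix.det_fin_two_of, one_mul, mul_zero, sub_zero]
    exact hf _ hA2
  have hCP : C * P = P * C0 := by
    have e00 := congrFun (congrFun hCq 0) 0
    have e10 := congrFun (congrFun hCq 1) 0
    simp [Matrix.mul_apply, Fin.sum_univ_two] at e00 e10
    ext i j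
    fin_cases i <;> fin_cases j <;> simp [hP, C0, Matrix.mul_apply, Fin.sum_univ_two]
    · linear_combination e00
    · linear_combination e10
  obtain ⟨U, hU⟩ := hPdet
  have hconj : ((U⁻¹ : GL (Fin 2) R) : Matrix (Fin 2) (Fin 2) R) * C * (U : Matrix (Fin 2) (Fin 2) R) = C0 := by
    rw [mul_assoc, hU, hCP, ← hU, ← mul_assoc, Units.inv_mul, one_mul]
  -- transported homomorphism
  let φ : ↥(alternatingGroup (Fin 4)) →* Matrix (Fin 2) (Fin 2) R :=
    { toFun := fun x => ((U⁻¹ : GL (Fin 2) R) : Matrix (Fin 2) (Fin 2) R) * ψ x * (U : Matrix (Fin 2) (Fin 2) R)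
      map_one' := by simp
      map_mul' := fun a b => by
        rw [map_mul]
        simp [mul_assoc] }
  have hφc : φ c0 = C0 := hconj
  set X := φ v0 with hX
  have hY : φ (c0 * v0 * (c0 * c0)) = C0 * X * (C0 * C0) := by simp [map_mul, hφc, hX]
  have hZ : φ (c0 * c0 * v0 * c0) = C0 * C0 * X * C0 := by simp [map_mul, hφc, hX]
  obtain ⟨r, s, hr, hs, hXe, hYe, hZe⟩ := key_alg hu (X := X) (by
      intro p q r s hpqrs
      have hπX : π X = 1 := by
        show π (((U⁻¹ : GL (Fin 2) R) : Matrix (Fin 2) (Fin 2) R) * V * (U : Matrix (Fin 2) (Fin 2) R)) = 1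
        rw [map_mul, map_mul, hB, mul_one, ← map_mul, Units.inv_mul, map_one]
      rw [hpqrs] at hπX
      have e00 := congrFun (congrFun hπX 0) 0
      have e01 := congrFun (congrFun hπX 0) 1
      have e10 := congrFun (congrFun hπX 1) 0
      have e11 := congrFun (congrFun hπX 1) 1
      simp [π, mk] at e00 e01 e10 e11
      refine hf p ?_
      revert e00 e01 e10 e11
      generalize f p = a, f q = b, f r = c, f s = d
      revert a b c d
      decide)
    (by rw [← map_mul, hv2, map_one]) (by rw [← hY, hX, ← map_mul, ← map_mul, hcomm])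
    (by rw [← hY, ← hZ, hX, ← map_mul, hprod])
  refine ⟨U⁻¹, fun x => ?_⟩
  have hmem : ((U⁻¹)⁻¹ * x * U⁻¹ ∈ H) ↔ ∃ a, (x : Matrix (Fin 2) (Fin 2) R) = φ a := by
    constructor
    · intro h
      refine ⟨e ⟨_, h⟩, ?_⟩
      show _ = ((U⁻¹ : GL (Fin 2) R) : Matrix (Fin 2) (Fin 2) R) *
        (((e.symm (e ⟨_, h⟩) : ↥H) : GL (Fin 2) R) : Matrix (Fin 2) (Fin 2) R) * (U : Matrix (Fin 2) (Fin 2) R)
      rw [e.symm_apply_apply, ← Units.val_mul, ← Units.val_mul]
      congr 1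
      group
    · rintro ⟨a, ha⟩
      have h1 : x = U⁻¹ * ((e.symm a : ↥H) : GL (Fin 2) R) * U := Units.ext ha
      rw [h1, show (U⁻¹)⁻¹ * (U⁻¹ * ((e.symm a : ↥H) : GL (Fin 2) R) * U) * U⁻¹ =
        ((e.symm a : ↥H) : GL (Fin 2) R) by group]
      exact (e.symm a).2
  rw [hmem]
  constructor
  · rintro ⟨a, ha⟩
    obtain ⟨w, hw, i, rfl⟩ := hall a
    rw [map_mul, map_pow, hφc] at ha
    simp only [List.mem_cons, List.not_mem_nil, or_false] at hw
    rcases hw with rfl | rfl | rfl | rfl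
    · exact ⟨0, 0, i, add_zero 0, add_zero 0, by rw [ha, map_one, mk_one]⟩
    · exact ⟨r, s, i, hr, hs, by rw [ha, ← hX, hXe]⟩
    · exact ⟨r + s, r, i, by linear_combination hr + hs, hr, by rw [ha, hY, hYe]⟩
    · exact ⟨s, r + s, i, hs, by linear_combination hr + hs, by rw [ha, hZ, hZe]⟩
  · rintro ⟨r', s', i, hr', hs', hx'⟩
    -- the four solutions are exhausted
    have htor : ∀ y : R, y + y = 0 → y = 0 ∨ y = ((2 ^ (k - 1) : ℕ) : R) := by
      intro y hy
      obtain ⟨m, hm, rfl⟩ : ∃ m < 2 ^ k, ((m : ℕ) : R) = y :=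
        ⟨ZMod.val y, ZMod.val_lt y, ZMod.natCast_zmod_val y⟩
      rw [← Nat.cast_add, ZMod.natCast_eq_zero_iff] at hy
      obtain ⟨t, ht⟩ := hy
      have h2 : (2 : ℕ) ^ k = 2 * 2 ^ (k - 1) := by
        rw [← pow_succ', Nat.sub_add_cancel (by omega)]
      have ht2 : t < 2 := by nlinarith
      interval_cases t
      · left; rw [show m = 0 by omega, Nat.cast_zero]
      · right; congr 1; omega
    have hne : (r, s) ≠ (0, 0) := by
      intro h
      simp only [Prod.mk.injEq] at h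
      refine hv1 ?_
      have h1 : φ v0 = φ 1 := by rw [← hX, hXe, h.1, h.2, mk_one, map_one]
      refine hψinj ?_
      have h2 : ((U⁻¹ : GL (Fin 2) R) : Matrix (Fin 2) (Fin 2) R) * ψ v0 * (U : Matrix (Fin 2) (Fin 2) R) =
        ((U⁻¹ : GL (Fin 2) R) : Matrix (Fin 2) (Fin 2) R) * ψ 1 * (U : Matrix (Fin 2) (Fin 2) R) := h1
      exact (Units.mul_right_inj _).1 ((Units.mul_left_inj _).1 h2)
    have hsol : ∃ a, mk 1 0 r' s' = φ a := by
      have h1 := htor r hr
      have h2 := htor s hs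
      have h3 := htor r' hr'
      have h4 := htor s' hs'
      set m : R := ((2 ^ (k - 1) : ℕ) : R)
      have hm : m + m = 0 := by
        rw [← Nat.cast_add, ← two_mul, ← pow_succ', Nat.sub_add_cancel (by omega),
          ZMod.natCast_self]
      rcases four_cases hm h1 h2 h3 h4 (fun h => hne (Prod.ext h.1 h.2)) with hz | hA | hB' | hC'
      · exact ⟨1, by rw [hz.1, hz.2, mk_one, map_one]⟩
      · exact ⟨v0, by rw [hA.1, hA.2, ← hX, hXe]⟩
      · exact ⟨c0 * v0 * (c0 * c0), by rw [hB'.1, hB'.2, hY, hYe]⟩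
      · exact ⟨c0 * c0 * v0 * c0, by rw [hC'.1, hC'.2, hZ, hZe]⟩
    obtain ⟨a, ha⟩ := hsol
    exact ⟨a * c0 ^ (i : ℕ), by rw [hx', ha, map_mul, map_pow, hφc]⟩

namespace Cfsg.Agent.S2874

/-- For k ≥ 2, any two subgroups of GL₂(ℤ/2ᵏℤ) (the automorphism group of the homocyclic group ℤ/2ᵏ × ℤ/2ᵏ) that are isomorphic to the alternating group of degree 4 are conjugate. -/
theorem result (k : ℕ) (hk : 2 ≤ k) (H₁ H₂ : Subgroup (GL (Fin 2) (ZMod (2 ^ k)))) (h₁ : Nonempty (↥H₁ ≃* ↥(alternatingGroup (Fin 4)))) (h₂ : Nonempty (↥H₂ ≃* ↥(alternatingGroup (Fin 4)))) : ∃ g : GL (Fin 2) (ZMod (2 ^ k)), H₂ = H₁.map (MulAut.conj g).toMonoidHom := by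
  obtain ⟨e₁⟩ := h₁
  obtain ⟨e₂⟩ := h₂
  obtain ⟨g₁, hg₁⟩ := normal_form hk H₁ e₁
  obtain ⟨g₂, hg₂⟩ := normal_form hk H₂ e₂
  refine ⟨g₂⁻¹ * g₁, ?_⟩
  ext x
  rw [Subgroup.mem_map_equiv, MulAut.conj_symm_apply]
  have h1 := hg₁ (g₂ * x * g₂⁻¹)
  have h2 := hg₂ (g₂ * x * g₂⁻¹)
  rw [show g₂⁻¹ * (g₂ * x * g₂⁻¹) * g₂ = x by group] at h2
  rw [show (g₂⁻¹ * g₁)⁻¹ * x * (g₂⁻¹ * g₁) = g₁⁻¹ * (g₂ * x * g₂⁻¹) * g₁ by group]
  exact h2.trans h1.symm

end Cfsg.Agent.S2874
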