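import Cfsg.Statements.S2879
import Cfsg.Agent.LAE60.Basic
import Cfsg.Agent.Cores.Basic
import Cfsg.Agent.Cores.Residual
import Cfsg.Agent.Fusion.Basic
import Cfsg.Agent.PSolv.HallHigman
import Cfsg.Agent.TwoGroups.QuasiDihedral
import Cfsg.Agent.H4.QuaternionSection
-- import your own Cfsg.Agent.* helpers here

set_option autoImplicit false
open Cfsg
set_option linter.unusedVariables false
set_option linter.style.haveILetI false
open Cfsg.Agent.H4 (qFun eq_qFun qFun_cases equiv_of_rel exists_SL_two_three_gens equiv_quaternion_two)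
open Subgroup

theorem maxClass_facts {S : Type*} [Group S] [Finite S] {n : ℕ} {a b : S} {r : ℤ}
    (h : Cfsg.Agent.TwoGroups.MaxClassData n a b r) :
    ∃ z : S, orderOf z = 2 ∧ z ∈ zpowers a ∧ center S = zpowers z ∧
      (zpowers a).index = 2 ∧ ∀ u, u ∉ zpowers a → u ^ 4 = 1 := by
  refine ⟨a ^ 2 ^ (n - 1), h.orderOf_invol, pow_mem (mem_zpowers a) _, h.center_eq, h.index_two,
    fun u hu => ?_⟩
  obtain ⟨i, rfl⟩ := h.exists_eq_of_notMem hu
  have hbb : (b * b) * (b * b) = 1 := by
    rcases h.b_sq_cases with e | e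
    · rw [e, one_mul]
    · rw [e, ← sq]
      have h2 := pow_orderOf_eq_one (a ^ 2 ^ (n - 1))
      rwa [h.orderOf_invol] at h2
  have h1 : (a ^ i * b) * (a ^ i * b) = a ^ ((r + 1) * i) * (b * b) := h.sq_zpow_mul i
  have hc : ∀ g, g * (b * b) = (b * b) * g := fun g => mem_center_iff.1 h.b_sq_mem_center g
  have hA : a ^ ((r + 1) * i) * a ^ ((r + 1) * i) = 1 := by
    rw [← zpow_add, h.zpow_eq_one]
    exact h.dvd_two_mul_r_add_one.trans ⟨i, by ring⟩
  calc (a ^ i * b) ^ 4 = ((a ^ i * b) * (a ^ i * b)) * ((a ^ i * b) * (a ^ i * b)) := by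
        simp only [pow_succ, pow_zero, one_mul, mul_assoc]
    _ = a ^ ((r + 1) * i) * ((b * b) * a ^ ((r + 1) * i)) * (b * b) := by rw [h1]; group
    _ = (a ^ ((r + 1) * i) * a ^ ((r + 1) * i)) * ((b * b) * (b * b)) := by
          rw [← hc]; group
    _ = 1 := by rw [hA, hbb, one_mul]

theorem exists_maxClass {S : Type*} [Group S] [Finite S] (hS : IsPGroup 2 S)
    (hT : (∃ n : ℕ, 4 ≤ n ∧ Nonempty (S ≃* DihedralGroup n)) ∨ Cfsg.IsQuasiDihedral S) :
    ∃ (n : ℕ) (a b : S) (r : ℤ), Cfsg.Agent.TwoGroups.MaxClassData n a b r := by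
  haveI : Fact (Nat.Prime 2) := ⟨Nat.prime_two⟩
  rcases hT with ⟨n, hn, ⟨e⟩⟩ | hq
  · haveI : NeZero n := ⟨by omega⟩
    obtain ⟨k, hk⟩ := IsPGroup.iff_card.1 hS
    rw [Nat.card_congr e.toEquiv, DihedralGroup.nat_card] at hk
    obtain ⟨m, hm, rfl⟩ := (Nat.dvd_prime_pow Nat.prime_two).1 (hk ▸ dvd_mul_left n 2)
    have hm2 : 2 ≤ m := by
      by_contra h
      interval_cases m <;> simp at hn
    set a : S := e.symm (DihedralGroup.r 1) with ha
    set b : S := e.symm (DihedralGroup.sr 0) with hb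
    have hoa : orderOf a = 2 ^ m := by
      rw [ha, e.symm.orderOf_eq, DihedralGroup.orderOf_r_one]
    refine ⟨m, a, b, -1,
      { index_two := Cfsg.Agent.TwoGroups.index_zpowers_eq_two (by
          rw [hoa, Nat.card_congr e.toEquiv, DihedralGroup.nat_card])
        notMem := ?_
        conj := ?_
        two_le := hm2
        order := hoa
        hr := by simp
        hr4 := by simp }⟩
    · intro h
      obtain ⟨k', hk'⟩ := mem_zpowers_iff.1 h
      have h2 := congrArg e hk'
      rw [map_zpow, ha, hb, e.apply_symm_apply, e.apply_symm_apply, DihedralGroup.r_one_zpow] at h2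
      cases h2
    · rw [ha, hb, zpow_neg_one, ← map_inv, ← map_inv, ← map_mul, ← map_mul]
      refine congrArg e.symm ?_
      simp
  · obtain ⟨n, x, y, h⟩ := Cfsg.Agent.TwoGroups.QDData.of_isQuasiDihedral hq
    exact ⟨n, x, y, _, h.toMaxClassData⟩

theorem cyclic_centralized {G : Type*} [Group G] [Finite G] {w x : G} (hw : IsPGroup 2 (zpowers w))
    (hx : Nat.Coprime (orderOf x) 2) (hn : x ∈ normalizer ((zpowers w : Subgroup G) : Set G)) :
    ∀ a ∈ zpowers w, x * a = a * x := by
  haveI : Fact (Nat.Prime 2) := ⟨Nat.prime_two⟩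
  have hA : IsPGroup 2 (MulAut ↥(zpowers w)) := by
    refine IsPGroup.of_equiv ?_ (IsCyclic.mulAutMulEquiv _).symm
    obtain ⟨k, hk⟩ := IsPGroup.iff_card.mp hw
    rw [hk]
    rcases Nat.eq_zero_or_pos k with rfl | hkpos
    · exact IsPGroup.of_card (n := 0) (by simp)
    · refine IsPGroup.of_card (n := k - 1) ?_
      rw [Nat.card_eq_fintype_card, ZMod.card_units_eq_totient,
        Nat.totient_prime_pow Nat.prime_two hkpos]
      norm_num
  obtain ⟨k, hk⟩ := hA ((zpowers w).normalizerMonoidHom ⟨x, hn⟩)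
  have h1 : orderOf ((zpowers w).normalizerMonoidHom ⟨x, hn⟩) ∣ orderOf x :=
    (orderOf_map_dvd _ _).trans
      (orderOf_coe (⟨x, hn⟩ : normalizer ((zpowers w : Subgroup G) : Set G))).symm.dvd
  have h2 : (zpowers w).normalizerMonoidHom ⟨x, hn⟩ = 1 := orderOf_eq_one_iff.mp
    (Nat.eq_one_of_dvd_coprimes (hx.pow_right k) h1 (orderOf_dvd_of_pow_eq_one hk))
  intro a ha
  have h3 := congrArg (fun f : MulAut ↥(zpowers w) => ((f ⟨a, ha⟩ : ↥(zpowers w)) : G)) h2
  exact mul_inv_eq_iff_eq_mul.mp (show x * a * x⁻¹ = a from h3)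

namespace Cfsg.Agent.S2879

/-- Let G be a finite solvable group with O(G) = 1 whose Sylow 2-subgroup T is dihedral of order at least 8 or semidihedral, with G ≠ T and Z(T) normal in G. Then G has a normal subgroup isomorphic to SL₂(3). -/
theorem result {G : Type*} [Group G] [Finite G] (hsol : IsSolvable G) (hO : Cfsg.oddCore G = ⊥) (T : Sylow 2 G) (hT : (∃ n : ℕ, 4 ≤ n ∧ Nonempty (↥(T : Subgroup G) ≃* DihedralGroup n)) ∨ Cfsg.IsQuasiDihedral ↥(T : Subgroup G)) (hne : (T : Subgroup G) ≠ ⊤) (hZ : ((T : Subgroup G) ⊓ Subgroup.centralizer ((T : Subgroup G) : Set G)).Normal) : ∃ U : Subgroup G, U.Normal ∧ Nonempty (↥U ≃* Matrix.SpecialLinearGroup (Fin 2) (ZMod 3)) := by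
  classical
  haveI : Fact (Nat.Prime 2) := ⟨Nat.prime_two⟩
  set F := Cfsg.pCore 2 G with hFdef
  have hFp : IsPGroup 2 F := Cfsg.Agent.Cores.pCore_isPGroup
  have hFT : F ≤ (T : Subgroup G) := Cfsg.Agent.Cores.pCore_le_sylow T
  have hCF : centralizer (F : Set G) ≤ F :=
    Cfsg.Agent.PSolv.centralizer_pCore_le (Cfsg.Agent.PSolv.isPSolvable_of_isSolvable hsol) hO
  obtain ⟨n, a, b, r, hd⟩ := exists_maxClass T.2 hT
  obtain ⟨zT, hzT2, hzTa, hcent, hidx, hfour⟩ := maxClass_facts hd
  set z : G := (zT : G) with hzdef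
  set C : Subgroup G := zpowers (a : G) with hCdef
  have hCmem : ∀ u : ↥(T : Subgroup G), (u : G) ∈ C ↔ u ∈ zpowers a := by
    intro u
    constructor
    · rintro ⟨k, hk⟩; exact ⟨k, Subtype.ext (by simpa using hk)⟩
    · rintro ⟨k, rfl⟩; exact ⟨k, by simp⟩
  have hA1 : ∀ u ∈ (T : Subgroup G), u ∉ C → ∀ v ∈ (T : Subgroup G), v ∉ C → u⁻¹ * v ∈ C := by
    intro u hu huC v hv hvC
    have := (hCmem (⟨u, hu⟩⁻¹ * ⟨v, hv⟩)).2 ((mul_mem_iff_of_index_two hidx).2 (by
      rw [inv_mem_iff]
      exact ⟨fun h => absurd ((hCmem ⟨u, hu⟩).2 h) huC,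
        fun h => absurd ((hCmem ⟨v, hv⟩).2 h) hvC⟩))
    simpa using this
  have hA2 : ∀ u ∈ (T : Subgroup G), u ∉ C → u ^ 4 = 1 := fun u hu huC =>
    congrArg Subtype.val (hfour ⟨u, hu⟩ fun h => huC ((hCmem ⟨u, hu⟩).2 h))
  have hz2 : orderOf z = 2 := by rw [hzdef, orderOf_coe, hzT2]
  have hz1 : z ≠ 1 := fun h => by rw [h, orderOf_one] at hz2; omega
  have hzC : z ∈ C := (hCmem zT).2 hzTa
  set Z := (T : Subgroup G) ⊓ centralizer ((T : Subgroup G) : Set G) with hZdef
  have hZz : Z = zpowers z := by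
    ext w
    constructor
    · intro hw
      have h1 : (⟨w, hw.1⟩ : ↥(T : Subgroup G)) ∈ center _ :=
        mem_center_iff.2 fun g => Subtype.ext (hw.2 g g.2)
      rw [hcent] at h1
      obtain ⟨k, hk⟩ := h1
      exact ⟨k, by simpa using congrArg Subtype.val hk⟩
    · rintro ⟨k, rfl⟩
      have h1 : zT ^ k ∈ center ↥(T : Subgroup G) := hcent ▸ zpow_mem (mem_zpowers zT) k
      refine ⟨?_, fun g hg => ?_⟩
      · exact zpow_mem zT.2 k
      · simpa using congrArg Subtype.val (mem_center_iff.1 h1 ⟨g, hg⟩)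
  have hzcen : ∀ g : G, g * z * g⁻¹ = z := by
    intro g
    have h1 : g * z * g⁻¹ ∈ zpowers z := hZz ▸ hZ.conj_mem z (hZz ▸ mem_zpowers z) g
    obtain ⟨k, hk⟩ := h1
    have hk' : z ^ k = g * z * g⁻¹ := hk
    rw [← zpow_mod_orderOf, hz2] at hk'
    rcases Int.emod_two_eq_zero_or_one k with h0 | h0 <;> norm_num [h0] at hk'
    · exact absurd (by simpa using hk'.symm) hz1
    · exact hk'.symm
  have hzF : z ∈ F := by
    refine Cfsg.Agent.Cores.le_pCore (N := zpowers z) ?_ ?_ (mem_zpowers z)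
    · rw [← hZz]; exact hZ
    · exact IsPGroup.of_card (n := 1) (by rw [Nat.card_zpowers, hz2, pow_one])
  -- the intersection with the cyclic maximal subgroup
  obtain ⟨k0, -, -, hAk, -⟩ := Cfsg.Agent.TwoGroups.exists_pow_of_le_zpowers
    (a := (a : G)) (H := F ⊓ C) inf_le_right
  set w := (a : G) ^ k0 with hwdef
  have hwF : w ∈ F ⊓ C := hAk ▸ mem_zpowers w
  have hw2 : IsPGroup 2 (zpowers w) := hFp.to_le (zpowers_le.2 hwF.1)
  have hzw : z ∈ zpowers w := hAk ▸ ⟨hzF, hzC⟩
  have hoddC : ∀ x : G, Nat.Coprime (orderOf x) 2 → (∀ f ∈ F, x * f = f * x) → x = 1 := by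
    intro x hx hc
    have hxF : x ∈ F := hCF fun f hf => (hc f hf).symm
    obtain ⟨j, hj⟩ := IsPGroup.iff_orderOf.1 hFp ⟨x, hxF⟩
    rw [Subgroup.orderOf_mk] at hj
    exact orderOf_eq_one_iff.1 (Nat.eq_one_of_dvd_coprimes (hx.pow_right j) dvd_rfl (hj ▸ dvd_rfl))
  have hnn : ∀ x : G, Nat.Coprime (orderOf x) 2 → x ≠ 1 →
      x ∉ normalizer ((zpowers w : Subgroup G) : Set G) := by
    intro x hx hx1 hn
    refine hx1 (hoddC x hx fun f hf => ?_)
    by_cases hfC : f ∈ C
    · exact cyclic_centralized hw2 hx hn f (hAk ▸ ⟨hf, hfC⟩)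
    · have hxf : x * f * x⁻¹ ∈ F := (inferInstance : F.Normal).conj_mem f hf x
      have hxfC : x * f * x⁻¹ ∉ C := fun h => hfC (hAk.ge ((mem_normalizer_iff.1 hn f).2
        (hAk.le ⟨hxf, h⟩))).2
      have h1 : x * f * x⁻¹ * f⁻¹ ∈ zpowers w := by
        refine hAk.le ⟨mul_mem hxf (F.inv_mem hf), ?_⟩
        have h2 := hA1 (x * f * x⁻¹)⁻¹ (inv_mem (hFT hxf)) (by rwa [inv_mem_iff]) f⁻¹
          (inv_mem (hFT hf)) (by rwa [inv_mem_iff])
        rwa [inv_inv] at h2
      exact Cfsg.Agent.LAE60.commute_of_commutator_mem (p := 2) hw2 hx h1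
        (cyclic_centralized hw2 hx hn _ h1)
  -- an element of odd order
  obtain ⟨x, hx, hx1⟩ : ∃ x : G, Nat.Coprime (orderOf x) 2 ∧ x ≠ 1 := by
    by_contra h
    push Not at h
    have h1 : Cfsg.pResidual 2 G = ⊥ := by
      rw [Cfsg.pResidual, closure_eq_bot_iff]
      exact fun g hg => h g hg
    have h2 : IsPGroup 2 G := by
      have := Cfsg.Agent.Cores.isPGroup_quotient_pResidual (p := 2) (G := G)
      refine this.of_injective (QuotientGroup.mk' _) ?_
      rw [← MonoidHom.ker_eq_bot_iff, QuotientGroup.ker_mk', h1]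
    exact hne (T.3 (h2.to_subgroup ⊤) le_top).symm
  have hxn := hnn x hx hx1
  have hconjF : ∀ g : G, ∀ f ∈ F, g * f * g⁻¹ ∈ F := fun g f hf =>
    (inferInstance : F.Normal).conj_mem f hf g
  set u := x * w * x⁻¹ with hu
  have huF : u ∈ F := hconjF x w hwF.1
  have hmapw : (zpowers w).map (MulAut.conj x).toMonoidHom = zpowers u := by
    rw [MonoidHom.map_zpowers]; rfl
  have huC : u ∉ C := by
    intro h
    have h1 : zpowers u ≤ zpowers w := zpowers_le.2 (hAk.le ⟨huF, h⟩)
    refine hxn (Cfsg.Agent.Fusion.cj_eq_iff_mem_normalizer.1 ?_)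
    show (zpowers w).map (MulAut.conj x).toMonoidHom = zpowers w
    rw [hmapw]
    refine eq_of_le_of_card_ge h1 ?_
    rw [Nat.card_zpowers, Nat.card_zpowers, hu, ← MulAut.conj_apply]
    exact (orderOf_injective (MulAut.conj x).toMonoidHom (MulAut.conj x).injective w).ge
  have hw4 : w ^ 4 = 1 := by
    have h1 := hA2 u (hFT huF) huC
    rw [hu, conj_pow] at h1
    simpa using h1
  have hwsq : w * w = z := by
    obtain ⟨k, hk⟩ := hzw
    have hk' : w ^ k = z := hk
    have hk'' : w ^ (k % 4) = z := by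
      rw [← hk']
      conv_rhs => rw [← Int.emod_add_ediv_mul k 4]
      rw [zpow_add, mul_comm _ (4 : ℤ), zpow_mul]
      norm_cast
      rw [hw4, one_zpow, mul_one]
    have hzz : z * z = 1 := by rw [← sq, ← hz2, pow_orderOf_eq_one]
    have hne2 : w * w ≠ 1 := by
      intro hww
      refine hxn (Cfsg.Agent.Fusion.cj_eq_iff_mem_normalizer.1 ?_)
      have hwz : w = z := by
        have h4 : k % 4 = 0 ∨ k % 4 = 1 ∨ k % 4 = 2 ∨ k % 4 = 3 := by omega
        rcases h4 with h | h | h | h <;> rw [h] at hk''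
        · exact absurd (by simpa using hk''.symm) hz1
        · simpa using hk''
        · exact absurd (by rw [← hk'', zpow_two, hww]) hz1
        · rw [show (3 : ℤ) = 2 + 1 from rfl, zpow_add, zpow_two, hww, one_mul, zpow_one] at hk''
          exact hk''
      show (zpowers w).map (MulAut.conj x).toMonoidHom = zpowers w
      rw [hmapw, hu, hwz, hzcen]
    have h4 : k % 4 = 0 ∨ k % 4 = 1 ∨ k % 4 = 2 ∨ k % 4 = 3 := by omega
    rcases h4 with h | h | h | h <;> rw [h] at hk''
    · exact absurd (by simpa using hk''.symm) hz1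
    · exact absurd (by rw [zpow_one] at hk''; rw [hk'', hzz]) hne2
    · rw [zpow_two] at hk''; exact hk''
    · exfalso
      refine hne2 ?_
      have h5 : z * z = w ^ (4 : ℤ) * (w * w) := by rw [← hk'']; group
      rw [hzz, show (4 : ℤ) = ((4 : ℕ) : ℤ) from rfl, zpow_natCast, hw4, one_mul] at h5
      exact h5.symm
  have hconjsq : ∀ g t : G, t * t = z → (g * t * g⁻¹) * (g * t * g⁻¹) = z := fun g t ht => by
    rw [show (g * t * g⁻¹) * (g * t * g⁻¹) = g * (t * t) * g⁻¹ by group, ht, hzcen]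
  have hzcomm : ∀ g : G, g * z = z * g := fun g => by
    have := hzcen g
    rwa [mul_inv_eq_iff_eq_mul] at this
  have huu : u * u = z := hconjsq x w hwsq
  have hAcases : ∀ t ∈ zpowers w, t = 1 ∨ t = w ∨ t = z ∨ t = w * z := by
    rintro _ ⟨k, rfl⟩
    have hk : w ^ k = w ^ (k % 4) := by
      conv_lhs => rw [← Int.emod_add_ediv_mul k 4]
      rw [zpow_add, mul_comm _ (4 : ℤ), zpow_mul]
      norm_cast
      rw [hw4, one_zpow, mul_one]
    show w ^ k = 1 ∨ w ^ k = w ∨ w ^ k = z ∨ w ^ k = w * z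
    rw [hk]
    have h4 : k % 4 = 0 ∨ k % 4 = 1 ∨ k % 4 = 2 ∨ k % 4 = 3 := by omega
    rcases h4 with h | h | h | h <;> rw [h]
    · left; simp
    · right; left; simp
    · right; right; left; rw [zpow_two, hwsq]
    · right; right; right
      rw [← hwsq, show (3 : ℤ) = 1 + 1 + 1 from rfl, zpow_add, zpow_add, zpow_one, mul_assoc]
  have hcos : ∀ f ∈ F, f ∈ zpowers w ∨ ∃ t ∈ zpowers w, f = u * t := by
    intro f hf
    by_cases hfC : f ∈ C
    · exact Or.inl (hAk.le ⟨hf, hfC⟩)
    · exact Or.inr ⟨u⁻¹ * f, hAk.le ⟨mul_mem (F.inv_mem huF) hf, hA1 u (hFT huF) huC f (hFT hf) hfC⟩,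
        by group⟩
  -- `u * w` squares to `z`
  have huw : (u * w) * (u * w) = z := by
    set v := x * u * x⁻¹ with hv
    have hvv : v * v = z := hconjsq x u huu
    have hmapu : (zpowers u).map (MulAut.conj x).toMonoidHom = zpowers v := by
      rw [MonoidHom.map_zpowers]; rfl
    rcases hcos v (hconjF x u huF) with hvA | ⟨t, ht, hvt⟩
    · exfalso
      -- `x²` normalizes `⟨w⟩`
      have hx2 : x * x ∈ normalizer ((zpowers w : Subgroup G) : Set G) := by
        refine Cfsg.Agent.Fusion.cj_eq_iff_mem_normalizer.1 ?_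
        rw [← Cfsg.Agent.Fusion.cj_cj]
        show ((zpowers w).map (MulAut.conj x).toMonoidHom).map (MulAut.conj x).toMonoidHom = _
        rw [hmapw, hmapu]
        refine eq_of_le_of_card_ge (zpowers_le.2 hvA) ?_
        rw [Nat.card_zpowers, Nat.card_zpowers, hv, hu, ← MulAut.conj_apply, ← MulAut.conj_apply]
        exact le_of_eq ((orderOf_injective (MulAut.conj x).toMonoidHom (MulAut.conj x).injective _).trans
          (orderOf_injective (MulAut.conj x).toMonoidHom (MulAut.conj x).injective w)).symm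
      obtain ⟨m, hm⟩ := exists_pow_eq_self_of_coprime hx.symm
      rw [sq] at hm
      exact hxn (hm ▸ pow_mem hx2 m)
    · have hbad : v ∈ zpowers u → False := by
        intro hvu
        refine hxn (Cfsg.Agent.Fusion.cj_eq_iff_mem_normalizer.1 ?_)
        have h1 : Cfsg.Agent.Fusion.cj x (Cfsg.Agent.Fusion.cj x (zpowers w)) =
            Cfsg.Agent.Fusion.cj x (zpowers w) := by
          show ((zpowers w).map (MulAut.conj x).toMonoidHom).map (MulAut.conj x).toMonoidHom =
            (zpowers w).map (MulAut.conj x).toMonoidHom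
          rw [hmapw, hmapu]
          refine eq_of_le_of_card_ge (zpowers_le.2 hvu) ?_
          rw [Nat.card_zpowers, Nat.card_zpowers, hv, ← MulAut.conj_apply]
          exact (orderOf_injective (MulAut.conj x).toMonoidHom (MulAut.conj x).injective u).ge
        exact Subgroup.map_injective (MulAut.conj x).injective h1
      rcases hAcases t ht with rfl | rfl | rfl | rfl
      · exact absurd (by rw [hvt, mul_one]; exact mem_zpowers u) hbad
      · rw [← hvt]; exact hvv
      · exact absurd (by rw [hvt, ← huu]; exact mul_mem (mem_zpowers u) (mul_mem (mem_zpowers u)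
          (mem_zpowers u))) hbad
      · rw [hvt] at hvv
        calc u * w * (u * w) = (u * w) * (u * w) * (z * z) := by
              rw [show z * z = 1 by rw [← sq, ← hz2, pow_orderOf_eq_one], mul_one]
          _ = (u * (w * z)) * (u * (w * z)) := by
              rw [← mul_assoc u w z, ← mul_assoc (u * w * z) (u * w) z,
                mul_assoc (u * w) z (u * w), ← hzcomm (u * w), ← mul_assoc (u * w) (u * w) z,
                mul_assoc _ z z]
          _ = z := hvv
  have huniq : ∀ s ∈ F, ∀ t ∈ F, orderOf s = 2 → orderOf t = 2 → s = t := by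
    have key : ∀ s ∈ F, orderOf s = 2 → s = z := by
      intro s hs hs2
      have hss : s * s = 1 := by rw [← sq, ← hs2, pow_orderOf_eq_one]
      have hzz : z * z = 1 := by rw [← sq, ← hz2, pow_orderOf_eq_one]
      have hshift : ∀ t : G, t * t = z → (t * z) * (t * z) = z := fun t ht => by
        rw [show t * z * (t * z) = t * (z * t) * z by group, ← hzcomm, ← mul_assoc, ht,
          mul_assoc, hzz, mul_one]
      rcases hcos s hs with hA | ⟨t, ht, rfl⟩
      · rcases hAcases s hA with rfl | rfl | rfl | rfl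
        · simp at hs2
        · exact absurd (hwsq.symm.trans hss) hz1
        · rfl
        · exact absurd ((hshift w hwsq).symm.trans hss) hz1
      · rcases hAcases t ht with rfl | rfl | rfl | rfl
        · rw [mul_one] at hss
          exact absurd (huu.symm.trans hss) hz1
        · exact absurd (huw.symm.trans hss) hz1
        · exact absurd ((hshift u huu).symm.trans hss) hz1
        · have := hshift _ huw
          simp only [mul_assoc] at hss this
          exact absurd (this.symm.trans hss) hz1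
    exact fun s hs t ht hs2 ht2 => (key s hs hs2).trans (key t ht ht2).symm
  have hFn : ∀ g : G, g ∈ normalizer (F : Set G) := fun g => by rw [normalizer_eq_top]; trivial
  obtain ⟨e⟩ := equiv_quaternion_two hFp huniq (hFn x) hx
    (fun h => hx1 (hoddC x hx fun f hf => (h f hf).symm))
  let φ : G →* MulAut ↥F := MulAut.conjNormal
  let ψ : G →* MulAut (QuaternionGroup 2) := (MulAut.congr e).toMonoidHom.comp φ
  have hψ : ∀ (g : G) (f : ↥F), ψ g (e f) = e ⟨g * f * g⁻¹, hconjF g f f.2⟩ := by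
    intro g f
    show e (φ g (e.symm (e f))) = _
    rw [e.symm_apply_apply]
    rfl
  have hker : ∀ g : G, ψ g = 1 → ∀ f ∈ F, g * f = f * g := by
    intro g hg f hf
    have h1 := hψ g ⟨f, hf⟩
    rw [hg, MulAut.one_apply] at h1
    have h2 := congrArg Subtype.val (e.injective h1.symm)
    exact mul_inv_eq_iff_eq_mul.1 h2
  set α := ψ x with hα
  have hαfun : ∀ q, qFun (α (.a 1)) (α (.xa 0)) q = α q := fun q => (eq_qFun α q).symm
  have hcond : ∀ β : MulAut (QuaternionGroup 2), (β (.a 1)) ^ 2 ≠ 1 ∧ (β (.xa 0)) ^ 2 ≠ 1 ∧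
      β (.xa 0) ≠ β (.a 1) ∧ β (.xa 0) ≠ β (.a 1) ^ 3 := fun β =>
    ⟨by rw [← map_pow]; exact fun h => absurd (β.injective (h.trans (map_one β).symm)) (by decide),
      by rw [← map_pow]; exact fun h => absurd (β.injective (h.trans (map_one β).symm)) (by decide),
      fun h => absurd (β.injective h) (by decide),
      by rw [← map_pow]; exact fun h => absurd (β.injective h) (by decide)⟩
  have key := qFun_cases _ _ (hcond α).1 (hcond α).2.1 (hcond α).2.2.1 (hcond α).2.2.2
  simp only [hαfun] at key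
  rcases key with h4 | ⟨h3, i₀, hi4, hj2, hji, hjj, hgen⟩
  · exfalso
    have h1 : ψ (x ^ 4) = 1 := by
      rw [map_pow]
      exact MulEquiv.ext fun q => by simpa [pow_succ, MulAut.mul_apply] using h4 q
    have hcop : Nat.Coprime (orderOf (x ^ 4)) 2 := hx.coprime_dvd_left (orderOf_pow_dvd 4)
    have h2 := hoddC _ hcop (hker _ h1)
    exact hx1 (orderOf_eq_one_iff.1 (Nat.eq_one_of_dvd_coprimes (hx.pow_right 2) dvd_rfl
      (orderOf_dvd_of_pow_eq_one h2)))
  have hx3 : x ^ 3 = 1 := by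
    have h1 : ψ (x ^ 3) = 1 := by
      rw [map_pow]
      exact MulEquiv.ext fun q => by simpa [pow_succ, MulAut.mul_apply] using h3 q
    exact hoddC _ (hx.coprime_dvd_left (orderOf_pow_dvd 3)) (hker _ h1)
  have hcardF : Nat.card F = 8 := by
    rw [Nat.card_congr e.toEquiv, Nat.card_eq_fintype_card, QuaternionGroup.card]
  have hxo : orderOf x = 3 := orderOf_eq_prime hx3 hx1
  -- `|G| ≤ 48`
  have hG : Nat.card G ≤ 48 := by
    have h1 : Nat.card ψ.range ≤ 24 := by
      refine (Subgroup.card_le_card_group _).trans ?_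
      let P : Type := {q : QuaternionGroup 2 × QuaternionGroup 2 // q.1 ^ 2 ≠ 1 ∧ q.2 ^ 2 ≠ 1 ∧
        q.2 ≠ q.1 ∧ q.2 ≠ q.1 ^ 3}
      have hP : Nat.card P = 24 := by rw [Nat.card_eq_fintype_card]; decide +kernel
      rw [← hP]
      refine Nat.card_le_card_of_injective
        (fun β : MulAut (QuaternionGroup 2) => (⟨(β (.a 1), β (.xa 0)), hcond β⟩ : P)) ?_
      intro β γ h
      simp only [P, Subtype.mk.injEq, Prod.mk.injEq] at h
      exact MulEquiv.ext fun q => by rw [eq_qFun β, eq_qFun γ, h.1, h.2]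
    have h2 : Nat.card ψ.ker ≤ 2 := by
      have hP : Nat.card {q : QuaternionGroup 2 // ∀ r, q * r = r * q} = 2 := by
        rw [Nat.card_eq_fintype_card]; decide +kernel
      refine le_of_le_of_eq ?_ hP
      have hk : ∀ g : ψ.ker, (g : G) ∈ F := fun g => hCF fun f hf =>
        (hker g g.2 f hf).symm
      refine Nat.card_le_card_of_injective (fun g => ⟨e ⟨g.1, hk g⟩, fun r => ?_⟩) ?_
      · obtain ⟨f, rfl⟩ := e.surjective r
        rw [← map_mul, ← map_mul]
        exact congrArg e (Subtype.ext (hker g g.2 f f.2))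
      · intro g g' h
        have := e.injective (Subtype.ext_iff.1 h)
        exact Subtype.ext (congrArg (fun f : ↥F => (f : G)) this)
    have h3 := ψ.ker.card_mul_index
    rw [index_ker] at h3
    nlinarith
  set U := zpowers x ⊔ F with hU
  have hUdvd : Nat.card U ∣ 24 := by
    have := Cfsg.Agent.Cores.card_sup_dvd_mul (zpowers x) F
    rwa [Nat.card_zpowers, hxo, hcardF] at this
  have hU24 : Nat.card U = 24 := by
    refine Nat.dvd_antisymm hUdvd ?_
    have h8 : 8 ∣ Nat.card U := hcardF ▸ card_dvd_of_le le_sup_right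
    have h3' : 3 ∣ Nat.card U := by
      rw [← hxo, ← Nat.card_zpowers x]
      exact card_dvd_of_le le_sup_left
    exact Nat.Coprime.mul_dvd_of_dvd_of_dvd (m := 8) (n := 3) (by norm_num) h8 h3'
  have hUn : U.Normal := by
    have h1 := U.card_mul_index
    rw [hU24] at h1
    have h2 : U.index ≤ 2 := by omega
    have h3' : U.index ≠ 0 := index_ne_zero_of_finite
    rcases (by omega : U.index = 1 ∨ U.index = 2) with h | h
    · rw [index_eq_one] at h; rw [h]; infer_instance
    · exact normal_of_index_eq_two h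
  refine ⟨U, hUn, ?_⟩
  set i : ↥U := ⟨(e.symm i₀ : G), mem_sup_right (e.symm i₀).2⟩ with hi
  set j : ↥U := ⟨(e.symm (α i₀) : G), mem_sup_right (e.symm (α i₀)).2⟩ with hj
  set t : ↥U := ⟨x, mem_sup_left (mem_zpowers x)⟩ with ht
  let ι : QuaternionGroup 2 →* ↥U := (inclusion (le_sup_right : F ≤ U)).comp e.symm.toMonoidHom
  have hιi : ι i₀ = i := rfl
  have hιj : ι (α i₀) = j := rfl
  have hconj : ∀ q, t * ι q = ι (α q) * t := by
    intro q
    obtain ⟨f, rfl⟩ := e.surjective q
    rw [hα, hψ]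
    refine Subtype.ext ?_
    show x * ((e.symm (e f) : ↥F) : G) = ((e.symm (e ⟨x * f * x⁻¹, hconjF x f f.2⟩) : ↥F) : G) * x
    rw [e.symm_apply_apply, e.symm_apply_apply]
    show x * (f : G) = x * f * x⁻¹ * x
    group
  obtain ⟨I, J, T', hI, hJ, hJI, hT', hTI, hTJ, hB, hBc⟩ := exists_SL_two_three_gens
  refine equiv_of_rel (i := i) (j := j) (t := t) (by rw [← hιi, ← map_pow, hi4, map_one])
    (by rw [← hιi, ← hιj, ← map_pow ι, ← map_pow ι, hj2])
    (by rw [← hιi, ← hιj, ← map_pow ι, ← map_mul, ← map_mul, hji])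
    (Subtype.ext (by simpa using hx3))
    (by rw [← hιi, ← hιj]; exact hconj i₀)
    (by rw [← hιi, ← hιj, hconj, hjj, map_mul]) ?_ hU24.ge hI hJ hJI hT' hTI hTJ hB hBc
  set K := closure ({i, j, t} : Set ↥U)
  have hle : U ≤ K.map U.subtype := by
    refine sup_le (zpowers_le.2 ⟨t, subset_closure (by simp), rfl⟩) fun f hf => ?_
    obtain ⟨a', b', hab⟩ := hgen (e ⟨f, hf⟩)
    refine ⟨ι (e ⟨f, hf⟩), ?_, ?_⟩
    · rw [hab, map_mul, map_pow, map_pow, hιi, hιj]
      exact mul_mem (pow_mem (subset_closure (by simp)) _) (pow_mem (subset_closure (by simp)) _)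
    · show ((e.symm (e ⟨f, hf⟩) : ↥F) : G) = f
      rw [e.symm_apply_apply]
  refine eq_top_iff.2 fun y _ => ?_
  obtain ⟨y', hy', hye⟩ := hle y.2
  have : y' = y := Subtype.ext hye
  rwa [← this]

end Cfsg.Agent.S2879
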