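import Cfsg.Statements.S2880
import Cfsg.Agent.PGroup.Extraspecial
-- import your own Cfsg.Agent.* helpers here

set_option autoImplicit false
open Cfsg
set_option linter.unusedVariables false
open Subgroup Cfsg.Agent.PGroup
open scoped commutatorElement

namespace Cfsg.Agent.S2880

/-- Let E be an extraspecial 2-group of order 2^(2m+1) of plus type, that is, containing an elementary abelian subgroup of order 2^(m+1) (equivalently, a central product of m dihedral groups of order 8). Then E has exactly 2^(2m) − 2^m elements of order 4. -/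
theorem result {E : Type*} [Group E] [Finite E] (m : ℕ) (hm : 1 ≤ m) (hE : Cfsg.IsExtraspecial 2 E) (hcard : Nat.card E = 2 ^ (2 * m + 1)) (hplus : ∃ A : Subgroup E, Cfsg.IsElementaryAbelian 2 A ∧ Nat.card A = 2 ^ (m + 1)) : Nat.card {x : E // orderOf x = 4} = 2 ^ (2 * m) - 2 ^ m := by
  classical
  haveI : Fact (Nat.Prime 2) := ⟨Nat.prime_two⟩
  haveI : Fintype E := Fintype.ofFinite E
  obtain ⟨A, hA, hAcard⟩ := hplus
  have hcomm : ∀ a ∈ A, ∀ b ∈ A, a * b = b * a := fun a ha b hb =>
    congrArg Subtype.val (hA.1.is_comm.comm ⟨a, ha⟩ ⟨b, hb⟩)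
  -- the centre lies in `A`, and `A` is self-centralizing
  have hZA : Subgroup.center E ≤ A := by
    set B := A ⊔ Subgroup.center E
    have hBcomm : IsMulCommutative B := by
      have hle : B ≤ centralizer (B : Set E) := by
        refine sup_le (le_centralizer_iff.1 (sup_le ?_ (center_le_centralizer _)))
          (center_le_centralizer _)
        exact fun a ha b hb => hcomm b hb a ha
      exact ⟨⟨fun a b => Subtype.ext (hle b.2 a a.2)⟩⟩
    have h1 := extraspecial_card_abelian_le hE hcard hBcomm
    have h2 : A = B := Subgroup.eq_of_le_of_card_ge le_sup_left (hAcard ▸ h1)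
    exact h2 ▸ le_sup_right
  have hC : centralizer (A : Set E) = A := by
    refine (Subgroup.eq_of_le_of_card_ge (show A ≤ centralizer (A : Set E) from fun a ha b hb => hcomm b hb a ha) ?_).symm
    have := extraspecial_card_centralizer_mul hE hZA
    rw [hAcard, hcard, ← pow_succ] at this
    have h3 : 2 ^ (2 * m + 1 + 1) = 2 ^ (m + 1) * 2 ^ (m + 1) := by rw [← pow_add]; congr 1; omega
    rw [hAcard]
    nlinarith [pow_pos (show (0 : ℕ) < 2 by norm_num) (m + 1)]
  have hsq : ∀ x : E, x ^ 2 ∈ Subgroup.center E := special_pow_mem_center hE.1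
  have hord : ∀ x : E, orderOf x = 4 ↔ x ^ 2 ≠ 1 := by
    intro x
    constructor
    · intro h h2
      have := Nat.le_of_dvd (by norm_num) (orderOf_dvd_of_pow_eq_one h2)
      omega
    · intro h
      exact orderOf_eq_prime_pow (p := 2) (n := 1) (by simpa using h)
        (by rw [show 2 ^ (1 + 1) = 2 * 2 by norm_num, pow_mul]; exact special_center_pow hE.1 (hsq x))
  have htwo : ∀ c ∈ Subgroup.center E, ∀ d ∈ Subgroup.center E, c ≠ 1 → d ≠ 1 → c = d := by
    intro c hc d hd hc1 hd1
    rw [extraspecial_center_eq_zpowers hE hc hc1, mem_zpowers_iff] at hd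
    obtain ⟨k, rfl⟩ := hd
    rcases Int.even_or_odd k with ⟨j, rfl⟩ | ⟨j, rfl⟩
    · exfalso; apply hd1
      rw [← two_mul, zpow_mul]; norm_cast; rw [special_center_pow hE.1 hc, one_zpow]
    · rw [zpow_add, zpow_one, zpow_mul]; norm_cast; rw [special_center_pow hE.1 hc, one_zpow, one_mul]
  -- on every coset outside `A` some element of `A` toggles the squares
  have hex : ∀ q : E ⧸ A, ∃ a ∈ A, ∀ x : E, (x : E ⧸ A) = q → x ∉ A →
      ((x * a) ^ 2 = 1 ↔ x ^ 2 ≠ 1) := by
    intro q
    by_cases h : ∃ x : E, (x : E ⧸ A) = q ∧ x ∉ A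
    · obtain ⟨x, hxq, hx⟩ := h
      have : ∃ a ∈ A, x * a ≠ a * x := by
        by_contra h'
        push Not at h'
        apply hx
        rw [← hC]
        exact fun a ha => (h' a ha).symm
      obtain ⟨a, ha, hne⟩ := this
      refine ⟨a, ha, fun y hy hyA => ?_⟩
      have hmem : x⁻¹ * y ∈ A := QuotientGroup.eq.1 (hxq.trans hy.symm)
      have hne' : y * a ≠ a * y := by
        intro e
        apply hne
        have h1 := hcomm _ hmem a ha
        calc x * a = y * ((x⁻¹ * y)⁻¹ * a) := by group
          _ = y * (a * (x⁻¹ * y)⁻¹) := by rw [hcomm _ (inv_mem hmem) a ha]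
          _ = (y * a) * (x⁻¹ * y)⁻¹ := by group
          _ = (a * y) * (x⁻¹ * y)⁻¹ := by rw [e]
          _ = a * x := by group
      set z := ⁅a, y⁆ with hz
      have hz1 : z ≠ 1 := fun e => hne' (commutatorElement_eq_one_iff_mul_comm.1 e).symm
      have hzc : z ∈ Subgroup.center E := special_commutatorElement_mem hE.1 a y
      have hexp : (y * a) ^ 2 = y ^ 2 * z := by
        have e1 : a * y = z * (y * a) := by rw [hz, commutatorElement_def]; group
        calc (y * a) ^ 2 = y * (a * y) * a := by rw [sq]; group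
          _ = y * (z * (y * a)) * a := by rw [e1]
          _ = z * (y * y) * (a * a) := by
              rw [← mul_assoc y z, Subgroup.mem_center_iff.1 hzc y]; group
          _ = y ^ 2 * z := by
              rw [← sq a, hA.2 a ha, mul_one, ← sq, Subgroup.mem_center_iff.1 hzc (y ^ 2)]
      rw [hexp]
      constructor
      · intro h1 h2
        rw [h2, one_mul] at h1
        exact hz1 h1
      · intro h2
        rw [htwo _ (hsq y) z hzc h2 hz1]
        exact (sq z).symm.trans (special_center_pow hE.1 hzc)
    · exact ⟨1, one_mem A, fun x hxq hx => (h ⟨x, hxq, hx⟩).elim⟩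
  choose α hα hαt using hex
  have hcos : ∀ (x : E) (q : E ⧸ A), ((x * α q : E) : E ⧸ A) = (x : E ⧸ A) := fun x q =>
    QuotientGroup.mk_mul_of_mem _ (hα q)
  let f : E → E := fun x => x * α (x : E ⧸ A)
  have hff : ∀ x, f (f x) = x := by
    intro x
    simp only [f, hcos]
    rw [mul_assoc, ← sq, hA.2 _ (hα _), mul_one]
  have hfA : ∀ x, f x ∈ A ↔ x ∈ A := fun x => A.mul_mem_cancel_right (hα _)
  have hnA : ∀ x : E, x ^ 2 ≠ 1 → x ∉ A := fun x hx hxA => hx (hA.2 x hxA)
  set S := Finset.univ.filter (fun x : E => x ^ 2 ≠ 1)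
  set T := Finset.univ.filter (fun x : E => x ∉ A ∧ x ^ 2 = 1)
  have hST : S.card = T.card := by
    refine Finset.card_bij' (fun x _ => f x) (fun x _ => f x) ?_ ?_ (fun x _ => hff x) (fun x _ => hff x)
    · intro x hx
      simp only [S, T, Finset.mem_filter, Finset.mem_univ, true_and] at hx ⊢
      have hxA := hnA x hx
      exact ⟨fun h => hxA ((hfA x).1 h), (hαt _ x rfl hxA).2 hx⟩
    · intro x hx
      simp only [S, T, Finset.mem_filter, Finset.mem_univ, true_and] at hx ⊢
      intro h
      exact ((hαt _ x rfl hx.1).1 h) hx.2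
  have hsum : S.card + T.card + Nat.card A = Nat.card E := by
    have hd : Disjoint S T := Finset.disjoint_filter.2 fun x _ h1 h2 => h1 h2.2
    have hU : S ∪ T = Finset.univ.filter (fun x : E => x ∉ A) := by
      ext x
      simp only [S, T, Finset.mem_union, Finset.mem_filter, Finset.mem_univ, true_and]
      exact ⟨fun h => h.elim (hnA x) And.left, fun h => by tauto⟩
    rw [← Finset.card_union_of_disjoint hd, hU, Nat.card_eq_fintype_card, Nat.card_eq_fintype_card,
      Fintype.card_subtype, add_comm, Finset.card_filter_add_card_filter_not, Finset.card_univ]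
  have hres : Nat.card {x : E // orderOf x = 4} = S.card := by
    rw [Nat.card_eq_fintype_card, Fintype.card_subtype]
    exact congrArg Finset.card (Finset.filter_congr fun x _ => hord x)
  rw [hres]
  rw [hAcard, hcard] at hsum
  have h1 : 2 ^ (2 * m + 1) = 2 * 2 ^ (2 * m) := by rw [pow_succ]; ring
  have h2 : 2 ^ (m + 1) = 2 * 2 ^ m := by rw [pow_succ]; ring
  omega

end Cfsg.Agent.S2880
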