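import Cfsg.Statements.S2881
import Cfsg.Agent.S2880
import Cfsg.Agent.PGroup.Extraspecial
-- import your own Cfsg.Agent.* helpers here

set_option autoImplicit false
open Cfsg
set_option linter.unusedVariables false

namespace Cfsg.Agent.S2881

/-- Let E be an extraspecial 2-group of order 2^(2m+1) of plus type (containing an elementary abelian subgroup of order 2^(m+1)), and let ω be an automorphism of E of order 5 whose fixed points are exactly the centre of E. Then m is divisible by 4. -/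
theorem result {E : Type*} [Group E] [Finite E] (m : ℕ) (hm : 1 ≤ m) (hE : Cfsg.IsExtraspecial 2 E) (hcard : Nat.card E = 2 ^ (2 * m + 1)) (hplus : ∃ A : Subgroup E, Cfsg.IsElementaryAbelian 2 A ∧ Nat.card A = 2 ^ (m + 1)) (ω : E ≃* E) (hω : orderOf ω = 5) (hfix : ∀ x : E, ω x = x ↔ x ∈ Subgroup.center E) : 4 ∣ m := by
  classical
  haveI : Fact (Nat.Prime 5) := ⟨by decide⟩
  haveI : Fintype E := Fintype.ofFinite E
  have hcnt := Cfsg.Agent.S2880.result m hm hE hcard hplus
  let α := {x : E // orderOf x = 4}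
  let f : Function.End α := fun x => ⟨ω x.1, by rw [MulEquiv.orderOf_eq]; exact x.2⟩
  have hiter : ∀ (n : ℕ) (x : α), ((f ^ n) x).1 = (ω ^ n) x.1 := by
    intro n
    induction n with
    | zero => intro x; rfl
    | succ n ih =>
      intro x
      rw [pow_succ, pow_succ]
      exact ih (f x)
  have hpow : f ^ 5 ^ 1 = 1 := by
    funext x
    refine Subtype.ext ?_
    rw [hiter, pow_one, ← hω, pow_orderOf_eq_one]
    rfl
  have hmod := Equiv.Perm.card_fixedPoints_modEq (p := 5) (n := 1) hpow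
  have hfix : IsEmpty (Function.fixedPoints f) := by
    refine ⟨fun ⟨x, hx⟩ => ?_⟩
    have h1 : x.1 ∈ Subgroup.center E := (hfix x.1).1 (congrArg Subtype.val hx)
    have h2 := Subgroup.orderOf_dvd_natCard _ h1
    rw [hE.2, x.2] at h2
    norm_num at h2
  rw [Fintype.card_eq_zero_iff.2 hfix, Fintype.card_eq_nat_card, hcnt] at hmod
  have h3 : 5 ∣ 2 ^ (2 * m) - 2 ^ m := Nat.modEq_zero_iff_dvd.1 hmod
  rw [show 2 ^ (2 * m) - 2 ^ m = 2 ^ m * (2 ^ m - 1) by
    rw [Nat.mul_sub, mul_one, ← pow_add, two_mul]] at h3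
  have h4 : 5 ∣ 2 ^ m - 1 :=
    (Nat.Coprime.dvd_of_dvd_mul_left (Nat.Coprime.pow_right m (by norm_num)) h3)
  have h5 : ∀ q : ℕ, 2 ^ (4 * q) % 5 = 1 := by
    intro q; rw [pow_mul, Nat.pow_mod]; norm_num
  obtain ⟨q, r, hr, rfl⟩ : ∃ q r, r < 4 ∧ m = 4 * q + r := ⟨m / 4, m % 4, by omega, by omega⟩
  have h6 : (2 ^ (4 * q + r)) % 5 = 2 ^ r % 5 := by
    rw [pow_add, Nat.mul_mod, h5, one_mul, Nat.mod_mod]
  have h7 := Nat.one_le_two_pow (n := 4 * q + r)
  interval_cases r <;> omega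

end Cfsg.Agent.S2881
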