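import Cfsg.Statements.S3161
import Cfsg.Agent.TwoAut.FixedField
import Cfsg.Agent.TwoAut.DeltaTargets

set_option autoImplicit false
open Cfsg

namespace Cfsg.Agent.S3161

/-- Let Q be a non-abelian finite 2-group admitting commuting automorphisms α of order 2 and ρ of order 2^n − 1, where n ≥ 2, such that the fixed points of α form an elementary abelian subgroup of order 2^n on whose nonidentity elements the group generated by ρ acts transitively. Then Q is isomorphic to a Sylow 2-subgroup of the projective special unitary group of dimension 3 with parameter 2^n (realised over the field with 4^n elements) or of the projective special linear group of dimension 3 over the field with 2^n elements. -/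
theorem result {Q : Type*} [Group Q] [Finite Q] (hQ : IsPGroup 2 Q) (hna : ¬ IsMulCommutative Q) (n : ℕ) (hn : 2 ≤ n)
    (α ρ : MulAut Q) (hα : orderOf α = 2) (hρ : orderOf ρ = 2 ^ n - 1) (hc : Commute α ρ)
    (C : Subgroup Q) (hC : ∀ x : Q, x ∈ C ↔ α x = x) (hCE : Cfsg.IsElementaryAbelian 2 C ∧ Nat.card ↥C = 2 ^ n)
    (htr : ∀ x y : Q, x ∈ C → y ∈ C → x ≠ 1 → y ≠ 1 → ∃ k : ℕ, (ρ ^ k) x = y) :
    (∃ (F : Type) (_ : Field F) (_ : Fintype F), Fintype.card F = 4 ^ n ∧
        ∃ S : Sylow 2 (Cfsg.PSU 3 F (2 ^ n)), Nonempty (Q ≃* ↥(S : Subgroup (Cfsg.PSU 3 F (2 ^ n))))) ∨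
      (∃ (F : Type) (_ : Field F) (_ : Fintype F), Fintype.card F = 2 ^ n ∧
        ∃ S : Sylow 2 (Matrix.ProjectiveSpecialLinearGroup (Fin 3) F), Nonempty (Q ≃* ↥(S : Subgroup (Matrix.ProjectiveSpecialLinearGroup (Fin 3) F)))) := by
  classical
  haveI : Fact (Nat.Prime 2) := ⟨Nat.prime_two⟩
  have hinvol : ∀ x, α (α x) = x := fun x => by
    have h : α ^ 2 = 1 := by rw [← hα]; exact pow_orderOf_eq_one α
    have := DFunLike.congr_fun h x
    rwa [sq] at this
  have hcomm : ∀ x, α (ρ x) = ρ (α x) := fun x => DFunLike.congr_fun hc.eq x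
  have hρC : ∀ x, x ∈ C → ρ x ∈ C := fun x hx => by
    rw [hC] at hx ⊢; rw [hcomm, hx]
  obtain ⟨L, lam, hL, hLinj, hLrho, hgen, hbig⟩ :=
    Cfsg.Agent.TwoAut.exists_subgroup_field_coords C hCE.1 n hn hCE.2 ρ hρC htr
  have hn0 : n ≠ 0 := by omega
  letI : Fintype (GaloisField 2 n) := Fintype.ofFinite _
  have hcard : Fintype.card (GaloisField 2 n) = 2 ^ n := by
    rw [← Nat.card_eq_fintype_card, GaloisField.card 2 n hn0]
  have hlam0 : lam ≠ 0 := by
    intro h
    obtain ⟨t, ht0, ht1⟩ := hbig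
    obtain ⟨k, hk⟩ := hgen t ht0
    rcases k with _ | k
    · exact ht1 (by rw [← hk, pow_zero])
    · exact ht0 (by rw [← hk, h, zero_pow (Nat.succ_ne_zero k)])
  let S : Cfsg.Agent.TwoAut.DeltaChain.Setup Q (GaloisField 2 n) :=
    { α := α, ρ := ρ, L := L, lam := lam, hQ := hQ, invol := hinvol, comm := hcomm
      L_mul := fun x y hx hy => hL x y ((hC x).2 hx) ((hC y).2 hy)
      L_inj := fun x hx => hLinj x ((hC x).2 hx)
      L_rho := fun x hx => hLrho x ((hC x).2 hx)
      gen := hgen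
      two := CharTwo.two_eq_zero
      big := hbig }
  have hna' : ∃ a b : Q, a * b ≠ b * a := by
    by_contra h
    push_neg at h
    exact hna ⟨⟨h⟩⟩
  have hodd : Odd (2 ^ n - 1) := Nat.Even.sub_odd Nat.one_le_two_pow
    (Nat.even_pow.2 ⟨even_two, hn0⟩) odd_one
  obtain ⟨k, ⟨e⟩⟩ := S.coords hna' (2 ^ n - 1) hodd (by rw [← hρ]; exact pow_orderOf_eq_one ρ)
    (by rw [← hcard]; exact FiniteField.pow_card_sub_one_eq_one lam hlam0)
  by_cases hk : ∃ t : GaloisField 2 n, t * t + t = k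
  · obtain ⟨t, ht⟩ := hk
    obtain ⟨P, ⟨e'⟩⟩ := Cfsg.Agent.TwoAut.exists_sylow_psl_quadExt hn0 hcard ht
    exact Or.inr ⟨_, inferInstance, inferInstance, hcard, P,
      Cfsg.Agent.TwoAut.QuadExt.iso e e' CharTwo.add_self_eq_zero⟩
  · push_neg at hk
    obtain ⟨K, iK, fK, hK, P, ⟨e'⟩⟩ := Cfsg.Agent.TwoAut.exists_sylow_psu_quadExt hn0 hcard hk
    exact Or.inl ⟨K, iK, fK, hK, P,
      Cfsg.Agent.TwoAut.QuadExt.iso e e' CharTwo.add_self_eq_zero⟩

end Cfsg.Agent.S3161
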