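import Cfsg.Statements.S2933
import Cfsg.Agent.S3161
import Cfsg.Agent.TwoAut.FpfThreeClass
-- import your own Cfsg.Agent.* helpers here

set_option autoImplicit false
open Cfsg

namespace Cfsg.Agent.S2933

open scoped Pointwise

universe u

/-- The abelian case. -/
theorem abelian_case {T : Type u} [CommGroup T] [Finite T] (hp : IsPGroup 2 T) (α ρ : MulAut T)
    (hinv : ∀ x, α (α x) = x) (h : TwoAut.FpfThree ρ) (hne : ∃ v : T, v ≠ 1)
    (C : Subgroup T) (hC : ∀ x : T, x ∈ C ↔ α x = x) (hC4 : Nat.card C = 4) (hC2 : ∀ v ∈ C, v ^ 2 = 1)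
    (hρC : ∀ x ∈ C, ρ x ∈ C) :
    (Nat.card T = 16 ∧ ∀ x : T, x ^ 2 = 1) ∨
      ∃ n : ℕ, 1 ≤ n ∧ Nonempty (T ≃* Multiplicative (ZMod (2 ^ n)) × Multiplicative (ZMod (2 ^ n))) := by
  haveI : Fact (Nat.Prime 2) := ⟨Nat.prime_two⟩
  haveI : Nontrivial T := by obtain ⟨v, hv⟩ := hne; exact ⟨⟨v, 1, hv⟩⟩
  by_cases hΩ : Nat.card (powMonoidHom 2 : T →* T).ker ≤ 4
  · obtain ⟨n, x, hn, -, ⟨e⟩⟩ := TwoAut.homocyclic_of_fpfThree hp h hΩ
    exact Or.inr ⟨n, hn, ⟨e.trans (MulEquiv.prodMultiplicative _ _)⟩⟩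
  · left
    set E := (powMonoidHom 2 : T →* T).ker with hE
    -- elements squaring into `C`
    let Y : Subgroup T := C.comap (powMonoidHom 2)
    have hαsq : ∀ x : T, α (x ^ 2) = (α x) ^ 2 := fun x => map_pow α x 2
    let δ : Y →* T := {
      toFun := fun y => (y : T)⁻¹ * α y
      map_one' := by simp
      map_mul' := fun a b => by simp only [Subgroup.coe_mul, map_mul, mul_inv_rev]; ac_rfl }
    have hδC : ∀ y, δ y ∈ C := by
      intro y
      have h1 : α ((y : T) ^ 2) = (y : T) ^ 2 := (hC _).1 y.2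
      have h2 : (δ y) ^ 2 = 1 := by
        show ((y : T)⁻¹ * α y) ^ 2 = 1
        rw [mul_pow, ← hαsq, h1, inv_pow, inv_mul_cancel]
      have h3 : α (δ y) = (δ y)⁻¹ := by
        show α ((y : T)⁻¹ * α y) = ((y : T)⁻¹ * α y)⁻¹
        rw [map_mul, map_inv, hinv, mul_inv_rev, inv_inv]
      rw [hC, h3]
      exact inv_eq_of_mul_eq_one_right (by rw [← pow_two]; exact h2)
    have hY : Nat.card Y ≤ 16 := by
      have h1 : Nat.card δ.range ≤ 4 := hC4 ▸ Subgroup.card_le_of_le (by rintro _ ⟨y, rfl⟩; exact hδC y)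
      have h2 : Nat.card δ.ker ≤ 4 := by
        rw [← hC4]
        refine Nat.card_le_card_of_injective (fun y : δ.ker => (⟨((y : Y) : T), ?_⟩ : C)) fun a b e => ?_
        · rw [hC]
          exact (inv_mul_eq_one.1 y.2).symm
        · exact Subtype.ext (Subtype.ext (congrArg Subtype.val e :))
      have h3 := δ.ker.card_mul_index
      rw [Subgroup.index_ker] at h3
      rw [← h3]
      exact Nat.mul_le_mul h2 h1
    have hEY : E ≤ Y := fun x hx => by
      show x ^ 2 ∈ C
      rw [show x ^ 2 = 1 from hx]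
      exact one_mem C
    have hE16 : 16 ≤ Nat.card E := by
      obtain ⟨k, hk⟩ := (hp.to_subgroup E).exists_card_eq
      have h3 := h.card_mod_three E fun x hx => by
        show ρ x ^ 2 = 1
        rw [← map_pow, show x ^ 2 = 1 from hx, map_one]
      rw [hk] at hΩ h3 ⊢
      rcases k with _ | _ | _ | _ | k <;> try omega
    have hEYeq : E = Y := Subgroup.eq_of_le_of_card_ge hEY (hY.trans hE16)
    have hexp : ∀ x : T, x ^ 2 = 1 := by
      by_contra hall
      push Not at hall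
      obtain ⟨x, hx⟩ := hall
      -- a nontrivial square of order two, fixed by `α`
      obtain ⟨z, hz, hz1⟩ : ∃ z : T, (z ^ 2) ^ 2 = 1 ∧ z ^ 2 ≠ 1 := by
        obtain ⟨k, hk⟩ := IsPGroup.iff_orderOf.1 hp x
        rcases k with _ | _ | k
        · exact absurd (by rw [← orderOf_dvd_iff_pow_eq_one, hk]; norm_num) hx
        · exact absurd (by rw [← orderOf_dvd_iff_pow_eq_one, hk, pow_one]) hx
        · refine ⟨x ^ 2 ^ k, ?_, ?_⟩
          · rw [← pow_mul, ← pow_mul, show 2 ^ k * (2 * 2) = 2 ^ (k + 1 + 1) by ring, ← hk, pow_orderOf_eq_one]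
          · rw [← pow_mul, ← pow_succ, Ne, ← orderOf_dvd_iff_pow_eq_one, hk]
            exact fun hd => absurd (Nat.le_of_dvd (by positivity) hd)
              (not_le.2 (Nat.pow_lt_pow_right (by norm_num) (by omega)))
      obtain ⟨y, hy, hy1⟩ : ∃ y : T, α (y ^ 2) = y ^ 2 ∧ y ^ 2 ≠ 1 := by
        by_cases hf : α (z ^ 2) = z ^ 2
        · exact ⟨z, hf, hz1⟩
        · refine ⟨z * α z, by rw [mul_pow, map_mul, ← hαsq, hinv, mul_comm], fun e => hf ?_⟩
          rw [mul_pow, ← hαsq] at e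
          rw [← inv_eq_of_mul_eq_one_right e]
          exact inv_eq_of_mul_eq_one_right (by rw [← pow_two]; exact hz)
      have hyY : y ∈ Y := (hC _).2 hy
      rw [← hEYeq] at hyY
      exact hy1 hyY
    have htop : E = ⊤ := (Subgroup.eq_top_iff' _).2 hexp
    refine ⟨le_antisymm ?_ ?_, hexp⟩
    · rw [← Subgroup.card_top (G := T), ← htop, hEYeq]; exact hY
    · rw [← Subgroup.card_top (G := T), ← htop]; exact hE16


/-- Let T be a 2-subgroup of a finite group G, V ≤ Z(T) a four-group, and t, ρ ∈ N_G(V) ∩ N_G(T) elements of order 2 and 3 with t commuting with ρ and with V. If [V, ρ] = V and C_T(t) = V, then T is elementary abelian of order 16, or homocyclic of rank 2 (ℤ/2ⁿ × ℤ/2ⁿ for some n ≥ 1), or isomorphic to a Sylow 2-subgroup of PSL₃(4) or of PSU₃(4). -/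
theorem result {G : Type*} [Group G] [Finite G] (T V : Subgroup G) (hT : IsPGroup 2 ↥T) (hVT : V ≤ T ⊓ Subgroup.centralizer (T : Set G)) (hV : Nat.card ↥V = 4 ∧ ∀ v ∈ V, v ^ 2 = 1) (t ρ : G) (ht : orderOf t = 2) (hρ : orderOf ρ = 3) (htn : t ∈ Subgroup.normalizer (V : Set G) ⊓ Subgroup.normalizer (T : Set G)) (hρn : ρ ∈ Subgroup.normalizer (V : Set G) ⊓ Subgroup.normalizer (T : Set G)) (htρ : t * ρ = ρ * t) (htV : t ∈ Subgroup.centralizer (V : Set G)) (hVρ : ⁅V, Subgroup.zpowers ρ⁆ = V) (hCt : T ⊓ Subgroup.centralizer ({t} : Set G) = V) : (Nat.card ↥T = 16 ∧ ∀ x ∈ T, x ^ 2 = 1) ∨ (∃ n : ℕ, 1 ≤ n ∧ Nonempty (↥T ≃* Multiplicative (ZMod (2 ^ n)) × Multiplicative (ZMod (2 ^ n)))) ∨ (∃ (F : Type) (_ : Field F) (_ : Fintype F), Fintype.card F = 4 ∧ ∀ P : Sylow 2 (Matrix.ProjectiveSpecialLinearGroup (Fin 3) F), Nonempty (↥T ≃* ↥(P : Subgroup (Matrix.ProjectiveSpecialLinearGroup (Fin 3) F)))) ∨ (∃ (F : Type) (_ : Field F) (_ : Fintype F), Fintype.card F = 16 ∧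 ∀ P : Sylow 2 (Cfsg.PSU 3 F 4), Nonempty (↥T ≃* ↥(P : Subgroup (Cfsg.PSU 3 F 4)))) := by
  haveI : Fact (Nat.Prime 2) := ⟨Nat.prime_two⟩
  haveI : Fact (Nat.Prime 3) := ⟨Nat.prime_three⟩
  classical
  let R := Subgroup.normalizerMonoidHom T
  let α : MulAut T := R ⟨t, (Subgroup.mem_inf.1 htn).2⟩
  let σ : MulAut T := R ⟨ρ, (Subgroup.mem_inf.1 hρn).2⟩
  have hα : ∀ x : T, ((α x : T) : G) = t * x * t⁻¹ := fun x => rfl
  have hσ : ∀ x : T, ((σ x : T) : G) = ρ * x * ρ⁻¹ := fun x => rfl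
  have ht2 : t * t = 1 := by rw [← pow_two, ← ht]; exact pow_orderOf_eq_one t
  have hρ3 : ρ * ρ * ρ = 1 := by
    rw [← pow_two, ← pow_succ, show 2 + 1 = orderOf ρ from hρ.symm]; exact pow_orderOf_eq_one ρ
  have hinv : ∀ x, α (α x) = x := fun x => Subtype.ext (by
    rw [hα, hα]
    calc t * (t * x * t⁻¹) * t⁻¹ = (t * t) * x * (t * t)⁻¹ := by group
      _ = x := by rw [ht2]; group)
  have hcube : ∀ x, σ (σ (σ x)) = x := fun x => Subtype.ext (by
    rw [hσ, hσ, hσ]
    calc ρ * (ρ * (ρ * x * ρ⁻¹) * ρ⁻¹) * ρ⁻¹ = (ρ * ρ * ρ) * x * (ρ * ρ * ρ)⁻¹ := by group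
      _ = x := by rw [hρ3]; group)
  have hcomm : ∀ x, α (σ x) = σ (α x) := fun x => Subtype.ext (by
    rw [hα, hσ, hσ, hα]
    calc t * (ρ * x * ρ⁻¹) * t⁻¹ = (t * ρ) * x * (t * ρ)⁻¹ := by group
      _ = ρ * (t * x * t⁻¹) * ρ⁻¹ := by rw [htρ]; group)
  set C : Subgroup T := V.subgroupOf T with hCdef
  have hVleT : V ≤ T := fun v hv => (Subgroup.mem_inf.1 (hVT hv)).1
  have hC : ∀ x : T, x ∈ C ↔ α x = x := by
    intro x
    rw [hCdef, Subgroup.mem_subgroupOf, ← hCt, Subgroup.mem_inf, Subgroup.mem_centralizer_singleton_iff,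
      Subtype.ext_iff, hα, mul_inv_eq_iff_eq_mul]
    exact ⟨fun h => by first | exact h.2 | exact h.2.symm, fun h => ⟨x.2, by first | exact h | exact h.symm⟩⟩
  have hC4 : Nat.card C = 4 := by
    rw [← hV.1]
    exact Nat.card_congr (Subgroup.subgroupOfEquivOfLe hVleT).toEquiv
  have hC2 : ∀ v ∈ C, v ^ 2 = 1 := fun v hv => Subtype.ext (by
    rw [Subgroup.coe_pow, Subgroup.coe_one]; exact hV.2 _ hv)
  have hσC : ∀ x, x ∈ C → σ x ∈ C := fun x hx => by
    rw [hC] at hx ⊢; rw [hcomm, hx]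
  -- `ρ` has no fixed points on `C`
  have hVfix : ∀ v ∈ C, σ v = v → v = 1 := by
    intro v hv hfix
    by_contra h1
    have hall : ∀ w ∈ C, σ w = w := by
      intro w hw
      by_cases w1 : w = 1
      · rw [w1, map_one]
      by_cases wv : w = v
      · rw [wv, hfix]
      have hwv : w * v ∈ C := mul_mem hw hv
      have hset : ({1, v, w, w * v} : Finset T) = (Set.toFinite (C : Set T)).toFinset := by
        refine Finset.eq_of_subset_of_card_le ?_ ?_
        · intro z hz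
          rw [Set.Finite.mem_toFinset]
          simp only [Finset.mem_insert, Finset.mem_singleton] at hz
          rcases hz with rfl | rfl | rfl | rfl
          exacts [one_mem C, hv, hw, hwv]
        · rw [← Set.ncard_eq_toFinset_card, ← Nat.card_coe_set_eq, show Nat.card (C : Set T) = 4 from hC4]
          have hvv : v * v = 1 := by rw [← pow_two]; exact hC2 v hv
          have e1 : w * v ≠ 1 := fun e => wv (by
            calc w = w * (v * v) := by rw [hvv, mul_one]
              _ = v := by rw [← mul_assoc, e, one_mul])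
          have e2 : w * v ≠ v := fun e => w1 (mul_eq_right.1 e)
          have e3 : w * v ≠ w := fun e => h1 (mul_eq_left.1 e)
          simp [Finset.card_insert_of_notMem, Ne.symm h1, Ne.symm w1, Ne.symm wv, Ne.symm e1, Ne.symm e2, Ne.symm e3]
      have hmem : σ w ∈ ({1, v, w, w * v} : Finset T) := by
        rw [hset, Set.Finite.mem_toFinset]; exact hσC w hw
      simp only [Finset.mem_insert, Finset.mem_singleton] at hmem
      rcases hmem with e | e | e | e
      · exact absurd (σ.injective (e.trans (map_one σ).symm)) w1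
      · exact absurd (σ.injective (e.trans hfix.symm)) wv
      · exact e
      · exfalso
        have h2 : σ (σ w) = w := by
          rw [e, map_mul, e, hfix, mul_assoc, ← pow_two, hC2 v hv, mul_one]
        have h3 := hcube w
        rw [h2, e] at h3
        exact h1 (mul_eq_left.1 h3)
    have hbot : ⁅V, Subgroup.zpowers ρ⁆ = ⊥ := by
      rw [Subgroup.commutator_eq_bot_iff_le_centralizer]
      intro w hw
      rw [Subgroup.mem_centralizer_iff]
      intro g hg
      obtain ⟨k, rfl⟩ := hg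
      have h1 := congrArg Subtype.val (hall ⟨w, hVleT hw⟩ hw)
      rw [hσ] at h1
      have h2 : Commute ρ w := by
        show ρ * w = w * ρ
        exact mul_inv_eq_iff_eq_mul.1 h1
      exact (h2.zpow_left k).eq
    rw [hVρ] at hbot
    have := hV.1
    rw [hbot, Subgroup.card_bot] at this
    omega
  -- no fixed points at all
  have hfpf : TwoAut.FpfThree σ := by
    refine ⟨hcube, fun x hx => ?_⟩
    by_contra hx1
    let K : Subgroup T := {
      carrier := {y | σ y = y}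
      mul_mem' := fun {a b} ha hb => by simp only [Set.mem_ofPred_eq, map_mul] at *; rw [ha, hb]
      one_mem' := map_one σ
      inv_mem' := fun {a} ha => by simp only [Set.mem_ofPred_eq, map_inv] at *; rw [ha] }
    have hαK : ∀ y ∈ K, α y ∈ K := fun y hy => by
      show σ (α y) = α y
      rw [← hcomm, show σ y = y from hy]
    let e : Equiv.Perm K := Function.Involutive.toPerm (fun y => ⟨α y, hαK y y.2⟩) fun y => Subtype.ext (hinv y)
    haveI := Fintype.ofFinite K
    obtain ⟨k, hk⟩ := ((hT.to_subgroup K).exists_card_eq)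
    have hk0 : k ≠ 0 := fun e0 => by
      rw [e0, pow_zero] at hk
      have h1 := (Nat.card_eq_one_iff_unique.1 hk).1
      exact hx1 (congrArg Subtype.val (Subsingleton.elim (⟨x, hx⟩ : K) 1))
    have he : e ^ (2 ^ 1) = 1 := by
      rw [pow_one, pow_two]
      exact Equiv.ext fun y => Subtype.ext (hinv y)
    obtain ⟨y, hy, hy1⟩ := Equiv.Perm.exists_fixed_point_of_prime' (p := 2) (n := 1)
      (by rw [← Nat.card_eq_fintype_card, hk]; exact dvd_pow_self 2 hk0) he
      (a := 1) (Subtype.ext (map_one α))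
    have hyC : (y : T) ∈ C := (hC _).2 (congrArg Subtype.val hy)
    exact hy1 (Subtype.ext (hVfix _ hyC y.2))
  obtain ⟨v₀, hv₀, hv₀1⟩ : ∃ v ∈ C, v ≠ 1 := by
    have : C ≠ ⊥ := fun e => by rw [e, Subgroup.card_bot] at hC4; omega
    exact C.bot_or_exists_ne_one.resolve_left this
  by_cases hab : ∀ x y : T, x * y = y * x
  · letI : CommGroup T := { (inferInstance : Group T) with mul_comm := hab }
    rcases abelian_case hT α σ hinv hfpf ⟨v₀, hv₀1⟩ C hC hC4 hC2 hσC with ⟨h1, h2⟩ | h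
    · exact Or.inl ⟨h1, fun x hx => congrArg Subtype.val (h2 ⟨x, hx⟩)⟩
    · exact Or.inr (Or.inl h)
  · have hna : ¬ IsMulCommutative T := fun h => hab fun x y => h.1.1 x y
    have hαo : orderOf α = 2 := by
      refine orderOf_eq_prime (MulEquiv.ext fun x => by rw [pow_two]; exact hinv x) fun e => hab fun x y => ?_
      have hx : x ∈ C := (hC x).2 (by rw [e]; rfl)
      exact Subtype.ext ((Subgroup.mem_centralizer_iff.1 (Subgroup.mem_inf.1 (hVT hx)).2) y y.2).symm
    have hσo : orderOf σ = 2 ^ 2 - 1 := by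
      show orderOf σ = 3
      refine orderOf_eq_prime (MulEquiv.ext fun x => hcube x) fun e => ?_
      exact hv₀1 (hVfix v₀ hv₀ (by rw [e]; rfl))
    have hCE : Cfsg.IsElementaryAbelian 2 C ∧ Nat.card C = 2 ^ 2 := by
      refine ⟨?_, hC4⟩
      refine ⟨⟨⟨fun a b => ?_⟩⟩, hC2⟩
      exact Subtype.ext (Subtype.ext
        ((Subgroup.mem_centralizer_iff.1 (Subgroup.mem_inf.1 (hVT a.2)).2) b.1 b.1.2).symm)
    have htr : ∀ x y : T, x ∈ C → y ∈ C → x ≠ 1 → y ≠ 1 → ∃ k : ℕ, (σ ^ k) x = y := by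
      intro x y hx hy hx1 hy1
      have e1 : σ x ≠ x := fun e => hx1 (hVfix x hx e)
      have e2 : σ (σ x) ≠ x := fun e => hx1 (hfpf.fpf_sq x e)
      have e3 : σ (σ x) ≠ σ x := fun e => e1 (σ.injective e)
      have n1 : σ x ≠ 1 := fun e => hx1 (σ.injective (e.trans (map_one σ).symm))
      have n2 : σ (σ x) ≠ 1 := fun e => n1 (σ.injective (e.trans (map_one σ).symm))
      have hset : ({1, x, σ x, σ (σ x)} : Finset T) = (Set.toFinite (C : Set T)).toFinset := by
        refine Finset.eq_of_subset_of_card_le ?_ ?_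
        · intro z hz
          rw [Set.Finite.mem_toFinset]
          simp only [Finset.mem_insert, Finset.mem_singleton] at hz
          rcases hz with rfl | rfl | rfl | rfl
          exacts [one_mem C, hx, hσC _ hx, hσC _ (hσC _ hx)]
        · rw [← Set.ncard_eq_toFinset_card, ← Nat.card_coe_set_eq, show Nat.card (C : Set T) = 4 from hC4]
          simp [Finset.card_insert_of_notMem, Ne.symm hx1, Ne.symm n1, Ne.symm n2, Ne.symm e1, Ne.symm e2, Ne.symm e3]
      have hmem : y ∈ ({1, x, σ x, σ (σ x)} : Finset T) := by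
        rw [hset, Set.Finite.mem_toFinset]; exact hy
      simp only [Finset.mem_insert, Finset.mem_singleton] at hmem
      rcases hmem with e | e | e | e
      · exact absurd e hy1
      · exact ⟨0, by rw [pow_zero]; exact e.symm⟩
      · exact ⟨1, by rw [pow_one]; exact e.symm⟩
      · exact ⟨2, by rw [pow_two]; exact e.symm⟩
    rcases Cfsg.Agent.S3161.result hT hna 2 le_rfl α σ hαo hσo (MulEquiv.ext hcomm) C hC hCE htr with
      ⟨F, iF, fF, hF, S, ⟨e⟩⟩ | ⟨F, iF, fF, hF, S, ⟨e⟩⟩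
    · exact Or.inr (Or.inr (Or.inr ⟨F, iF, fF, hF, fun P => ⟨e.trans (S.equiv P)⟩⟩))
    · exact Or.inr (Or.inr (Or.inl ⟨F, iF, fF, hF, fun P => ⟨e.trans (S.equiv P)⟩⟩))

end Cfsg.Agent.S2933
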