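import Cfsg.Statements.S2934
import Cfsg.Agent.LocalEven.QuaternionFixed
import Cfsg.Agent.LargeExtra.Pair
-- import your own Cfsg.Agent.* helpers here

set_option autoImplicit false
open Cfsg

namespace Cfsg.Agent.S2934

/-- Let p be an odd prime, W a finite 2-group and E a non-cyclic abelian p-subgroup of Aut(W) such that, for every nontrivial e ∈ E, the fixed points of e in W contain at most one involution. Then E has order 9, W is extraspecial of order 2⁵, 2⁷ or 2⁹, and the common fixed points of E in W form exactly the centre Z(W). -/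
theorem result {W : Type*} [Group W] [Finite W] (hW : IsPGroup 2 W) {p : ℕ} [Fact p.Prime] (hp : p ≠ 2) (E : Subgroup (MulAut W)) (hE : IsPGroup p ↥E) (hab : IsMulCommutative ↥E) (hnc : ¬ IsCyclic ↥E) (hfix : ∀ e ∈ E, e ≠ 1 → ∀ x y : W, orderOf x = 2 → orderOf y = 2 → e x = x → e y = y → x = y) : Nat.card ↥E = 9 ∧ Cfsg.IsExtraspecial 2 W ∧ (Nat.card W = 2 ^ 5 ∨ Nat.card W = 2 ^ 7 ∨ Nat.card W = 2 ^ 9) ∧ {x : W | ∀ e ∈ E, e x = x} = (Subgroup.center W : Set W) := by
  classical
  haveI : Fintype W := Fintype.ofFinite W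
  let φ : ↥E →* MulAut W := E.subtype
  let X := SemidirectProduct W ↥E φ
  haveI : Finite X := Finite.of_equiv _ SemidirectProduct.equivProd.symm
  let iW : W →* X := SemidirectProduct.inl
  let iE : ↥E →* X := SemidirectProduct.inr
  have hinjW : Function.Injective iW := SemidirectProduct.inl_injective
  have hinjE : Function.Injective iE := SemidirectProduct.inr_injective
  have hact : ∀ (e : ↥E) (x : W), iE e * iW x * (iE e)⁻¹ = iW ((e : MulAut W) x) := fun e x => by
    rw [← map_inv]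
    exact (SemidirectProduct.inl_aut (φ := φ) e x).symm
  have hfx : ∀ (e : ↥E) (x : W), iE e * iW x * (iE e)⁻¹ = iW x ↔ (e : MulAut W) x = x := fun e x => by
    rw [hact, hinjW.eq_iff]
  have hord : ∀ x : W, orderOf (iW x) = orderOf x := fun x => orderOf_injective iW hinjW x
  have c : LocalEven.QuatFixed.Ctx iW.range iE.range p := by
    refine ⟨Fact.out, hp, hW.of_surjective iW.rangeRestrict iW.rangeRestrict_surjective,
      hE.of_surjective iE.rangeRestrict iE.rangeRestrict_surjective, ?_, ?_, ?_, ?_, ?_⟩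
    · rintro _ ⟨a, rfl⟩ _ ⟨b, rfl⟩
      rw [← map_mul, ← map_mul, hab.is_comm.comm a b]
    · rintro _ ⟨e, rfl⟩
      rw [Subgroup.mem_normalizer_iff_map_conj_eq]
      refine Subgroup.eq_of_le_of_card_ge ?_
        (Subgroup.card_map_of_injective (f := (MulAut.conj (iE e)).toMonoidHom)
          (MulAut.conj (iE e)).injective).ge
      rintro _ ⟨_, ⟨x, rfl⟩, rfl⟩
      exact ⟨(e : MulAut W) x, (hact e x).symm⟩
    · rintro _ ⟨e, rfl⟩ h
      have : e = 1 := Subtype.ext (MulEquiv.ext fun x => (hfx e x).1 (h _ ⟨x, rfl⟩))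
      rw [this, map_one]
    · intro hc
      exact hnc ((MonoidHom.ofInjective hinjE).isCyclic.2 hc)
    · rintro _ ⟨e, rfl⟩ he1 x hx y hy hxo hyo
      rw [LocalEven.QuatFixed.mem_fixOf] at hx hy
      obtain ⟨⟨x, rfl⟩, hx⟩ := hx
      obtain ⟨⟨y, rfl⟩, hy⟩ := hy
      rw [hord] at hxo hyo
      rw [hfix e e.2 (fun h => he1 (by rw [show e = 1 from Subtype.ext h, map_one])) x y hxo hyo
        ((hfx e x).1 hx) ((hfx e y).1 hy)]
  obtain ⟨h1, h2, h3, h4⟩ := c.main
  have e1 := Nat.card_congr (MonoidHom.ofInjective hinjE).toEquiv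
  have e2 := Nat.card_congr (MonoidHom.ofInjective hinjW).toEquiv
  refine ⟨e1.trans h1, LargeExtra.isExtraspecial_map_equiv h2 (MonoidHom.ofInjective hinjW).symm,
    by rw [e2]; exact h3, Set.ext fun x => ?_⟩
  rw [Set.mem_setOf_eq, SetLike.mem_coe, Subgroup.mem_center_iff]
  have h5 := h4 (iW x) ⟨x, rfl⟩
  constructor
  · intro hx w
    refine hinjW ?_
    rw [map_mul, map_mul]
    refine h5.1 ?_ _ ⟨w, rfl⟩
    rintro _ ⟨e, rfl⟩
    exact (hfx e x).2 (hx e e.2)
  · intro hx e he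
    refine (hfx ⟨e, he⟩ x).1 (h5.2 ?_ _ ⟨⟨e, he⟩, rfl⟩)
    rintro _ ⟨w, rfl⟩
    rw [← map_mul, ← map_mul, hx w]

end Cfsg.Agent.S2934
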