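import Cfsg.Statements.S2968
import Cfsg.Agent.LAE62.Isolated
-- import your own Cfsg.Agent.* helpers here

set_option autoImplicit false
open Cfsg

namespace Cfsg.Agent.S2968

/-- Let G be a finite group, p a prime, P a Sylow p-subgroup of G and x ∈ P an element of p-power order which is isolated in G (the only conjugate of x commuting with x is x itself). Then x lies in the centre of P, and the subgroup generated by x is both strongly closed and weakly closed in P with respect to G. -/
theorem result {G : Type*} [Group G] [Finite G] {p : ℕ} [Fact p.Prime] (P : Sylow p G) (x : G) (hxP : x ∈ (P : Subgroup G)) (hx : ∃ k : ℕ, orderOf x = p ^ k) (hiso : Cfsg.IsIsolated x) : x ∈ (P : Subgroup G) ⊓ Subgroup.centralizer ((P : Subgroup G) : Set G) ∧ Cfsg.IsStronglyClosed (Subgroup.zpowers x) (P : Subgroup G) ∧ Cfsg.IsWeaklyClosed (Subgroup.zpowers x) (P : Subgroup G) := by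
  obtain ⟨k0, hk0⟩ := hx
  have hc : ∀ r ∈ (P : Subgroup G), Commute x r := fun r hr =>
    LAE62.isolated_commute_of_mem_pGroup hiso P.2 hxP hr
  have hle : Subgroup.zpowers x ≤ (P : Subgroup G) := Subgroup.zpowers_le.2 hxP
  have hstrong : Cfsg.IsStronglyClosed (Subgroup.zpowers x) (P : Subgroup G) := by
    refine ⟨hle, fun y hy g hgy => ?_⟩
    obtain ⟨k, rfl⟩ := Subgroup.mem_zpowers_iff.1 hy
    let H : Subgroup G := Subgroup.centralizer ({g * x ^ k * g⁻¹} : Set G)
    have h1 : x ∈ H := Subgroup.mem_centralizer_singleton_iff.2 (hc _ hgy).eq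
    have h2 : g * x * g⁻¹ ∈ H := by
      refine Subgroup.mem_centralizer_singleton_iff.2 ?_
      have := ((Commute.refl x).zpow_right k).map (MulAut.conj g).toMonoidHom
      exact this.eq
    obtain ⟨h, hh, hhg⟩ := LAE62.isolated_conj_in_subgroup ⟨k0, hk0⟩ hiso H h1 h2
    refine ⟨k, ?_⟩
    have e1 : h * (g * x ^ k * g⁻¹) * h⁻¹ = g * x ^ k * g⁻¹ := LAE62.conj_eq_self_iff.2 hh
    have e2 : Commute x (h * g) := LAE62.mem_centralizer_singleton'.1 hhg
    have e3 := e2.zpow_left k
    show x ^ k = g * x ^ k * g⁻¹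
    calc x ^ k = (x ^ k * (h * g)) * (h * g)⁻¹ := by group
      _ = ((h * g) * x ^ k) * (h * g)⁻¹ := by rw [e3.eq]
      _ = h * (g * x ^ k * g⁻¹) * h⁻¹ := by group
      _ = g * x ^ k * g⁻¹ := e1
  refine ⟨⟨hxP, fun r hr => (hc r hr).eq.symm⟩, hstrong, hle, fun g hg => ?_⟩
  have hm : g * x * g⁻¹ ∈ (P : Subgroup G) :=
    hg ⟨x, Subgroup.mem_zpowers x, rfl⟩
  have he := LAE62.isolated_conj_eq_of_mem_pGroup hiso P.2 hxP hm
  rw [MonoidHom.map_zpowers]
  exact congrArg Subgroup.zpowers he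

end Cfsg.Agent.S2968
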