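import Cfsg.Statements.S2971
import Mathlib.GroupTheory.Transfer
import Cfsg.Agent.Cores.Basic
import Cfsg.Agent.LAE62.Isolated
import Cfsg.Agent.LAE62.SylowBasics
import Cfsg.Agent.S0016
-- import your own Cfsg.Agent.* helpers here

set_option autoImplicit false
open Cfsg

namespace Cfsg.Agent.S2971

/-- Let G be a finite group and p an odd prime such that G has p-rank at most 1 (no elementary abelian subgroup of order p²). If x ∈ G is an isolated element of order p, then x is central modulo the largest normal subgroup of G of order prime to p. -/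
theorem result {G : Type*} [Group G] [Finite G] {p : ℕ} [Fact p.Prime] (hp : p ≠ 2) (hrk : Cfsg.PRankLE p 1 G) (x : G) (hx : orderOf x = p) (hiso : Cfsg.IsIsolated x) : Cfsg.InZStar p x := by
  obtain ⟨P, hxP'⟩ := (LAE62.isPGroup_zpowers_of_orderOf (x := x) ⟨1, by rw [hx, pow_one]⟩).exists_le_sylow
  have hxP : x ∈ (P : Subgroup G) := hxP' (Subgroup.mem_zpowers x)
  have hx1 : x ≠ 1 := fun e => (Fact.out : p.Prime).one_lt.ne (by rw [← hx, e, orderOf_one])
  have hxc : ∀ r ∈ (P : Subgroup G), Commute x r := fun r hr =>
    LAE62.isolated_commute_of_mem_pGroup hiso P.2 hxP hr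
  have hkey : ∀ A : Subgroup (P : Subgroup G), Nat.card A = p → A.map (P : Subgroup G).subtype = Subgroup.zpowers x := by
    intro A hA
    set A' := A.map (P : Subgroup G).subtype with hA'def
    have hcard : Nat.card A' = p := by rw [Subgroup.card_map_of_injective (P : Subgroup G).subtype_injective, hA]
    set B := A' ⊔ Subgroup.zpowers x with hB
    have hxA : Subgroup.zpowers x ≤ Subgroup.centralizer (A' : Set G) := by
      refine Subgroup.zpowers_le.2 fun a ha => ?_
      obtain ⟨b, hb, rfl⟩ := ha
      exact (hxc _ b.2).eq.symm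
    haveI := isCyclic_of_prime_card hcard
    have hA'ab : A' ≤ Subgroup.centralizer (A' : Set G) :=
      Subgroup.le_centralizer_iff_isMulCommutative.2 IsCyclic.isMulCommutative
    have hBab : B ≤ Subgroup.centralizer (B : Set G) := by
      rw [hB, LAE62.centralizer_sup']
      refine sup_le (le_inf hA'ab (Subgroup.le_centralizer_iff.1 hxA))
        (le_inf hxA (Subgroup.le_centralizer_iff_isMulCommutative.2 inferInstance))
    have hexp : ∀ b ∈ B, b ^ p = 1 := by
      intro b hb
      let T : Subgroup G :=
        { carrier := {c | c ∈ B ∧ c ^ p = 1}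
          one_mem' := ⟨B.one_mem, one_pow p⟩
          mul_mem' := fun {c d} hc hd => ⟨B.mul_mem hc.1 hd.1, by
            rw [(show Commute c d from Subgroup.mem_centralizer_iff.1 (hBab hd.1) c hc.1).mul_pow,
              hc.2, hd.2, one_mul]⟩
          inv_mem' := fun {c} hc => ⟨B.inv_mem hc.1, by rw [inv_pow, hc.2, inv_one]⟩ }
      have : B ≤ T := by
        refine sup_le (fun c hc => ⟨Subgroup.mem_sup_left hc, ?_⟩) (Subgroup.zpowers_le.2
          ⟨Subgroup.mem_sup_right (Subgroup.mem_zpowers x), by rw [← hx, pow_orderOf_eq_one]⟩)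
        rw [← hcard]
        exact congrArg Subtype.val (pow_card_eq_one' (x := (⟨c, hc⟩ : A')))
      exact (this hb).2
    have hle := hrk B (Subgroup.le_centralizer_iff_isMulCommutative.1 hBab) hexp
    rw [pow_one] at hle
    have e1 : A' = B := Subgroup.eq_of_le_of_card_ge le_sup_left (hle.trans hcard.ge)
    have e2 : Subgroup.zpowers x = B := Subgroup.eq_of_le_of_card_ge le_sup_right (by
      rw [Nat.card_zpowers, hx]; exact hle)
    rw [e1, e2]
  rcases S0016.result p P.2 (fun A B hA hB =>
    Subgroup.map_injective (P : Subgroup G).subtype_injective ((hkey A hA).trans (hkey B hB).symm)) with h | ⟨h, -⟩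
  · haveI := h
    have hNC := LAE62.normalizer_le_centralizer_of_cyclic_sylow P hx1 hxP
      (LAE62.isolated_normalizer_le_centralizer hiso P.2 hxP)
    set φ := MonoidHom.transferSylow P hNC with hφ
    intro g
    refine Cores.le_pPrimeCore_of_not_dvd inferInstance (MonoidHom.not_dvd_card_ker_transferSylow P hNC) ?_
    show φ (g * x * g⁻¹ * x⁻¹) = 1
    simp only [map_mul, map_inv]
    have hc : φ g * φ x = φ x * φ g := (IsCyclic.isMulCommutative (α := (P : Subgroup G))).is_comm.comm _ _
    rw [hc]
    group
  · exact absurd h hp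

end Cfsg.Agent.S2971
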