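import Cfsg.Statements.S2975
import Cfsg.Agent.LAE62.ZStarMinimal
import Cfsg.Agent.LAE62.Complements
-- import your own Cfsg.Agent.* helpers here

set_option autoImplicit false
open Cfsg
open scoped Pointwise

namespace Cfsg.Agent.S2975

/-- Let G be a finite group, p a prime and x ∈ G an isolated element of order p (the only conjugate of x commuting with x is x) which is not central modulo the largest normal subgroup of order prime to p, while x is central modulo the largest normal subgroup of order prime to p in every proper subgroup containing x, and the image of x is so in every quotient of G by a nontrivial normal subgroup (a minimal counterexample to the Z*_p statement). Then for every prime q, every q-subgroup of G that is normalized by x and maximal among the q-subgroups normalized by x is either trivial or a Sylow q-subgroup of G; and C_G(x) permutes the x-invariant Sylow q-subgroups of G transitively by conjugation. -/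
theorem result {G : Type*} [Group G] [Finite G] {p : ℕ} [Fact p.Prime] (x : G) (hx : orderOf x = p) (hiso : Cfsg.IsIsolated x) (hnz : ¬ Cfsg.InZStar p x) (hmin : ∀ (H : Subgroup G) (hxH : x ∈ H), H ≠ ⊤ → Cfsg.InZStar p (⟨x, hxH⟩ : ↥H)) (hquot : ∀ (N : Subgroup G) [N.Normal], N ≠ ⊥ → Cfsg.InZStar p (QuotientGroup.mk x : G ⧸ N)) (q : ℕ) [Fact q.Prime] : (∀ Q : Subgroup G, IsPGroup q ↥Q → x ∈ Subgroup.normalizer (Q : Set G) → (∀ R : Subgroup G, IsPGroup q ↥R → x ∈ Subgroup.normalizer (R : Set G) → Q ≤ R → R = Q) → Q = ⊥ ∨ ∃ S : Sylow q G, (S : Subgroup G) = Q) ∧ (∀ S₁ S₂ : Sylow q G, x ∈ Subgroup.normalizer ((S₁ : Subgroup G) : Set G) → x ∈ Subgroup.normalizer ((S₂ : Subgroup G) : Set G) → ∃ c ∈ Subgroup.centralizer ({x} : Set G), (S₁ : Subgroup G).map (MulAut.conj c).toMonoidHom = (S₂ : Subgroup G)) := by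
  have h : LAE62.ZStarMin p x := ⟨hx, hiso, hnz, hmin, hquot⟩
  have hq : q.Prime := Fact.out
  refine ⟨fun Q hQ hxQ hmax => ?_, fun S₁ S₂ h1 h2 => ?_⟩
  swap
  · obtain ⟨g, hg⟩ := MulAction.exists_smul_eq G S₁ S₂
    have hS₂ : (S₂ : Subgroup G) = (S₁ : Subgroup G).map (MulAut.conj g).toMonoidHom := by rw [← hg]; rfl
    have hx2 : g⁻¹ * x * g⁻¹⁻¹ ∈ Subgroup.normalizer ((S₁ : Subgroup G) : Set G) := by
      rw [inv_inv]
      refine LAE62.mem_normalizer_of_conj_mem fun a ha => ?_
      have h3 : g * a * g⁻¹ ∈ (S₂ : Subgroup G) := hS₂ ▸ ⟨a, ha, rfl⟩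
      have h4 := (Subgroup.mem_normalizer_iff.1 h2 _).1 h3
      rw [hS₂] at h4
      obtain ⟨b, hb, hbe⟩ := h4
      have : b = g⁻¹ * x * g * a * (g⁻¹ * x * g)⁻¹ := by
        have := congrArg (fun c => g⁻¹ * c * g) hbe
        simpa [mul_assoc] using this
      exact this ▸ hb
    obtain ⟨c, hc, hcC⟩ := LAE62.isolated_conj_in_subgroup h.pPow hiso _ h1 hx2
    refine ⟨g * c⁻¹, ?_, ?_⟩
    · have := Subgroup.inv_mem _ hcC
      simpa using this
    · rw [hS₂, ← LAE62.conj_map_mul']
      congr 1
      exact Subgroup.mem_normalizer_iff_map_conj_eq.1 (Subgroup.inv_mem _ hc)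
  rcases eq_or_ne Q ⊥ with hQ0 | hQ0
  · exact Or.inl hQ0
  right
  by_cases hqp : q = p
  · subst hqp
    have hsup : IsPGroup q ↥(Q ⊔ Subgroup.zpowers x) :=
      hQ.to_sup_of_normal_left' (LAE62.isPGroup_zpowers_of_orderOf h.pPow) (Subgroup.zpowers_le.2 hxQ)
    obtain ⟨S, hS⟩ := hsup.exists_le_sylow
    have hxS : x ∈ (S : Subgroup G) := hS (Subgroup.mem_sup_right (Subgroup.mem_zpowers x))
    exact ⟨S, hmax _ S.2 (Subgroup.le_normalizer hxS) (le_sup_left.trans hS)⟩
  set H := Subgroup.normalizer (Q : Set G) with hH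
  have hHtop : H ≠ ⊤ := by
    intro e
    haveI := Subgroup.normalizer_eq_top_iff.1 e
    have hle := h.commutator_le hQ0
    have hco : (Nat.card (commutator G)).Coprime p := by
      obtain ⟨n, hn⟩ := IsPGroup.iff_card.1 hQ
      refine Nat.Coprime.coprime_dvd_left (Subgroup.card_dvd_of_le hle) ?_
      rw [hn]
      exact ((Nat.coprime_primes hq Fact.out).2 hqp).pow_left n
    exact h.commutator_ne_bot (h.eq_bot_of_normal_coprime le_rfl Subgroup.le_normalizer hco)
  have hz := hmin H hxQ hHtop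
  set L := (Cfsg.pPrimeCore p H).map H.subtype with hL
  have hLH : L ≤ H := Subgroup.map_subtype_le _
  have hLco : (Nat.card L).Coprime p := by
    rw [hL, Subgroup.card_map_of_injective H.subtype_injective]; exact Cores.pPrimeCore_coprime
  have hHL : H ≤ Subgroup.normalizer (L : Set G) := by
    refine (Subgroup.normal_subgroupOf_iff_le_normalizer hLH).1 ?_
    rw [hL, Subgroup.subgroupOf, Subgroup.comap_map_eq_self_of_injective H.subtype_injective]
    infer_instance
  -- a Sylow subgroup of the normalizer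
  obtain ⟨R0⟩ : Nonempty (Sylow q H) := inferInstance
  set R := (R0 : Subgroup H).map H.subtype with hR
  have hRq : IsPGroup q R := R0.2.map _
  have hRH : R ≤ H := Subgroup.map_subtype_le _
  set J := R ⊔ L with hJ
  have hJH : J ≤ H := sup_le hRH hLH
  have hxJ : x ∈ Subgroup.normalizer (J : Set G) := by
    have : J.map (MulAut.conj x).toMonoidHom ≤ J := by
      rw [hJ, Subgroup.map_sup]
      refine sup_le ?_ ((Subgroup.mem_normalizer_iff_map_conj_eq.1 (hHL hxQ)).le.trans le_sup_right)
      rintro _ ⟨r, hr, rfl⟩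
      have hm : r * x * r⁻¹ * x⁻¹ ∈ L := ⟨_, hz ⟨r, hRH hr⟩, rfl⟩
      have e : x * r * x⁻¹ = (r * x * r⁻¹ * x⁻¹)⁻¹ * r := by group
      show x * r * x⁻¹ ∈ _
      rw [e]
      exact Subgroup.mul_mem _ (Subgroup.mem_sup_right (inv_mem hm)) (Subgroup.mem_sup_left hr)
    exact LAE62.mem_normalizer_of_conj_mem fun a ha => this ⟨a, ha, rfl⟩
  -- the Sylow subgroups of `J` form a set of size prime to `p`
  have hcardJ : Nat.card J ∣ Nat.card R * Nat.card L := by
    have hn : R ≤ Subgroup.normalizer (L : Set G) := hRH.trans hHL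
    have hset : ((J : Subgroup G) : Set G) = (R : Set G) * (L : Set G) :=
      Subgroup.coe_mul_of_left_le_normalizer_right R L hn
    have := LAE62.natCard_setMul_mul_inf' R L
    rw [← hset] at this
    exact this ▸ dvd_mul_right _ _
  let RJ : Subgroup J := R.subgroupOf J
  have hRJp : IsPGroup q RJ := hRq.comap_of_injective J.subtype J.subtype_injective
  have hRJidx : ¬ q ∣ RJ.index := by
    intro hd
    refine R0.not_dvd_index ?_
    have e : (R0 : Subgroup H).index = R.relIndex H := by
      rw [Subgroup.relIndex, hR, Subgroup.subgroupOf, Subgroup.comap_map_eq_self_of_injective H.subtype_injective]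
    rw [e]
    exact hd.trans ⟨_, (Subgroup.relIndex_mul_relIndex R J H le_sup_left hJH).symm⟩
  let SJ : Sylow q J := hRJp.toSylow hRJidx
  have hnum : ¬ p ∣ Nat.card (Sylow q J) := by
    intro hd
    have h1 := hd.trans SJ.card_dvd_index
    rw [show (SJ : Subgroup J) = RJ from IsPGroup.toSylow_coe hRJp hRJidx] at h1
    refine (Cores.coprime_iff_not_dvd_prime Fact.out).1 hLco (h1.trans ?_)
    have h2 : Nat.card RJ * RJ.index = Nat.card J := Subgroup.card_mul_index RJ
    rw [Nat.card_congr (Subgroup.subgroupOfEquivOfLe (le_sup_left : R ≤ J)).toEquiv] at h2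
    rw [← h2] at hcardJ
    exact Nat.dvd_of_mul_dvd_mul_left Nat.card_pos hcardJ
  -- the subgroups of `G` of that order normalized by `x`
  let Pr : Subgroup G → Prop := fun X => X ≤ J ∧ Nat.card X = Nat.card R
  have hPr : Nat.card {X // Pr X} = Nat.card (Sylow q J) := by
    refine Nat.card_congr
      { toFun := fun X => Sylow.ofCard (X.1.subgroupOf J) (by
          rw [Nat.card_congr (Subgroup.subgroupOfEquivOfLe X.2.1).toEquiv, X.2.2, ← SJ.card_eq_multiplicity,
            show (SJ : Subgroup J) = RJ from IsPGroup.toSylow_coe hRJp hRJidx,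
            Nat.card_congr (Subgroup.subgroupOfEquivOfLe (le_sup_left : R ≤ J)).toEquiv])
        invFun := fun S => ⟨(S : Subgroup J).map J.subtype, Subgroup.map_subtype_le _, by
          rw [Subgroup.card_map_of_injective J.subtype_injective, S.card_eq_multiplicity, ← SJ.card_eq_multiplicity,
            show (SJ : Subgroup J) = RJ from IsPGroup.toSylow_coe hRJp hRJidx,
            Nat.card_congr (Subgroup.subgroupOfEquivOfLe (le_sup_left : R ≤ J)).toEquiv]⟩
        left_inv := fun X => Subtype.ext (Subgroup.map_subgroupOf_eq_of_le X.2.1)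
        right_inv := fun S => Sylow.ext (Subgroup.comap_map_eq_self_of_injective J.subtype_injective _) }
  have hfix := LAE62.card_modEq_card_normalized (p := p) (LAE62.isPGroup_zpowers_of_orderOf h.pPow) Pr
    (fun g hg X hX => ⟨(Subgroup.map_mono hX.1).trans
        (Subgroup.mem_normalizer_iff_map_conj_eq.1 (Subgroup.zpowers_le.2 hxJ hg)).le,
      (Subgroup.card_map_of_injective (MulAut.conj g).injective).trans hX.2⟩)
  have hne0 : Nat.card {X // Pr X ∧ Subgroup.zpowers x ≤ Subgroup.normalizer (X : Set G)} ≠ 0 := by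
    intro e
    rw [e, hPr] at hfix
    exact hnum (Nat.modEq_zero_iff_dvd.1 hfix)
  obtain ⟨⟨X, ⟨hXJ, hXc⟩, hxX⟩⟩ := (Nat.card_ne_zero.1 hne0).1
  obtain ⟨n, hn⟩ := IsPGroup.iff_card.1 hRq
  have hXq : IsPGroup q X := IsPGroup.of_card (hXc.trans hn)
  have hXH : X ≤ H := hXJ.trans hJH
  let XS : Sylow q H := Sylow.ofCard (X.subgroupOf H) (by
    rw [Nat.card_congr (Subgroup.subgroupOfEquivOfLe hXH).toEquiv, hXc, hR,
      Subgroup.card_map_of_injective H.subtype_injective, R0.card_eq_multiplicity])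
  have hXS : (XS : Subgroup H) = X.subgroupOf H := rfl
  -- `Q` is normal in `H`, so lies in `X`
  have hQH : Q ≤ H := Subgroup.le_normalizer
  have hQX : Q ≤ X := by
    haveI : (Q.subgroupOf H).Normal := (Subgroup.normal_subgroupOf_iff_le_normalizer hQH).2 le_rfl
    haveI : (Subgroup.comap H.subtype Q).Normal := this
    have h1 : IsPGroup q ↥((Q.subgroupOf H) ⊔ (XS : Subgroup H)) :=
      (hQ.comap_of_injective H.subtype H.subtype_injective).to_sup_of_normal_left XS.2
    have h2 := XS.3 h1 le_sup_right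
    intro a ha
    have h4 : (⟨a, hQH ha⟩ : H) ∈ (Q.subgroupOf H) ⊔ (XS : Subgroup H) :=
      Subgroup.mem_sup_left (show (⟨a, hQH ha⟩ : H) ∈ Q.subgroupOf H from ha)
    rw [h2] at h4
    exact h4
  have hXQ : X = Q := hmax X hXq (hxX (Subgroup.mem_zpowers x)) hQX
  -- so `Q` is a Sylow subgroup of `G`
  obtain ⟨S, hS⟩ := hQ.exists_le_sylow
  refine ⟨S, ?_⟩
  by_contra hne
  have hlt : Q < S := lt_of_le_of_ne hS fun e => hne e.symm
  haveI : Group.IsNilpotent (S : Subgroup G) := S.2.isNilpotent
  have hlt' : Q.subgroupOf S < ⊤ := lt_top_iff_ne_top.2 fun e => hlt.not_ge (Subgroup.subgroupOf_eq_top.1 e)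
  obtain ⟨a, ha, haQ⟩ := SetLike.exists_of_lt (Group.normalizerCondition_of_isNilpotent _ hlt')
  have haH : (a : G) ∈ H := LAE62.mem_normalizer_of_conj_mem fun b hb => by
    exact (Subgroup.mem_normalizer_iff.1 ha ⟨b, hS hb⟩).1 hb
  have hbig : IsPGroup q ↥((S : Subgroup G).subgroupOf H) :=
    S.2.comap_of_injective H.subtype H.subtype_injective
  have h5 : X.subgroupOf H ≤ (S : Subgroup G).subgroupOf H := fun b hb => hS (hXQ ▸ hb)
  have h6 := XS.3 hbig (hXS ▸ h5)
  have h7 : (⟨a, haH⟩ : H) ∈ (XS : Subgroup H) := h6 ▸ (show (⟨a, haH⟩ : H) ∈ (S : Subgroup G).subgroupOf H from a.2)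
  rw [hXS, hXQ] at h7
  exact haQ h7

end Cfsg.Agent.S2975
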