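import Cfsg.Statements.S2987
import Cfsg.Agent.LAE79.BlockContain
-- import your own Cfsg.Agent.* helpers here

set_option autoImplicit false
open Cfsg

namespace Cfsg.Agent.S2987

/-- Let G be a finite group of characteristic p (C_G(O_p(G)) ≤ O_p(G)) and E a subnormal subgroup of G which is a B(T)-block for some Sylow p-subgroup T of G. Then E is a normal subgroup of the Baumann subgroup B(G) (generated by the B(T) over all Sylow p-subgroups T), E is a B(T')-block for every Sylow p-subgroup T' of G, and every subgroup F that is a B(T')-block for some Sylow p-subgroup T' satisfies F ≤ E or [F, E] = 1. -/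
theorem result {G : Type*} [Group G] [Finite G] {p : ℕ} [Fact p.Prime] (hG : Subgroup.centralizer (Cfsg.pCore p G : Set G) ≤ Cfsg.pCore p G) (E : Subgroup G) (hE : ∃ T : Sylow p G, Cfsg.IsBaumannBlock p (T : Subgroup G) E) (hEs : E.IsSubnormal) : E ≤ Cfsg.baumannSubgroup p G ∧ Cfsg.baumannSubgroup p G ≤ Subgroup.normalizer (E : Set G) ∧ (∀ T' : Sylow p G, Cfsg.IsBaumannBlock p (T' : Subgroup G) E) ∧ ∀ F : Subgroup G, (∃ T' : Sylow p G, Cfsg.IsBaumannBlock p (T' : Subgroup G) F) → F ≤ E ∨ ⁅F, E⁆ = ⊥ := by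
  obtain ⟨S, hS⟩ := hE
  have hES : Cfsg.Agent.LAE62.BlockCent.BlockSetting S E := ⟨hG, hS⟩
  have hN := Cfsg.Agent.LAE79.baumannSubgroup_le_normalizer hES hEs
  refine ⟨Cfsg.Agent.LAE79.block_le_baumannSubgroup hS, hN,
    fun T' => (Cfsg.Agent.LAE79.block_for_every hES hEs T').block, fun F ⟨T', hF⟩ => ?_⟩
  have hFE : F ≤ Subgroup.normalizer (E : Set G) := (Cfsg.Agent.LAE79.block_le_baumannSubgroup hF).trans hN
  have hET := Cfsg.Agent.LAE79.block_for_every hES hEs T'
  have hFT : Cfsg.Agent.LAE62.BlockCent.BlockSetting T' F := ⟨hG, hF⟩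
  by_cases hc : F ≤ Subgroup.centralizer (Cfsg.Agent.LAE62.BlockCent.WE p E : Set G)
  · exact Or.inr (Cfsg.Agent.LAE79.commute_of_centralizes hET hEs hFT hFE hc)
  · exact Or.inl (Cfsg.Agent.LAE79.le_of_moved hET hEs hFT hFE hc
      fun T'' => (le_iSup (fun T : Sylow p G => Cfsg.baumannSubgroupOf p (T : Subgroup G)) T'').trans hN)

end Cfsg.Agent.S2987
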