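import Cfsg.Statements.S3038
import Cfsg.Agent.S3049
import Cfsg.Agent.IsoRankTwo.Cyclic
import Cfsg.Agent.IsoRankTwo.Structure

set_option autoImplicit false
open Cfsg

namespace Cfsg.Agent.S3038

open Cfsg.Agent

/-- An isolated element stays isolated under conjugation. -/
theorem isolated_conj {G : Type*} [Group G] {x : G} (hiso : Cfsg.IsIsolated x) (g : G) :
    Cfsg.IsIsolated (g * x * g⁻¹) := by
  intro k hk
  have := hiso (g⁻¹ * k * g) (by
    have := hk.map (MulAut.conj g⁻¹).toMonoidHom
    simpa [mul_assoc, MulAut.conj_apply] using this)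
  calc k * (g * x * g⁻¹) * k⁻¹ = g * ((g⁻¹ * k * g) * x * (g⁻¹ * k * g)⁻¹) * g⁻¹ := by group
    _ = g * x * g⁻¹ := by rw [this]

/-- Let G be a finite group and p an odd prime with O_{p'}(G) = 1. Suppose that G has p-rank at most 2 and that some element x of order p is isolated in G and not central. Then F*(G) is a non-abelian simple group, and for every Sylow p-subgroup P of F*(G), either no conjugate of x lies in P and P is cyclic, or some conjugate of x lies in P and either P is extraspecial of order p³ and exponent p, or p = 3 and P has order 3^{2k+1} for some k ≥ 2 and is of maximal class (nilpotency class 2k). Since O_{p'}(G) = 1, such an x is not central modulo O_{p'}(G): the hypotheses describe a counterexample to the Z*_p statement in p-rank at most 2, and the conclusion records the structure it would have. -/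
theorem result {G : Type*} [Group G] [Finite G] {p : ℕ} [Fact p.Prime] (hp : p ≠ 2) (hcore : Cfsg.pPrimeCore p G = ⊥)
    (hrank : Cfsg.PRankLE p 2 G) (x : G) (hx : orderOf x = p) (hiso : Cfsg.IsIsolated x) (hnc : x ∉ Subgroup.center G) :
    IsSimpleGroup ↥(Cfsg.generalizedFittingSubgroup G) ∧ ¬ IsMulCommutative ↥(Cfsg.generalizedFittingSubgroup G) ∧
    ∀ P : Sylow p ↥(Cfsg.generalizedFittingSubgroup G),
      ((∀ g : G, g * x * g⁻¹ ∉ ((P : Subgroup ↥(Cfsg.generalizedFittingSubgroup G)).map (Cfsg.generalizedFittingSubgroup G).subtype)) ∧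
          IsCyclic ↥(P : Subgroup ↥(Cfsg.generalizedFittingSubgroup G))) ∨
      ((∃ g : G, g * x * g⁻¹ ∈ ((P : Subgroup ↥(Cfsg.generalizedFittingSubgroup G)).map (Cfsg.generalizedFittingSubgroup G).subtype)) ∧
        ((Cfsg.IsExtraspecial p ↥(P : Subgroup ↥(Cfsg.generalizedFittingSubgroup G)) ∧
            Nat.card (P : Subgroup ↥(Cfsg.generalizedFittingSubgroup G)) = p ^ 3 ∧
            ∀ y ∈ (P : Subgroup ↥(Cfsg.generalizedFittingSubgroup G)), y ^ p = 1) ∨
         (p = 3 ∧ ∃ k : ℕ, 2 ≤ k ∧ Nat.card (P : Subgroup ↥(Cfsg.generalizedFittingSubgroup G)) = 3 ^ (2 * k + 1) ∧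
            ∃ _ : Group.IsNilpotent ↥(P : Subgroup ↥(Cfsg.generalizedFittingSubgroup G)),
              Group.nilpotencyClass ↥(P : Subgroup ↥(Cfsg.generalizedFittingSubgroup G)) = 2 * k))) := by
  have hprime : p.Prime := Fact.out
  obtain ⟨hsimple, hna⟩ := S3049.result hp hcore hrank x hx hiso hnc
  set L := Cfsg.generalizedFittingSubgroup G with hL
  refine ⟨hsimple, hna, fun P => ?_⟩
  have hord : ∀ g : G, orderOf (g * x * g⁻¹) = p := fun g => ((MulAut.conj g).orderOf_eq x).trans hx
  by_cases hex : ∃ g : G, g * x * g⁻¹ ∈ (P : Subgroup L).map L.subtype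
  · refine Or.inr ⟨hex, ?_⟩
    obtain ⟨g, ⟨y, hyP, hy⟩⟩ := hex
    have hyG : (y : G) = g * x * g⁻¹ := hy
    have hyiso : Cfsg.IsIsolated y :=
      LAE62.isIsolated_restrict (x := (y : G)) (hyG ▸ isolated_conj hiso g) L y.2
    have hyo : orderOf y = p := by rw [← Subgroup.orderOf_coe, hyG, hord]
    have hperf : commutator L = ⊤ := by
      refine (Subgroup.Normal.eq_bot_or_eq_top (inferInstance : (commutator L).Normal)).resolve_left
        fun h => hna ⟨⟨fun a b => ?_⟩⟩
      have hb : b ∈ Subgroup.center L :=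
        ((commutator_eq_bot_iff_center_eq_top L).1 h).symm ▸ Subgroup.mem_top b
      exact Subgroup.mem_center_iff.1 hb a
    exact IsoRankTwo.sylow_structure hp P hyP hyo hyiso (PGroup.pRankLE_subgroup _ hrank)
      (hperf ▸ le_top)
  · refine Or.inl ⟨fun g hg => hex ⟨g, hg⟩, ?_⟩
    set Q := (P : Subgroup L).map L.subtype with hQ
    have hQp : IsPGroup p Q := P.2.map L.subtype
    obtain ⟨S, hS⟩ := hQp.exists_le_sylow
    obtain ⟨T, hT⟩ := (LAE62.isPGroup_zpowers_of_orderOf (x := x) ⟨1, by rw [hx, pow_one]⟩).exists_le_sylow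
    obtain ⟨g, hg⟩ := MulAction.exists_smul_eq G T S
    have hxS : g * x * g⁻¹ ∈ (S : Subgroup G) := by
      rw [← hg]
      exact Subgroup.smul_mem_pointwise_smul _ (MulAut.conj g) _ (hT (Subgroup.mem_zpowers x))
    have hxL : g * x * g⁻¹ ∉ L := by
      intro h
      obtain ⟨R, hR⟩ := (LAE62.isPGroup_zpowers_of_orderOf (p := p) (x := (⟨_, h⟩ : L))
        ⟨1, by rw [← Subgroup.orderOf_coe, pow_one]; exact hord g⟩).exists_le_sylow
      obtain ⟨l, hl⟩ := MulAction.exists_smul_eq L R P
      refine hex ⟨(l : G) * g, l * ⟨_, h⟩ * l⁻¹, ?_, ?_⟩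
      · rw [← hl]
        exact Subgroup.smul_mem_pointwise_smul _ (MulAut.conj l) _ (hR (Subgroup.mem_zpowers _))
      · show (l : G) * (g * x * g⁻¹) * (l : G)⁻¹ = (l : G) * g * x * ((l : G) * g)⁻¹
        group
    have hcy : IsCyclic Q := by
      by_cases hQ1 : Q = ⊥
      · rw [hQ1]; infer_instance
      haveI : Nontrivial Q := (Subgroup.nontrivial_iff_ne_bot Q).2 hQ1
      haveI : Nontrivial (Subgroup.center Q) := hQp.center_nontrivial
      obtain ⟨⟨⟨a, haQ⟩, hac⟩, ha⟩ := exists_prime_orderOf_dvd_card' (G := Subgroup.center Q) p (by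
        obtain ⟨i, hi⟩ := IsPGroup.iff_card.1 (hQp.to_subgroup (Subgroup.center Q))
        have := Finite.one_lt_card (α := Subgroup.center Q)
        rw [hi] at this ⊢
        exact dvd_pow_self p (by rintro rfl; simp at this))
      rw [← Subgroup.orderOf_coe, ← Subgroup.orderOf_coe] at ha
      replace ha : orderOf a = p := ha
      refine IsoRankTwo.isCyclic_of_omega_le hp hQp ha fun y hy hyp => ?_
      by_contra hya
      have hap : a ^ p = 1 := by rw [← ha]; exact pow_orderOf_eq_one a
      have ha1 : a ≠ 1 := fun h => hprime.one_lt.ne (by rw [← ha, h, orderOf_one])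
      have hxc : ∀ r ∈ Q, Commute (g * x * g⁻¹) r := fun r hr =>
        LAE62.isolated_commute_of_mem_pGroup (isolated_conj hiso g) S.2 hxS (hS hr)
      have hab : Commute a y :=
        (congrArg Subtype.val (Subgroup.mem_center_iff.1 hac ⟨y, hy⟩)).symm
      exact S3049.p_cube_le (hxc a haQ) (hxc y hy) hab
        (by rw [← hord g]; exact pow_orderOf_eq_one _) hap hyp ha1 hya
        (fun h => hxL ((Subgroup.closure_le L).2 (by
          rintro u (rfl | rfl)
          · exact Subgroup.map_subtype_le _ haQ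
          · exact Subgroup.map_subtype_le _ hy) h)) hrank
    exact isCyclic_of_injective (Subgroup.equivMapOfInjective (P : Subgroup L) L.subtype
      L.subtype_injective).toMonoidHom (MulEquiv.injective _)

end Cfsg.Agent.S3038
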