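import Cfsg.Statements.S3040
import Cfsg.Agent.FpfSym3.Main

set_option autoImplicit false
open Cfsg

namespace Cfsg.Agent.S3040

/-- Let G be a finite group of even order coprime to 3, and let Σ be a group of automorphisms of G isomorphic to the symmetric group of degree 3 that is fixed-point-free (only the identity of G is fixed by every element of Σ). Then G is solvable, O_{2′,2}(G) (the preimage in G of O₂(G/O(G))) has odd index in G, and G = O_{2′,2}(G) C_G(σ) for every element σ of Σ of order 3; that is, O₂(G/O(G)) is a Sylow 2-subgroup of G/O(G) and G/O(G) = O₂(G/O(G)) C_{G/O(G)}(σ). -/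
theorem result {G : Type*} [Group G] [Finite G] (heven : 2 ∣ Nat.card G) (h3 : ¬ 3 ∣ Nat.card G)
    (Sig : Subgroup (MulAut G)) (hS3 : Nonempty (↥Sig ≃* Equiv.Perm (Fin 3))) (hfpf : ∀ g : G, (∀ σ ∈ Sig, σ g = g) → g = 1) :
    Group.IsSolvable G ∧ ¬ 2 ∣ (Cfsg.pPrimePCore 2 G).index ∧ ∀ σ ∈ Sig, orderOf σ = 3 →
      Cfsg.pPrimePCore 2 G ⊔ Subgroup.closure {g : G | σ g = g} = ⊤ := by
  obtain ⟨e⟩ := hS3
  set c : Equiv.Perm (Fin 3) := Equiv.swap 0 1 * Equiv.swap 1 2 with hc
  set r : Equiv.Perm (Fin 3) := Equiv.swap 0 1 with hr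
  let ψ : Equiv.Perm (Fin 3) →* MulAut G := Sig.subtype.comp e.symm.toMonoidHom
  have hψ : ∀ σ ∈ Sig, ∃ p, ψ p = σ := fun σ hσ => ⟨e ⟨σ, hσ⟩, by simp [ψ]⟩
  have hall : ∀ p : Equiv.Perm (Fin 3),
      p = 1 ∨ p = c ∨ p = c * c ∨ p = r ∨ p = r * c ∨ p = r * (c * c) := by decide
  have happ : ∀ (p q : Equiv.Perm (Fin 3)) (g : G), ψ (p * q) g = ψ p (ψ q g) := fun p q g => by
    rw [map_mul, MulAut.mul_apply]
  let P : Cfsg.Agent.FpfSym3.Pair G :=
    { s := ψ c
      t := ψ r
      s3 := fun g => by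
        rw [← happ, ← happ, show c * c * c = 1 by decide, map_one]; rfl
      t2 := fun g => by rw [← happ, show r * r = 1 by decide, map_one]; rfl
      ts := fun g => by
        rw [← happ, ← happ, ← happ, show r * c = c * c * r by decide]
      fpf := fun g h1 h2 => hfpf g fun σ hσ => by
        obtain ⟨p, rfl⟩ := hψ σ hσ
        rcases hall p with rfl | rfl | rfl | rfl | rfl | rfl <;>
          simp [happ, h1, h2] }
  obtain ⟨hsol, hidx, htop⟩ := P.main h3
  refine ⟨hsol, hidx, fun σ hσ hord => ?_⟩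
  obtain ⟨p, rfl⟩ := hψ σ hσ
  have hp : p = c ∨ p = c * c := by
    have h1 : p ^ 3 = 1 := by
      have hinj : Function.Injective ψ := Sig.subtype_injective.comp e.symm.injective
      have h := pow_orderOf_eq_one (ψ p)
      rw [hord] at h
      exact hinj (by rw [map_pow, map_one, h])
    have h2 : p ≠ 1 := fun h => by rw [h, map_one, orderOf_one] at hord; omega
    exact (by decide : ∀ q : Equiv.Perm (Fin 3), q ^ 3 = 1 → q ≠ 1 → q = c ∨ q = c * c) p h1 h2
  refine eq_top_iff.2 (le_trans htop.ge (sup_le_sup_left (fun g hg => ?_) _))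
  refine Subgroup.subset_closure ?_
  have hg' : ψ c g = g := hg
  rcases hp with rfl | rfl
  · exact hg'
  · show ψ (c * c) g = g
    rw [happ, hg', hg']

end Cfsg.Agent.S3040
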