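import Cfsg.Statements.S3169
import Cfsg.Agent.M24Type.Normal
import Cfsg.Agent.M24Type.Witness
-- import your own Cfsg.Agent.* helpers here

set_option autoImplicit false
open Cfsg

namespace Cfsg.Agent.S3169

/-- Let P be a Sylow 2-subgroup of the Mathieu group of degree 24 and let G be a finite group with no nontrivial normal subgroup of odd order whose Sylow 2-subgroup S is isomorphic to the quotient of P by its centre. If A is an abelian subgroup of S of order 64 and is the only abelian subgroup of S of that order, then A is normal in G. -/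
theorem result {G : Type*} [Group G] [Finite G]
    (hO : Cfsg.oddCore G = ⊥) (S : Sylow 2 G) (P : Sylow 2 ↥Cfsg.M24)
    (hS : Nonempty (↥(S : Subgroup G) ≃* (↥(P : Subgroup ↥Cfsg.M24) ⧸ Subgroup.center ↥(P : Subgroup ↥Cfsg.M24))))
    (A : Subgroup G) (hA : A ≤ (S : Subgroup G)) (hAc : IsMulCommutative ↥A) (hA64 : Nat.card ↥A = 64)
    (huniq : ∀ B : Subgroup G, B ≤ (S : Subgroup G) → IsMulCommutative ↥B → Nat.card ↥B = 64 → B = A) :
    A.Normal := by
  obtain ⟨f⟩ := hS
  obtain ⟨A₀, v, s, t, hA₀, hA₀c, hv, hinj, hs, ht, hQ, -⟩ := M24Type.exists_frame P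
  let φ := (S : Subgroup G).subtype.comp f.symm.toMonoidHom
  have hφ : Function.Injective φ := Subtype.val_injective.comp f.symm.injective
  have hrange : ∀ x, φ x ∈ (S : Subgroup G) := fun x => (f.symm x).2
  have hmap : A₀.map φ = A := by
    refine huniq _ ?_ ?_ ?_
    · rintro _ ⟨x, -, rfl⟩
      exact hrange x
    · haveI := hA₀.1
      infer_instance
    · rw [← Nat.card_congr (A₀.equivMapOfInjective φ hφ).toEquiv, hA₀c]
  have hpw : ∀ x b, φ (M24Type.pw x b) = M24Type.pw (φ x) b := by
    intro x b; cases b <;> simp [M24Type.pw]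
  have henc : ∀ n, φ (M24Type.enc v n) = M24Type.enc (fun i => φ (v i)) n := fun n => by
    simp only [M24Type.enc, map_mul, hpw]
  let F : M24Type.Frame (S : Subgroup G) A :=
    { v := fun i => φ (v i)
      s := φ s
      t := φ t
      hle := hA
      comm := fun a ha b hb => congrArg Subtype.val (hAc.is_comm.comm ⟨a, ha⟩ ⟨b, hb⟩)
      sq := fun a ha => by
        rw [← hmap] at ha
        obtain ⟨x, hx, rfl⟩ := ha
        rw [← map_mul, ← pow_two, hA₀.2 x hx, map_one]
      hA := hA64
      hS := (Nat.card_congr f.toEquiv).trans hQ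
      hv := fun i hi => hmap ▸ Subgroup.mem_map_of_mem φ (hv i hi)
      hs := hrange s
      ht := hrange t
      inj := fun n hn h => hinj n hn (hφ (by rw [henc, h, map_one]))
      hsig := fun i hi => by rw [← map_inv, ← map_mul, ← map_mul, hs i hi, henc]
      htau := fun i hi => by rw [← map_inv, ← map_mul, ← map_mul, ht i hi, henc]
      uniq := huniq }
  exact F.normal_of_oddCore hO

end Cfsg.Agent.S3169
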