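import Cfsg.Statements.S3170
import Cfsg.Agent.S3169
import Cfsg.Agent.Cores.Basic
import Cfsg.Agent.PGroup.Basic
import Cfsg.Agent.Golay.M24
-- import your own Cfsg.Agent.* helpers here

set_option autoImplicit false
open Cfsg

namespace Cfsg.Agent.S3170

/-- Let H be a finite group with no nontrivial normal subgroup of odd order whose Sylow 2-subgroup T is isomorphic to a Sylow 2-subgroup of the Mathieu group of degree 24, and suppose that the centre of T lies in the centre of H. If E is a subgroup of T that is normal in T and extraspecial of order 2^7, and E is the only such subgroup of T, then E is normal in H. -/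
theorem result {H : Type*} [Group H] [Finite H]
    (hO : Cfsg.oddCore H = ⊥) (T : Sylow 2 H) (P : Sylow 2 ↥Cfsg.M24)
    (hT : Nonempty (↥(T : Subgroup H) ≃* ↥(P : Subgroup ↥Cfsg.M24)))
    (hZ : ∀ z ∈ (T : Subgroup H), (∀ t ∈ (T : Subgroup H), z * t = t * z) → z ∈ Subgroup.center H)
    (E : Subgroup H) (hE : E ≤ (T : Subgroup H)) (hEn : (E.subgroupOf (T : Subgroup H)).Normal)
    (hEx : Cfsg.IsExtraspecial 2 ↥E) (hE7 : Nat.card ↥E = 2 ^ 7)
    (huniq : ∀ E' : Subgroup H, E' ≤ (T : Subgroup H) → (E'.subgroupOf (T : Subgroup H)).Normal →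
      Cfsg.IsExtraspecial 2 ↥E' → Nat.card ↥E' = 2 ^ 7 → E' = E) :
    E.Normal := by
  classical
  haveI : Fact (Nat.Prime 2) := ⟨Nat.prime_two⟩
  obtain ⟨f⟩ := hT
  -- the centre of `T`
  let Z : Subgroup H := (Subgroup.center ↥(T : Subgroup H)).map (T : Subgroup H).subtype
  have hZle : Z ≤ Subgroup.center H := by
    rintro _ ⟨z, hz, rfl⟩
    exact hZ z z.2 fun t ht => (congrArg Subtype.val (Subgroup.mem_center_iff.1 hz ⟨t, ht⟩)).symm
  haveI hZn : Z.Normal := ⟨fun z hz g => by
    rw [Subgroup.mem_center_iff.1 (hZle hz) g, mul_inv_cancel_right]; exact hz⟩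
  have hZ2 : IsPGroup 2 Z := (T.2.to_subgroup _).map _
  set π := QuotientGroup.mk' Z
  have hπ : Function.Surjective π := QuotientGroup.mk'_surjective Z
  let T' : Sylow 2 (H ⧸ Z) := T.mapSurjective hπ
  -- the quotient of `T` is the quotient of `P` by its centre
  let ψ := (π.comp (T : Subgroup H).subtype)
  have hker : ψ.ker = Subgroup.center ↥(T : Subgroup H) := by
    ext x
    rw [MonoidHom.mem_ker]
    show π (x : H) = 1 ↔ _
    rw [QuotientGroup.mk'_apply, QuotientGroup.eq_one_iff]
    constructor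
    · rintro ⟨z, hz, hzx⟩
      exact (Subtype.ext hzx : z = x) ▸ hz
    · exact fun hx => ⟨x, hx, rfl⟩
  have hrange : ψ.range = (T' : Subgroup (H ⧸ Z)) := by
    rw [MonoidHom.range_comp, Subgroup.range_subtype]
    rfl
  have hiso : Nonempty (↥(T' : Subgroup (H ⧸ Z)) ≃*
      (↥(P : Subgroup ↥Cfsg.M24) ⧸ Subgroup.center ↥(P : Subgroup ↥Cfsg.M24))) :=
    ⟨(MulEquiv.subgroupCongr hrange).symm.trans
      ((QuotientGroup.quotientKerEquivRange ψ).symm.trans
        ((QuotientGroup.quotientMulEquivOfEq hker).trans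
          (QuotientGroup.congr _ _ f (by
            ext x
            constructor
            · rintro ⟨y, hy, rfl⟩
              exact Subgroup.mem_center_iff.2 fun g => by
                obtain ⟨g', rfl⟩ := f.surjective g
                exact (map_mul f g' y).symm.trans
                  ((congrArg f (Subgroup.mem_center_iff.1 hy g')).trans (map_mul f y g'))
            · intro hx
              refine ⟨f.symm x, Subgroup.mem_center_iff.2 fun g => f.injective ?_, by simp⟩
              simpa using Subgroup.mem_center_iff.1 hx (f g)))))⟩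
  -- the core of the quotient
  have hO' : Cfsg.oddCore (H ⧸ Z) = ⊥ := by
    rw [eq_bot_iff]
    refine sSup_le fun N hN => ?_
    obtain ⟨hNn, hNc⟩ := hN
    let M : Subgroup H := N.comap π
    haveI : (Z.subgroupOf M).Normal := inferInstance
    have hcard : Nat.card M = Nat.card Z * Nat.card N := Cfsg.Agent.Cores.card_comap_mk_eq Z N
    have hZM : Z ≤ M := fun z hz => by
      show π z ∈ N
      rw [QuotientGroup.mk'_apply, (QuotientGroup.eq_one_iff z).2 hz]
      exact one_mem N
    obtain ⟨e, he⟩ := IsPGroup.iff_card.1 hZ2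
    have hco : (Nat.card (Z.subgroupOf M)).Coprime (Z.subgroupOf M).index := by
      have h1 := (Z.subgroupOf M).card_mul_index
      rw [Nat.card_congr (Subgroup.subgroupOfEquivOfLe hZM).toEquiv, hcard] at h1
      rw [Nat.card_congr (Subgroup.subgroupOfEquivOfLe hZM).toEquiv,
        Nat.eq_of_mul_eq_mul_left Nat.card_pos h1, he]
      exact (Nat.Coprime.symm hNc).pow_left e
    obtain ⟨K, hK⟩ := Subgroup.exists_right_complement'_of_coprime hco
    have hKN : Nat.card K = Nat.card N := by
      have h1 := hK.card_mul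
      rw [Nat.card_congr (Subgroup.subgroupOfEquivOfLe hZM).toEquiv, hcard] at h1
      exact Nat.eq_of_mul_eq_mul_left Nat.card_pos h1
    have hNodd : Odd (Nat.card N) := Nat.coprime_two_right.1 hNc
    have hchar : ∀ x : M, x ∈ K ↔ Odd (orderOf x) := by
      refine fun x => ⟨fun hx => hNodd.of_dvd_nat (hKN ▸ Subgroup.orderOf_dvd_natCard K hx),
        fun hx => ?_⟩
      obtain ⟨⟨z, k⟩, hzk, -⟩ := hK.existsUnique x
      have hc : Commute x (k : M) := by
        have : Commute (z : M) (k : M) :=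
          (Subtype.ext (Subgroup.mem_center_iff.1 (hZle z.2) (k : M))).symm
        show Commute x (k : M)
        rw [← hzk]
        exact this.mul_left (Commute.refl _)
      have hz : (z : M) = x * (k : M)⁻¹ := by rw [← hzk]; simp
      have h1 : orderOf (z : M) ∣ Nat.lcm (orderOf x) (orderOf (k : M)) := by
        rw [hz]
        have := hc.inv_right.orderOf_mul_dvd_lcm
        rwa [orderOf_inv] at this
      have h2 : Odd (Nat.lcm (orderOf x) (orderOf (k : M))) :=
        Odd.of_dvd_nat (hx.mul (hNodd.of_dvd_nat (hKN ▸ Subgroup.orderOf_dvd_natCard K k.2)))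
          (Nat.lcm_dvd_mul _ _)
      have h3 : orderOf (z : M) ∣ 2 ^ e := by
        rw [← he, ← Nat.card_congr (Subgroup.subgroupOfEquivOfLe hZM).toEquiv]
        exact Subgroup.orderOf_dvd_natCard _ z.2
      have hz1 : (z : M) = 1 := orderOf_eq_one_iff.1
        (Nat.eq_one_of_dvd_coprimes ((Nat.coprime_two_left.2 h2).pow_left e) h3 h1)
      rw [← hzk]
      show (z : M) * (k : M) ∈ K
      rw [hz1, one_mul]
      exact k.2
    have hK' : K.map M.subtype ≤ Cfsg.pPrimeCore 2 H := by
      refine Cfsg.Agent.Cores.le_pPrimeCore ⟨?_⟩ ?_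
      · rintro _ ⟨x, hx, rfl⟩ g
        have hm : g * (x : H) * g⁻¹ ∈ M := (inferInstance : M.Normal).conj_mem _ x.2 g
        refine ⟨⟨_, hm⟩, (hchar _).2 ?_, rfl⟩
        have h := (hchar x).1 hx
        rw [← Subgroup.orderOf_coe] at h ⊢
        show Odd (orderOf (g * (x : H) * g⁻¹))
        rwa [show g * (x : H) * g⁻¹ = MulAut.conj g (x : H) from rfl, MulEquiv.orderOf_eq]
      · rw [← Nat.card_congr (K.equivMapOfInjective M.subtype M.subtype_injective).toEquiv, hKN]
        exact hNc
    have hO₂ : Cfsg.pPrimeCore 2 H = ⊥ := hO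
    rw [hO₂, le_bot_iff, Subgroup.map_eq_bot_iff_of_injective _ M.subtype_injective] at hK'
    rw [le_bot_iff, Subgroup.eq_bot_iff_card, ← hKN, hK', Subgroup.card_bot]
  -- the orders
  obtain ⟨A₀, v, s, t, hA₀, hA₀c, hv, hinj, hs, ht, hQ, huniq₀⟩ := M24Type.exists_frame P
  have hP : Nat.card ↥(P : Subgroup ↥Cfsg.M24) = 1024 := by
    haveI : Finite ↥Cfsg.M24 := Nat.finite_of_card_ne_zero (by rw [Golay.card_M24]; norm_num)
    obtain ⟨k, hk⟩ := IsPGroup.iff_card.1 P.2
    have h1 := (P : Subgroup ↥Cfsg.M24).card_mul_index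
    rw [Golay.card_M24, hk] at h1
    have h2 : ¬ 2 ∣ (P : Subgroup ↥Cfsg.M24).index := P.not_dvd_index
    rw [hk]
    have hk10 : k = 10 := by
      rcases Nat.lt_trichotomy k 10 with h | h | h
      · exfalso
        refine h2 ((Nat.Coprime.dvd_mul_left (m := 239085) (by norm_num)).1 ?_)
        have e : 2 ^ k * (P : Subgroup ↥Cfsg.M24).index = 2 ^ k * (2 ^ (10 - k) * 239085) := by
          rw [h1, ← mul_assoc, ← pow_add, show k + (10 - k) = 10 by omega]; norm_num
        rw [Nat.eq_of_mul_eq_mul_left (by positivity) e]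
        exact Dvd.dvd.mul_left (Dvd.dvd.mul_right (dvd_pow_self 2 (by omega)) _) _
      · exact h
      · exfalso
        have h3 : 2 ^ 11 ∣ 244823040 := h1 ▸ Dvd.dvd.mul_right (pow_dvd_pow 2 h) _
        norm_num at h3
    rw [hk10]; norm_num
  have hT1024 : Nat.card ↥(T : Subgroup H) = 1024 := (Nat.card_congr f.toEquiv).trans hP
  obtain ⟨ι⟩ := hiso
  have hT'512 : Nat.card ↥(T' : Subgroup (H ⧸ Z)) = 512 := (Nat.card_congr ι.toEquiv).trans hQ
  have hZ2card : Nat.card Z = 2 := by
    have h1 : Nat.card ψ.ker * Nat.card ψ.range = Nat.card ↥(T : Subgroup H) := by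
      rw [← Subgroup.index_ker, Subgroup.card_mul_index]
    rw [hker, hrange, hT'512, hT1024] at h1
    have e : Nat.card Z = Nat.card (Subgroup.center ↥(T : Subgroup H)) :=
      (Nat.card_congr (Subgroup.equivMapOfInjective _ _ (T : Subgroup H).subtype_injective).toEquiv).symm
    omega
  -- the centre lies in `E`
  set E₀ := E.subgroupOf (T : Subgroup H)
  have hE₀ : Nat.card E₀ = 128 := by
    rw [Nat.card_congr (Subgroup.subgroupOfEquivOfLe hE).toEquiv, hE7]; norm_num
  haveI : E₀.Normal := hEn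
  have hE₀ne : Nontrivial E₀ := Finite.one_lt_card_iff_nontrivial.1 (by omega)
  obtain ⟨z, hzE, hzne⟩ : ∃ z ∈ E₀ ⊓ Subgroup.center ↥(T : Subgroup H), z ≠ 1 := by
    by_contra h
    push Not at h
    obtain ⟨n, hn⟩ := IsPGroup.iff_card.1 T.2
    have hne := Cfsg.Agent.PGroup.inf_center_ne_bot T.2 E₀ (by
      intro h0; rw [h0, Subgroup.card_bot] at hE₀; omega)
    exact hne ((Subgroup.eq_bot_iff_forall _).2 h)
  have hzZ : (z : H) ∈ Z := ⟨z, hzE.2, rfl⟩
  have hZel : ∀ w ∈ Z, w = 1 ∨ w = (z : H) := by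
    intro w hw
    by_contra h
    push Not at h
    have hc : ({1, (z : H), w} : Set H).ncard ≤ (Z : Set H).ncard :=
      Set.ncard_le_ncard (by
        rintro x (rfl | rfl | rfl)
        exacts [one_mem Z, hzZ, hw]) (Set.toFinite _)
    rw [Set.ncard_insert_of_notMem (by
        simp only [Set.mem_insert_iff, Set.mem_singleton_iff, not_or]
        exact ⟨fun e => hzne (Subtype.ext e.symm), h.1.symm⟩),
      Set.ncard_pair h.2.symm, ← Nat.card_coe_set_eq, SetLike.coe_sort_coe, hZ2card] at hc
    omega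
  have hZE : Z ≤ E := fun w hw => by
    rcases hZel w hw with rfl | rfl
    exacts [one_mem E, Subgroup.mem_subgroupOf.1 hzE.1]
  -- its image
  let A : Subgroup (H ⧸ Z) := E.map π
  have hA : A ≤ (T' : Subgroup (H ⧸ Z)) := Subgroup.map_mono hE
  have hA64 : Nat.card A = 64 := by
    have h1 : Nat.card (π.comp E.subtype).ker * Nat.card (π.comp E.subtype).range = Nat.card E := by
      rw [← Subgroup.index_ker, Subgroup.card_mul_index]
    rw [MonoidHom.range_comp, Subgroup.range_subtype, hE7] at h1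
    have h2 : (π.comp E.subtype).ker = Z.subgroupOf E := by
      ext x
      rw [MonoidHom.mem_ker, Subgroup.mem_subgroupOf]
      exact QuotientGroup.eq_one_iff _
    rw [h2, Nat.card_congr (Subgroup.subgroupOfEquivOfLe hZE).toEquiv, hZ2card] at h1
    change 2 * Nat.card A = _ at h1
    omega
  have hAc : IsMulCommutative A := by
    refine ⟨⟨?_⟩⟩
    rintro ⟨_, a, ha, rfl⟩ ⟨_, b, hb, rfl⟩
    apply Subtype.ext
    show π a * π b = π b * π a
    rw [← map_mul, ← map_mul]
    refine QuotientGroup.eq.2 ?_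
    -- commutators of `E` are central in it, so lie in `Z`
    have hcE : (⟨(a * b)⁻¹ * (b * a), mul_mem (inv_mem (mul_mem ha hb)) (mul_mem hb ha)⟩ : E) ∈
        Subgroup.center E := by
      rw [← hEx.1.2.2, commutator_def]
      have := Subgroup.commutator_mem_commutator (H₁ := (⊤ : Subgroup E)) (H₂ := ⊤)
        (Subgroup.mem_top (⟨b, hb⟩⁻¹ : E)) (Subgroup.mem_top (⟨a, ha⟩⁻¹ : E))
      convert this using 1
      ext
      simp [commutatorElement_def, mul_assoc]
    have hZc : (Z.subgroupOf E) = Subgroup.center E := by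
      refine Subgroup.eq_of_le_of_card_ge (fun x hx => Subgroup.mem_center_iff.2 fun y =>
        Subtype.ext (Subgroup.mem_center_iff.1 (hZle hx) y)) ?_
      rw [hEx.2, Nat.card_congr (Subgroup.subgroupOfEquivOfLe hZE).toEquiv, hZ2card]
    rw [← hZc] at hcE
    exact hcE
  have huniqA : ∀ B : Subgroup (H ⧸ Z), B ≤ (T' : Subgroup (H ⧸ Z)) → IsMulCommutative ↥B →
      Nat.card ↥B = 64 → B = A := by
    have key : ∀ C : Subgroup (H ⧸ Z), C ≤ (T' : Subgroup (H ⧸ Z)) → IsMulCommutative ↥C →
        Nat.card ↥C = 64 → (C.subgroupOf (T' : Subgroup (H ⧸ Z))).map ι.toMonoidHom = A₀ := by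
      intro C hC hCc hC64
      refine huniq₀ _ ?_ ?_
      · haveI := hCc
        infer_instance
      · rw [← Nat.card_congr ((C.subgroupOf _).equivMapOfInjective ι.toMonoidHom ι.injective).toEquiv,
          Nat.card_congr (Subgroup.subgroupOfEquivOfLe hC).toEquiv, hC64]
    intro B hB hBc hB64
    have := Subgroup.map_injective ι.injective ((key B hB hBc hB64).trans (key A hA hAc hA64).symm)
    refine le_antisymm (fun x hx => ?_) fun x hx => ?_
    · have h : (⟨x, hB hx⟩ : ↥(T' : Subgroup (H ⧸ Z))) ∈ B.subgroupOf _ :=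
        Subgroup.mem_subgroupOf.2 hx
      rw [this] at h
      exact Subgroup.mem_subgroupOf.1 h
    · have h : (⟨x, hA hx⟩ : ↥(T' : Subgroup (H ⧸ Z))) ∈ A.subgroupOf _ :=
        Subgroup.mem_subgroupOf.2 hx
      rw [← this] at h
      exact Subgroup.mem_subgroupOf.1 h
  have hAn := S3169.result hO' T' P ⟨ι⟩ A hA hAc hA64 huniqA
  have hcomap : A.comap π = E := by
    rw [Subgroup.comap_map_eq, QuotientGroup.ker_mk', sup_of_le_left hZE]
  rw [← hcomap]
  exact hAn.comap π

end Cfsg.Agent.S3170
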