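import Cfsg.Statements.S3189
import Cfsg.Agent.EightAuto.Chars
import Cfsg.Agent.Invol.RankOneQuot
import Cfsg.Agent.PSolv.HallHigman

/-!
Automizer of an elementary abelian Sylow 2-subgroup of order 8 in a simple group with solvable
involution centralizers: Burnside fusion and Z* give transitivity on the seven involutions, a
stabilizer has order 1 or 3, and order 3 is excluded by `EightAuto.false_of_cfg`.
-/

set_option autoImplicit false
set_option linter.style.haveILetI false
open Cfsg Subgroup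

namespace Cfsg.Agent.S3189

open Cfsg.Agent

universe u

variable {G : Type u} [Group G]

theorem card_orbit_dvd {H X : Type*} [Group H] [MulAction H X] [Finite X] (r : ℕ)
    (hr : ∀ x : X, Nat.card (MulAction.orbit H x) = r) : r ∣ Nat.card X := by
  classical
  letI := Fintype.ofFinite (Quotient (MulAction.orbitRel H X))
  rw [Nat.card_congr (MulAction.selfEquivSigmaOrbits H X), Nat.card_sigma]
  exact Finset.dvd_sum fun i _ => (hr i.out).symm ▸ dvd_rfl

theorem orbit_seven {H X : Type*} [Group H] [MulAction H X] [Finite X] (h7 : Nat.card X = 7)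
    (ho : ∀ x : X, Odd (Nat.card (MulAction.orbit H x)))
    (h1 : ∀ x : X, Nat.card (MulAction.orbit H x) ≠ 1) (x y : X) : ∃ h : H, h • x = y := by
  classical
  letI := Fintype.ofFinite (Quotient (MulAction.orbitRel H X))
  have h3 : ∀ z : X, 3 ≤ Nat.card (MulAction.orbit H z) := by
    intro z
    obtain ⟨k, hk⟩ := ho z
    have := h1 z
    omega
  by_contra hne
  have hqq : (Quotient.mk (MulAction.orbitRel H X) x) ≠ Quotient.mk _ y := by
    intro he
    apply hne
    obtain ⟨g, hg⟩ := Quotient.exact he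
    exact ⟨g⁻¹, by rw [← hg]; exact inv_smul_smul g y⟩
  set i := Quotient.mk (MulAction.orbitRel H X) x
  set j := Quotient.mk (MulAction.orbitRel H X) y
  have hsum := (Nat.card_congr (MulAction.selfEquivSigmaOrbits H X)).symm.trans h7
  rw [Nat.card_sigma, ← Finset.add_sum_erase _ _ (Finset.mem_univ i),
    ← Finset.add_sum_erase _ _ (Finset.mem_erase.2 ⟨hqq.symm, Finset.mem_univ j⟩)] at hsum
  obtain ⟨a, ha⟩ := ho i.out
  obtain ⟨b, hb⟩ := ho j.out
  have h3i := h3 i.out
  have h3j := h3 j.out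
  rcases ((Finset.univ.erase i).erase j).eq_empty_or_nonempty with he | ⟨k, hk⟩
  · rw [he, Finset.sum_empty] at hsum
    omega
  · have hle := Finset.single_le_sum (f := fun q => Nat.card (MulAction.orbit H q.out))
      (fun _ _ => Nat.zero_le _) hk
    have h3k := h3 k.out
    omega

/-- A subgroup acting by conjugation on the elements with an invariant property. -/
@[reducible]
def conjAction (H : Subgroup G) (P : G → Prop) (hP : ∀ h ∈ H, ∀ x, P x → P (h * x * h⁻¹)) :
    MulAction H {x : G // P x} where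
  smul h x := ⟨(h : G) * x * (h : G)⁻¹, hP h h.2 x x.2⟩
  one_smul x := Subtype.ext (show ((1 : H) : G) * (x : G) * ((1 : H) : G)⁻¹ = x by simp)
  mul_smul a b x := Subtype.ext (show ((a * b : H) : G) * (x : G) * ((a * b : H) : G)⁻¹
      = (a : G) * ((b : G) * x * (b : G)⁻¹) * (a : G)⁻¹ by simp [mul_assoc])

theorem card_conjAction_orbit (H : Subgroup G) (P : G → Prop)
    (hP : ∀ h ∈ H, ∀ x, P x → P (h * x * h⁻¹)) (x : {x : G // P x}) :
    letI := conjAction H P hP
    Nat.card (MulAction.orbit H x) = (centralizer ({(x : G)} : Set G)).relIndex H := by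
  letI := conjAction H P hP
  show Nat.card (MulAction.orbit H x) = _
  rw [Nat.card_coe_set_eq, ← MulAction.index_stabilizer, Subgroup.relIndex]
  congr 1
  ext h
  rw [MulAction.mem_stabilizer_iff, mem_subgroupOf, mem_centralizer_singleton_iff, Subtype.ext_iff]
  exact mul_inv_eq_iff_eq_mul

theorem mem_normalizer_zpowers [Finite G] {g y : G} (h : g * y * g⁻¹ ∈ zpowers y) :
    g ∈ normalizer (zpowers y : Set G) := by
  have he : (zpowers y).map (MulAut.conj g).toMonoidHom = zpowers y := by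
    refine eq_of_le_of_card_ge ?_ ?_
    · rw [MonoidHom.map_zpowers, zpowers_le]
      exact h
    · rw [card_map_of_injective (MulAut.conj g).injective]
  rw [mem_normalizer_iff]
  intro x
  constructor
  · intro hx
    exact he ▸ ⟨x, hx, rfl⟩
  · intro hx
    change g * x * g⁻¹ ∈ zpowers y at hx
    rw [← he] at hx
    obtain ⟨z, hz, hze⟩ := hx
    change g * z * g⁻¹ = g * x * g⁻¹ at hze
    exact mul_left_cancel (mul_right_cancel hze) ▸ hz

section
variable [Finite G] (S : Sylow 2 G)

theorem odd_automizer (hab : IsMulCommutative (S : Subgroup G)) :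
    Odd ((centralizer ((S : Subgroup G) : Set G)).relIndex
      (normalizer ((S : Subgroup G) : Set G))) := by
  have h1 : (S : Subgroup G) ≤ centralizer ((S : Subgroup G) : Set G) :=
    le_centralizer_iff_isMulCommutative.2 hab
  have h2 := relIndex_mul_index (le_normalizer : (S : Subgroup G) ≤ normalizer _)
  have h3 := S.not_dvd_index
  rw [← h2] at h3
  refine Nat.odd_iff.2 (Nat.two_dvd_ne_zero.1 fun h => h3 (dvd_mul_of_dvd_left (h.trans ?_) _))
  exact relIndex_dvd_of_le_left _ h1

/-- An element of `N(S)` fixing two distinct involutions of `S` centralizes `S`. -/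
theorem mem_centralizer_of_fix (hab : IsMulCommutative (S : Subgroup G))
    (hS8 : Nat.card (S : Subgroup G) = 8) {t s n : G}
    (htS : t ∈ (S : Subgroup G)) (hsS : s ∈ (S : Subgroup G)) (ht1 : t ≠ 1) (hs1 : s ≠ 1)
    (hst : s ≠ t) (hn : n ∈ normalizer ((S : Subgroup G) : Set G)) (hnt : n * t = t * n)
    (hns : n * s = s * n) : n ∈ centralizer ((S : Subgroup G) : Set G) := by
  haveI := hab
  have comm : ∀ a ∈ (S : Subgroup G), ∀ b ∈ (S : Subgroup G), a * b = b * a := fun a ha b hb =>
    congrArg Subtype.val (mul_comm' (⟨a, ha⟩ : (S : Subgroup G)) ⟨b, hb⟩)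
  set F := (S : Subgroup G) ⊓ centralizer ({n} : Set G) with hF
  have hmem : ∀ x, x ∈ F ↔ x ∈ (S : Subgroup G) ∧ x * n = n * x := fun x => by
    rw [hF, mem_inf, mem_centralizer_singleton_iff]
  have hFt : t ∈ F := (hmem t).2 ⟨htS, hnt.symm⟩
  have hFs : s ∈ F := (hmem s).2 ⟨hsS, hns.symm⟩
  have h3 : 3 ≤ Nat.card F := by
    have hsub : ({1, t, s} : Set G) ⊆ F := by
      intro x hx
      rcases hx with rfl | rfl | rfl
      exacts [one_mem _, hFt, hFs]
    have := Set.ncard_le_ncard hsub
    rw [Set.ncard_eq_three.2 ⟨1, t, s, ht1.symm, hs1.symm, hst.symm, rfl⟩,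
      ← Nat.card_coe_set_eq] at this
    exact this
  have hd : Nat.card F ∣ 2 ^ 3 := (card_dvd_of_le inf_le_left).trans (by rw [hS8]; rfl)
  obtain ⟨k, hk, hkF⟩ := (Nat.dvd_prime_pow Nat.prime_two).1 hd
  have hk' : k = 2 ∨ k = 3 := by
    have := hkF ▸ h3
    interval_cases k <;> simp_all
  rcases hk' with rfl | rfl
  swap
  · have he : F = (S : Subgroup G) := eq_of_le_of_card_ge inf_le_left (by rw [hS8, hkF]; norm_num)
    rw [mem_centralizer_iff]
    exact fun x hx => ((hmem x).1 (he.symm ▸ hx)).2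
  have hidx : (F.subgroupOf (S : Subgroup G)).index = 2 := by
    have := relIndex_mul_relIndex ⊥ F (S : Subgroup G) bot_le inf_le_left
    rw [relIndex_bot_left, relIndex_bot_left, hS8, hkF] at this
    change F.relIndex _ = 2
    omega
  have hsq : n * n ∈ centralizer ((S : Subgroup G) : Set G) := by
    rw [mem_centralizer_iff]
    intro x hx
    by_cases hxF : x ∈ F
    · have := ((hmem x).1 hxF).2
      calc x * (n * n) = (x * n) * n := by group
        _ = (n * x) * n := by rw [this]
        _ = n * (x * n) := by group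
        _ = n * (n * x) := by rw [this]
        _ = n * n * x := by group
    have hy : n * x * n⁻¹ ∈ (S : Subgroup G) := (mem_normalizer_iff.1 hn x).1 hx
    have hyF : n * x * n⁻¹ ∉ F := by
      intro hyF
      apply hxF
      have h := ((hmem _).1 hyF).2
      have hxn : n * x * n⁻¹ = x := by
        calc n * x * n⁻¹ = n⁻¹ * (n * (n * x * n⁻¹)) := by group
          _ = n⁻¹ * (n * x * n⁻¹ * n) := by rw [h]
          _ = x := by group
      rwa [hxn] at hyF
    have hxy : x * (n * x * n⁻¹) ∈ F := by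
      have := (mul_mem_iff_of_index_two hidx (a := (⟨x, hx⟩ : (S : Subgroup G)))
        (b := ⟨_, hy⟩)).2 (by simp [mem_subgroupOf, hxF, hyF])
      simpa [mem_subgroupOf] using this
    have h := ((hmem _).1 hxy).2
    have h' : n * x * n⁻¹ * (n * (n * x * n⁻¹) * n⁻¹) = n * x * n⁻¹ * x := by
      rw [comm _ hy x hx]
      calc n * x * n⁻¹ * (n * (n * x * n⁻¹) * n⁻¹) = n * (x * (n * x * n⁻¹)) * n⁻¹ := by group
        _ = x * (n * x * n⁻¹) * n * n⁻¹ := by rw [h]
        _ = _ := by group
    have h'' := mul_left_cancel h'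
    calc x * (n * n) = n * (n * x * n⁻¹) * n⁻¹ * (n * n) := by rw [h'']
      _ = n * n * x := by group
  obtain ⟨k, hk⟩ := odd_automizer S hab
  have hCle : centralizer ((S : Subgroup G) : Set G) ≤ normalizer ((S : Subgroup G) : Set G) :=
    centralizer_le_normalizer _
  haveI : ((centralizer ((S : Subgroup G) : Set G)).subgroupOf
      (normalizer ((S : Subgroup G) : Set G))).Normal := by
    rw [← normalizerMonoidHom_ker]
    exact MonoidHom.normal_ker _
  have hp := pow_index_mem
    ((centralizer ((S : Subgroup G) : Set G)).subgroupOf (normalizer ((S : Subgroup G) : Set G)))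
    (⟨n, hn⟩ : normalizer ((S : Subgroup G) : Set G))
  change (⟨n, hn⟩ : normalizer ((S : Subgroup G) : Set G)) ^
    ((centralizer ((S : Subgroup G) : Set G)).relIndex _) ∈ _ at hp
  rw [hk, mem_subgroupOf, coe_pow, pow_succ, pow_mul, pow_two] at hp
  exact (Subgroup.mul_mem_cancel_left _ (pow_mem hsq k)).1 hp

/-- The stabilizer of an involution induces at most an order-3 group. -/
theorem stab_index_dvd_six (hab : IsMulCommutative (S : Subgroup G))
    (hS8 : Nat.card (S : Subgroup G) = 8) {t : G} (htS : t ∈ (S : Subgroup G)) (ht1 : t ≠ 1) :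
    (centralizer ((S : Subgroup G) : Set G)).relIndex
      (centralizer ({t} : Set G) ⊓ normalizer ((S : Subgroup G) : Set G)) ∣ 6 := by
  set Nt := centralizer ({t} : Set G) ⊓ normalizer ((S : Subgroup G) : Set G) with hNt
  let P : G → Prop := fun x => x ∈ (((S : Subgroup G) : Set G) \ {1}) \ {t}
  have hP : ∀ h ∈ Nt, ∀ x, P x → P (h * x * h⁻¹) := by
    rintro h ⟨hht, hhN⟩ x ⟨⟨hx, hx1⟩, hxt⟩
    have hc : h * t = t * h := mem_centralizer_singleton_iff.1 hht
    refine ⟨⟨(mem_normalizer_iff.1 hhN x).1 hx, fun e => hx1 ?_⟩, fun e => hxt ?_⟩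
    · simpa [conj_eq_one_iff] using e
    · simp only [Set.mem_singleton_iff] at e ⊢
      calc x = h⁻¹ * (h * x * h⁻¹) * h := by group
        _ = t := by rw [e, mul_assoc, ← hc]; group
  letI := conjAction Nt P hP
  have h6 : Nat.card {x : G // P x} = 6 := by
    rw [show Nat.card {x : G // P x} = ((((S : Subgroup G) : Set G) \ {1}) \ {t}).ncard from
      Nat.card_coe_set_eq _, Set.ncard_sdiff_singleton_of_mem (show t ∈ ((S : Subgroup G) : Set G) \ {1} from ⟨htS, ht1⟩),
      Set.ncard_sdiff_singleton_of_mem (SetLike.mem_coe.2 (one_mem (S : Subgroup G))),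
      ← Nat.card_coe_set_eq]
    rw [show Nat.card ((S : Subgroup G) : Set G) = 8 from hS8]
  rw [← h6]
  refine card_orbit_dvd (H := Nt) _ fun x => ?_
  rw [card_conjAction_orbit Nt P hP x, ← inf_relIndex_right]
  congr 1
  obtain ⟨x, ⟨hx, hx1⟩, hxt⟩ := x
  refine le_antisymm ?_ ?_
  · rintro n ⟨hnx, hnt, hnN⟩
    exact mem_centralizer_of_fix S hab hS8 htS hx ht1 hx1 hxt hnN
      (mem_centralizer_singleton_iff.1 hnt) (mem_centralizer_singleton_iff.1 hnx)
  · intro n hn
    have hn' := mem_centralizer_iff.1 hn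
    exact ⟨mem_centralizer_singleton_iff.2 (hn' x hx).symm,
      mem_centralizer_singleton_iff.2 (hn' t htS).symm, centralizer_le_normalizer _ hn⟩

/-- A stabilizer inducing a group of order 3 yields a configuration. -/
theorem exists_cfg (hab : IsMulCommutative (S : Subgroup G))
    (hS8 : Nat.card (S : Subgroup G) = 8) {t : G} (htS : t ∈ (S : Subgroup G))
    (ht : orderOf t = 2) (hsol : Group.IsSolvable (centralizer ({t} : Set G)))
    (h3 : (centralizer ((S : Subgroup G) : Set G)).relIndex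
      (centralizer ({t} : Set G) ⊓ normalizer ((S : Subgroup G) : Set G)) = 3) :
    ∃ (C K U : Subgroup G) (ψ : C →* ℂˣ), EightAuto.Cfg t C K U ψ := by
  classical
  haveI := hab
  have hcS : ∀ a ∈ (S : Subgroup G), ∀ b ∈ (S : Subgroup G), a * b = b * a := fun a ha b hb =>
    congrArg Subtype.val (mul_comm' (⟨a, ha⟩ : (S : Subgroup G)) ⟨b, hb⟩)
  have ht1 : t ≠ 1 := fun h => by simp [h] at ht
  set C := centralizer ({t} : Set G) with hC
  set N := normalizer ((S : Subgroup G) : Set G) with hN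
  set Cs := centralizer ((S : Subgroup G) : Set G) with hCs
  have hSC : (S : Subgroup G) ≤ C := fun x hx =>
    mem_centralizer_singleton_iff.2 (hcS x hx t htS)
  let SC : Sylow 2 C := S.subtype hSC
  have hSCmem : ∀ c : C, c ∈ (SC : Subgroup C) ↔ (c : G) ∈ (S : Subgroup G) := fun c => Iff.rfl
  set K0 := pPrimeCore 2 C with hK0
  haveI : K0.Normal := by
    haveI := PSolv.pPrimeCore_characteristic 2 C
    exact inferInstanceAs (pPrimeCore 2 C).Normal
  have hK0odd : Odd (Nat.card K0) := Nat.coprime_two_right.1 (PSolv.coprime_card_pPrimeCore 2 C)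
  set q := QuotientGroup.mk' K0 with hq
  have hqs : Function.Surjective q := QuotientGroup.mk'_surjective K0
  set Sb := (SC : Subgroup C).map q with hSb
  have hSC8 : Nat.card (SC : Subgroup C) = 8 :=
    (Nat.card_congr (Subgroup.subgroupOfEquivOfLe hSC).toEquiv).trans hS8
  have hSK : (SC : Subgroup C) ⊓ K0 = ⊥ := PSolv.inf_eq_bot_of_coprime_card (by
    rw [hSC8]; exact Nat.Coprime.pow_left 3 (Nat.coprime_two_left.2 hK0odd))
  have hqinj : ∀ c : C, (c : G) ∈ (S : Subgroup G) → q c = 1 → c = 1 := fun c hc h1 =>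
    mem_bot.1 (hSK ▸ mem_inf.2 ⟨(hSCmem c).2 hc, (QuotientGroup.eq_one_iff c).1 h1⟩)
  have hSb8 : Nat.card Sb = 8 := by
    rw [hSb, hq, PSolv.card_map_mk_eq_relIndex, ← inf_relIndex_right, inf_comm, hSK,
      relIndex_bot_left, hSC8]
  have hSbSylow : pCore 2 (C ⧸ K0) ≤ Sb := PSolv.pCore_le_sylow (SC.mapSurjective hqs)
  have hcent : centralizer (pCore 2 (C ⧸ K0) : Set (C ⧸ K0)) ≤ pCore 2 (C ⧸ K0) :=
    PSolv.centralizer_pCore_le
      (PSolv.isPSolvable_of_surjective q hqs (PSolv.isPSolvable_of_isSolvable hsol))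
      (PSolv.pPrimeCore_quotient_eq_bot 2 C)
  have hSbcomm : ∀ a ∈ Sb, ∀ b ∈ Sb, a * b = b * a := by
    rintro _ ⟨a, ha, rfl⟩ _ ⟨b, hb, rfl⟩
    rw [← map_mul, ← map_mul]
    exact congrArg q (Subtype.ext (hcS _ ha _ hb))
  have hSbF : Sb = pCore 2 (C ⧸ K0) := le_antisymm
    (fun a ha => hcent (mem_centralizer_iff.2 fun b hb => hSbcomm b (hSbSylow hb) a ha)) hSbSylow
  have hSbn : Sb.Normal := by
    haveI := PSolv.pCore_characteristic 2 (C ⧸ K0)
    rw [hSbF]
    infer_instance
  have hcentSb : centralizer (Sb : Set (C ⧸ K0)) ≤ Sb := by rw [hSbF]; exact hcent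
  -- the normalizer of `S` in `C` covers the quotient
  have hcover : ∀ x : C ⧸ K0, ∃ c : C, (c : G) ∈ N ∧ (q c)⁻¹ * x ∈ Sb := by
    intro x
    obtain ⟨c, rfl⟩ := hqs x
    haveI : (Sb.comap q).Normal := hSbn.comap q
    have htop := Sylow.normalizer_sup_eq_top' (N := Sb.comap q) SC (le_comap_map q _)
    obtain ⟨n, hn, m, hm, rfl⟩ := mem_sup_of_normal_right.1
      (htop.symm ▸ mem_top c : c ∈ normalizer ((SC : Subgroup C) : Set C) ⊔ Sb.comap q)
    refine ⟨n, ?_, by rw [map_mul, inv_mul_cancel_left]; exact hm⟩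
    rw [hN, mem_normalizer_iff]
    intro y
    constructor
    · intro hy
      exact (mem_normalizer_iff.1 hn ⟨y, hSC hy⟩).1 hy
    · intro hy
      have hyC : y ∈ C := by
        have := mul_mem (mul_mem (inv_mem n.2) (hSC hy)) n.2
        simpa [mul_assoc] using this
      exact (mem_normalizer_iff.1 hn ⟨y, hyC⟩).2 hy
  -- the map to the quotient by `Sb`
  let f : ↥(C ⊓ N) →* (C ⧸ K0) ⧸ Sb :=
    (QuotientGroup.mk' Sb).comp (q.comp (inclusion inf_le_left))
  have hfix : ∀ (n : C) (s : C), (n : G) ∈ N → (s : G) ∈ (S : Subgroup G) →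
      q n * q s = q s * q n → (n : G) * s = s * n := by
    intro n s hn hs he
    have hns : (n : G) * s * (n : G)⁻¹ ∈ (S : Subgroup G) := (mem_normalizer_iff.1 hn _).1 hs
    have h1 : (n * s * n⁻¹) * s⁻¹ = (1 : C) := by
      refine hqinj _ (mul_mem hns (inv_mem hs)) ?_
      rw [map_mul, map_mul, map_mul, map_inv, map_inv, he]
      group
    have h2 := congrArg Subtype.val (mul_inv_eq_one.1 h1)
    push_cast at h2
    exact mul_inv_eq_iff_eq_mul.1 h2
  have hker : f.ker = Cs.subgroupOf (C ⊓ N) := by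
    ext ⟨n, hn⟩
    rw [MonoidHom.mem_ker, mem_subgroupOf]
    change (QuotientGroup.mk' Sb) (q ⟨n, hn.1⟩) = 1 ↔ n ∈ Cs
    rw [QuotientGroup.mk'_apply, QuotientGroup.eq_one_iff]
    constructor
    · intro h
      rw [hCs, mem_centralizer_iff]
      intro s hs
      exact (hfix ⟨n, hn.1⟩ ⟨s, hSC hs⟩ hn.2 hs
        (hSbcomm _ h _ ⟨⟨s, hSC hs⟩, hs, rfl⟩)).symm
    · intro h
      apply hcentSb
      rw [mem_centralizer_iff]
      rintro _ ⟨s, hs, rfl⟩
      rw [← map_mul, ← map_mul]
      exact congrArg q (Subtype.ext (mem_centralizer_iff.1 h (s : G) hs))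
  have hfs : Function.Surjective f := by
    intro y
    obtain ⟨x, rfl⟩ := QuotientGroup.mk'_surjective Sb y
    obtain ⟨c, hcN, hcx⟩ := hcover x
    exact ⟨⟨c, c.2, hcN⟩, (QuotientGroup.eq).2 hcx⟩
  have hQS : Nat.card ((C ⧸ K0) ⧸ Sb) = 3 := by
    have h := index_ker f
    rw [hker, MonoidHom.range_eq_top.2 hfs, card_top] at h
    exact h.symm.trans h3
  have hQ : Nat.card (C ⧸ K0) = 24 := by
    rw [card_eq_card_quotient_mul_card_subgroup Sb, hQS, hSb8]
  -- an element of order 3
  haveI : Fact (Nat.Prime 3) := ⟨Nat.prime_three⟩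
  obtain ⟨w, hw⟩ := exists_prime_orderOf_dvd_card' (G := C ⧸ K0) 3 (by rw [hQ]; norm_num)
  have hwS : w ∉ Sb := fun h => by
    have := Subgroup.orderOf_dvd_natCard Sb h
    rw [hw, hSb8] at this
    norm_num at this
  set W := zpowers w with hW
  have hW3 : Nat.card W = 3 := by rw [hW, Nat.card_zpowers, hw]
  -- the centralizer of `w` in `Sb`
  let tC : C := ⟨t, hSC htS⟩
  have hqt : q tC ∈ Sb := ⟨tC, htS, rfl⟩
  have hqt1 : q tC ≠ 1 := fun h => ht1 (congrArg Subtype.val (hqinj tC htS h))
  have htcomm : ∀ x : C ⧸ K0, q tC * x = x * q tC := by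
    intro x
    obtain ⟨c, rfl⟩ := hqs x
    rw [← map_mul, ← map_mul]
    exact congrArg q (Subtype.ext (mem_centralizer_singleton_iff.1 c.2).symm)
  have hcw : ∀ x ∈ Sb, x * w = w * x → x = 1 ∨ x = q tC := by
    rintro _ ⟨s, hs, rfl⟩ hxw
    by_contra hne
    push Not at hne
    obtain ⟨n, hnN, hnw⟩ := hcover w
    apply hwS
    have hns : (n : G) * s = s * n := by
      refine hfix n s hnN hs ?_
      have hcm := hSbcomm _ hnw _ ⟨s, hs, rfl⟩
      calc q n * q s = w * ((q n)⁻¹ * w)⁻¹ * q s := by group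
        _ = w * q s * ((q n)⁻¹ * w)⁻¹ := by
          rw [mul_assoc, mul_assoc w (q s)]
          exact congrArg _ ((Commute.inv_left hcm).eq)
        _ = q s * q n := by rw [← hxw]; group
    have hnC : (n : G) ∈ Cs := mem_centralizer_of_fix S hab hS8 htS hs ht1
      (fun e => hne.1 (by rw [show s = 1 from Subtype.ext e, map_one]))
      (fun e => hne.2 (congrArg q (Subtype.ext e : s = tC)))
      hnN (mem_centralizer_singleton_iff.1 n.2) hns
    have hqn : q n ∈ Sb := by
      have h : (⟨(n : G), n.2, hnN⟩ : ↥(C ⊓ N)) ∈ f.ker := by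
        rw [hker]; exact hnC
      exact (QuotientGroup.eq_one_iff _).1 h
    have := mul_mem hqn hnw
    rwa [mul_inv_cancel_left] at this
  have hNW : Nat.card (normalizer (W : Set (C ⧸ K0))) = 6 := by
    set M := normalizer (W : Set (C ⧸ K0)) with hM
    have hwM : w ∈ M := le_normalizer (mem_zpowers w)
    have hi : Sb.index = 3 := by rw [index_eq_card, hQS]
    have h13 : Sb.relIndex M = 3 := by
      rcases (Nat.dvd_prime Nat.prime_three).1 (hi ▸ relIndex_dvd_index_of_normal Sb M) with h | h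
      · exact absurd (relIndex_eq_one.1 h hwM) hwS
      · exact h
    have h2 : Nat.card ↥(Sb ⊓ M) = 2 := by
      have hset : ((Sb ⊓ M : Subgroup (C ⧸ K0)) : Set (C ⧸ K0)) = {1, q tC} := by
        ext x
        constructor
        · rintro ⟨hxS, hxM⟩
          refine hcw x hxS ?_
          have h1 : x * w * x⁻¹ * w⁻¹ ∈ Sb := by
            have := mul_mem hxS (hSbn.conj_mem _ (inv_mem hxS) w)
            simpa [mul_assoc] using this
          have h2 : x * w * x⁻¹ * w⁻¹ ∈ W :=
            mul_mem ((mem_normalizer_iff.1 hxM w).1 (mem_zpowers w)) (inv_mem (mem_zpowers w))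
          have hbot : Sb ⊓ W = ⊥ := PSolv.inf_eq_bot_of_coprime_card (by
            rw [hSb8, hW3]; norm_num)
          have h3 : x * w * x⁻¹ * w⁻¹ = 1 := mem_bot.1 (hbot ▸ mem_inf.2 ⟨h1, h2⟩)
          exact mul_inv_eq_iff_eq_mul.1 (mul_inv_eq_one.1 h3)
        · rintro (rfl | rfl)
          · exact one_mem _
          · refine ⟨hqt, ?_⟩
            show q tC ∈ M
            rw [hM, mem_normalizer_iff]
            intro y
            rw [htcomm y, mul_inv_cancel_right]
      rw [← Set.ncard_pair hqt1.symm, ← hset]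
      exact (Nat.card_coe_set_eq _)
    have := relIndex_mul_relIndex ⊥ (Sb ⊓ M) M bot_le inf_le_right
    rw [relIndex_bot_left, relIndex_bot_left, inf_relIndex_right, h2, h13] at this
    exact this.symm
  -- the character
  haveI : IsCyclic ((C ⧸ K0) ⧸ Sb) := isCyclic_of_prime_card hQS
  have hroots : Nat.card (rootsOfUnity 3 ℂ) = 3 :=
    Complex.card_rootsOfUnity 3
  let e : (C ⧸ K0) ⧸ Sb ≃* rootsOfUnity 3 ℂ := mulEquivOfCyclicCardEq (hQS.trans hroots.symm)
  let ψ : C →* ℂˣ := (rootsOfUnity 3 ℂ).subtype.comp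
    (e.toMonoidHom.comp ((QuotientGroup.mk' Sb).comp q))
  have hψ1 : ∀ c, ψ c = 1 ↔ q c ∈ Sb := fun c => by
    change ((e (QuotientGroup.mk' Sb (q c)) : rootsOfUnity 3 ℂ) : ℂˣ) = 1 ↔ _
    rw [OneMemClass.coe_eq_one, EmbeddingLike.map_eq_one_iff, QuotientGroup.mk'_apply,
      QuotientGroup.eq_one_iff]
  set U0 := W.comap q with hU0
  have hU0c : Nat.card U0 = 3 * Nat.card K0 := by
    rw [hU0, hq, PSolv.card_comap_mk, hW3, mul_comm]
  have hKcard : Nat.card (K0.map C.subtype) = Nat.card K0 :=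
    card_map_of_injective C.subtype_injective
  refine ⟨C, K0.map C.subtype, U0.map C.subtype, ψ,
    { hC := hC, ht := ht, hKC := map_subtype_le K0, hKn := ?_, hKodd := hKcard.symm ▸ hK0odd,
      hUC := map_subtype_le U0, hKU := map_mono ((QuotientGroup.le_comap_mk' K0 W)),
      hU := ?_, hCc := ?_, hψ3 := ?_, hψK := ?_, hcov := ?_, hfix := ?_ }⟩
  · rintro c hc _ ⟨k, hk, rfl⟩
    exact ⟨⟨c, hc⟩ * k * ⟨c, hc⟩⁻¹, Normal.conj_mem inferInstance k hk _, rfl⟩
  · rw [hKcard, card_map_of_injective C.subtype_injective, hU0c]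
  · rw [hKcard, card_eq_card_quotient_mul_card_subgroup K0, hQ]
  · intro c
    exact (mem_rootsOfUnity' 3 _).1 (SetLike.coe_mem (e (QuotientGroup.mk' Sb (q c)))) |>
      fun h => Units.ext (by push_cast; exact h)
  · intro c hc
    rw [hψ1, ← SetLike.mem_coe]
    constructor
    · intro h
      have h8 : orderOf (q c) ∣ 8 := hSb8 ▸ Subgroup.orderOf_dvd_natCard Sb h
      have hco : (orderOf (q c)).Coprime (2 ^ 3) :=
        Nat.Coprime.pow_right 3 (Nat.coprime_two_right.2 (hc.of_dvd_nat (orderOf_map_dvd q c)))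
      have h1 : q c = 1 := orderOf_eq_one_iff.1 (Nat.Coprime.eq_one_of_dvd hco h8)
      exact ⟨c, (QuotientGroup.eq_one_iff c).1 h1, rfl⟩
    · rintro ⟨k, hk, hkc⟩
      obtain rfl : k = c := C.subtype_injective hkc
      rw [show q k = 1 from (QuotientGroup.eq_one_iff k).2 hk]
      exact one_mem _
  · intro c hc
    by_cases h1 : q c = 1
    · refine ⟨1, one_mem _, ?_⟩
      rw [one_mul, inv_one, mul_one]
      exact ⟨c, show q c ∈ W from h1 ▸ one_mem _, rfl⟩
    have hqc3 : orderOf (q c) = 3 := by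
      have hd : orderOf (q c) ∣ 8 * 3 := (orderOf_dvd_natCard (q c)).trans (by rw [hQ])
      have hco : (orderOf (q c)).Coprime (2 ^ 3) :=
        Nat.Coprime.pow_right 3 (Nat.coprime_two_right.2 (hc.of_dvd_nat (orderOf_map_dvd q c)))
      rcases (Nat.dvd_prime Nat.prime_three).1 (hco.dvd_of_dvd_mul_left hd) with h | h
      · exact absurd (orderOf_eq_one_iff.1 h) h1
      · exact h
    have hidx : ∀ A : Subgroup (C ⧸ K0), Nat.card A = 3 → ¬ 3 ∣ A.index := by
      intro A hA h
      have h' := card_mul_index A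
      rw [hA, hQ] at h'
      have : A.index = 8 := by omega
      rw [this] at h
      norm_num at h
    have hpg : ∀ A : Subgroup (C ⧸ K0), Nat.card A = 3 → IsPGroup 3 A := fun A hA =>
      IsPGroup.of_card (n := 1) (by rw [hA, pow_one])
    have hc3 : Nat.card (zpowers (q c)) = 3 := by rw [Nat.card_zpowers, hqc3]
    let P1 : Sylow 3 (C ⧸ K0) := (hpg _ hc3).toSylow (hidx _ hc3)
    let P2 : Sylow 3 (C ⧸ K0) := (hpg W hW3).toSylow (hidx W hW3)
    obtain ⟨g, hg⟩ := MulAction.exists_smul_eq (C ⧸ K0) P1 P2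
    obtain ⟨g', rfl⟩ := hqs g
    refine ⟨g', g'.2, g' * c * g'⁻¹, ?_, rfl⟩
    show q (g' * c * g'⁻¹) ∈ W
    rw [map_mul, map_mul, map_inv]
    have hm : q g' * q c * (q g')⁻¹ ∈ ((q g' • P1 : Sylow 3 (C ⧸ K0)) : Subgroup (C ⧸ K0)) := by
      rw [Sylow.coe_subgroup_smul]
      exact ⟨q c, mem_zpowers (q c), rfl⟩
    rw [hg] at hm
    exact hm
  · rintro _ ⟨u, hu, rfl⟩ huK
    have hu1 : q u ≠ 1 := fun h => huK ⟨u, (QuotientGroup.eq_one_iff u).1 h, rfl⟩
    have huW : zpowers (q u) = W := by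
      refine eq_of_le_of_card_ge (zpowers_le.2 hu) ?_
      rw [hW3, Nat.card_zpowers]
      rcases (Nat.dvd_prime Nat.prime_three).1 (hW3 ▸ Subgroup.orderOf_dvd_natCard W hu) with h | h
      · exact absurd (orderOf_eq_one_iff.1 h) hu1
      · exact h.ge
    have key : ∀ c : C, (c : G) * u * (c : G)⁻¹ ∈ U0.map C.subtype ↔
        c ∈ (normalizer (W : Set (C ⧸ K0))).comap q := by
      intro c
      have : (c : G) * u * (c : G)⁻¹ = C.subtype (c * u * c⁻¹) := rfl
      rw [this, mem_map_iff_mem C.subtype_injective, mem_comap]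
      change q (c * u * c⁻¹) ∈ W ↔ _
      rw [map_mul, map_mul, map_inv, ← huW]
      exact ⟨mem_normalizer_zpowers, fun h => (mem_normalizer_iff.1 h _).1 (mem_zpowers _)⟩
    have hcard : Nat.card {g : G // g ∈ C ∧ g * C.subtype u * g⁻¹ ∈ U0.map C.subtype} =
        Nat.card ((normalizer (W : Set (C ⧸ K0))).comap q) :=
      Nat.card_congr
        { toFun := fun g => ⟨⟨g, g.2.1⟩, (key ⟨g, g.2.1⟩).1 g.2.2⟩
          invFun := fun c => ⟨(c : C), c.1.2, (key c).2 c.2⟩
          left_inv := fun g => rfl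
          right_inv := fun c => rfl }
    rw [hcard, hq, PSolv.card_comap_mk, hNW, hKcard, mul_comm]

end

/-- Let G be a non-abelian finite simple group whose Sylow 2-subgroup S is elementary abelian of order 8, and suppose the centralizer of every involution of G is solvable. Then the normalizer of S modulo the centralizer of S has order 7. -/
theorem result {G : Type*} [Group G] [Finite G]
    [IsSimpleGroup G] (hG : ¬ IsMulCommutative G) (S : Sylow 2 G)
    (hS : Cfsg.IsElementaryAbelian 2 (S : Subgroup G)) (hS8 : Nat.card ↥(S : Subgroup G) = 8)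
    (hC : ∀ t : G, orderOf t = 2 → Group.IsSolvable ↥(Subgroup.centralizer ({t} : Set G))) :
    (Subgroup.centralizer ((S : Subgroup G) : Set G)).relIndex (Subgroup.normalizer ((S : Subgroup G) : Set G)) = 7 := by
  classical
  have hab := hS.1
  haveI := hab
  set Cs := centralizer ((S : Subgroup G) : Set G) with hCs
  set N := normalizer ((S : Subgroup G) : Set G) with hN
  have hord : ∀ s ∈ (S : Subgroup G), s ≠ 1 → orderOf s = 2 := fun s hs hs1 =>
    orderOf_eq_prime (hS.2 s hs) hs1
  have hZ : center G = ⊥ := by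
    refine (IsSimpleGroup.eq_bot_or_eq_top_of_normal (center G) inferInstance).resolve_right ?_
    intro h
    exact hG ⟨⟨fun a b => (mem_center_iff.1 (h ▸ mem_top b) a)⟩⟩
  have hperf : commutator G = ⊤ := by
    refine (IsSimpleGroup.eq_bot_or_eq_top_of_normal (commutator G) inferInstance).resolve_left ?_
    intro h
    have hc := (commutator_eq_bot_iff_center_eq_top (G := G)).1 h
    exact hG ⟨⟨fun a b => (mem_center_iff.1 (hc ▸ mem_top b) a)⟩⟩
  have hcore : pPrimeCore 2 G = ⊥ := by
    haveI := PSolv.pPrimeCore_characteristic 2 G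
    refine (IsSimpleGroup.eq_bot_or_eq_top_of_normal (pPrimeCore 2 G)
      inferInstance).resolve_right ?_
    intro h
    have h1 := Nat.coprime_two_right.1 (PSolv.coprime_card_pPrimeCore 2 G)
    rw [h, card_top] at h1
    have h8 : 8 ∣ Nat.card G := hS8 ▸ card_subgroup_dvd_card (S : Subgroup G)
    exact (Nat.not_even_iff_odd.2 h1) (even_iff_two_dvd.2 ((by norm_num : 2 ∣ 8).trans h8))
  let P : G → Prop := fun x => x ∈ ((S : Subgroup G) : Set G) \ {1}
  have hP : ∀ h ∈ N, ∀ x, P x → P (h * x * h⁻¹) := by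
    rintro h hh x ⟨hx, hx1⟩
    exact ⟨(mem_normalizer_iff.1 hh x).1 hx, fun e => hx1 (by simpa [conj_eq_one_iff] using e)⟩
  letI := conjAction N P hP
  have h7 : Nat.card {x : G // P x} = 7 := by
    rw [show Nat.card {x : G // P x} = (((S : Subgroup G) : Set G) \ {1}).ncard from
      Nat.card_coe_set_eq _,
      Set.ncard_sdiff_singleton_of_mem (SetLike.mem_coe.2 (one_mem (S : Subgroup G))),
      ← Nat.card_coe_set_eq]
    rw [show Nat.card ((S : Subgroup G) : Set G) = 8 from hS8]
  have hodd := odd_automizer S hab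
  have htrans : ∀ x y : {x : G // P x}, ∃ h : N, h • x = y := by
    refine orbit_seven h7 (fun x => ?_) (fun x => ?_)
    · rw [card_conjAction_orbit N P hP x]
      exact hodd.of_dvd_nat (relIndex_dvd_of_le_left _
        (centralizer_le (Set.singleton_subset_iff.2 x.2.1)))
    · rw [card_conjAction_orbit N P hP x]
      intro h1
      obtain ⟨x, hx, hx1⟩ := x
      have hxc : ∀ n ∈ N, n * x = x * n := fun n hn =>
        mem_centralizer_singleton_iff.1 (relIndex_eq_one.1 h1 hn)
      have hiso : Invol.IsIsolatedInv x := by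
        refine Invol.isIsolatedInv_of_sylow S (hord x hx hx1) hx fun g hg => ?_
        obtain ⟨n, hn, he⟩ := S.conj_eq_normalizer_conj_of_mem x g⁻¹ hx (by rwa [inv_inv])
        rw [inv_inv] at he
        rw [he]
        calc n⁻¹ * x * n = n⁻¹ * (x * n) := by group
          _ = n⁻¹ * (n * x) := by rw [hxc n hn]
          _ = x := by group
      refine hx1 (mem_bot.1 (hZ ▸ (mem_center_iff.2 fun g => ?_)))
      have hz := Invol.zStar_theorem G x hiso g
      rw [hcore, mem_bot, commutatorElement_eq_one_iff_mul_comm] at hz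
      exact hz.symm
  obtain ⟨⟨t, htS, ht1⟩⟩ : Nonempty {x : G // P x} :=
    (Nat.card_pos_iff.1 (h7 ▸ by norm_num : 0 < Nat.card {x : G // P x})).1
  have hcl : ∀ s ∈ (S : Subgroup G), s ≠ 1 → IsConj t s := by
    intro s hs hs1
    obtain ⟨h, hh⟩ := htrans ⟨t, htS, ht1⟩ ⟨s, hs, hs1⟩
    exact isConj_iff.2 ⟨h, congrArg Subtype.val hh⟩
  set Nt := centralizer ({t} : Set G) ⊓ N with hNt
  have hsplit : Cs.relIndex Nt * 7 = Cs.relIndex N := by
    have horb : (centralizer ({t} : Set G)).relIndex N = 7 := by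
      rw [← card_conjAction_orbit N P hP ⟨t, htS, ht1⟩, ← h7]
      refine Nat.card_congr ((Equiv.setCongr ?_).trans (Equiv.Set.univ _))
      exact Set.eq_univ_of_forall fun y => htrans _ y
    rw [← horb, ← inf_relIndex_right (centralizer ({t} : Set G))]
    exact relIndex_mul_relIndex _ _ _
      (le_inf (centralizer_le (Set.singleton_subset_iff.2 htS)) (centralizer_le_normalizer _))
      inf_le_right
  have h6 := stab_index_dvd_six S hab hS8 htS ht1
  rw [← hsplit] at hodd ⊢
  have hr : Cs.relIndex Nt = 1 ∨ Cs.relIndex Nt = 3 := by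
    have ho := Nat.odd_iff.1 (Nat.Odd.of_mul_left hodd)
    have hle := Nat.le_of_dvd (by norm_num) h6
    change Cs.relIndex Nt ∣ 6 at h6
    generalize Cs.relIndex Nt = r at ho hle h6 ⊢
    interval_cases r <;> omega
  rcases hr with h | h
  · rw [h]
  · exfalso
    letI := Fintype.ofFinite G
    obtain ⟨C, K, U, ψ, hcfg⟩ :=
      exists_cfg S hab hS8 htS (hord t htS ht1) (hC t (hord t htS ht1)) h
    exact EightAuto.false_of_cfg hperf hcfg (S : Subgroup G) hS8 hcl

end Cfsg.Agent.S3189
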