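import Cfsg.Statements.S3197
import Cfsg.Agent.EightType.A8
import Cfsg.Agent.EightType.Main
-- import your own Cfsg.Agent.* helpers here

set_option autoImplicit false
open Cfsg

namespace Cfsg.Agent.S3197

/-- Let G be a finite group whose Sylow 2-subgroups are isomorphic to those of the alternating group of degree 8, with exactly three conjugacy classes of involutions, and containing an elementary abelian subgroup A of order 16 whose normalizer N satisfies: A·O(N) is normal in N with quotient N/(A·O(N)) isomorphic to the alternating group of degree 5, O(N) being the largest normal subgroup of odd order of N. Then A·O(G) is a normal subgroup of G. -/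
theorem result {G : Type*} [Group G] [Finite G]
    (S : Sylow 2 G) (P : Sylow 2 ↥(alternatingGroup (Fin 8)))
    (hS : Nonempty (↥(S : Subgroup G) ≃* ↥(P : Subgroup ↥(alternatingGroup (Fin 8)))))
    (h3 : Nat.card {c : ConjClasses G // ∃ x ∈ c.carrier, orderOf x = 2} = 3)
    (A : Subgroup G) (hA : Cfsg.IsElementaryAbelian 2 A) (hA16 : Nat.card ↥A = 16)
    (N : Subgroup G) (hN : N = Subgroup.normalizer (A : Set G))
    (hNA : ∃ (_ : (A.subgroupOf N ⊔ Cfsg.oddCore ↥N).Normal),
      Nonempty (↥N ⧸ (A.subgroupOf N ⊔ Cfsg.oddCore ↥N) ≃* ↥(alternatingGroup (Fin 5)))) :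
    (A ⊔ Cfsg.oddCore G).Normal := by
  haveI : Fact (Nat.Prime 2) := ⟨Nat.prime_two⟩
  subst hN
  obtain ⟨hn, ⟨e⟩⟩ := hNA
  haveI := hn
  obtain ⟨eS⟩ := hS
  set K := A.subgroupOf (Subgroup.normalizer (A : Set G)) ⊔
    Cfsg.oddCore ↥(Subgroup.normalizer (A : Set G)) with hK
  have hA2 : IsPGroup 2 A := IsPGroup.of_card (n := 4) hA16
  obtain ⟨SN⟩ : Nonempty (Sylow 2 ↥(Subgroup.normalizer (A : Set G))) := inferInstance
  obtain ⟨Q, hQ⟩ := (SN.2.map (Subgroup.normalizer (A : Set G)).subtype).exists_le_sylow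
  have h60 : Nat.card ↥(alternatingGroup (Fin 5)) = 60 := by
    rw [nat_card_alternatingGroup]; simp [Nat.factorial]
  have h64N : 2 ^ 6 ∣ Nat.card ↥(Subgroup.normalizer (A : Set G)) := by
    rw [← K.card_mul_index, Subgroup.index_eq_card, Nat.card_congr e.toEquiv, h60]
    have h16 : 16 ∣ Nat.card K := by
      refine dvd_trans ?_ (Subgroup.card_dvd_of_le (le_sup_left : A.subgroupOf _ ≤ K))
      rw [Nat.card_congr (Subgroup.subgroupOfEquivOfLe Subgroup.le_normalizer).toEquiv, hA16]
    exact dvd_trans (by norm_num) (Nat.mul_dvd_mul h16 (dvd_refl 60))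
  have hP64 : Nat.card ↥(P : Subgroup ↥(alternatingGroup (Fin 8))) ≤ 64 := by
    obtain ⟨k, hk⟩ := P.2.exists_card_eq
    have hd := (P : Subgroup ↥(alternatingGroup (Fin 8))).card_subgroup_dvd_card
    rw [hk, show Nat.card ↥(alternatingGroup (Fin 8)) = 20160 by
      rw [nat_card_alternatingGroup]; simp [Nat.factorial]] at hd
    rw [hk]
    have : k ≤ 6 := by
      by_contra hc
      have h128 := (pow_dvd_pow 2 (show 7 ≤ k by omega)).trans hd
      norm_num at h128
    exact le_trans (Nat.pow_le_pow_right two_pos this) (by norm_num)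
  let eQ : ↥(Q : Subgroup G) ≃* ↥(P : Subgroup ↥(alternatingGroup (Fin 8))) :=
    (Sylow.equiv Q S).trans eS
  have hQN : (Q : Subgroup G) ≤ Subgroup.normalizer (A : Set G) := by
    have hle : (SN : Subgroup ↥(Subgroup.normalizer (A : Set G))).map
        (Subgroup.normalizer (A : Set G)).subtype = (Q : Subgroup G) := by
      refine Subgroup.eq_of_le_of_card_ge hQ ?_
      rw [Subgroup.card_map_of_injective (Subgroup.subtype_injective _), Nat.card_congr eQ.toEquiv]
      exact le_trans hP64 (Nat.le_of_dvd Nat.card_pos (SN.pow_dvd_card_of_pow_dvd_card h64N))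
    rw [← hle]
    exact Subgroup.map_subtype_le _
  have hnc : ∃ n ∈ Subgroup.normalizer (A : Set G), ∃ a ∈ A, n * a ≠ a * n := by
    by_contra hc
    push Not at hc
    have hAQ : A ≤ (Q : Subgroup G) := by
      have := Q.is_maximal' (Q.2.to_sup_of_normal_right' hA2 hQN) le_sup_left
      exact le_sup_right.trans this.le
    have hlt := Cfsg.Agent.EightType.card_central_lt P
      ((A.subgroupOf (Q : Subgroup G)).map eQ.toMonoidHom) (by
        rintro _ ⟨a, ha, rfl⟩ p
        obtain ⟨q, rfl⟩ := eQ.surjective p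
        show eQ a * eQ q = eQ q * eQ a
        rw [← map_mul, ← map_mul]
        exact congrArg eQ (Subtype.ext (hc q (hQN q.2) a ha).symm))
    rw [Subgroup.card_map_of_injective (f := eQ.toMonoidHom) eQ.injective,
      Nat.card_congr (Subgroup.subgroupOfEquivOfLe hAQ).toEquiv, hA16] at hlt
    exact lt_irrefl _ hlt
  have hker : (e.toMonoidHom.comp (QuotientGroup.mk' K)).ker = K := by
    ext x
    simp [MonoidHom.mem_ker, QuotientGroup.eq_one_iff]
  obtain ⟨M⟩ := Cfsg.Agent.EightType.Base.exists_model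
    (A := A) ⟨hA, hA16, e.toMonoidHom.comp (QuotientGroup.mk' K),
      e.surjective.comp (QuotientGroup.mk'_surjective K), hker, hnc, ⟨Q, hQN⟩, h3⟩
  exact M.main

end Cfsg.Agent.S3197
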