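import Cfsg.Statements.S3222
import Cfsg.Agent.CharTwo.TwoTimesSymmetricFourSix

set_option autoImplicit false
open Cfsg

namespace Cfsg.Agent.S3222

open Cfsg.Agent.CharTwo.TwoSymFour

/-- Let G be a finite group of even order such that (1) some involution t lying in the centre of a Sylow 2-subgroup of G has C_G(t) ≅ Z₂ × S₄, and (2) every Sylow 2-subgroup S of G satisfies C_G(S′) = S, where S′ is the derived subgroup of S. Then G = C_G(t) if G is solvable, and G ≅ S₆ otherwise. -/
theorem result {G : Type*} [Group G] [Finite G] (hev : Even (Nat.card G))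
    (t : G) (ht : orderOf t = 2) (T : Sylow 2 G) (htT : t ∈ (T : Subgroup G)) (htc : ∀ s ∈ (T : Subgroup G), s * t = t * s)
    (e : ↥(Subgroup.centralizer ({t} : Set G)) ≃* (Multiplicative (ZMod 2) × Equiv.Perm (Fin 4)))
    (h2 : ∀ S : Sylow 2 G, Subgroup.centralizer ((⁅(S : Subgroup G), (S : Subgroup G)⁆ : Subgroup G) : Set G) = (S : Subgroup G)) :
    (Group.IsSolvable G → Subgroup.centralizer ({t} : Set G) = ⊤) ∧
      (¬ Group.IsSolvable G → Nonempty (G ≃* Equiv.Perm (Fin 6))) := by
  classical
  · haveI : Fact (Nat.Prime 2) := ⟨Nat.prime_two⟩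
    set C := Subgroup.centralizer ({t} : Set G) with hC
    have htC : t ∈ C := Subgroup.mem_centralizer_singleton_iff.2 rfl
    let j : M0 →* G := C.subtype.comp e.symm.toMonoidHom
    have hinj : Function.Injective j := C.subtype_injective.comp e.symm.injective
    have hrange : j.range = C := by
      rw [MonoidHom.range_comp, MonoidHom.range_eq_top.2 e.symm.surjective, ← MonoidHom.range_eq_map,
        Subgroup.range_subtype]
    have het : e ⟨t, htC⟩ = tt := by
      refine (eq_of_central _ fun y => ?_).resolve_left fun e1 => ?_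
      · obtain ⟨c, rfl⟩ := e.surjective y
        rw [← map_mul, ← map_mul]
        exact congrArg e (Subtype.ext (Subgroup.mem_centralizer_singleton_iff.1 c.2).symm)
      · have := e.injective (e1.trans (map_one e).symm)
        rw [show t = 1 from congrArg Subtype.val this, orderOf_one] at ht
        omega
    have hjt : j tt = t := by
      show ((e.symm tt : C) : G) = t
      rw [← het, e.symm_apply_apply]
    have hcard : Nat.card C = 48 := (Nat.card_congr e.toEquiv).trans card_M0
    have hc16 : Nat.card (P0.map j) = 16 :=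
      (Nat.card_congr (P0.equivMapOfInjective j hinj).toEquiv).symm.trans card_P0
    obtain ⟨Q, hQ⟩ := (isPGroup_P0.map j).exists_le_sylow
    have hQeq : (Q : Subgroup G) = P0.map j := by
      have hle : (T : Subgroup G) ≤ C := fun s hs =>
        Subgroup.mem_centralizer_singleton_iff.2 (htc s hs)
      obtain ⟨n, hn⟩ := IsPGroup.iff_card.1 T.isPGroup'
      have h1 : Nat.card (T : Subgroup G) ∣ 48 := hcard ▸ Subgroup.card_dvd_of_le hle
      have hQc : Nat.card Q = Nat.card T := by rw [Q.card_eq_multiplicity, T.card_eq_multiplicity]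
      refine (Subgroup.eq_of_le_of_card_ge hQ ?_).symm
      rw [hc16, hQc, hn]
      rw [hn] at h1
      have hn4 : n ≤ 4 := by
        by_contra hc
        have : 2 ^ 5 ∣ 48 := (pow_dvd_pow 2 (by omega)).trans h1
        omega
      exact (Nat.pow_le_pow_right two_pos hn4).trans (by norm_num)
    have hcdd : Subgroup.centralizer ({j dd} : Set G) = P0.map j := by
      refine le_antisymm ?_ ?_
      · intro g hg
        rw [← hQeq, ← h2 Q]
        have hle : (⁅(Q : Subgroup G), (Q : Subgroup G)⁆ : Subgroup G) ≤ Subgroup.centralizer {g} := by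
          rw [Subgroup.commutator_le, hQeq]
          rintro _ ⟨x, hx, rfl⟩ _ ⟨y, hy, rfl⟩
          rw [Subgroup.mem_centralizer_singleton_iff, commutatorElement_def, ← map_inv, ← map_inv,
            ← map_mul, ← map_mul, ← map_mul]
          rcases sq_centralizer_dd x y (mem_P0.1 hx) (mem_P0.1 hy) with r | r <;> rw [r]
          · simp
          · exact (Subgroup.mem_centralizer_singleton_iff.1 hg).symm
        exact fun x hx => Subgroup.mem_centralizer_singleton_iff.1 (hle hx)
      · rintro _ ⟨x, hx, rfl⟩
        rw [Subgroup.mem_centralizer_singleton_iff, ← map_mul, ← map_mul, mem_P0.1 hx]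
    let h : Data G := ⟨j, hinj, by rw [hjt, hrange], hcdd⟩
    have hP : (Q : Subgroup G) = P0.map h.j := hQeq
    refine ⟨fun hs => ?_, fun hns => h.iso_perm_six hP hns⟩
    haveI := hs
    rw [← hrange]
    exact h.range_eq_top_of_solvable hP

end Cfsg.Agent.S3222
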