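import Cfsg.Statements.S3254
import Cfsg.Agent.DegThreeP.Cases
import Cfsg.Agent.DegThreeP.Final
import Cfsg.Agent.DegThreeP.SetupOf
import Cfsg.Agent.DegThreeP.Low
import Cfsg.Agent.DegThreeP.Imprimitive
import Cfsg.Agent.DegThreeP.TwoA
import Cfsg.Agent.DegThreeP.TwoB
import Cfsg.Agent.DegThreeP.RankThree
import Cfsg.Agent.DegThreeP.LocalA
import Cfsg.Agent.DegThreeP.LocalB

set_option autoImplicit false
open Cfsg

namespace Cfsg.Agent.S3254

/-- Let p > 3 be a prime and G a finite non-abelian simple group acting faithfully and transitively on a set Ω of 3p points, such that the normalizer of a Sylow p-subgroup of G has order 2p. If the action is primitive then p = 5 and G ≅ A₆; if it is imprimitive then p = 2^m + 1 for some m and G ≅ PSL₂(2^m). -/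
theorem result {G : Type*} [Group G] [Finite G] [IsSimpleGroup G] (hG : ¬ IsMulCommutative G)
    (p : ℕ) (hp : p.Prime) (hp3 : 3 < p) {Ω : Type*} [Fintype Ω] [MulAction G Ω] [FaithfulSMul G Ω]
    (htr : MulAction.IsPretransitive G Ω) (hΩ : Fintype.card Ω = 3 * p)
    (P : Sylow p G) (hN : Nat.card ↥(Subgroup.normalizer ((P : Subgroup G) : Set G)) = 2 * p) :
    (MulAction.IsPreprimitive G Ω → p = 5 ∧ Nonempty (G ≃* ↥(alternatingGroup (Fin 6)))) ∧
      (¬ MulAction.IsPreprimitive G Ω → ∃ (F : Type) (_ : Field F) (_ : Fintype F) (m : ℕ), Fintype.card F = 2 ^ m ∧ p = 2 ^ m + 1 ∧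
        Nonempty (G ≃* Matrix.ProjectiveSpecialLinearGroup (Fin 2) F)) := by
  haveI : Fintype G := Fintype.ofFinite G
  refine ⟨fun hprim => ?_, fun hprim => DegThreeP.imprimitive hG p hp hp3 htr hΩ P hN hprim⟩
  have S := DegThreeP.setup_of hG p hp hp3 hΩ P hN hprim
  rcases S.cases with ⟨f, C, a, c, hf, I, ha, haf⟩ | ⟨f, C, c, hf, hπ, h⟩ |
      ⟨f, C, θ, c, hf, I, hθ1, hθs, hπ, hθt, hreal⟩
  · exact (DegThreeP.low S hf C I ha haf).elim
  · rcases h with ⟨h4, I⟩ | ⟨h4, I⟩
    · exact (DegThreeP.two_three S hf C I hπ h4).elim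
    · exact (DegThreeP.two_one S hf C I hπ h4).elim
  · have hX : ∀ t : G, orderOf t = 2 → (C.X : G → ℂ) t = 1 := fun t ht => by
      rw [I.X_val t ht, Int.cast_one]
    obtain ⟨Q⟩ := DegThreeP.param S hf C θ hθ1 hθs hθt hX hπ
    obtain ⟨L⟩ := DegThreeP.exists_local S hf C I Q (fun t ht => S.fix_invol I.isConj ht)
    obtain ⟨h5, o, ho⟩ := DegThreeP.order_formula S hf C θ hθ1 hπ I
      (fun t ht => by rw [hθt t ht, if_pos L.one_mod_four]) hreal Q L
    exact ⟨h5, S.equiv_alternating h5 ho L.T L.card_T⟩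

end Cfsg.Agent.S3254
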