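import Cfsg.Statements.S3260
import Cfsg.Agent.FixedQuad.ZJ

set_option autoImplicit false
open Cfsg

namespace Cfsg.Agent.S3260

/-- Let p ≥ 5 be a prime, G a finite p-constrained group with Sylow p-subgroup S, and A a group of automorphisms of G of order coprime to |G| whose fixed-point subgroup has no section isomorphic to PSL₂(p). Then G = O_{p'}(G) · N_G(Z(J(S))), where J(S) is the subgroup generated by the abelian subgroups of S of largest order. -/
theorem result {G : Type*} [Group G] [Finite G] (p : ℕ) [hp : Fact p.Prime] (hp5 : 5 ≤ p)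
    (hG : Cfsg.IsPConstrained p G) (S : Sylow p G) (A : Subgroup (MulAut G)) (hA : (Nat.card ↥A).Coprime (Nat.card G))
    (C : Subgroup G) (hC : ∀ g : G, g ∈ C ↔ ∀ a ∈ A, a g = g)
    {F : Type*} [Field F] [Fintype F] (hF : Fintype.card F = p)
    (hfix : ¬ Cfsg.Involves (Matrix.ProjectiveSpecialLinearGroup (Fin 2) F) ↥C) :
    Cfsg.pPrimeCore p G ⊔ Subgroup.normalizer (Cfsg.centerThompsonAOf (S : Subgroup G) : Set G) = ⊤ := by
  have hfix' : FixedQuad.fixSub A.subtype = C := by
    ext g
    exact ⟨fun h => (hC g).2 fun a ha => h ⟨a, ha⟩, fun h a => (hC g).1 h a a.2⟩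
  obtain ⟨S₀, hS₀⟩ := FixedQuad.exists_invar_sylow A.subtype hA p
  have h₀ := FixedQuad.sup_normalizer_eq_top A.subtype hp5 hG hA S₀ hS₀ hF
    (by rw [show FixedQuad.fixSub A.subtype = C from hfix']; exact hfix)
  obtain ⟨g, hg⟩ := MulAction.exists_smul_eq G S₀ S
  have he : (S : Subgroup G) = (S₀ : Subgroup G).map (MulAut.conj g).toMonoidHom := by
    rw [← hg, Sylow.coe_subgroup_smul, Subgroup.pointwise_smul_def]; rfl
  rw [he, ← Agent.Modules.map_centerThompsonAOf (MulAut.conj g).injective,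
    ← Subgroup.map_equiv_normalizer_eq (Cfsg.centerThompsonAOf (S₀ : Subgroup G)) (MulAut.conj g),
    eq_top_iff, ← Subgroup.map_top_of_surjective (MulAut.conj g).toMonoidHom (MulAut.conj g).surjective,
    ← h₀, Subgroup.map_sup]
  refine sup_le_sup_right ?_ _
  rintro _ ⟨x, hx, rfl⟩
  exact (inferInstance : (Cfsg.pPrimeCore p G).Normal).conj_mem x hx g

end Cfsg.Agent.S3260
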