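import Cfsg.Statements.S3261
import Cfsg.Agent.FourCentral.OrderEight
import Cfsg.Agent.S0495
import Cfsg.Agent.S0497
import Mathlib.GroupTheory.Perm.Fin
import Mathlib.GroupTheory.SpecificGroups.Alternating
import Mathlib.Algebra.Field.ZMod

set_option autoImplicit false
open Cfsg

namespace Cfsg.Agent.S3261

open Equiv

/-- A double transposition of six points. -/
def dt : Perm (Fin 6) := swap 0 1 * swap 2 3

theorem card_centralizer_dt :
    (Finset.univ.filter fun g : Perm (Fin 6) => g * dt = dt * g ∧ Perm.sign g = 1).card = 8 := by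
  set_option maxRecDepth 100000 in decide +kernel

theorem data (αt : ↥(alternatingGroup (Fin 6))) (hαt : orderOf αt = 2)
    (hsupp : (αt : Perm (Fin 6)).support.card = 4) :
    Nat.card (Subgroup.centralizer ({αt} : Set ↥(alternatingGroup (Fin 6)))) = 8 ∧
      ∃ a s : Subgroup.centralizer ({αt} : Set ↥(alternatingGroup (Fin 6))),
        orderOf a = 4 ∧ orderOf s = 2 ∧ s ∉ Subgroup.zpowers a ∧ s * a * s⁻¹ = a⁻¹ := by
  have ht2 : orderOf (αt : Perm (Fin 6)) = 2 := by rw [Subgroup.orderOf_coe, hαt]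
  have hcd : (αt : Perm (Fin 6)).cycleType = dt.cycleType := by
    obtain ⟨n, hn⟩ := Perm.cycleType_prime_order (σ := (αt : Perm (Fin 6))) (by rw [ht2]; exact Nat.prime_two)
    have hs := Perm.sum_cycleType (αt : Perm (Fin 6))
    rw [hn, hsupp, ht2, Multiset.sum_replicate, smul_eq_mul] at hs
    rw [hn, ht2, show n + 1 = 2 by omega]
    decide +kernel
  obtain ⟨c, hc⟩ := isConj_iff.1 ((Perm.isConj_iff_cycleType_eq).2 hcd.symm)
  have key : ∀ g : Perm (Fin 6), g * dt = dt * g →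
      (c * g * c⁻¹) * (αt : Perm (Fin 6)) = (αt : Perm (Fin 6)) * (c * g * c⁻¹) := fun g hg => by
    rw [← hc]
    calc c * g * c⁻¹ * (c * dt * c⁻¹) = c * (g * dt) * c⁻¹ := by simp [mul_assoc]
      _ = c * dt * c⁻¹ * (c * g * c⁻¹) := by rw [hg]; simp [mul_assoc]
  have hsign : ∀ g : Perm (Fin 6), Perm.sign g = 1 → c * g * c⁻¹ ∈ alternatingGroup (Fin 6) := fun g hg => by
    rw [Perm.mem_alternatingGroup, map_mul, map_mul, hg, map_inv, mul_one, mul_inv_cancel]
  let f : {g : Perm (Fin 6) // g * dt = dt * g ∧ Perm.sign g = 1} →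
      Subgroup.centralizer ({αt} : Set ↥(alternatingGroup (Fin 6))) := fun g =>
    ⟨⟨c * g.1 * c⁻¹, hsign g.1 g.2.2⟩, Subgroup.mem_centralizer_singleton_iff.2
      (Subtype.ext (key g.1 g.2.1))⟩
  have hf : Function.Bijective f := by
    constructor
    · intro g g' e
      exact Subtype.ext (mul_left_cancel (mul_right_cancel (congrArg (fun z => ((z.1 : ↥(alternatingGroup (Fin 6))) : Perm (Fin 6))) e :)))
    · rintro ⟨⟨g, hg⟩, hgc⟩
      have hgc' : g * (αt : Perm (Fin 6)) = αt * g :=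
        congrArg Subtype.val (Subgroup.mem_centralizer_singleton_iff.1 hgc)
      refine ⟨⟨c⁻¹ * g * c, ?_, ?_⟩, Subtype.ext (Subtype.ext (by simp [f, mul_assoc]))⟩
      · rw [← hc] at hgc'
        have := congrArg (fun z => c⁻¹ * z * c) hgc'
        simpa [mul_assoc] using this
      · rw [map_mul, map_mul, Perm.mem_alternatingGroup.1 hg, map_inv, mul_one, inv_mul_cancel]
  refine ⟨?_, ?_⟩
  · rw [← Nat.card_eq_of_bijective f hf, Nat.card_eq_fintype_card, Fintype.card_subtype]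
    exact card_centralizer_dt
  obtain ⟨a0, ha0⟩ : ∃ a0 : Perm (Fin 6), a0 = swap 0 2 * swap 2 1 * swap 1 3 * swap 4 5 := ⟨_, rfl⟩
  obtain ⟨s0, hs0⟩ : ∃ s0 : Perm (Fin 6), s0 = swap 0 2 * swap 1 3 := ⟨_, rfl⟩
  have hfacts : a0 * dt = dt * a0 ∧ Perm.sign a0 = 1 ∧ s0 * dt = dt * s0 ∧ Perm.sign s0 = 1 ∧
      a0 ^ 4 = 1 ∧ a0 ^ 2 ≠ 1 ∧ s0 * s0 = 1 ∧ s0 ≠ 1 ∧ s0 * a0 * s0⁻¹ = a0⁻¹ ∧
      s0 * a0 ≠ a0 * s0 := by
    subst ha0 hs0
    set_option maxRecDepth 100000 in decide +kernel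
  obtain ⟨f1, f2, f3, f4, f5, f6, f7, f8, f9, f10⟩ := hfacts
  let fh : ∀ g, g * dt = dt * g → Perm.sign g = 1 →
      Subgroup.centralizer ({αt} : Set ↥(alternatingGroup (Fin 6))) := fun g h1 h2 => f ⟨g, h1, h2⟩
  have hval : ∀ g h1 h2, ((fh g h1 h2).1 : Perm (Fin 6)) = MulAut.conj c g := fun _ _ _ => rfl
  refine ⟨fh a0 f1 f2, fh s0 f3 f4, ?_, ?_, ?_, ?_⟩
  · rw [← Subgroup.orderOf_coe, ← Subgroup.orderOf_coe, hval a0 f1 f2, MulEquiv.orderOf_eq]
    exact orderOf_eq_prime_pow (p := 2) (n := 1) (hp := ⟨Nat.prime_two⟩) (by simpa using f6) f5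
  · rw [← Subgroup.orderOf_coe, ← Subgroup.orderOf_coe, hval s0 f3 f4, MulEquiv.orderOf_eq]
    exact orderOf_eq_prime (hp := ⟨Nat.prime_two⟩) (by rw [pow_two]; exact f7) f8
  · intro hm
    obtain ⟨i, hi⟩ := Subgroup.mem_zpowers_iff.1 hm
    have e : (fh a0 f1 f2) * (fh s0 f3 f4) = (fh s0 f3 f4) * (fh a0 f1 f2) := by
      rw [← hi]; exact ((Commute.refl _).zpow_right i).eq
    have e' := congrArg (fun z : Subgroup.centralizer ({αt} : Set ↥(alternatingGroup (Fin 6))) =>
      ((z.1 : ↥(alternatingGroup (Fin 6))) : Perm (Fin 6))) e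
    simp only [Subgroup.coe_mul, hval, ← map_mul] at e'
    exact f10 ((MulAut.conj c).injective e').symm
  · refine Subtype.ext (Subtype.ext ?_)
    simp only [Subgroup.coe_mul, Subgroup.coe_inv, hval, ← map_mul, ← map_inv, f9]

/-- Let α̃ be an involution of the alternating group A₆ that is a product of two disjoint transpositions (it lies in the centre of a Sylow 2-subgroup of A₆; its centralizer is dihedral of order 8). Let G be a finite group that has no subgroup of index 2 and contains an involution α, central in some Sylow 2-subgroup of G, with C_G(α) ≅ C_{A₆}(α̃). Then G is isomorphic to A₆ or to PSL₂(7). -/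
theorem result {G : Type*} [Group G] [Finite G]
    (hG : ∀ H : Subgroup G, H.index ≠ 2)
    (αt : ↥(alternatingGroup (Fin 6))) (hαt : orderOf αt = 2) (hsupp : (αt : Equiv.Perm (Fin 6)).support.card = 4)
    (α : G) (hα : orderOf α = 2) (S : Sylow 2 G) (hαS : α ∈ (S : Subgroup G)) (hαc : ∀ s ∈ (S : Subgroup G), s * α = α * s)
    (e : ↥(Subgroup.centralizer ({α} : Set G)) ≃* ↥(Subgroup.centralizer ({αt} : Set ↥(alternatingGroup (Fin 6))))) :
    Nonempty (G ≃* ↥(alternatingGroup (Fin 6))) ∨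
      (∃ (F : Type) (_ : Field F) (_ : Fintype F), Fintype.card F = 7 ∧ Nonempty (G ≃* Matrix.ProjectiveSpecialLinearGroup (Fin 2) F)) := by
  obtain ⟨h8, a, s, ha4, hs, hsa, hinv⟩ := data αt hαt hsupp
  have h8' : Nat.card (Subgroup.centralizer ({α} : Set G)) = 8 := (Nat.card_congr e.toEquiv).trans h8
  have hle : (S : Subgroup G) ≤ Subgroup.centralizer ({α} : Set G) := fun x hx =>
    Subgroup.mem_centralizer_singleton_iff.2 (hαc x hx)
  haveI : Fact (Nat.Prime 2) := ⟨Nat.prime_two⟩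
  have hS : (S : Subgroup G) = Subgroup.centralizer ({α} : Set G) :=
    (S.is_maximal' (IsPGroup.of_card (n := 3) h8') hle).symm
  have hmap : ∀ x : Subgroup.centralizer ({αt} : Set ↥(alternatingGroup (Fin 6))),
      orderOf ((e.symm x : Subgroup.centralizer ({α} : Set G)) : G) = orderOf x := fun x => by
    rw [Subgroup.orderOf_coe, MulEquiv.orderOf_eq]
  have hns : ((e.symm s : Subgroup.centralizer ({α} : Set G)) : G) ∉
      Subgroup.zpowers ((e.symm a : Subgroup.centralizer ({α} : Set G)) : G) := by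
    intro hm
    obtain ⟨i, hi⟩ := Subgroup.mem_zpowers_iff.1 hm
    refine hsa (Subgroup.mem_zpowers_iff.2 ⟨i, e.symm.injective (Subtype.ext ?_)⟩)
    rw [map_zpow, SubgroupClass.coe_zpow, hi]
  have hinv' : ((e.symm s : Subgroup.centralizer ({α} : Set G)) : G) * (e.symm a).1 *
      ((e.symm s).1)⁻¹ = ((e.symm a).1)⁻¹ := by
    have := congrArg (fun z => ((e.symm z : Subgroup.centralizer ({α} : Set G)) : G)) hinv
    simpa using this
  obtain ⟨hcard, hsimple⟩ := FourCentral.order_of_sylow_centralizer S hS hG hα h8' (e.symm a).2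
    (by rw [hmap, ha4]) (e.symm s).2 (by rw [hmap, hs]) hns hinv'
  haveI := hsimple
  rcases hcard with h | h
  · haveI : Fact (Nat.Prime 7) := ⟨by norm_num⟩
    exact Or.inr ⟨ZMod 7, inferInstance, inferInstance, ZMod.card 7,
      S0495.result h (F := ZMod 7) (ZMod.card 7)⟩
  · exact Or.inl (S0497.result h)

end Cfsg.Agent.S3261
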