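import Cfsg.Statements.S3269
import Cfsg.Agent.S0215
import Mathlib.GroupTheory.SpecificGroups.Quaternion
import Mathlib.GroupTheory.Sylow
import Mathlib.GroupTheory.NoncommCoprod

set_option autoImplicit false
open Cfsg

namespace Cfsg.Agent.S3269

theorem sq_sq {M : Type*} [Monoid M] (u : M) : u * u * (u * u) = u ^ 4 := by
  simp [pow_succ, mul_assoc]

open QuaternionGroup in
/-- The facts on generalised quaternion groups used below. -/
theorem quaternion_facts {n : ℕ} (hn : 1 ≤ n) :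
    (∀ q : QuaternionGroup (2 ^ n), q * q = 1 → q = 1 ∨ q = a (2 ^ n : ℕ)) ∧
      (a (2 ^ n : ℕ) : QuaternionGroup (2 ^ n)) ≠ 1 ∧
      (∀ i, (xa i : QuaternionGroup (2 ^ n)) ^ 4 = 1 ∧
        (xa i : QuaternionGroup (2 ^ n)) * xa i = a (2 ^ n : ℕ)) ∧
      ∃ x y : QuaternionGroup (2 ^ n), x * y ≠ y * x := by
  obtain ⟨m, hm⟩ : ∃ m, m = 2 ^ n := ⟨_, rfl⟩
  rw [← hm]
  have hm2 : 2 ≤ m := hm ▸ Nat.le_self_pow (by omega) 2
  haveI : NeZero m := ⟨by omega⟩
  haveI : Fact (1 < 2 * m) := ⟨by omega⟩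
  have hmne : (m : ZMod (2 * m)) ≠ 0 := by
    rw [Ne, ZMod.natCast_eq_zero_iff]
    intro h
    have := Nat.le_of_dvd (by omega) h
    omega
  refine ⟨?_, ?_, fun i => ⟨xa_pow_four i, by rw [xa_mul_xa]; simp⟩, a 1, xa 0, ?_⟩
  · rintro (i | i) h
    · rw [a_mul_a, one_def] at h
      have h2 : i + i = 0 := QuaternionGroup.a.inj h
      obtain ⟨j, hj, rfl⟩ : ∃ j < 2 * m, (j : ZMod (2 * m)) = i :=
        ⟨i.val, ZMod.val_lt i, ZMod.natCast_zmod_val i⟩
      rw [← Nat.cast_add, ZMod.natCast_eq_zero_iff] at h2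
      obtain ⟨c, hc⟩ := h2
      have hc2 : c < 2 := by nlinarith
      interval_cases c
      · left; rw [one_def, show j = 0 by omega, Nat.cast_zero]
      · right; rw [show j = m by omega]
    · rw [xa_mul_xa, one_def] at h
      have h2 := QuaternionGroup.a.inj h
      simp at h2
      exact absurd h2 hmne
  · intro h
    rw [one_def] at h
    exact hmne (QuaternionGroup.a.inj h)
  · rw [a_mul_xa, xa_mul_a]
    intro h
    have h2 := QuaternionGroup.xa.inj h
    have h3 : (2 : ZMod (2 * m)) = 0 := by linear_combination -h2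
    rw [show (2 : ZMod (2 * m)) = ((2 : ℕ) : ZMod (2 * m)) by norm_num,
      ZMod.natCast_eq_zero_iff] at h3
    have := Nat.le_of_dvd (by omega) h3
    omega

/-- Let G be a finite group whose Sylow 2-subgroup S is an internal direct product Q × R with Q generalized quaternion (of order at least 8) and R a subgroup all of whose involutions are central in R. Then G is not simple. In particular no finite simple group has a Sylow 2-subgroup that is a direct product of one or more generalized quaternion groups. -/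
theorem result {G : Type*} [Group G] [Finite G]
    (S : Sylow 2 G) (Q R : Subgroup G) (hQR : Cfsg.IsInternalDirectProduct Q R (S : Subgroup G))
    (n : ℕ) (hn : 1 ≤ n) (eQ : ↥Q ≃* QuaternionGroup (2 ^ n))
    (hR : ∀ r ∈ R, orderOf r = 2 → ∀ s ∈ R, r * s = s * r) :
    ¬ IsSimpleGroup G := by
  classical
  intro hsimple
  haveI : Fact (Nat.Prime 2) := ⟨Nat.prime_two⟩
  haveI := Fintype.ofFinite G
  obtain ⟨hQS, hRS, hcomm, hinf, hsup⟩ := hQR
  obtain ⟨f1, f2, f3, x0, y0, hxy⟩ := quaternion_facts hn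
  -- the decomposition
  let m0 : ↥Q × ↥R →* G := MonoidHom.noncommCoprod Q.subtype R.subtype
    (fun a b => hcomm a a.2 b b.2)
  have hm0 : ∀ p, m0 p = (p.1 : G) * p.2 := fun p => rfl
  have hmS : ∀ p, m0 p ∈ (S : Subgroup G) := fun p => mul_mem (hQS p.1.2) (hRS p.2.2)
  let m : ↥Q × ↥R →* ↥(S : Subgroup G) := m0.codRestrict _ hmS
  have hminj : Function.Injective m := by
    intro p p' h
    have h' : (p.1 : G) * p.2 = p'.1 * p'.2 := congrArg Subtype.val h
    have h1 : (p'.1 : G)⁻¹ * p.1 = p'.2 * (p.2 : G)⁻¹ := by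
      rw [inv_mul_eq_iff_eq_mul, ← mul_assoc, eq_mul_inv_iff_mul_eq]; exact h'
    have h2 : (p'.1 : G)⁻¹ * p.1 ∈ Q ⊓ R :=
      ⟨Q.mul_mem (Q.inv_mem p'.1.2) p.1.2, h1 ▸ R.mul_mem p'.2.2 (R.inv_mem p.2.2)⟩
    rw [hinf, Subgroup.mem_bot] at h2
    have h3 : (p.1 : G) = p'.1 := (inv_mul_eq_one.1 h2).symm
    rw [h3] at h'
    exact Prod.ext (Subtype.ext h3) (Subtype.ext (mul_left_cancel h'))
  have hmsurj : Function.Surjective m := by
    intro x
    have hle : Q ⊔ R ≤ m0.range := sup_le (fun q hq => ⟨(⟨q, hq⟩, 1), by simp [hm0]⟩)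
      (fun r hr => ⟨(1, ⟨r, hr⟩), by simp [hm0]⟩)
    have hx : (x : G) ∈ Q ⊔ R := by rw [hsup]; exact x.2
    obtain ⟨p, hp⟩ := hle hx
    exact ⟨p, Subtype.ext hp⟩
  let e : ↥Q × ↥R ≃* ↥(S : Subgroup G) := MulEquiv.ofBijective m ⟨hminj, hmsurj⟩
  let π : ↥(S : Subgroup G) →* ↥Q := (MonoidHom.fst ↥Q ↥R).comp e.symm.toMonoidHom
  have hπe : ∀ p, π (e p) = p.1 := fun p => by simp [π]
  obtain ⟨zQ, hzQ⟩ : ∃ zQ : ↥Q, zQ = eQ.symm (QuaternionGroup.a (2 ^ n : ℕ)) := ⟨_, rfl⟩
  have hzne : zQ ≠ 1 := fun h => f2 (by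
    have := congrArg eQ (hzQ.symm.trans h); simpa using this)
  have hQsq : ∀ q : ↥Q, q * q = 1 → q = 1 ∨ q = zQ := by
    intro q hq
    rcases f1 (eQ q) (by rw [← map_mul, hq, map_one]) with h | h
    · left; exact eQ.injective (by rw [h, map_one])
    · right; rw [hzQ, ← h]; simp
  have hzz : zQ * zQ = 1 := by
    obtain ⟨h4, h2⟩ := f3 0
    rw [hzQ, ← map_mul, ← h2]
    rw [sq_sq, h4, map_one]
  have hzcent : ∀ q : ↥Q, q * zQ = zQ * q := by
    intro q
    rcases hQsq (q * zQ * q⁻¹) (by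
      rw [show q * zQ * q⁻¹ * (q * zQ * q⁻¹) = q * (zQ * zQ) * q⁻¹ by group, hzz]; group) with h | h
    · exact absurd (conj_eq_one_iff.1 h) hzne
    · exact mul_inv_eq_iff_eq_mul.1 h
  -- the elements of order at most two are central
  have hcent : ∀ v : ↥(S : Subgroup G), v * v = 1 → ∀ w, w * v = v * w := by
    intro v hv w
    obtain ⟨⟨q, r⟩, rfl⟩ := hmsurj v
    obtain ⟨⟨q', r'⟩, rfl⟩ := hmsurj w
    rw [← map_mul, ← map_one m] at hv
    obtain ⟨hq, hr⟩ := Prod.ext_iff.1 (hminj hv)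
    rw [← map_mul, ← map_mul]
    congr 1
    refine Prod.ext ?_ ?_
    · rcases hQsq q hq with h | h
      · simp [h]
      · show q' * q = q * q'
        rw [h]; exact hzcent q'
    · show r' * r = r * r'
      by_cases hr1 : r = 1
      · simp [hr1]
      · have ho : orderOf (r : G) = 2 :=
          orderOf_eq_prime (by rw [pow_two]; exact congrArg Subtype.val hr)
            (fun h => hr1 (Subtype.ext h))
        exact Subtype.ext (hR r r.2 ho r' r'.2).symm
  let V : Subgroup G :=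
    { carrier := {v | ∃ h : v ∈ (S : Subgroup G), v * v = 1}
      one_mem' := ⟨one_mem _, by simp⟩
      mul_mem' := by
        rintro a b ⟨ha, ha2⟩ ⟨hb, hb2⟩
        refine ⟨mul_mem ha hb, ?_⟩
        have hba : b * a = a * b :=
          congrArg Subtype.val (hcent ⟨a, ha⟩ (Subtype.ext ha2) ⟨b, hb⟩)
        calc a * b * (a * b) = a * (b * a) * b := by group
          _ = a * a * (b * b) := by rw [hba]; group
          _ = 1 := by rw [ha2, hb2, mul_one]
      inv_mem' := by
        rintro a ⟨ha, ha2⟩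
        exact ⟨inv_mem ha, by rw [← mul_inv_rev, ha2, inv_one]⟩ }
  have hVS : ∀ v : ↥V, (v : G) ∈ (S : Subgroup G) := fun v => v.2.1
  have hVc : ∀ v : ↥V, (v : G) ∈ Subgroup.centralizer ((S : Subgroup G) : Set G) := fun v =>
    Subgroup.mem_centralizer_iff.2 fun s hs =>
      congrArg Subtype.val (hcent ⟨v, hVS v⟩ (Subtype.ext v.2.2) ⟨s, hs⟩)
  letI : CommGroup ↥V :=
    { V.toGroup with
      mul_comm := fun a b => Subtype.ext (Subgroup.mem_centralizer_iff.1 (hVc b) a (hVS a)) }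
  obtain ⟨N, hNdef⟩ : ∃ N : Subgroup G, N = Subgroup.normalizer ((S : Subgroup G) : Set G) := ⟨_, rfl⟩
  have hSN : (S : Subgroup G) ≤ N := hNdef ▸ Subgroup.le_normalizer
  have hconjS : ∀ g ∈ N, ∀ x ∈ (S : Subgroup G), g * x * g⁻¹ ∈ (S : Subgroup G) := fun g hg x hx =>
    ((Subgroup.mem_normalizer_iff.1 (hNdef ▸ hg)) x).1 hx
  let cjS : ↥N → ↥(S : Subgroup G) → ↥(S : Subgroup G) := fun g x =>
    ⟨g.1 * x.1 * g.1⁻¹, hconjS g.1 g.2 x.1 x.2⟩
  have hcjS_mul : ∀ g x y, cjS g (x * y) = cjS g x * cjS g y := fun g x y => Subtype.ext (by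
    show g.1 * (x.1 * y.1) * g.1⁻¹ = g.1 * x.1 * g.1⁻¹ * (g.1 * y.1 * g.1⁻¹)
    group)
  have hcjS_comp : ∀ g g' x, cjS (g * g') x = cjS g (cjS g' x) := fun g g' x => Subtype.ext (by
    show (g.1 * g'.1) * x.1 * (g.1 * g'.1)⁻¹ = g.1 * (g'.1 * x.1 * g'.1⁻¹) * g.1⁻¹
    group)
  obtain ⟨zS, hzS⟩ : ∃ zS : ↥(S : Subgroup G), zS = m (zQ, 1) := ⟨_, rfl⟩
  have hπz : π zS = zQ := by rw [hzS]; exact hπe (zQ, 1)
  have hzS2 : zS * zS = 1 := by
    rw [hzS, ← map_mul, show ((zQ, 1) : ↥Q × ↥R) * (zQ, 1) = 1 from Prod.ext hzz (mul_one 1), map_one]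
  -- the invariance of the projection on squares
  let Φ : Finset ↥(S : Subgroup G) := Finset.univ.filter fun x => x ^ 4 = 1
  let sg : ↥Q → ℤ := fun q => if q = 1 then 1 else -1
  have hsgmul : ∀ u v : ↥Q, u * u = 1 → v * v = 1 → sg (u * v) = sg u * sg v := by
    intro u v hu hv
    rcases hQsq u hu with rfl | rfl <;> rcases hQsq v hv with rfl | rfl <;> simp [sg, hzz, hzne]
  have hkey : ∀ g : ↥N, π (cjS g zS) = zQ → ∀ x ∈ Φ, π (cjS g (x * x)) = π (x * x) := by
    intro g hg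
    let ΦQ : Finset ↥Q := Finset.univ.filter fun q => q ^ 4 = 1
    let ΦR : Finset ↥R := Finset.univ.filter fun r => r ^ 4 = 1
    have hΦ : ∀ p : ↥Q × ↥R, p ∈ ΦQ ×ˢ ΦR ↔ m p ∈ Φ := by
      intro p
      simp only [ΦQ, ΦR, Φ, Finset.mem_product, Finset.mem_filter, Finset.mem_univ, true_and]
      rw [← map_pow, ← map_one m, hminj.eq_iff]
      exact ⟨fun h => Prod.ext h.1 h.2, fun h => Prod.ext_iff.1 h⟩
    have hsum : ∀ F : ↥(S : Subgroup G) → ℤ, ∑ x ∈ Φ, F x = ∑ q ∈ ΦQ, ∑ r ∈ ΦR, F (m (q, r)) := by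
      intro F
      rw [← Finset.sum_product']
      refine (Finset.sum_bij (fun p _ => m p) (fun p hp => (hΦ p).1 hp) (fun a _ b _ h => hminj h)
        (fun x hx => ?_) (fun p _ => rfl)).symm
      obtain ⟨p, rfl⟩ := hmsurj x
      exact ⟨p, (hΦ p).2 hx, rfl⟩
    have hT : ∑ x ∈ Φ, sg (π (cjS g (x * x))) = ∑ x ∈ Φ, sg (π (x * x)) := by
      refine Finset.sum_bij (fun x _ => cjS g x) ?_ ?_ ?_ ?_
      · intro x hx
        simp only [Φ, Finset.mem_filter, Finset.mem_univ, true_and] at hx ⊢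
        refine Subtype.ext ?_
        show (g.1 * x.1 * g.1⁻¹) ^ 4 = 1
        rw [conj_pow, show x.1 ^ 4 = 1 from congrArg Subtype.val hx, mul_one, mul_inv_cancel]
      · intro a _ b _ h
        exact Subtype.ext (mul_left_cancel (mul_right_cancel (congrArg Subtype.val h :)))
      · intro y hy
        refine ⟨cjS g⁻¹ y, ?_, ?_⟩
        · simp only [Φ, Finset.mem_filter, Finset.mem_univ, true_and] at hy ⊢
          refine Subtype.ext ?_
          show ((g⁻¹ : ↥N).1 * y.1 * (g⁻¹ : ↥N).1⁻¹) ^ 4 = 1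
          rw [conj_pow, show y.1 ^ 4 = 1 from congrArg Subtype.val hy, mul_one, mul_inv_cancel]
        · exact Subtype.ext (by
            show g.1 * (g.1⁻¹ * y.1 * g.1⁻¹⁻¹) * g.1⁻¹ = y.1
            group)
      · intro x _
        rw [hcjS_mul]
    have hq2 : ∀ q ∈ ΦQ, q * q = 1 ∨ q * q = zQ := fun q hq => hQsq _ (by
      simp only [ΦQ, Finset.mem_filter] at hq
      rw [← hq.2]; exact sq_sq q)
    have hfix : ∀ q ∈ ΦQ, ∀ r : ↥R, π (m (q, r) * m (q, r)) = q * q := fun q _ r => by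
      rw [← map_mul]; exact hπe _
    have hmove : ∀ q ∈ ΦQ, ∀ r ∈ ΦR, sg (π (cjS g (m (q, r) * m (q, r)))) =
        sg (q * q) * sg (π (cjS g (m (1, r) * m (1, r)))) := by
      intro q hq r hr
      have hsq : ∀ r' ∈ ΦR, (π (cjS g (m (1, r') * m (1, r')))) * π (cjS g (m (1, r') * m (1, r'))) = 1 := by
        intro r' hr'
        simp only [ΦR, Finset.mem_filter] at hr'
        rw [← map_mul, ← hcjS_mul, ← map_mul, ← map_mul,
          show ((1, r') : ↥Q × ↥R) * (1, r') * ((1, r') * (1, r')) = 1 from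
            Prod.ext (by simp) (by show r' * r' * (r' * r') = 1; rw [sq_sq, hr'.2]), map_one]
        have : cjS g 1 = 1 := Subtype.ext (by show g.1 * 1 * g.1⁻¹ = 1; group)
        rw [this, map_one]
      have hsplit : m (q, r) * m (q, r) = m (q * q, 1) * (m (1, r) * m (1, r)) := by
        rw [← map_mul, ← map_mul, ← map_mul]; congr 1; simp
      have hqq : π (cjS g (m (q * q, 1))) = q * q := by
        rcases hq2 q hq with h | h
        · rw [h, show ((1, 1) : ↥Q × ↥R) = 1 from rfl, map_one,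
            show cjS g 1 = 1 from Subtype.ext (by show g.1 * 1 * g.1⁻¹ = 1; group), map_one]
        · rw [h, ← hzS]; exact hg
      rw [hsplit, hcjS_mul, map_mul, hqq, hsgmul _ _ (by
        simp only [ΦQ, Finset.mem_filter] at hq; rw [← hq.2]; exact sq_sq q) (hsq r hr)]
    rw [hsum, hsum, Finset.sum_congr rfl (fun q hq => Finset.sum_congr rfl (hmove q hq)),
      Finset.sum_congr rfl (fun q hq => Finset.sum_congr rfl
        (fun r _ => by rw [hfix q hq r]) : ∀ q ∈ ΦQ,
          ∑ r ∈ ΦR, sg (π (m (q, r) * m (q, r))) = ∑ r ∈ ΦR, sg (q * q))] at hT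
    simp only [← Finset.mul_sum, Finset.sum_const, nsmul_eq_mul] at hT
    simp only [← Finset.sum_mul] at hT
    have hW : ∑ q ∈ ΦQ, sg (q * q) < 0 := by
      have e1 : ΦQ.filter (fun q => q * q = 1) = {1, zQ} := by
        ext q
        simp only [ΦQ, Finset.mem_filter, Finset.mem_univ, true_and, Finset.mem_insert,
          Finset.mem_singleton]
        refine ⟨fun h => hQsq q h.2, ?_⟩
        rintro (h | h)
        · simp [h]
        · exact ⟨by rw [h, ← sq_sq zQ, hzz, mul_one], by rw [h, hzz]⟩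
      have e2 : 3 ≤ (ΦQ.filter (fun q => ¬ q * q = 1)).card := by
        have hM : 4 ≤ 2 * 2 ^ n := by
          have := Nat.pow_le_pow_right (show 1 ≤ 2 by norm_num) hn; omega
        haveI : NeZero (2 * 2 ^ n) := ⟨by omega⟩
        have hsub : Finset.univ.image (fun i : ZMod (2 * 2 ^ n) => eQ.symm (QuaternionGroup.xa i)) ⊆
            ΦQ.filter (fun q => ¬ q * q = 1) := by
          intro q hq
          obtain ⟨i, -, rfl⟩ := Finset.mem_image.1 hq
          simp only [ΦQ, Finset.mem_filter, Finset.mem_univ, true_and]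
          refine ⟨by rw [← map_pow, (f3 i).1, map_one], ?_⟩
          rw [← map_mul, (f3 i).2, ← hzQ]; exact hzne
        have := Finset.card_le_card hsub
        rw [Finset.card_image_of_injective _ (fun i j h => QuaternionGroup.xa.inj (eQ.symm.injective h)),
          Finset.card_univ, ZMod.card] at this
        omega
      have e3 : ({1, zQ} : Finset ↥Q).card = 2 := Finset.card_pair (Ne.symm hzne)
      simp only [sg]
      rw [Finset.sum_ite, Finset.sum_const, Finset.sum_const, e1, e3]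
      simp only [nsmul_eq_mul, mul_one, mul_neg]
      push_cast
      omega
    have hR1 : ∑ r ∈ ΦR, sg (π (cjS g (m (1, r) * m (1, r)))) = (ΦR.card : ℤ) := by
      refine mul_left_cancel₀ hW.ne ?_
      rw [hT]; ring
    have hall : ∀ r ∈ ΦR, π (cjS g (m (1, r) * m (1, r))) = 1 := by
      intro r hr
      by_contra hne
      have : ∑ r ∈ ΦR, sg (π (cjS g (m (1, r) * m (1, r)))) < ∑ r ∈ ΦR, (1 : ℤ) :=
        Finset.sum_lt_sum (fun r _ => by simp only [sg]; split_ifs <;> norm_num)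
          ⟨r, hr, by simp only [sg, if_neg hne]; norm_num⟩
      rw [hR1, Finset.sum_const, nsmul_eq_mul, mul_one] at this
      exact lt_irrefl _ this
    intro x hx
    obtain ⟨⟨q, r⟩, rfl⟩ := hmsurj x
    obtain ⟨hq, hr⟩ := Finset.mem_product.1 ((hΦ (q, r)).2 hx)
    have hsplit : m (q, r) * m (q, r) = m (q * q, 1) * (m (1, r) * m (1, r)) := by
      rw [← map_mul, ← map_mul, ← map_mul]; congr 1; simp
    rw [hfix q hq r, hsplit, hcjS_mul, map_mul, hall r hr, mul_one]
    rcases hq2 q hq with h | h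
    · rw [h, show ((1, 1) : ↥Q × ↥R) = 1 from rfl, map_one,
        show cjS g 1 = 1 from Subtype.ext (by show g.1 * 1 * g.1⁻¹ = 1; group), map_one]
    · rw [h, ← hzS]; exact hg
  -- `zS` is a square
  obtain ⟨iS, hiS, hiS2⟩ : ∃ i ∈ Φ, i * i = zS := by
    refine ⟨m (eQ.symm (QuaternionGroup.xa 0), 1), ?_, ?_⟩
    · simp only [Φ, Finset.mem_filter, Finset.mem_univ, true_and]
      rw [← map_pow, show ((eQ.symm (QuaternionGroup.xa 0), 1) : ↥Q × ↥R) ^ 4 = 1 from
        Prod.ext (by simp only [Prod.pow_fst, Prod.fst_one, ← map_pow, (f3 0).1, map_one]) (by simp), map_one]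
    · rw [← map_mul, hzS]; congr 1
      exact Prod.ext (by simp only [Prod.fst_mul, ← map_mul, (f3 0).2, hzQ]) (by simp)
  -- the stabiliser
  have hHmul : ∀ g g' : ↥N, π (cjS g zS) = zQ → π (cjS g' zS) = zQ → π (cjS (g * g') zS) = zQ := by
    intro g g' hg hg'
    have hmem : cjS g' iS ∈ Φ := by
      simp only [Φ, Finset.mem_filter, Finset.mem_univ, true_and] at hiS ⊢
      refine Subtype.ext ?_
      show (g'.1 * iS.1 * g'.1⁻¹) ^ 4 = 1
      rw [conj_pow, show iS.1 ^ 4 = 1 from congrArg Subtype.val hiS, mul_one, mul_inv_cancel]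
    rw [hcjS_comp, ← hiS2, hcjS_mul, hkey g hg _ hmem, ← hcjS_mul, hiS2, hg']
  have hone : π (cjS 1 zS) = zQ := by
    rw [show cjS 1 zS = zS from Subtype.ext (by
      show (1 : G) * zS.1 * (1 : G)⁻¹ = zS.1; group), hπz]
  have hHpow : ∀ g : ↥N, π (cjS g zS) = zQ → ∀ k : ℕ, π (cjS (g ^ k) zS) = zQ := by
    intro g hg k
    induction k with
    | zero => rw [pow_zero]; exact hone
    | succ k ih => rw [pow_succ]; exact hHmul _ _ ih hg
  let H : Subgroup ↥N :=
    { carrier := {g | π (cjS g zS) = zQ}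
      one_mem' := hone
      mul_mem' := fun {a b} ha hb => hHmul a b ha hb
      inv_mem' := fun {a} ha => by
        have : a⁻¹ = a ^ (orderOf a - 1) := by
          rw [inv_eq_iff_mul_eq_one, ← pow_succ',
            Nat.sub_add_cancel (orderOf_pos a), pow_orderOf_eq_one]
        show π (cjS a⁻¹ zS) = zQ
        rw [this]; exact hHpow a ha _ }
  obtain ⟨S', hS'⟩ : ∃ S' : Subgroup ↥N, S' = (S : Subgroup G).subgroupOf N := ⟨_, rfl⟩
  have hzV : (zS : G) ∈ V := ⟨zS.2, congrArg Subtype.val hzS2⟩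
  have hwd : ∀ g g' : ↥N, g⁻¹ * g' ∈ S' → cjS g zS = cjS g' zS := by
    intro g g' h
    rw [show g' = g * (g⁻¹ * g') by group, hcjS_comp]
    congr 1
    rw [hS', Subgroup.mem_subgroupOf] at h
    have h1 := hcent zS hzS2 ⟨_, h⟩
    refine Subtype.ext ?_
    show zS.1 = _
    have h2 : ((g⁻¹ * g' : ↥N) : G) * zS.1 = zS.1 * ((g⁻¹ * g' : ↥N) : G) := congrArg Subtype.val h1
    show zS.1 = ((g⁻¹ * g' : ↥N) : G) * zS.1 * ((g⁻¹ * g' : ↥N) : G)⁻¹
    rw [h2, mul_inv_cancel_right]
  let cjV : ↥N → ↥V := fun g => ⟨(cjS g zS).1, (cjS g zS).2, by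
    show g.1 * zS.1 * g.1⁻¹ * (g.1 * zS.1 * g.1⁻¹) = 1
    rw [show g.1 * zS.1 * g.1⁻¹ * (g.1 * zS.1 * g.1⁻¹) = g.1 * (zS.1 * zS.1) * g.1⁻¹ by group,
      show zS.1 * zS.1 = 1 from congrArg Subtype.val hzS2]
    group⟩
  let f : ↥N ⧸ S' → ↥V := fun c => Quotient.liftOn' c cjV fun g g' h => by
    have h' := hwd g g' (QuotientGroup.leftRel_apply.1 h)
    exact Subtype.ext (congrArg (fun u : ↥(S : Subgroup G) => (u : G)) h' :)
  have hf : ∀ g : ↥N, f (g : ↥N ⧸ S') = cjV g := fun g => rfl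
  haveI := Fintype.ofFinite (↥N ⧸ S')
  obtain ⟨w, hw⟩ : ∃ w : ↥V, w = ∏ c, f c := ⟨_, rfl⟩
  have hwfix : ∀ h ∈ N, h * (w : G) * h⁻¹ = w := by
    intro h hh
    let cj : ↥V →* ↥V := ((MulAut.conj h).toMonoidHom.comp V.subtype).codRestrict _ fun v =>
      ⟨hconjS h hh _ (hVS v), by
        show h * v.1 * h⁻¹ * (h * v.1 * h⁻¹) = 1
        rw [show h * v.1 * h⁻¹ * (h * v.1 * h⁻¹) = h * (v.1 * v.1) * h⁻¹ by group, v.2.2]
        group⟩
    have e1 : cj w = w := by
      rw [hw, map_prod]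
      refine Fintype.prod_equiv (MulAction.toPerm (⟨h, hh⟩ : ↥N)) _ _ fun c => ?_
      induction c using QuotientGroup.induction_on with
      | _ g =>
        rw [hf, MulAction.toPerm_apply, MulAction.Quotient.smul_coe, hf]
        refine Subtype.ext ?_
        show h * (g.1 * zS.1 * g.1⁻¹) * h⁻¹ = (h * g.1) * zS.1 * (h * g.1)⁻¹
        group
    exact congrArg Subtype.val e1
  -- the projection of `w`
  let πV : ↥V →* ↥Q := π.comp (Subgroup.inclusion (K := (S : Subgroup G)) (fun v hv => hv.1))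
  have hπw : πV w = zQ := by
    have hval : ∀ c, πV (f c) = zQ ^ (if πV (f c) = zQ then 1 else 0 : ℕ) := by
      intro c
      split_ifs with h
      · rw [pow_one]; exact h
      · rw [pow_zero]
        exact (hQsq _ (by rw [← map_mul,
          show f c * f c = 1 from Subtype.ext (f c).2.2, map_one])).resolve_right h
    let A : Finset (↥N ⧸ S') := Finset.univ.filter fun c => πV (f c) = zQ
    have hprod : πV w = zQ ^ A.card := by
      rw [hw, ← Finset.prod_erase_mul _ _ (Finset.mem_univ ((1 : ↥N) : ↥N ⧸ S')), map_mul]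
      have key : ∀ s : Finset (↥N ⧸ S'), πV (∏ c ∈ s, f c) = zQ ^ (s.filter fun c => πV (f c) = zQ).card := by
        intro s
        induction s using Finset.induction with
        | empty => simp
        | @insert c s hc ih =>
          rw [Finset.prod_insert hc, map_mul, ih, Finset.filter_insert]
          by_cases h : πV (f c) = zQ
          · rw [if_pos h, Finset.card_insert_of_notMem (by simp [hc]), pow_succ', h]
          · rw [if_neg h, hval c, if_neg h, pow_zero, one_mul]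
      rw [← map_mul, Finset.prod_erase_mul _ _ (Finset.mem_univ _), key]
    have hAodd : ¬ 2 ∣ A.card := by
      intro h2
      refine S.not_dvd_index ?_
      have hcardH : Nat.card H = Nat.card ↥(S : Subgroup G) * A.card := by
        rw [← Nat.card_eq_finsetCard A, ← Nat.card_congr (Subgroup.subgroupOfEquivOfLe hSN).toEquiv, ← hS',
          ← Nat.card_prod]
        refine Nat.card_congr ((Equiv.subtypeEquivRight fun g => ?_).trans
          (QuotientGroup.preimageMkEquivSubgroupProdSet S' (A : Set (↥N ⧸ S'))))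
        show π (cjS g zS) = zQ ↔ (g : ↥N ⧸ S') ∈ (A : Set (↥N ⧸ S'))
        simp only [A, Finset.coe_filter, Finset.mem_univ, true_and, Set.mem_ofPred_eq]
        rw [hf]
        rfl
      have h3 : Nat.card ↥(S : Subgroup G) * A.card ∣ Nat.card ↥(S : Subgroup G) * (S : Subgroup G).index := by
        rw [← hcardH, Subgroup.card_mul_index]
        exact H.card_subgroup_dvd_card.trans N.card_subgroup_dvd_card
      exact h2.trans ((Nat.mul_dvd_mul_iff_left Nat.card_pos).1 h3)
    obtain ⟨j, hj⟩ : Odd A.card := by rw [← Nat.not_even_iff_odd, even_iff_two_dvd]; exact hAodd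
    rw [hprod, hj, pow_succ, pow_mul, pow_two, hzz, one_pow, one_mul]
  have hw1 : (w : G) ≠ 1 := fun h => hzne (by
    rw [← hπw, show w = 1 from Subtype.ext h, map_one])
  have hw2 : orderOf (w : G) = 2 := orderOf_eq_prime (by rw [pow_two]; exact w.2.2) hw1
  obtain ⟨M, hM, hModd, hMw⟩ := S0215.result S (w : G) hw2 (hVS w) (by
    intro g hg
    have hV2 : g * (w : G) * g⁻¹ ∈ V := ⟨hg, by
      rw [show g * (w : G) * g⁻¹ * (g * (w : G) * g⁻¹) = g * ((w : G) * w) * g⁻¹ by group, w.2.2]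
      group⟩
    obtain ⟨k, hk, hke⟩ := S.conj_eq_normalizer_conj_of_mem_centralizer (w : G) g⁻¹ (hVc w)
      (by rw [inv_inv]; exact hVc ⟨_, hV2⟩)
    rw [inv_inv] at hke
    have := hwfix k⁻¹ (N.inv_mem (hNdef ▸ hk))
    rw [inv_inv] at this
    rw [hke, this])
  rcases hsimple.eq_bot_or_eq_top_of_normal M hM with h | h
  · have hc : (w : G) ∈ Subgroup.center G := Subgroup.mem_center_iff.2 fun g => by
      have h2 := hMw g
      rw [h, Subgroup.mem_bot, mul_inv_eq_one, mul_inv_eq_iff_eq_mul] at h2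
      exact h2.symm
    rcases hsimple.eq_bot_or_eq_top_of_normal (Subgroup.center G) inferInstance with h2 | h2
    · exact hw1 (Subgroup.mem_bot.1 (h2 ▸ hc))
    · refine hxy (eQ.symm.injective ?_)
      rw [map_mul, map_mul]
      exact Subtype.ext (Subgroup.mem_center_iff.1
        (h2.symm ▸ Subgroup.mem_top ((eQ.symm y0 : ↥Q) : G)) ((eQ.symm x0 : ↥Q) : G))
  · rw [h, Subgroup.card_top] at hModd
    exact (Nat.not_even_iff_odd.2 hModd) (even_iff_two_dvd.2
      (hw2 ▸ orderOf_dvd_natCard (w : G)))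

end Cfsg.Agent.S3269
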