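import Cfsg.Statements.S3331
import Cfsg.Agent.SelfCentThree.Main
import Cfsg.Agent.S0494
import Cfsg.Agent.S0495

set_option autoImplicit false
set_option linter.style.haveILetI false
open Cfsg

namespace Cfsg.Agent.S3331

open SelfCentThree

/-- Let G be a finite group containing a subgroup X of order 3 with C_G(X) = X. Then one of the following holds: G has a nilpotent normal subgroup N of order prime to 3 with G/N of order 3 or isomorphic to Sym(3); or G has an elementary abelian normal 2-subgroup N with G/N isomorphic to the alternating group of degree 5; or G is isomorphic to PSL(2,7). -/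
theorem result {G : Type*} [Group G] [Finite G]
    (X : Subgroup G) (hX : Nat.card X = 3) (hC : Subgroup.centralizer (X : Set G) = X) :
    (∃ (N : Subgroup G) (hN : N.Normal), Group.IsNilpotent N ∧ (Nat.card N).Coprime 3 ∧
        (Nat.card (G ⧸ N) = 3 ∨ Nonempty (G ⧸ N ≃* Equiv.Perm (Fin 3)))) ∨
    (∃ (N : Subgroup G) (hN : N.Normal), IsMulCommutative N ∧ (∀ n ∈ N, n ^ 2 = 1) ∧
        Nonempty (G ⧸ N ≃* alternatingGroup (Fin 5))) ∨
    Nonempty (G ≃* Matrix.ProjectiveSpecialLinearGroup (Fin 2) (ZMod 7)) := by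
  haveI : Fact (Nat.Prime 3) := ⟨Nat.prime_three⟩
  obtain ⟨⟨x, hxX⟩, hx3⟩ := exists_prime_orderOf_dvd_card' (G := X) 3 (by rw [hX])
  rw [Subgroup.orderOf_mk] at hx3
  have hXe : Subgroup.zpowers x = X :=
    Subgroup.eq_of_le_of_card_ge (Subgroup.zpowers_le.2 hxX) (by rw [Nat.card_zpowers, hx3, hX])
  have h : SC x := ⟨hx3, fun g hg => by
    rw [hXe, ← hC]
    refine Subgroup.mem_centralizer_iff.2 fun c hc => ?_
    obtain ⟨k, rfl⟩ := Subgroup.mem_zpowers_iff.1 (hXe.symm ▸ hc : c ∈ Subgroup.zpowers x)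
    exact ((hg.zpow_right k).symm).eq⟩
  have hIO := inv_core x
  have hcop : (Nat.card (pPrimeCore 3 G)).Coprime 3 := Cores.pPrimeCore_coprime
  rcases out h with e | e | ⟨hs, e, hc, hexp, -⟩ | ⟨-, hs, e⟩
  · exact Or.inl ⟨_, inferInstance, hIO.isNilpotent h, hcop, Or.inl e⟩
  · exact Or.inl ⟨_, inferInstance, hIO.isNilpotent h, hcop,
      Or.inr (equiv_perm_three_of_card_six (h.quotient _ hIO.ndvd) e)⟩
  · haveI := hs
    exact Or.inr (Or.inl ⟨_, inferInstance, hc, hexp, S0494.result e⟩)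
  · haveI := hs
    haveI : Fact (Nat.Prime 7) := ⟨by norm_num⟩
    exact Or.inr (Or.inr (S0495.result e (F := ZMod 7) (ZMod.card 7)))

end Cfsg.Agent.S3331
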