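import Cfsg.Statements.S3280
import Cfsg.Agent.SmallCent.Reduction
import Cfsg.Agent.S0495
import Cfsg.Agent.S0497
-- import your own Cfsg.Agent.* helpers here

set_option autoImplicit false
set_option linter.style.haveILetI false
open Cfsg

namespace Cfsg.Agent.S3280

universe u

open Subgroup Cfsg.Agent.SmallCent in
theorem of_order_four {G : Type u} [Group G] [Fintype G] [IsSimpleGroup G] (hG : ¬ IsCyclic G)
    {w : G} (hw : orderOf w = 4) (hc : Nat.card ↥(centralizer ({w} : Set G)) = 4) :
    Nat.card G = 168 ∨ Nat.card G = 360 ∨ Nat.card G = 2520 := by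
  obtain ⟨P, τ, D, hone⟩ := exists_dih hG hw hc
  obtain ⟨O, L⟩ := exists_loc D (fun s hs => hone _ s D.orderOf_J hs) hc
  rcases Nat.lt_or_ge 1 (Nat.card (core O τ)) with ha | ha
  · rcases Nat.lt_or_ge 1 (Nat.card (core O (w * τ))) with hb | hb
    · exfalso
      have ha3 : 3 ≤ Nat.card (core O τ) := by
        obtain ⟨k, hk⟩ := L.odd_core; omega
      have hb3 : 3 ≤ Nat.card (core O (w * τ)) := by
        obtain ⟨k, hk⟩ := L.swap.odd_core; omega
      rcases le_total (Nat.card (core O (w * τ))) (Nat.card (core O τ)) with h | h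
      · exact L.not_two_sided hb3 h
      · exact L.swap.not_two_sided (by rw [L.core_swap_swap]; exact ha3)
          (by rw [L.core_swap_swap]; exact h)
    · exact Or.inr (Or.inr (L.order_of_one_sided (le_antisymm hb Nat.card_pos) ha))
  · rcases Nat.lt_or_ge 1 (Nat.card (core O (w * τ))) with hb | hb
    · exact Or.inr (Or.inr (L.swap.order_of_one_sided
        (by rw [L.core_swap_swap]; exact le_antisymm ha Nat.card_pos) hb))
    · have hO : Nat.card O = 1 := by
        rw [L.card_O, le_antisymm ha Nat.card_pos, le_antisymm hb Nat.card_pos]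
      have hC : (P : Subgroup G) = centralizer ({w ^ 2} : Set G) :=
        eq_of_le_of_card_ge L.P_le (by rw [L.card_cent, hO, D.card])
      obtain ⟨e⟩ : Nonempty ((P : Subgroup G) ≃* DihedralGroup (2 * 2)) :=
        TwoGroups.equiv_dihedral_of_generators (a := (⟨w, D.mem_σ⟩ : (P : Subgroup G)))
          (b := ⟨τ, D.mem_τ⟩) (by rw [← D.order, ← Subgroup.orderOf_coe])
          (by rw [D.card])
          (fun hm => by
            obtain ⟨i, hi⟩ := mem_zpowers_iff.mp hm
            exact D.notMem (mem_zpowers_iff.mpr ⟨i, by simpa using congrArg Subtype.val hi⟩))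
          (Subtype.ext D.sq) (Subtype.ext D.inv)
      have hperf : _root_.commutator G = ⊤ :=
        (inferInstance : (_root_.commutator G).Normal).eq_bot_or_eq_top.resolve_left fun h =>
          SmallCent.not_isMulCommutative hG ⟨⟨fun a b => commutatorElement_eq_one_iff_mul_comm.1
            (mem_bot.1 (h ▸ commutator_mem_commutator (mem_top a) (mem_top b)))⟩⟩
      rcases S0848.result hperf (w ^ 2) L.z_order
        ((MulEquiv.subgroupCongr hC.symm).trans e) with h | h
      · exact Or.inl h
      · exact Or.inr (Or.inl h)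

/-- A non-cyclic finite simple group containing an element whose centralizer has order at most 4 is isomorphic to the alternating group of degree 5, 6 or 7, or to PSL(2, 7). -/
theorem result {G : Type*} [Group G] [Finite G] [IsSimpleGroup G] (hG : ¬ IsCyclic G)
    (w : G) (hw : Nat.card ↥(Subgroup.centralizer ({w} : Set G)) ≤ 4) :
    Nonempty (G ≃* ↥(alternatingGroup (Fin 5))) ∨ Nonempty (G ≃* ↥(alternatingGroup (Fin 6))) ∨
      Nonempty (G ≃* ↥(alternatingGroup (Fin 7))) ∨
      (∃ (F : Type) (_ : Field F) (_ : Fintype F), Fintype.card F = 7 ∧ Nonempty (G ≃* Matrix.ProjectiveSpecialLinearGroup (Fin 2) F)) := by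
  classical
  haveI := Fintype.ofFinite G
  haveI : Fact (Nat.Prime 7) := ⟨by norm_num⟩
  have hG' := Cfsg.Agent.SmallCent.not_isMulCommutative hG
  have hw1 : w ≠ 1 := by
    rintro rfl
    have htop : Subgroup.centralizer ({1} : Set G) = ⊤ :=
      eq_top_iff.2 fun g _ => Subgroup.mem_centralizer_singleton_iff.2 (by simp)
    rw [htop, Subgroup.card_top] at hw
    have h4 : Nat.card G = 4 → False := fun h => by
      haveI : Fact (Nat.Prime 2) := ⟨Nat.prime_two⟩
      exact hG' ⟨⟨IsPGroup.commutative_of_card_eq_prime_sq (p := 2) (h.trans (by norm_num))⟩⟩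
    have hpos : 0 < Nat.card G := Nat.card_pos
    rcases (show Nat.card G = 1 ∨ Nat.card G = 2 ∨ Nat.card G = 3 ∨ Nat.card G = 4 by omega)
      with h | h | h | h
    · exact hG (@isCyclic_of_subsingleton G _ (Nat.card_eq_one_iff_unique.1 h).1)
    · exact hG (@isCyclic_of_prime_card G _ 2 ⟨Nat.prime_two⟩ h)
    · exact hG (@isCyclic_of_prime_card G _ 3 ⟨Nat.prime_three⟩ h)
    · exact h4 h
  set C := Subgroup.centralizer ({w} : Set G) with hC
  have hwC : w ∈ C := Subgroup.mem_centralizer_singleton_iff.2 rfl
  have hd := Subgroup.orderOf_dvd_natCard C hwC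
  have ho1 : orderOf w ≠ 1 := fun e => hw1 (orderOf_eq_one_iff.1 e)
  have hpos : 0 < Nat.card C := Nat.card_pos
  rcases (show Nat.card C = 1 ∨ Nat.card C = 2 ∨ Nat.card C = 3 ∨ Nat.card C = 4 by omega)
    with h | h | h | h
  · rw [h, Nat.dvd_one] at hd
    exact absurd hd ho1
  · exact absurd h (Cfsg.Agent.SmallCent.card_ne_two hG')
  · have hX : Subgroup.zpowers w = C := Subgroup.eq_of_le_of_card_ge (Subgroup.zpowers_le.2 hwC) (by
      rw [h] at hd ⊢
      rw [Nat.card_zpowers, ((Nat.dvd_prime Nat.prime_three).1 hd).resolve_left ho1])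
    have hX' : Subgroup.centralizer ((Subgroup.zpowers w : Subgroup G) : Set G) = Subgroup.zpowers w := by
      rw [Subgroup.zpowers_eq_closure, Subgroup.centralizer_closure, ← hC, ← hX,
        Subgroup.zpowers_eq_closure]
    rcases S3331.result (Subgroup.zpowers w) (hX ▸ h) hX' with
      ⟨N, hN, -, -, hq⟩ | ⟨N, hN, -, -, ⟨e⟩⟩ | e
    · exfalso
      rcases hN.eq_bot_or_eq_top with rfl | rfl
      · have hcard : Nat.card (G ⧸ (⊥ : Subgroup G)) = Nat.card G :=
          Nat.card_congr QuotientGroup.quotientBot.toEquiv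
        rcases hq with hq | ⟨⟨e⟩⟩
        · exact hG (@isCyclic_of_prime_card G _ 3 ⟨Nat.prime_three⟩ (hcard.symm.trans hq))
        · have h6 : Nat.card G = 6 := by
            rw [← hcard, Nat.card_congr e.toEquiv, Nat.card_perm]; simp [Nat.factorial]
          have := SmallGroups.four_dvd_card hG' (by rw [h6]; norm_num)
          rw [h6] at this; norm_num at this
      · have hcard : Nat.card (G ⧸ (⊤ : Subgroup G)) = 1 := by
          rw [← Subgroup.index_eq_card, Subgroup.index_top]
        rcases hq with hq | ⟨⟨e⟩⟩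
        · omega
        · rw [Nat.card_congr e.toEquiv, Nat.card_perm] at hcard
          simp [Nat.factorial] at hcard
    · rcases hN.eq_bot_or_eq_top with rfl | rfl
      · exact Or.inl ⟨QuotientGroup.quotientBot.symm.trans e⟩
      · exfalso
        have hcard : Nat.card (G ⧸ (⊤ : Subgroup G)) = 1 := by
          rw [← Subgroup.index_eq_card, Subgroup.index_top]
        rw [Nat.card_congr e.toEquiv, nat_card_alternatingGroup] at hcard
        simp [Nat.factorial] at hcard
    · exact Or.inr (Or.inr (Or.inr ⟨ZMod 7, inferInstance, inferInstance, ZMod.card 7, e⟩))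
  · haveI : Fact (Nat.Prime 2) := ⟨Nat.prime_two⟩
    -- either a generator of `C`, or a four-group
    by_cases h4 : ∃ g ∈ C, orderOf g = 4
    · obtain ⟨g, hgC, hg⟩ := h4
      have hgen : Subgroup.zpowers g = C := Subgroup.eq_of_le_of_card_ge
        (Subgroup.zpowers_le.2 hgC) (by rw [Nat.card_zpowers, hg, h])
      have hle : Subgroup.centralizer ({g} : Set G) ≤ C := fun k hk => by
        rw [hC, Subgroup.mem_centralizer_singleton_iff]
        obtain ⟨i, hi⟩ := Subgroup.mem_zpowers_iff.1 (hgen.symm ▸ hwC : w ∈ Subgroup.zpowers g)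
        rw [← hi]
        exact (Commute.zpow_right (Subgroup.mem_centralizer_singleton_iff.1 hk) i).eq
      have hgc : Nat.card (Subgroup.centralizer ({g} : Set G)) = 4 := by
        refine le_antisymm ((Subgroup.card_le_of_le hle).trans h.le) ?_
        rw [← hg, ← Nat.card_zpowers]
        exact Subgroup.card_le_of_le
          (Subgroup.zpowers_le.2 (Subgroup.mem_centralizer_singleton_iff.2 rfl))
      rcases of_order_four hG hg hgc with e | e | e
      · refine Or.inr (Or.inr (Or.inr ⟨ZMod 7, inferInstance, inferInstance, ZMod.card 7, ?_⟩))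
        exact S0495.result e (ZMod.card 7)
      · exact Or.inr (Or.inl (S0497.result e))
      · exact Or.inr (Or.inr (Or.inl (S0984.result e)))
    · push Not at h4
      have hsq : ∀ g ∈ C, g * g = 1 := by
        intro g hg
        have hdg := Subgroup.orderOf_dvd_natCard C hg
        rw [h] at hdg
        have : orderOf g ∣ 2 := by
          have hle := Nat.le_of_dvd (by norm_num) hdg
          have := h4 g hg
          generalize orderOf g = o at *
          interval_cases o <;> omega
        rw [← pow_two]; exact orderOf_dvd_iff_pow_eq_one.1 this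
      have hK : IsKleinFour C := TwoFusion.IsFour.isKleinFour ⟨h, hsq⟩
      have hwo : orderOf w = 2 := orderOf_eq_prime (by rw [pow_two]; exact hsq w hwC) hw1
      refine Or.inl (S3278.result w hwo C le_rfl hK ?_ ?_)
      · rw [Subgroup.relIndex_self]; norm_num
      · rw [Subgroup.subgroupOf_self]; infer_instance

end Cfsg.Agent.S3280
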