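import Cfsg.Statements.S3520
import Cfsg.Agent.PrimStruct.Basic
-- import your own Cfsg.Agent.* helpers here

set_option autoImplicit false
open Cfsg

set_option linter.style.haveILetI false

namespace Cfsg.Agent.S3520

/-- Let a finite group G act faithfully and primitively on a finite set Ω with at least two points, suppose G is not almost simple (no non-abelian simple normal subgroup with trivial centralizer), and suppose the derangements of G form exactly two conjugacy classes. Then either Ω has 3 points and G has order 3; or G has a non-trivial abelian normal subgroup N acting regularly, every non-identity element of G fixes at most one point (so, when n > 3, G is a Frobenius group with kernel N), the number n of points is odd and a point stabilizer has order (n − 1)/2; or G is 2-transitive with a non-trivial abelian regular normal subgroup and some non-identity element fixes at least two points (a non-Frobenius 2-transitive affine group). -/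
theorem result {G : Type*} [Group G] [Finite G] {Ω : Type*} [Fintype Ω] [MulAction G Ω] [FaithfulSMul G Ω] (hΩ : 2 ≤ Fintype.card Ω) (hprim : MulAction.IsPreprimitive G Ω) (hnas : ¬ ∃ T : Subgroup G, T.Normal ∧ IsSimpleGroup T ∧ ¬ IsMulCommutative T ∧ Subgroup.centralizer (T : Set G) = ⊥)
    (hκ : Nat.card {c : ConjClasses G // ∃ g : G, ConjClasses.mk g = c ∧ ∀ ω : Ω, g • ω ≠ ω} = 2) (α : Ω) :
    (Fintype.card Ω = 3 ∧ Nat.card G = 3) ∨
    ((∃ N : Subgroup G, N.Normal ∧ N ≠ ⊥ ∧ IsMulCommutative N ∧ ∀ ω : Ω, MulAction.stabilizer N ω = ⊥) ∧ (∀ g : G, g ≠ 1 → Nat.card (MulAction.fixedBy Ω g) ≤ 1) ∧ ¬ 2 ∣ Fintype.card Ω ∧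
        2 * Nat.card (MulAction.stabilizer G α) = Fintype.card Ω - 1) ∨
    ((∃ N : Subgroup G, N.Normal ∧ N ≠ ⊥ ∧ IsMulCommutative N ∧ ∀ ω : Ω, MulAction.stabilizer N ω = ⊥) ∧ MulAction.IsMultiplyPretransitive G Ω 2 ∧ ∃ g : G, g ≠ 1 ∧ 2 ≤ Nat.card (MulAction.fixedBy Ω g)) := by
  classical
  haveI := hprim
  haveI : Nontrivial Ω := Fintype.one_lt_card_iff_nontrivial.mp hΩ
  let cls : (g : G) → (∀ ω : Ω, g • ω ≠ ω) →
      {c : ConjClasses G // ∃ g : G, ConjClasses.mk g = c ∧ ∀ ω : Ω, g • ω ≠ ω} :=
    fun g hg => ⟨ConjClasses.mk g, g, rfl, hg⟩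
  -- any three derangements contain two conjugate ones
  have h3 : ∀ a b c : G, (∀ ω : Ω, a • ω ≠ ω) → (∀ ω : Ω, b • ω ≠ ω) → (∀ ω : Ω, c • ω ≠ ω) →
      IsConj a b ∨ IsConj a c ∨ IsConj b c := by
    intro a b c ha hb hc
    by_contra hn
    push Not at hn
    obtain ⟨h1, h2, h3⟩ := hn
    have hinj : Function.Injective ![cls a ha, cls b hb, cls c hc] := by
      intro i j hij
      fin_cases i <;> fin_cases j <;> first
        | rfl
        | exfalso
          have e := ConjClasses.mk_eq_mk_iff_isConj.mp (congrArg Subtype.val hij)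
          first
            | exact h1 e
            | exact h2 e
            | exact h3 e
            | exact h1 e.symm
            | exact h2 e.symm
            | exact h3 e.symm
    have := Nat.card_le_card_of_injective _ hinj
    rw [hκ, Nat.card_fin] at this
    omega
  have hord : ∀ {a b : G}, IsConj a b → orderOf a = orderOf b := fun {a b} h => by
    obtain ⟨c, rfl⟩ := isConj_iff.mp h
    rw [← MulAut.conj_apply, MulEquiv.orderOf_eq]
  rcases PrimStruct.trichotomy (G := G) (Ω := Ω) with
    ⟨N, r, hr, hN, hN1, hNe, hNt, hNreg⟩ | h | ⟨T, S, h⟩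
  swap
  · exact absurd h hnas
  swap
  · exfalso
    rcases h with ⟨hTs, hTna, hSs, hSna, hdis, hcomm, hsr⟩ |
      ⟨-, -, -, -, -, -, x, -, x', hx'S, y, hyS, hx, -, hxb, n1, n2, n3⟩
    · -- derangements of orders `p`, `q` and `p * s`
      haveI := hTs
      haveI := hSs
      obtain ⟨p, hp, -, hpd⟩ := PrimStruct.exists_prime_ne_dvd hTna Nat.prime_two
      obtain ⟨q, hq, hqp, hqd⟩ := PrimStruct.exists_prime_ne_dvd hTna hp
      obtain ⟨s, hs, hsp, hsd⟩ := PrimStruct.exists_prime_ne_dvd hSna hp
      haveI := Fact.mk hp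
      haveI := Fact.mk hq
      haveI := Fact.mk hs
      obtain ⟨a, ha⟩ := exists_prime_orderOf_dvd_card' p hpd
      obtain ⟨b, hb⟩ := exists_prime_orderOf_dvd_card' q hqd
      obtain ⟨c, hc⟩ := exists_prime_orderOf_dvd_card' s hsd
      rw [← Subgroup.orderOf_coe] at ha hb hc
      have hda : ∀ ω : Ω, (a : G) • ω ≠ ω := fun ω hω => by
        rw [hsr _ a.2 ω hω, orderOf_one] at ha
        exact hp.ne_one ha.symm
      have hdb : ∀ ω : Ω, (b : G) • ω ≠ ω := fun ω hω => by
        rw [hsr _ b.2 ω hω, orderOf_one] at hb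
        exact hq.ne_one hb.symm
      have hco : (orderOf (a : G)).Coprime (orderOf (c : G)) := by
        rw [ha, hc]; exact (Nat.coprime_primes hp hs).mpr (Ne.symm hsp)
      have hac : Commute (a : G) c := hcomm _ a.2 _ c.2
      have hord' := hac.orderOf_mul_eq_mul_orderOf_of_coprime hco
      rw [ha, hc] at hord'
      have hdac : ∀ ω : Ω, ((a : G) * c) • ω ≠ ω := by
        intro ω hω
        have hfix : ((a : G) * c) ^ s • ω = ω :=
          (Subgroup.pow_mem (MulAction.stabilizer G ω) hω s)
        have hcs : (c : G) ^ s = 1 := by rw [← hc, pow_orderOf_eq_one]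
        rw [hac.mul_pow, hcs, mul_one] at hfix
        have h1 := hsr _ (T.pow_mem a.2 s) ω hfix
        have := orderOf_dvd_of_pow_eq_one h1
        rw [ha] at this
        exact hsp ((Nat.prime_dvd_prime_iff_eq hp hs).mp this).symm
      have hne : p * s ≠ p ∧ p * s ≠ q := by
        refine ⟨fun h => hs.ne_one (Nat.eq_of_mul_eq_mul_left hp.pos (by omega)), fun h => ?_⟩
        exact hqp ((Nat.prime_dvd_prime_iff_eq hp hq).mp ⟨s, h.symm⟩).symm
      rcases h3 _ _ _ hda hdb hdac with e | e | e
      · have := hord e; rw [ha, hb] at this; exact hqp this.symm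
      · have := hord e; rw [ha, hord'] at this; exact hne.1 this.symm
      · have := hord e; rw [hb, hord'] at this; exact hne.2 this.symm
    · rcases h3 x (x * y) (x * x') hx (fun ω => hxb ω y hyS) (fun ω => hxb ω x' hx'S) with e | e | e
      · exact n1 e
      · exact n2 e
      · exact n3 e
  -- affine case
  right
  haveI := hN
  haveI := hNt
  obtain ⟨hab, -⟩ := hNe
  have hbij : Function.Bijective fun m : N => m • α := PermLib.smul_bijective_of_regular (hNreg α)
  have hNder : ∀ m : G, m ∈ N → m ≠ 1 → ∀ ω : Ω, m • ω ≠ ω := by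
    intro m hm h1 ω hω
    have : (⟨m, hm⟩ : N) ∈ MulAction.stabilizer N ω := hω
    rw [hNreg ω, Subgroup.mem_bot] at this
    exact h1 (congrArg Subtype.val this)
  have hcommN : ∀ a ∈ N, ∀ b ∈ N, a * b = b * a := fun a ha b hb =>
    congrArg Subtype.val (hab.is_comm.comm (⟨a, ha⟩ : N) ⟨b, hb⟩)
  have hGdec : ∀ g : G, ∃ m : N, ∃ h : MulAction.stabilizer G α, g = (m : G) * h := by
    intro g
    obtain ⟨m, hm⟩ := hbij.2 (g • α)
    refine ⟨m, ⟨(m : G)⁻¹ * g, ?_⟩, by simp⟩
    change ((m : G)⁻¹ * g) • α = α
    rw [mul_smul, inv_smul_eq_iff]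
    exact hm.symm
  -- conjugation in `N` is the action of the stabiliser
  have hact : ∀ (h : MulAction.stabilizer G α) (m : N),
      (h : G) • ((m : G) • α) = ((h : G) * m * (h : G)⁻¹) • α := by
    intro h m
    have hh' : (h : G)⁻¹ • α = α := by rw [inv_smul_eq_iff]; exact h.2.symm
    rw [mul_smul, mul_smul, hh']
  have hinj : ∀ a b : G, a ∈ N → b ∈ N → a • α = b • α → a = b := fun a b ha hb e =>
    congrArg Subtype.val (hbij.1 (a₁ := ⟨a, ha⟩) (a₂ := ⟨b, hb⟩) e)
  have horb : ∀ a b : N, IsConj (a : G) b →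
      ∃ h : MulAction.stabilizer G α, (h : G) • ((a : G) • α) = (b : G) • α := by
    intro a b hab'
    obtain ⟨c, hc⟩ := isConj_iff.mp hab'
    obtain ⟨n, h, rfl⟩ := hGdec c
    refine ⟨h, ?_⟩
    have hb : (b : G) = (h : G) * a * (h : G)⁻¹ := by
      calc (b : G) = (n : G) * h * a * ((n : G) * h)⁻¹ := hc.symm
        _ = n * ((h : G) * a * (h : G)⁻¹) * (n : G)⁻¹ := by group
        _ = _ := by rw [hcommN _ n.2 _ (hN.conj_mem _ a.2 (h : G)), mul_inv_cancel_right]
    rw [hb, hact]
  have hconj_of : ∀ (h : MulAction.stabilizer G α) (m n : N),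
      (h : G) • ((m : G) • α) = (n : G) • α → IsConj (m : G) n := by
    intro h m n e
    rw [hact] at e
    exact isConj_iff.mpr ⟨h, hinj _ _ (hN.conj_mem _ m.2 (h : G)) n.2 e⟩
  -- a derangement outside `N` exists iff some stabiliser element fixes two points
  have hiff : (∀ g : G, (∀ ω : Ω, g • ω ≠ ω) → g ∈ N) ↔
      ∀ h : MulAction.stabilizer G α, (h : G) ≠ 1 → ∀ ω : Ω, (h : G) • ω = ω → ω = α := by
    let f : MulAction.stabilizer G α → N → N := fun h k =>
      ⟨(k : G) * ((h : G) * k * (h : G)⁻¹)⁻¹, N.mul_mem k.2 (N.inv_mem (hN.conj_mem _ k.2 _))⟩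
    have hsol : ∀ (h : MulAction.stabilizer G α) (n k : N),
        ((n : G) * h) • ((k : G) • α) = (k : G) • α ↔ f h k = n := by
      intro h n k
      have hh : (h : G) * k * (h : G)⁻¹ ∈ N := hN.conj_mem _ k.2 (h : G)
      rw [mul_smul, hact, ← mul_smul]
      constructor
      · intro e
        have e' := hinj _ _ (N.mul_mem n.2 hh) k.2 e
        apply Subtype.ext
        change (k : G) * ((h : G) * k * (h : G)⁻¹)⁻¹ = n
        exact mul_inv_eq_of_eq_mul e'.symm
      · intro e
        have e' : (k : G) * ((h : G) * k * (h : G)⁻¹)⁻¹ = n := congrArg Subtype.val e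
        rw [← e', inv_mul_cancel_right]
    have hfix : ∀ (h : MulAction.stabilizer G α) (k : N),
        (h : G) • ((k : G) • α) = (k : G) • α ↔ f h k = 1 := by
      intro h k
      rw [← hsol h 1 k, OneMemClass.coe_one, one_mul]
    constructor
    · intro hall h h1 ω hω
      obtain ⟨m, rfl⟩ := hbij.2 ω
      change (h : G) • ((m : G) • α) = (m : G) • α at hω
      have hone : f h 1 = 1 := (hfix h 1).mp (by simp only [OneMemClass.coe_one, one_smul]; exact h.2)
      have hsurj : Function.Surjective (f h) := by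
        intro n
        by_contra hn
        push Not at hn
        have hd : ∀ ω : Ω, ((n : G) * h) • ω ≠ ω := by
          intro ω hω'
          obtain ⟨k, rfl⟩ := hbij.2 ω
          exact hn k ((hsol h n k).mp hω')
        have hh : (h : G) ∈ N := by
          simpa using N.mul_mem (N.inv_mem n.2) (hall _ hd)
        exact h1 (by simpa using hinj _ _ hh N.one_mem (by rw [one_smul]; exact h.2))
      have := Finite.injective_iff_surjective.mpr hsurj (((hfix h m).mp hω).trans hone.symm)
      simp [this]
    · intro hsemi g hg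
      obtain ⟨n, h, rfl⟩ := hGdec g
      by_cases h1 : (h : G) = 1
      · rw [h1, mul_one]; exact n.2
      exfalso
      have hfi : Function.Injective (f h) := by
        intro a b e
        have e' : (a : G) * ((h : G) * a * (h : G)⁻¹)⁻¹ = b * ((h : G) * b * (h : G)⁻¹)⁻¹ :=
          congrArg Subtype.val e
        have hmem := hN.conj_mem _ (N.mul_mem (N.inv_mem b.2) a.2) (h : G)
        have e'' : (h : G) * ((b : G)⁻¹ * a) * (h : G)⁻¹ = (b : G)⁻¹ * a := by
          have hb' := hN.conj_mem _ b.2 (h : G)
          have ha' := hN.conj_mem _ a.2 (h : G)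
          calc (h : G) * ((b : G)⁻¹ * a) * (h : G)⁻¹
              = ((h : G) * b * (h : G)⁻¹)⁻¹ * ((h : G) * a * (h : G)⁻¹) := by group
            _ = (b : G)⁻¹ * ((b * ((h : G) * b * (h : G)⁻¹)⁻¹) * ((h : G) * a * (h : G)⁻¹)) := by
                group
            _ = _ := by rw [← e', inv_mul_cancel_right]
        have := hsemi h h1 (((b⁻¹ * a : N) : G) • α) (by
          rw [hact]
          exact congrArg (· • α) e'')
        have h2 : ((b⁻¹ * a : N) : G) = 1 :=
          hinj _ _ (b⁻¹ * a).2 N.one_mem (by rw [one_smul]; exact this)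
        exact (inv_mul_eq_one.mp (Subtype.ext h2 : b⁻¹ * a = 1)).symm
      obtain ⟨k, hk⟩ := (Finite.injective_iff_surjective.mp hfi) n
      exact hg ((k : G) • α) ((hsol h n k).mpr hk)
  refine (em (∀ a b : N, (a : G) ≠ 1 → (b : G) ≠ 1 → IsConj (a : G) b)).elim (fun htr => ?_) ?_
  · -- all non-trivial elements of `N` are conjugate
    right
    refine ⟨⟨N, hN, hN1, hab, hNreg⟩, ?_, ?_⟩
    · rw [PermLib.two_pretransitive_iff_stabilizer α]
      intro b c hb hc
      obtain ⟨m, rfl⟩ := hbij.2 b
      obtain ⟨n, rfl⟩ := hbij.2 c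
      have hm : (m : G) ≠ 1 := fun e => hb (by change (m : G) • α = α; rw [e, one_smul])
      have hn : (n : G) ≠ 1 := fun e => hc (by change (n : G) • α = α; rw [e, one_smul])
      obtain ⟨h, hh⟩ := horb m n (htr m n hm hn)
      exact ⟨h, h.2, hh⟩
    · by_contra hno
      push Not at hno
      have hsemi : ∀ h : MulAction.stabilizer G α, (h : G) ≠ 1 →
          ∀ ω : Ω, (h : G) • ω = ω → ω = α := by
        intro h h1 ω hω
        by_contra hne
        have hlt := hno (h : G) h1
        have h2mem : 2 ≤ Nat.card (MulAction.fixedBy Ω (h : G)) := by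
          rw [Nat.card_eq_fintype_card]
          exact Fintype.one_lt_card_iff.mpr
            ⟨⟨α, h.2⟩, ⟨ω, hω⟩, fun e => hne (congrArg Subtype.val e).symm⟩
        omega
      have hall := hiff.mpr hsemi
      have hle : Nat.card {c : ConjClasses G // ∃ g : G, ConjClasses.mk g = c ∧
          ∀ ω : Ω, g • ω ≠ ω} ≤ 1 := by
        rw [Finite.card_le_one_iff_subsingleton]
        refine ⟨fun a b => ?_⟩
        obtain ⟨_, g, rfl, hg⟩ := a
        obtain ⟨_, g', rfl, hg'⟩ := b
        apply Subtype.ext
        apply ConjClasses.mk_eq_mk_iff_isConj.mpr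
        exact htr ⟨g, hall g hg⟩ ⟨g', hall g' hg'⟩
          (fun e => hg α (by rw [show g = 1 from e, one_smul]))
          (fun e => hg' α (by rw [show g' = 1 from e, one_smul]))
      omega
  · -- two classes inside `N`: Frobenius
    intro htr
    left
    push Not at htr
    obtain ⟨a, b, ha, hb, hab'⟩ := htr
    have hall : ∀ g : G, (∀ ω : Ω, g • ω ≠ ω) → g ∈ N := by
      intro g hg
      rcases h3 a b g (hNder a a.2 ha) (hNder b b.2 hb) hg with e | e | e
      · exact absurd e hab'
      · obtain ⟨c, rfl⟩ := isConj_iff.mp e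
        exact hN.conj_mem _ a.2 c
      · obtain ⟨c, rfl⟩ := isConj_iff.mp e
        exact hN.conj_mem _ b.2 c
    have hsemi := hiff.mp hall
    have hfix : ∀ g : G, g ≠ 1 → Nat.card (MulAction.fixedBy Ω g) ≤ 1 := by
      intro g hg
      rw [Finite.card_le_one_iff_subsingleton]
      refine ⟨fun u v => ?_⟩
      obtain ⟨⟨m, hm⟩, hmu⟩ := hbij.2 u.1
      change m • α = u.1 at hmu
      have hh : m⁻¹ * g * m ∈ MulAction.stabilizer G α := by
        change (m⁻¹ * g * m) • α = α
        rw [mul_smul, mul_smul, hmu, inv_smul_eq_iff, hmu]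
        exact u.2
      have h1 : m⁻¹ * g * m ≠ 1 := fun e => hg (by
        calc g = m * (m⁻¹ * g * m) * m⁻¹ := by group
          _ = 1 := by rw [e]; group)
      have hv : (m⁻¹ * g * m) • (m⁻¹ • v.1) = m⁻¹ • v.1 := by
        rw [mul_smul, mul_smul, smul_inv_smul, show g • v.1 = v.1 from v.2]
      have := hsemi ⟨_, hh⟩ h1 _ hv
      apply Subtype.ext
      rw [← hmu]
      exact (inv_smul_eq_iff.mp this).symm
    have hcount : 2 * Nat.card (MulAction.stabilizer G α) = Fintype.card Ω - 1 := by
      let f : Bool × MulAction.stabilizer G α → {ω : Ω // ω ≠ α} := fun bh =>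
        ⟨(bh.2 : G) • ((bif bh.1 then (a : G) else (b : G)) • α), fun e => by
          have e'' := smul_left_cancel _ (e.trans bh.2.2.symm)
          rcases bh with ⟨_ | _, _⟩
          · exact hNder b b.2 hb α e''
          · exact hNder a a.2 ha α e''⟩
      have hf : Function.Bijective f := by
        constructor
        · rintro ⟨i, h⟩ ⟨j, k⟩ e
          have e' : (h : G) • ((bif i then (a : G) else (b : G)) • α) =
              (k : G) • ((bif j then (a : G) else (b : G)) • α) := congrArg Subtype.val e
          have e2 : ((k⁻¹ * h : MulAction.stabilizer G α) : G) •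
              ((bif i then (a : G) else (b : G)) • α) = (bif j then (a : G) else (b : G)) • α := by
            rw [Subgroup.coe_mul, Subgroup.coe_inv, mul_smul, e', inv_smul_smul]
          have hij : i = j := by
            rcases i with _ | _ <;> rcases j with _ | _
            · rfl
            · exact absurd (hconj_of _ b a e2).symm hab'
            · exact absurd (hconj_of _ a b e2) hab'
            · rfl
          subst hij
          have hkh : ((k⁻¹ * h : MulAction.stabilizer G α) : G) = 1 := by
            by_contra hne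
            have h0 := hsemi _ hne _ e2
            rcases i with _ | _
            · exact hNder b b.2 hb α h0
            · exact hNder a a.2 ha α h0
          rw [inv_mul_eq_one.mp (Subtype.ext hkh : k⁻¹ * h = 1)]
        · rintro ⟨ω, hω⟩
          obtain ⟨n, rfl⟩ := hbij.2 ω
          have hn : (n : G) ≠ 1 := fun e => hω (by change (n : G) • α = α; rw [e, one_smul])
          rcases h3 a b n (hNder a a.2 ha) (hNder b b.2 hb) (hNder n n.2 hn) with e | e | e
          · exact absurd e hab'
          · obtain ⟨h, hh⟩ := horb a n e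
            exact ⟨⟨true, h⟩, Subtype.ext hh⟩
          · obtain ⟨h, hh⟩ := horb b n e
            exact ⟨⟨false, h⟩, Subtype.ext hh⟩
      have := Nat.card_eq_of_bijective f hf
      rw [Nat.card_prod, Nat.card_eq_fintype_card (α := Bool), Fintype.card_bool,
        Nat.card_eq_fintype_card (α := {ω : Ω // ω ≠ α})] at this
      rw [this]
      simp [Fintype.card_subtype_compl]
    exact ⟨⟨N, hN, hN1, hab, hNreg⟩, hfix, by omega, hcount⟩

end Cfsg.Agent.S3520
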