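import Cfsg.Statements.S3521
import Cfsg.Agent.ExtremelyPrim.Main
import Mathlib.GroupTheory.GroupAction.Primitive
import Cfsg.Agent.S0205

set_option autoImplicit false
open Cfsg

namespace Cfsg.Agent.S3521

/-- Let a finite group G that is not solvable act faithfully and primitively on a finite set with p ^ d points (p prime), with a non-trivial abelian normal subgroup acting regularly (affine type) and with non-trivial point stabilizers each acting primitively on every one of its orbits (an insoluble extremely primitive group of affine type). Then p = 2; and if moreover G is not 2-transitive, then a point stabilizer is almost simple (it has a non-abelian simple normal subgroup with trivial centralizer). -/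
theorem result {G : Type*} [Group G] [Finite G] {Ω : Type*} [Fintype Ω] [MulAction G Ω] [FaithfulSMul G Ω] (p d : ℕ) (hp : p.Prime) (hcard : Fintype.card Ω = p ^ d) (hsol : ¬ Group.IsSolvable G)
    (N : Subgroup G) [N.Normal] (hN : N ≠ ⊥) (hNc : IsMulCommutative N) (hNreg : ∀ ω : Ω, MulAction.stabilizer N ω = ⊥)
    (hprim : MulAction.IsPreprimitive G Ω) (hH : ∀ α : Ω, MulAction.stabilizer G α ≠ ⊥) (hep : ∀ (α : Ω) (ω : Ω), MulAction.IsPreprimitive (MulAction.stabilizer G α) (MulAction.orbit (MulAction.stabilizer G α) ω)) (α : Ω) :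
    p = 2 ∧ (¬ MulAction.IsMultiplyPretransitive G Ω 2 → ∃ T : Subgroup (MulAction.stabilizer G α), T.Normal ∧ IsSimpleGroup T ∧ ¬ IsMulCommutative T ∧ Subgroup.centralizer (T : Set (MulAction.stabilizer G α)) = ⊥) := by
  letI : CommGroup N := { (inferInstance : Group N) with mul_comm := hNc.is_comm.comm }
  set H := MulAction.stabilizer G α with hHdef
  letI act : MulDistribMulAction H N :=
    MulDistribMulAction.compHom N ((MulAut.conjNormal (H := N)).comp H.subtype)
  have hsmul : ∀ (h : H) (n : N), ((h • n : N) : G) = h * n * (h : G)⁻¹ := fun h n => rfl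
  haveI := hprim
  -- `N` is regular
  have hfix : MulAction.fixedPoints N Ω ≠ Set.univ := fun h => by
    obtain ⟨n, hn, hn1⟩ := (Subgroup.bot_or_exists_ne_one N).resolve_left hN
    exact hn1 (eq_of_smul_eq_smul fun ω : Ω => by
      have : ω ∈ MulAction.fixedPoints N Ω := h ▸ Set.mem_univ ω
      rw [one_smul]; exact this ⟨n, hn⟩)
  haveI htr : MulAction.IsPretransitive N Ω :=
    MulAction.IsQuasiPreprimitive.isPretransitive_of_normal hfix
  have hinj : ∀ a b : N, a • α = b • α → a = b := fun a b e => by
    have h1 : b⁻¹ * a ∈ MulAction.stabilizer N α :=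
      show (b⁻¹ * a) • α = α by rw [mul_smul, e, inv_smul_smul]
    rw [hNreg, Subgroup.mem_bot] at h1
    exact (inv_mul_eq_one.1 h1).symm
  have hbij : Function.Bijective fun n : N => n • α :=
    ⟨fun a b => hinj a b, fun ω => MulAction.exists_smul_eq N α ω⟩
  have hcardN : Nat.card N = p ^ d := by
    rw [Nat.card_eq_of_bijective _ hbij, Nat.card_eq_fintype_card, hcard]
  have hconj : ∀ (h : H) (n : N), (h • n) • α = (h : G) • (n • α) := fun h n => by
    show ((h • n : N) : G) • α = (h : G) • (n : G) • α
    rw [hsmul, mul_smul, mul_smul, inv_smul_eq_iff.2 h.2.symm]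
  haveI : Nontrivial N := N.bot_or_nontrivial.resolve_left hN
  have hirr : ∀ W : Subgroup N, (∀ (h : H), ∀ w ∈ W, h • w ∈ W) → W = ⊥ ∨ W = ⊤ := by
    intro W hW
    refine or_iff_not_imp_left.2 fun hW1 => ?_
    have hkey : ∀ g : G, ∀ w ∈ W.map N.subtype, g * w * g⁻¹ ∈ W.map N.subtype := by
      rintro g _ ⟨w, hw, rfl⟩
      obtain ⟨n, hn⟩ := MulAction.exists_smul_eq N α (g • α)
      have hmem : (n : G)⁻¹ * g ∈ H := by
        show ((n : G)⁻¹ * g) • α = α
        rw [mul_smul, ← hn]
        exact inv_smul_smul (n : G) α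
      refine ⟨(⟨_, hmem⟩ : H) • w, hW _ w hw, ?_⟩
      have hc := hNc.is_comm.comm n ((⟨_, hmem⟩ : H) • w)
      have hc' := congrArg (Subtype.val : N → G) hc
      rw [Subgroup.coe_mul, Subgroup.coe_mul, hsmul] at hc'
      rw [Subgroup.coe_subtype, hsmul]
      have e : (n : G) * (((n : G)⁻¹ * g) * w * ((n : G)⁻¹ * g)⁻¹) =
          (g * w * g⁻¹) * n := by group
      exact (mul_right_cancel (e.symm.trans hc')).symm
    haveI : (W.map N.subtype).Normal := ⟨fun w hw g => hkey g w hw⟩
    have hfixW : MulAction.fixedPoints (W.map N.subtype) Ω ≠ Set.univ := fun h => hW1 <| by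
      refine (Subgroup.eq_bot_iff_forall W).2 fun w hw => hinj w 1 ?_
      have h' : α ∈ MulAction.fixedPoints (W.map N.subtype) Ω := h ▸ Set.mem_univ α
      rw [one_smul]
      exact h' ⟨(w : G), ⟨w, hw, rfl⟩⟩
    haveI : MulAction.IsPretransitive (W.map N.subtype) Ω :=
      MulAction.IsQuasiPreprimitive.isPretransitive_of_normal hfixW
    refine (Subgroup.eq_top_iff' W).2 fun n => ?_
    obtain ⟨⟨_, w, hw, rfl⟩, hw'⟩ := MulAction.exists_smul_eq (W.map N.subtype) α (n • α)
    exact hinj w n hw' ▸ hw
  have hfaith : ∀ h : H, (∀ n : N, h • n = n) → h = 1 := fun h hh =>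
    Subtype.ext (eq_of_smul_eq_smul fun ω : Ω => by
      obtain ⟨n, rfl⟩ := MulAction.exists_smul_eq N α ω
      rw [← hconj, hh, OneMemClass.coe_one, one_smul])
  have hmax : ∀ n : N, n ≠ 1 → IsCoatom (MulAction.stabilizer H n) := by
    intro n hn
    have hst : MulAction.stabilizer H n = MulAction.stabilizer H (n • α) := by
      ext h
      exact ⟨fun e => show (h : G) • (n • α) = n • α by rw [← hconj, show h • n = n from e],
        fun e => show h • n = n from hinj _ _ ((hconj h n).trans e)⟩
    haveI := hep α (n • α)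
    haveI : Nontrivial (MulAction.orbit H (n • α)) := by
      rw [← not_subsingleton_iff_nontrivial]
      intro hs
      have hall : ∀ h : H, h • n = n := fun h => hinj _ _ ((hconj h n).trans
        (congrArg Subtype.val (@Subsingleton.elim _ hs
          ⟨h • (n • α), MulAction.mem_orbit _ h⟩ ⟨n • α, MulAction.mem_orbit_self _⟩)))
      let F : Subgroup N :=
        { carrier := {w | ∀ h : H, h • w = w}
          one_mem' := fun h => smul_one h
          mul_mem' := fun {a b} ha hb h => by rw [smul_mul', ha h, hb h]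
          inv_mem' := fun {a} ha h => by rw [smul_inv', ha h] }
      rcases hirr F (fun h w hw => by rw [hw h]; exact hw) with hF | hF
      · exact hn (Subgroup.mem_bot.1 (hF ▸ (hall : n ∈ F)))
      · exact hH α ((Subgroup.eq_bot_iff_forall _).2 fun h hh => congrArg Subtype.val
          (hfaith ⟨h, hh⟩ fun w => (hF ▸ Subgroup.mem_top w : w ∈ F) ⟨h, hh⟩))
    have hco := MulAction.IsPreprimitive.isCoatom_stabilizer_of_isPreprimitive (G := H)
      (⟨n • α, MulAction.mem_orbit_self _⟩ : MulAction.orbit H (n • α))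
    convert hco using 1
    rw [hst]
    ext h
    simp [MulAction.mem_stabilizer_iff, Subtype.ext_iff]
  have hS : Cfsg.Agent.ExtremelyPrim.Setting H N := ⟨hfaith, hirr, hmax⟩
  have hsolH : ¬ Group.IsSolvable H := fun h => hsol <| by
    haveI := h
    haveI : Group.IsSolvable N := Group.isSolvable_of_comm hNc.is_comm.comm
    haveI : Group.IsSolvable (G ⧸ N) :=
      Group.isSolvable_of_surjective (f := (QuotientGroup.mk' N).comp H.subtype) fun x => by
        obtain ⟨g, rfl⟩ := QuotientGroup.mk_surjective x
        obtain ⟨n, hn⟩ := MulAction.exists_smul_eq N (g • α) α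
        refine ⟨⟨(n : G) * g, show ((n : G) * g) • α = α by rw [mul_smul]; exact hn⟩, ?_⟩
        show ((((n : G) * g : G)) : G ⧸ N) = ((g : G) : G ⧸ N)
        rw [QuotientGroup.mk_mul, (QuotientGroup.eq_one_iff _).2 n.2, one_mul]
    exact Group.isSolvable_of_ker_le_range N.subtype (QuotientGroup.mk' N) (by simp)
  have hFT : ∀ K : Subgroup H, Odd (Nat.card K) → Group.IsSolvable K :=
    fun K hK => Cfsg.Agent.S0205.result hK
  have hexp : ∀ v : N, v ^ p = 1 := by
    let P : Subgroup N :=
      { carrier := {w | w ^ p = 1}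
        one_mem' := one_pow p
        mul_mem' := fun {a b} (ha : a ^ p = 1) (hb : b ^ p = 1) => by
          show (a * b) ^ p = 1
          rw [mul_pow, ha, hb, one_mul]
        inv_mem' := fun {a} (ha : a ^ p = 1) => by
          show a⁻¹ ^ p = 1
          rw [inv_pow, ha, inv_one] }
    have hd : d ≠ 0 := fun e => by
      have := Finite.one_lt_card (α := N)
      rw [hcardN, e, pow_zero] at this
      exact lt_irrefl _ this
    haveI := Fact.mk hp
    obtain ⟨a, ha⟩ := exists_prime_orderOf_dvd_card' (G := N) p (hcardN ▸ dvd_pow_self p hd)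
    rcases hirr P (fun h w (hw : w ^ p = 1) => show (h • w) ^ p = 1 by
      rw [← smul_pow', hw, smul_one]) with h | h
    · have ha' : a ∈ P := show a ^ p = 1 by rw [← ha, pow_orderOf_eq_one]
      rw [h, Subgroup.mem_bot] at ha'
      rw [ha', orderOf_one] at ha
      exact absurd ha.symm hp.ne_one
    · exact fun v => (h ▸ Subgroup.mem_top v : v ∈ P)
  have hp2 : p = 2 := hS.two_of_insoluble hsolH
    (fun h => Cfsg.Agent.S0205.result h) hp hexp
  exact ⟨hp2, fun _ => hS.almost_simple (fun v => by rw [← pow_two, ← hp2, hexp]) hsolH hFT⟩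

end Cfsg.Agent.S3521
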