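import Cfsg.Statements.S3554
-- import your own Cfsg.Agent.* helpers here

set_option autoImplicit false
open Cfsg

set_option linter.style.haveILetI false

namespace Cfsg.Agent.S3554

/-- Let G act faithfully and transitively on a finite set and suppose G has a non-trivial cyclic normal subgroup. Then some element of G of prime order fixes no point. -/
theorem result {G Ω : Type*} [Group G] [Finite G] [MulAction G Ω] [FaithfulSMul G Ω] [Finite Ω]
    (htrans : MulAction.IsPretransitive G Ω) (C : Subgroup G) (hC : C.Normal) (hC1 : C ≠ ⊥) (hcyc : IsCyclic ↥C) :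
    ∃ g : G, (orderOf g).Prime ∧ ∀ ω : Ω, g • ω ≠ ω := by
  classical
  haveI : Nontrivial C := (Subgroup.nontrivial_iff_ne_bot C).mpr hC1
  obtain ⟨p, hp, hpd⟩ := Nat.exists_prime_and_dvd (Finite.one_lt_card (α := C)).ne'
  haveI := Fact.mk hp
  obtain ⟨z, hz⟩ := exists_prime_orderOf_dvd_card' p hpd
  refine ⟨(z : G), by rwa [Subgroup.orderOf_coe, hz], fun ω hω => ?_⟩
  haveI := Fintype.ofFinite C
  -- every conjugate of `z` is a power of `z`
  have hpow : ∀ y : C, y ^ p = 1 → y ∈ Subgroup.zpowers z := by
    intro y hy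
    have hsub : ((Subgroup.zpowers z : Subgroup C) : Set C).toFinset ⊆
        Finset.univ.filter fun a : C => a ^ p = 1 := by
      intro a ha
      rw [Set.mem_toFinset, SetLike.mem_coe] at ha
      obtain ⟨i, rfl⟩ := Subgroup.mem_zpowers_iff.mp ha
      simp only [Finset.mem_filter, Finset.mem_univ, true_and]
      rw [← zpow_natCast, zpow_comm, zpow_natCast, ← hz, pow_orderOf_eq_one, one_zpow]
    have hcard : (Finset.univ.filter fun a : C => a ^ p = 1).card ≤
        ((Subgroup.zpowers z : Subgroup C) : Set C).toFinset.card := by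
      rw [Set.toFinset_card, ← Nat.card_eq_fintype_card]
      change _ ≤ Nat.card (Subgroup.zpowers z)
      rw [Nat.card_zpowers, hz]
      exact IsCyclic.card_pow_eq_one_le hp.pos
    have : y ∈ Finset.univ.filter fun a : C => a ^ p = 1 := by simp [hy]
    rw [← Finset.eq_of_subset_of_card_le hsub hcard, Set.mem_toFinset, SetLike.mem_coe] at this
    exact this
  have hall : ∀ a : Ω, (z : G) • a = a := by
    intro a
    obtain ⟨g, rfl⟩ := MulAction.exists_smul_eq G ω a
    have hy : g⁻¹ * (z : G) * g ∈ C := by simpa using hC.conj_mem (z : G) z.2 g⁻¹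
    have hy' : (⟨_, hy⟩ : C) ^ p = 1 := by
      apply Subtype.ext
      have hz' : (z : G) ^ p = 1 := by
        rw [← hz, ← Subgroup.orderOf_coe, pow_orderOf_eq_one]
      change (g⁻¹ * (z : G) * g) ^ p = 1
      have e := conj_pow (a := g⁻¹) (b := (z : G)) (i := p)
      rw [inv_inv] at e
      rw [e, hz']
      group
    obtain ⟨i, hi⟩ := Subgroup.mem_zpowers_iff.mp (hpow _ hy')
    have hi' : (z : G) ^ i = g⁻¹ * (z : G) * g := by
      have := congrArg Subtype.val hi
      simpa using this
    have hfix : (g⁻¹ * (z : G) * g) • ω = ω :=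
      hi' ▸ (MulAction.stabilizer G ω).zpow_mem (hω : (z : G) • ω = ω) i
    rwa [mul_smul, mul_smul, inv_smul_eq_iff] at hfix
  have : (z : G) = 1 := eq_of_smul_eq_smul fun a => by rw [hall a, one_smul]
  rw [OneMemClass.coe_eq_one] at this
  rw [this, orderOf_one] at hz
  exact hp.ne_one hz.symm

end Cfsg.Agent.S3554
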