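import Cfsg.Statements.S3555
import Cfsg.Agent.Lib.FrobeniusGroup

set_option autoImplicit false
open Cfsg

namespace Cfsg.Agent.S3555

open Finset in
/-- Frame's count: if all derangements are involutions, every other element fixes one point or all. -/
theorem fix_one_or_all {G Ω : Type*} [Group G] [Fintype G] [MulAction G Ω] [Fintype Ω] [DecidableEq Ω]
    [MulAction.IsPretransitive G Ω] [Nonempty Ω] (hinv : ∀ g : G, (∀ ω : Ω, g • ω ≠ ω) → g * g = 1)
    (g : G) (hg : ∃ ω : Ω, g • ω = ω) :
    #(univ.filter fun ω : Ω => g • ω = ω) = 1 ∨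
      #(univ.filter fun ω : Ω => g • ω = ω) = Fintype.card Ω := by
  classical
  set n := Fintype.card Ω
  let π : G → ℕ := fun g => #(univ.filter fun ω : Ω => g • ω = ω)
  have hsum : ∑ g, π g = Fintype.card G := by
    have h := MulAction.sum_card_fixedBy_eq_card_orbits_mul_card_group G Ω
    have h1 : Fintype.card (Quotient (MulAction.orbitRel G Ω)) = 1 := by
      rw [Fintype.card_eq_one_iff]
      obtain ⟨a⟩ := ‹Nonempty Ω›
      refine ⟨Quotient.mk _ a, fun y => ?_⟩
      induction y using Quotient.inductionOn with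
      | h b => exact Quotient.sound (MulAction.exists_smul_eq G a b)
    rw [h1, one_mul] at h
    rw [← h]
    refine sum_congr rfl fun g _ => ?_
    simp only [π]
    rw [← Fintype.card_subtype]
    exact Fintype.card_congr (Equiv.refl _)
  have hsq : ∑ g, π (g * g) ≤ ∑ g, π g * π g := by
    have e1 : ∀ g : G, π (g * g) =
        #(univ.filter fun p : Ω × Ω => g • p.1 = p.2 ∧ g • p.2 = p.1) := by
      intro g
      refine card_bij (fun a _ => (a, g • a)) ?_ ?_ ?_
      · intro a ha
        simp only [mem_filter, mem_univ, true_and] at ha ⊢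
        rwa [← mul_smul]
      · intro a _ b _ h
        exact congrArg Prod.fst h
      · intro p hp
        simp only [mem_filter, mem_univ, true_and] at hp
        refine ⟨p.1, ?_, ?_⟩
        · simp only [mem_filter, mem_univ, true_and, mul_smul, hp.1, hp.2]
        · rw [hp.1]
    have e2 : ∀ g : G, π g * π g =
        #(univ.filter fun p : Ω × Ω => g • p.1 = p.1 ∧ g • p.2 = p.2) := by
      intro g
      rw [← univ_product_univ,
        filter_product (fun a : Ω => g • a = a) (fun a : Ω => g • a = a), card_product]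
    simp only [e1, e2, card_filter]
    rw [sum_comm]
    conv_rhs => rw [sum_comm]
    refine sum_le_sum fun p _ => ?_
    rw [← card_filter, ← card_filter]
    by_cases hne : ∃ g₀ : G, g₀ • p.1 = p.2 ∧ g₀ • p.2 = p.1
    · obtain ⟨g₀, h1, h2⟩ := hne
      refine card_le_card_of_injOn (fun g => g₀⁻¹ * g) ?_ ?_
      · intro g hg
        simp only [coe_filter, mem_univ, true_and, Set.mem_setOf_eq] at hg ⊢
        constructor
        · rw [mul_smul, hg.1, inv_smul_eq_iff, h1]
        · rw [mul_smul, hg.2, inv_smul_eq_iff, h2]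
      · intro a _ b _ h
        exact mul_left_cancel h
    · rw [filter_eq_empty_iff.2 fun g _ h => hne ⟨g, h⟩, card_empty]
      exact Nat.zero_le _
  have hle_n : ∀ g, π g ≤ n := fun g => card_le_univ _
  have hzero : ∀ g, π g = 0 ↔ ∀ ω : Ω, g • ω ≠ ω := fun g => by
    simp only [π, card_eq_zero, filter_eq_empty_iff, mem_univ, true_imp_iff, ne_eq]
  let f : G → ℕ := fun g => π g * π g + if π g = 0 then 0 else n
  let h : G → ℕ := fun g => (n + 1) * π g
  have hfh : ∀ g, f g ≤ h g := by
    intro g
    simp only [f, h]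
    split_ifs with h0
    · simp [h0]
    · obtain ⟨a, ha⟩ := Nat.exists_eq_add_of_le (Nat.one_le_iff_ne_zero.2 h0)
      obtain ⟨b, hb⟩ := Nat.exists_eq_add_of_le (hle_n g)
      rw [hb, ha]
      ring_nf
      nlinarith
  have hlow : ∀ g, π g + n ≤ π (g * g) + (if π g = 0 then 0 else n) := by
    intro g
    split_ifs with h0
    · rw [h0, hinv g ((hzero g).1 h0)]
      simp [π, n]
    · refine Nat.add_le_add_right (card_le_card fun ω hω => ?_) n
      simp only [mem_filter, mem_univ, true_and] at hω ⊢
      rw [mul_smul, hω, hω]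
  have key : ∑ g, f g = ∑ g, h g := by
    refine le_antisymm (sum_le_sum fun g _ => hfh g) ?_
    calc ∑ g, h g = ∑ g, (π g + n) := by
            rw [← mul_sum, sum_add_distrib, hsum, sum_const, card_univ, smul_eq_mul]
            ring
      _ ≤ ∑ g, (π (g * g) + if π g = 0 then 0 else n) := sum_le_sum fun g _ => hlow g
      _ ≤ ∑ g, f g := by
            rw [sum_add_distrib, sum_add_distrib]
            exact Nat.add_le_add_right hsq _
  have heq := (sum_eq_sum_iff_of_le fun g _ => hfh g).1 key g (mem_univ g)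
  have h0 : π g ≠ 0 := fun h0 => by
    obtain ⟨ω, hω⟩ := hg
    exact (hzero g).1 h0 ω hω
  simp only [f, h, h0, if_false] at heq
  change π g = 1 ∨ π g = n
  obtain ⟨a, ha⟩ := Nat.exists_eq_add_of_le (Nat.one_le_iff_ne_zero.2 h0)
  obtain ⟨b, hb⟩ := Nat.exists_eq_add_of_le (hle_n g)
  rw [hb, ha] at heq
  have hab : a * b = 0 := by
    ring_nf at heq ⊢
    omega
  rcases mul_eq_zero.1 hab with ha0 | hb0
  · left; omega
  · right; omega

/-- Let G act faithfully and transitively on a finite set and suppose every element of G fixing no point is an involution. Then either G is an elementary abelian 2-group, or G is a Frobenius group whose Frobenius kernel is an elementary abelian 2-group: G has a Frobenius complement H, and the elements lying in no conjugate of H, together with the identity, pairwise commute and square to the identity. -/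
theorem result {G Ω : Type*} [Group G] [Finite G] [MulAction G Ω] [FaithfulSMul G Ω] [Finite Ω]
    (htrans : MulAction.IsPretransitive G Ω) (hinv : ∀ g : G, (∀ ω : Ω, g • ω ≠ ω) → orderOf g = 2) :
    (IsMulCommutative G ∧ ∀ g : G, g ^ 2 = 1) ∨
    (∃ H : Subgroup G, Cfsg.IsFrobeniusComplement H ∧
      (∀ x ∈ Cfsg.frobeniusKernel H, x ^ 2 = 1) ∧
      ∀ x ∈ Cfsg.frobeniusKernel H, ∀ y ∈ Cfsg.frobeniusKernel H, x * y = y * x) := by
  classical
  haveI := htrans
  letI := Fintype.ofFinite G
  letI := Fintype.ofFinite Ω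
  have hsq : ∀ g : G, (∀ ω : Ω, g • ω ≠ ω) → g * g = 1 := fun g hg => by
    have := pow_orderOf_eq_one g
    rwa [hinv g hg, pow_two] at this
  have hcomm : ∀ (_ : ∀ g : G, g ^ 2 = 1), IsMulCommutative G := fun hexp =>
    ⟨⟨fun a b => by
      have h1 : ∀ c : G, c⁻¹ = c := fun c =>
        inv_eq_of_mul_eq_one_right (by rw [← pow_two]; exact hexp c)
      rw [← h1 (a * b), mul_inv_rev, h1, h1]⟩⟩
  rcases isEmpty_or_nonempty Ω with hE | hN
  · have hexp : ∀ g : G, g ^ 2 = 1 := fun g =>
      FaithfulSMul.eq_of_smul_eq_smul (α := Ω) fun ω => (hE.false ω).elim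
    exact Or.inl ⟨hcomm hexp, hexp⟩
  obtain ⟨α⟩ := id hN
  set H := MulAction.stabilizer G α with hH
  have hall : ∀ x : G, (∀ ω : Ω, x • ω = ω) → x = 1 := fun x hx =>
    FaithfulSMul.eq_of_smul_eq_smul (α := Ω) fun ω => by rw [hx ω, one_smul]
  have hfix : ∀ (x : G) (ω : Ω), x • ω = ω → ∃ k : G, k⁻¹ * x * k ∈ H := by
    intro x ω hx
    obtain ⟨k, hk⟩ := MulAction.exists_smul_eq G α ω
    refine ⟨k, ?_⟩
    rw [hH, MulAction.mem_stabilizer_iff, mul_smul, mul_smul, hk, hx, ← hk, inv_smul_smul]
  by_cases hbot : H = ⊥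
  · have hexp : ∀ g : G, g ^ 2 = 1 := by
      intro g
      by_cases hd : ∀ ω : Ω, g • ω ≠ ω
      · rw [pow_two]; exact hsq g hd
      · push Not at hd
        obtain ⟨ω, hω⟩ := hd
        obtain ⟨k, hk⟩ := hfix g ω hω
        rw [hbot, Subgroup.mem_bot] at hk
        have h1 : g = 1 := by
          calc g = k * (k⁻¹ * g * k) * k⁻¹ := by group
            _ = 1 := by rw [hk]; group
        simp [h1]
    exact Or.inl ⟨hcomm hexp, hexp⟩
  right
  have hfc : Cfsg.IsFrobeniusComplement H := by
    refine ⟨hbot, fun htop => hbot ?_, ?_⟩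
    · rw [eq_bot_iff]
      intro x _
      rw [Subgroup.mem_bot]
      refine hall x fun ω => ?_
      obtain ⟨k, hk⟩ := MulAction.exists_smul_eq G α ω
      have hmem : ∀ y : G, y • α = α := fun y => by
        have hy : y ∈ H := by rw [htop]; exact Subgroup.mem_top y
        exact hy
      rw [← hk, hmem k, hmem x]
    · intro g hg
      rw [eq_bot_iff]
      intro x hx
      obtain ⟨hxH, hxg⟩ := Subgroup.mem_inf.1 hx
      rw [Subgroup.mem_pointwise_smul_iff_inv_smul_mem] at hxg
      have h1 : x • α = α := hxH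
      have h2 : x • g • α = g • α := by
        have h3 : (g⁻¹ * x * g) • α = α := by
          simpa [MulAut.smul_def, MulAut.conj_inv_apply, MulAction.mem_stabilizer_iff, hH] using hxg
        rwa [mul_smul, mul_smul, inv_smul_eq_iff] at h3
      rw [Subgroup.mem_bot]
      rcases fix_one_or_all hsq x ⟨α, h1⟩ with h | h
      · exfalso
        apply hg
        exact (Finset.card_le_one.1 h.le α (by simp [h1]) (g • α) (by simp [h2])).symm
      · refine hall x fun ω => ?_
        have hm : ω ∈ Finset.univ.filter (fun ω : Ω => x • ω = ω) := by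
          rw [Finset.eq_univ_of_card _ h]; exact Finset.mem_univ _
        exact (Finset.mem_filter.1 hm).2
  refine ⟨H, hfc, ?_⟩
  have hsq' : ∀ x ∈ Cfsg.frobeniusKernel H, x ^ 2 = 1 := by
    intro x hx
    rcases hx with rfl | hx
    · simp
    · rw [pow_two]
      refine hsq x fun ω hω => ?_
      obtain ⟨k, hk⟩ := hfix x ω hω
      refine hx k ?_
      rw [Subgroup.mem_pointwise_smul_iff_inv_smul_mem]
      simpa [MulAut.smul_def, MulAut.conj_inv_apply] using hk
  refine ⟨hsq', ?_⟩
  obtain ⟨N, hN, -, -⟩ := Cfsg.Agent.Frobenius.exists_kernel hfc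
  intro x hx y hy
  have hxy : x * y ∈ Cfsg.frobeniusKernel H := by
    rw [← hN] at hx hy ⊢
    exact mul_mem hx hy
  have h1 : ∀ c ∈ Cfsg.frobeniusKernel H, c⁻¹ = c := fun c hc =>
    inv_eq_of_mul_eq_one_right (by rw [← pow_two]; exact hsq' c hc)
  rw [← h1 (x * y) hxy, mul_inv_rev, h1 x hx, h1 y hy]

end Cfsg.Agent.S3555
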