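import Cfsg.Statements.S3556
import Cfsg.Agent.PrimStruct.Basic
-- import your own Cfsg.Agent.* helpers here

set_option autoImplicit false
open Cfsg

set_option linter.style.haveILetI false

namespace Cfsg.Agent.S3556

/-- Let G act faithfully and primitively on a finite set with at least two points, and suppose that for some fixed prime p every element of G fixing no point has order a power of p. Then G is of affine type (it has a regular normal subgroup that is an elementary abelian r-group for some prime r) or almost simple (it has a non-abelian simple normal subgroup with trivial centralizer). -/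
theorem result {G Ω : Type*} [Group G] [Finite G] [MulAction G Ω] [FaithfulSMul G Ω] [Finite Ω]
    (hprim : MulAction.IsPreprimitive G Ω) (hΩ : 2 ≤ Nat.card Ω) (p : ℕ) (hp : p.Prime)
    (hder : ∀ g : G, (∀ ω : Ω, g • ω ≠ ω) → ∃ k : ℕ, orderOf g = p ^ k) :
    (∃ (N : Subgroup G) (r : ℕ), r.Prime ∧ N.Normal ∧ Cfsg.IsElementaryAbelian r N ∧
      MulAction.IsPretransitive N Ω ∧ ∀ a : Ω, MulAction.stabilizer N a = ⊥) ∨
    (∃ T : Subgroup G, T.Normal ∧ IsSimpleGroup ↥T ∧ ¬ IsMulCommutative ↥T ∧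
      Subgroup.centralizer (T : Set G) = ⊥) := by
  classical
  haveI := hprim
  haveI : Nontrivial Ω := Finite.one_lt_card_iff_nontrivial.mp hΩ
  haveI := Fact.mk hp
  rcases PrimStruct.trichotomy (G := G) (Ω := Ω) with ⟨N, r, h1, h2, -, h3, h4, h5⟩ | h | ⟨T, S, h⟩
  · exact Or.inl ⟨N, r, h1, h2, h3, h4, h5⟩
  · exact Or.inr h
  exfalso
  rcases h with ⟨hTs, hTna, -, -, -, -, hsr⟩ |
    ⟨-, -, hSs, hSna, hdis, hcomm, x, hxT, x', -, y, -, hx, -, hxb, -⟩
  · haveI := hTs
    obtain ⟨q, hq, hqp, hqd⟩ := PrimStruct.exists_prime_ne_dvd hTna hp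
    haveI := Fact.mk hq
    obtain ⟨t, ht⟩ := exists_prime_orderOf_dvd_card' q hqd
    have ht1 : t ≠ 1 := by
      intro h
      rw [h, orderOf_one] at ht
      exact hq.ne_one ht.symm
    obtain ⟨k, hk⟩ := hder t (fun ω hω => ht1 (Subtype.ext (hsr t t.2 ω hω)))
    rw [Subgroup.orderOf_coe, ht] at hk
    exact hqp ((Nat.prime_dvd_prime_iff_eq hq hp).mp (hq.dvd_of_dvd_pow (dvd_of_eq hk)))
  · haveI := hSs
    obtain ⟨q, hq, hqp, hqd⟩ := PrimStruct.exists_prime_ne_dvd hSna hp
    haveI := Fact.mk hq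
    obtain ⟨b, hb⟩ := exists_prime_orderOf_dvd_card' q hqd
    obtain ⟨k, hk⟩ := hder (x * b) (fun ω => hxb ω b b.2)
    have hpow : (x * (b : G)) ^ p ^ k = 1 := by rw [← hk, pow_orderOf_eq_one]
    rw [Commute.mul_pow (hcomm x hxT b b.2)] at hpow
    have hmem : (b : G) ^ p ^ k ∈ T ⊓ S := by
      refine ⟨?_, S.pow_mem b.2 _⟩
      have : (b : G) ^ p ^ k = (x ^ p ^ k)⁻¹ := eq_inv_of_mul_eq_one_right hpow
      rw [this]
      exact T.inv_mem (T.pow_mem hxT _)
    rw [hdis, Subgroup.mem_bot] at hmem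
    have hdvd := orderOf_dvd_of_pow_eq_one hmem
    rw [Subgroup.orderOf_coe, hb] at hdvd
    exact hqp ((Nat.prime_dvd_prime_iff_eq hq hp).mp (hq.dvd_of_dvd_pow hdvd))

end Cfsg.Agent.S3556
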