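import Cfsg.Statements.S3557
import Cfsg.Agent.PrimStruct.Elusive
-- import your own Cfsg.Agent.* helpers here

set_option autoImplicit false
open Cfsg

set_option linter.style.haveILetI false

namespace Cfsg.Agent.S3557

/-- Let G act faithfully and transitively on a finite set with 2p² points, p a prime, and suppose G is 2-closed: every permutation of the set which, on each ordered pair of points, agrees with some element of G, is itself induced by an element of G. Then some element of G of prime order fixes no point. -/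
theorem result {G Ω : Type*} [Group G] [Finite G] [MulAction G Ω] [FaithfulSMul G Ω] [Finite Ω]
    (htrans : MulAction.IsPretransitive G Ω) (p : ℕ) (hp : p.Prime) (hcard : Nat.card Ω = 2 * p ^ 2)
    (hcl : ∀ σ : Equiv.Perm Ω, (∀ a b : Ω, ∃ g : G, σ a = g • a ∧ σ b = g • b) → ∃ g : G, ∀ a : Ω, σ a = g • a) :
    ∃ g : G, (orderOf g).Prime ∧ ∀ ω : Ω, g • ω ≠ ω := by
  haveI := Fact.mk hp
  obtain ⟨σ, h1, h2, h3⟩ := PrimStruct.exists_agree_fpf (G := G) (Ω := Ω) hcard
  obtain ⟨g, hg⟩ := hcl σ h3
  refine ⟨g, ?_, fun ω e => h2 ω (by rw [hg, e])⟩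
  have hgp : MulAction.toPermHom G Ω g = σ := Equiv.ext fun a => (hg a).symm
  have h4 : g ^ p = 1 := MulAction.toPerm_injective (show MulAction.toPermHom G Ω (g ^ p) = MulAction.toPermHom G Ω 1 by
    rw [map_pow, hgp, h1, map_one])
  have h5 : g ≠ 1 := by
    rintro rfl
    obtain ⟨a⟩ : Nonempty Ω := (Nat.card_pos_iff.mp (by rw [hcard]; have := hp.pos; positivity)).1
    exact h2 a (by rw [hg, one_smul])
  rw [orderOf_eq_prime h4 h5]
  exact hp

end Cfsg.Agent.S3557
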