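import Cfsg.Statements.S3716
import Cfsg.Agent.S3333

set_option autoImplicit false
open Cfsg Cfsg.Agent

namespace Cfsg.Agent.S3716

/-- Let G be a finite group with an elementary abelian Sylow 3-subgroup M of order 9 which is self-centralizing (C_G(M) = M), let N = N_G(M), and suppose C_G(g) ≤ N for every nonidentity g ∈ M. If the Sylow 2-subgroups of N are dihedral of order 8, then G is not simple. -/
theorem result {G : Type*} [Group G] [Finite G] (M : Sylow 3 G) (hM9 : Nat.card ↥(M : Subgroup G) = 9)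
    (hMel : ∀ m ∈ (M : Subgroup G), m ^ 3 = 1)
    (hCM : Subgroup.centralizer ((M : Subgroup G) : Set G) = (M : Subgroup G))
    (N : Subgroup G) (hN : N = Subgroup.normalizer ((M : Subgroup G) : Set G))
    (hCg : ∀ g ∈ (M : Subgroup G), g ≠ 1 → Subgroup.centralizer ({g} : Set G) ≤ N)
    (hS : ∀ S : Sylow 2 ↥N, Nonempty (↥(S : Subgroup ↥N) ≃* DihedralGroup 4)) :
    ¬ IsSimpleGroup G := by
  classical
  intro hs
  haveI : Fact (Nat.Prime 3) := ⟨Nat.prime_three⟩
  subst hN
  set S : Subgroup G := (M : Subgroup G) with hSdef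
  set N : Subgroup G := Subgroup.normalizer (S : Set G) with hNdef
  haveI hMN : (S.subgroupOf N).Normal :=
    Subgroup.normal_subgroupOf_of_le_normalizer le_rfl
  have hSN : S ≤ N := Subgroup.le_normalizer
  have hcardM : Nat.card (S.subgroupOf N) = 9 :=
    (Nat.card_congr (Subgroup.subgroupOfEquivOfLe hSN).toEquiv).trans hM9
  have hidx : ∀ q : ℕ, q.Prime → q ∣ (S.subgroupOf N).index → q = 2 := by
    intro q hq hd
    haveI := Fact.mk hq
    have hq3 : q ≠ 3 := by
      rintro rfl
      exact M.not_dvd_index (hd.trans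
        ⟨N.index, (Subgroup.relIndex_mul_index hSN).symm⟩)
    let Q : Sylow q N := default
    obtain ⟨k, hk⟩ := Q.2.exists_card_eq
    by_contra hq2
    have hQne : (Q : Subgroup N) ≠ ⊥ := fun e => by
      have h1 := Q.dvd_card_of_dvd_card (hd.trans (Subgroup.index_dvd_card _))
      rw [e, Subgroup.card_bot] at h1
      exact hq.not_dvd_one h1
    obtain ⟨⟨g, hgQ⟩, hg1'⟩ := Subgroup.ne_bot_iff_exists_ne_one.1 hQne
    have hg1 : g ≠ 1 := fun e => hg1' (Subtype.ext e)
    have hgp : IsPGroup q (Subgroup.zpowers g) := Q.2.to_le (Subgroup.zpowers_le.2 hgQ)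
    letI : MulAction (Subgroup.zpowers g) (S.subgroupOf N) :=
      MulAction.compHom _ ((MulAut.conjNormal (H := S.subgroupOf N)).comp
        (Subgroup.zpowers g).subtype)
    have hmod := hgp.card_modEq_card_fixedPoints (S.subgroupOf N)
    rw [hcardM] at hmod
    set F := MulAction.fixedPoints (Subgroup.zpowers g) (S.subgroupOf N) with hF
    let FS : Subgroup (S.subgroupOf N) :=
      { carrier := F
        one_mem' := fun a => map_one (MulAut.conjNormal (a : N))
        mul_mem' := fun {x y} hx hy a => by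
          show MulAut.conjNormal (a : N) (x * y) = x * y
          rw [map_mul]; exact congrArg₂ _ (hx a) (hy a)
        inv_mem' := fun {x} hx a => by
          show MulAut.conjNormal (a : N) x⁻¹ = x⁻¹
          rw [map_inv]; exact congrArg _ (hx a) }
    have hdvd : Nat.card FS ∣ 3 ^ 2 := by
      rw [show 3 ^ 2 = 9 from rfl, ← hcardM]; exact Subgroup.card_subgroup_dvd_card FS
    have heq : Nat.card F = Nat.card FS := rfl
    rw [heq] at hmod
    obtain ⟨j, hj, hj'⟩ := (Nat.dvd_prime_pow Nat.prime_three).1 hdvd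
    rw [hj'] at hmod
    have hdiv := (Nat.modEq_iff_dvd' (show 3 ^ j ≤ 9 from
      (Nat.pow_le_pow_right (by norm_num) hj).trans (le_of_eq rfl))).1 hmod.symm
    interval_cases j
    · have : q ∣ 2 ^ 3 := by simpa using hdiv
      exact hq2 ((Nat.prime_dvd_prime_iff_eq hq Nat.prime_two).1 (hq.dvd_of_dvd_pow this))
    · have : q ∣ 2 * 3 := by simpa using hdiv
      rcases hq.dvd_mul.1 this with h | h
      · exact hq2 ((Nat.prime_dvd_prime_iff_eq hq Nat.prime_two).1 h)
      · exact hq3 ((Nat.prime_dvd_prime_iff_eq hq Nat.prime_three).1 h)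
    · -- `g` centralises `S`, so lies in `S`
      have htop : FS = ⊤ := Subgroup.eq_top_of_card_eq _ (by rw [hj', hcardM]; rfl)
      have hgc : (g : G) ∈ Subgroup.centralizer (S : Set G) := by
        rw [Subgroup.mem_centralizer_iff]
        intro s hs'
        have h1 : (⟨⟨s, hSN hs'⟩, hs'⟩ : S.subgroupOf N) ∈ FS := htop ▸ Subgroup.mem_top _
        have h2 := congrArg (fun x : S.subgroupOf N => ((x : N) : G))
          (h1 ⟨g, Subgroup.mem_zpowers g⟩)
        have h3 : (g : G) * s * (g : G)⁻¹ = s := h2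
        exact (mul_inv_eq_iff_eq_mul.1 h3).symm
      rw [hCM] at hgc
      obtain ⟨i, hi⟩ := IsPGroup.iff_orderOf.1 Q.2 ⟨g, hgQ⟩
      rw [Subgroup.orderOf_mk] at hi
      have h9 : q ^ i ∣ 3 ^ 2 := by
        rw [← hi, show 3 ^ 2 = 9 from rfl, ← hcardM]
        have hgS : g ∈ S.subgroupOf N := hgc
        exact Subgroup.orderOf_mk g hgS ▸ orderOf_dvd_natCard (⟨g, hgS⟩ : S.subgroupOf N)
      rcases Nat.eq_zero_or_pos i with rfl | hi0
      · exact hg1 (orderOf_eq_one_iff.1 (by simpa using hi))
      · exact hq3 ((Nat.prime_dvd_prime_iff_eq hq Nat.prime_three).1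
          (hq.dvd_of_dvd_pow ((dvd_pow_self q hi0.ne').trans h9)))
  haveI : Fact (Nat.Prime 2) := ⟨Nat.prime_two⟩
  let T : Sylow 2 N := default
  obtain ⟨eT⟩ := hS T
  -- the Sylow 2-subgroup maps onto the quotient
  let f : (T : Subgroup N) →* N ⧸ S.subgroupOf N := (QuotientGroup.mk' _).comp (T : Subgroup N).subtype
  have hcop : Nat.Coprime (Nat.card (T : Subgroup N)) 9 := by
    rw [Nat.card_congr eT.toEquiv, DihedralGroup.nat_card]; decide
  have hinj : Function.Injective f := by
    refine (injective_iff_map_eq_one f).2 fun x hx => ?_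
    have hx' : (x : N) ∈ S.subgroupOf N := (QuotientGroup.eq_one_iff _).1 hx
    refine orderOf_eq_one_iff.1 (Nat.eq_one_of_dvd_coprimes hcop (orderOf_dvd_natCard x) ?_)
    rw [← hcardM, ← Subgroup.orderOf_coe, ← Subgroup.orderOf_mk (x : N) hx']
    exact orderOf_dvd_natCard _
  have hcardQ : Nat.card (N ⧸ S.subgroupOf N) ≤ Nat.card (T : Subgroup N) := by
    have h0 : (S.subgroupOf N).index ≠ 0 := Subgroup.index_ne_zero_of_finite
    have h2 : ∀ {q : ℕ}, q.Prime → q ∣ (S.subgroupOf N).index → q = 2 := fun hq hd => hidx _ hq hd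
    have hpow := Nat.eq_prime_pow_of_unique_prime_dvd h0 h2
    refine Nat.le_of_dvd Nat.card_pos ?_
    show (S.subgroupOf N).index ∣ _
    rw [hpow]
    refine Sylow.pow_dvd_card_of_pow_dvd_card T ?_
    rw [← hpow]
    exact Subgroup.index_dvd_card _
  have hbij : Function.Bijective f := (Nat.bijective_iff_injective_and_card f).2
    ⟨hinj, le_antisymm (Nat.card_le_card_of_injective f hinj) hcardQ⟩
  rcases Cfsg.Agent.S3333.result M S rfl hM9 hCM ((MulEquiv.ofBijective f hbij).symm.trans eT) hCg
    with hn | ⟨⟨e⟩⟩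
  · rcases hn.eq_bot_or_eq_top with h | h
    · rw [h, Subgroup.card_bot] at hM9; omega
    · haveI : IsMulCommutative G := ⟨⟨fun a b => by
        have hle : S ≤ Subgroup.centralizer (S : Set G) := le_of_eq hCM.symm
        exact (Subgroup.mem_centralizer_iff.1 (hle (h ▸ Subgroup.mem_top b : b ∈ S)) a
          (h ▸ Subgroup.mem_top a : a ∈ S))⟩⟩
      letI : CommGroup G := { ‹Group G› with mul_comm := fun a b => Std.Commutative.comm a b }
      have hp := (IsSimpleGroup.prime_card (α := G))
      rw [h, Subgroup.card_top] at hM9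
      rw [hM9] at hp
      exact absurd hp (by norm_num)
  · haveI := hs
    haveI : IsSimpleGroup (Equiv.Perm (Fin 6)) := IsSimpleGroup.isSimpleGroup_of_surjective e.toMonoidHom e.surjective
    rcases (inferInstance : (alternatingGroup (Fin 6)).Normal).eq_bot_or_eq_top with h | h
    · have := nat_card_alternatingGroup (α := Fin 6)
      rw [h, Subgroup.card_bot] at this
      norm_num [Nat.factorial] at this
    · have h1 : Equiv.swap (0 : Fin 6) 1 ∈ alternatingGroup (Fin 6) := h ▸ Subgroup.mem_top _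
      rw [Equiv.Perm.mem_alternatingGroup] at h1
      simp at h1

end Cfsg.Agent.S3716
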