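import Cfsg.Statements.S3730
import Cfsg.Agent.CyclicEvenNorm.Simple
import Cfsg.Agent.CyclicEvenNorm.Socle
import Cfsg.Agent.CyclicEvenNorm.Extension
import Cfsg.Agent.Linear.SmallIso

set_option autoImplicit false
open Cfsg

namespace Cfsg.Agent.S3730

/-- Let G be a nontrivial finite group with no nontrivial solvable normal subgroup, such that for every cyclic subgroup X of even order and every nontrivial subgroup Y of X one has N_G(X) = N_G(Y) (every nontrivial subgroup of a cyclic subgroup of even order has the same normalizer as the whole cyclic subgroup). Then G is isomorphic to PSL(2, q) or to PGL(2, q) for some prime power q > 3. -/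
theorem result
    {G : Type*} [Group G] [Finite G] [Nontrivial G]
    (hss : ∀ N : Subgroup G, N.Normal → Group.IsSolvable ↥N → N = ⊥)
    (hii : ∀ X : Subgroup G, IsCyclic ↥X → Even (Nat.card ↥X) → ∀ Y : Subgroup G, Y ≤ X → Y ≠ ⊥ →
      Subgroup.normalizer (X : Set G) = Subgroup.normalizer (Y : Set G)) :
    ∃ (F : Type) (_ : Field F) (_ : Fintype F), 3 < Fintype.card F ∧
      (Nonempty (G ≃* Matrix.ProjectiveSpecialLinearGroup (Fin 2) F) ∨
        Nonempty (G ≃* Matrix.ProjGenLinGroup (Fin 2) F)) := by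
  classical
  obtain ⟨N, hN, hsimple, hna, hC⟩ := CycNorm.socle hss hii
  haveI := hN
  haveI := hsimple
  obtain ⟨F₁, iF₁, iFt₁, hq₁, ⟨e₁⟩⟩ := CycNorm.exists_psl (G := N)
    (CycNorm.Hyp.of_injective hii N.subtype N.subtype_injective) hna
  -- avoid the field with four elements
  obtain ⟨F, iF, iFt, hq, hq4, ⟨e⟩⟩ : ∃ (F : Type) (_ : Field F) (_ : Fintype F),
      3 < Fintype.card F ∧ Fintype.card F ≠ 4 ∧
        Nonempty (N ≃* Matrix.ProjectiveSpecialLinearGroup (Fin 2) F) := by
    by_cases h4 : Fintype.card F₁ = 4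
    · obtain ⟨f₁⟩ := Agent.Linear.psl_two_four_iso h4
      haveI : Fact (Nat.Prime 5) := ⟨by norm_num⟩
      obtain ⟨f₂⟩ := Agent.Linear.psl_two_zmod_five_iso
      exact ⟨ZMod 5, inferInstance, inferInstance, by simp, by simp,
        ⟨e₁.trans (f₁.trans f₂.symm)⟩⟩
    · exact ⟨F₁, iF₁, iFt₁, hq₁, h4, ⟨e₁⟩⟩
  refine ⟨F, iF, iFt, hq, ?_⟩
  set φ : G →* MulAut (Matrix.ProjectiveSpecialLinearGroup (Fin 2) F) :=
    (MulAut.congr e).toMonoidHom.comp MulAut.conjNormal with hφ
  have hφN : ∀ n : N, φ n = MulAut.conj (e n) := by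
    intro n
    refine MulEquiv.ext fun x => ?_
    show e (MulAut.conjNormal (n : G) (e.symm x)) = _
    rw [MulAut.conjNormal_val, MulAut.conj_apply, map_mul, map_mul, map_inv, e.apply_symm_apply,
      MulAut.conj_apply]
  have hinj : Function.Injective φ := by
    refine (injective_iff_map_eq_one φ).2 fun g hg => ?_
    have h1 : MulAut.conjNormal g = (1 : MulAut N) := (MulAut.congr e).injective (by
      rw [map_one]; exact hg)
    have h2 : g ∈ Subgroup.centralizer (N : Set G) := Subgroup.mem_centralizer_iff.2 fun n hn => by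
      have := congrArg Subtype.val (DFunLike.congr_fun h1 (⟨n, hn⟩ : N))
      rw [MulAut.conjNormal_apply] at this
      simp only [MulAut.one_apply] at this
      calc n * g = g * n * g⁻¹ * g := by rw [this]
        _ = g * n := by group
    rw [hC, Subgroup.mem_bot] at h2
    exact h2
  have hinner : ∀ s : Matrix.SpecialLinearGroup (Fin 2) F, CycNorm.inn s ∈ φ.range := fun s => by
    rw [CycNorm.inn_eq_conj]
    exact ⟨(e.symm (Agent.AutPSL.proj s) : N), by rw [hφN, e.apply_symm_apply]⟩
  have hA : CycNorm.Hyp ↥φ.range := CycNorm.Hyp.of_injective hii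
    (MonoidHom.ofInjective hinj).symm.toMonoidHom (MonoidHom.ofInjective hinj).symm.injective
  haveI : Finite ↥φ.range := Finite.of_equiv G (MonoidHom.ofInjective hinj).toEquiv
  have hdiag : ∀ g, ∃ d, φ g = Agent.AutPSL.conjAut d := by
    intro g
    obtain ⟨d, σ, h⟩ := Agent.AutPSL.exists_decomp_two (φ g)
    have hσ : σ = 1 := CycNorm.field_eq_one hA hinner (d₀ := d)
      (by rw [Nat.card_eq_fintype_card]; exact hq4) ⟨g, h⟩
    exact ⟨d, by rw [h, hσ, map_one, mul_one]⟩
  by_cases hall : ∀ g, ∀ d, φ g = Agent.AutPSL.conjAut d →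
      IsSquare (Matrix.GeneralLinearGroup.det d)
  · refine Or.inl ⟨?_⟩
    have htop : N = ⊤ := by
      refine eq_top_iff.2 fun g _ => ?_
      obtain ⟨d, hd⟩ := hdiag g
      have h1 := CycNorm.mem_of_isSquare (A := φ.range.comap (MonoidHom.id _) ⊓ (N.map φ)) (fun s =>
        ⟨hinner s, ⟨(e.symm (Agent.AutPSL.proj s) : N), SetLike.coe_mem _,
          by rw [hφN, e.apply_symm_apply, ← CycNorm.inn_eq_conj]⟩⟩) (hall g d hd)
      obtain ⟨n, hn, hne⟩ := h1.2
      rw [← hd] at hne
      rwa [← hinj hne]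
    exact (Subgroup.topEquiv.symm.trans (MulEquiv.subgroupCongr htop.symm)).trans e
  · push Not at hall
    obtain ⟨g₀, d₀, hd₀, hns⟩ := hall
    refine Or.inr ⟨?_⟩
    have hrange : φ.range = Cfsg.inndiagPSL 2 F := by
      refine le_antisymm ?_ ?_
      · rintro _ ⟨g, rfl⟩
        exact Agent.AutPSL.mem_inndiagPSL.2 (hdiag g)
      · intro β hβ
        obtain ⟨d, rfl⟩ := Agent.AutPSL.mem_inndiagPSL.1 hβ
        by_cases hd : IsSquare (Matrix.GeneralLinearGroup.det d)
        · exact CycNorm.mem_of_isSquare hinner hd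
        · have h1 := CycNorm.mem_of_isSquare hinner (d := d₀ * d) (by
            rw [map_mul]; exact CycNorm.isSquare_mul_of_not hns hd)
          have h0 : Agent.AutPSL.conjAut d₀ ∈ φ.range := ⟨g₀, hd₀⟩
          have := mul_mem (inv_mem h0) h1
          rwa [map_mul, inv_mul_cancel_left] at this
    exact ((MonoidHom.ofInjective hinj).trans (MulEquiv.subgroupCongr hrange)).trans
      (Agent.AutPSL.pglEquiv le_rfl).symm
end Cfsg.Agent.S3730
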