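import Cfsg.Statements.S3806
import Cfsg.Agent.MaxClassP.Section
import Cfsg.Agent.H4.MaxClass
import Cfsg.Agent.PSolv.Cores
import Cfsg.Agent.TwoGroups.SectionalMetacyclic

set_option autoImplicit false
open Cfsg

namespace Cfsg.Agent.S3806

open Subgroup

/-- Let p be a prime and S a finite p-group of order pⁿ (n ≥ 2) of maximal nilpotency class n − 1 whose sectional p-rank is exactly k (every section has p-rank at most k, and some section has p-rank k). If p ≥ k + 2 then the order of S is at most p^(2k). -/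
theorem result {S : Type*} [Group S] [Finite S] (p : ℕ) [Fact p.Prime] (hS : IsPGroup p S) [Group.IsNilpotent S]
    (n : ℕ) (hn : 2 ≤ n) (hcard : Nat.card S = p ^ n) (hmax : Group.nilpotencyClass S = n - 1)
    (k : ℕ) (hk : 1 ≤ k) (hsr : Cfsg.SectionalPRankLE p k S ∧ ¬ Cfsg.SectionalPRankLE p (k - 1) S)
    (hpk : k + 2 ≤ p) : Nat.card S ≤ p ^ (2 * k) := by
  have hp := (Fact.out : p.Prime)
  rw [hcard]
  refine Nat.pow_le_pow_right hp.pos ?_
  by_contra hlt
  have hn3 : 3 ≤ n := by omega
  let L : ℕ → Subgroup S := MaxClassP.lcs S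
  have hL1 : L 1 = commutator S := top_lowerCentralSeries_one
  have hidx : (commutator S).index = p ^ 2 := H4.index_commutator_eq_sq hn3 hcard hmax
  have hcomm : Nat.card (commutator S) = p ^ (n - 2) := by
    refine Nat.eq_of_mul_eq_mul_right (pow_pos hp.pos 2) ?_
    rw [← pow_add, ← hidx, card_mul_index, hcard, Nat.sub_add_cancel hn]
  have hne : ∀ j, j ≤ n - 2 → L j ≠ ⊥ := fun j hj h => by
    have := Subgroup.lowerCentralSeries_eq_bot_iff_nilpotencyClass_le.mp h
    omega
  have hcardL : ∀ j, 1 ≤ j → j ≤ n - 1 → Nat.card (L j) = p ^ (n - 1 - j) := by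
    have hub : ∀ i, i + 1 ≤ n - 2 → Nat.card (L (i + 1)) * p ^ i ≤ p ^ (n - 2) := fun i hi =>
      hcomm ▸ (H4.commutator_card_mul_le hS i).resolve_left (hne (i + 1) hi)
    have hlb : ∀ d j, 1 ≤ j → j + d = n - 1 → p ^ d ≤ Nat.card (L j) := by
      intro d
      induction d with
      | zero => intro j _ _; rw [pow_zero]; exact Nat.card_pos
      | succ d ih =>
        intro j hj hjd
        have hlt2 : L (j + 1) < L j := by
          have := PGroup.commutator_top_lt hS (hne j (by omega))
          rwa [← MaxClassP.lcs_succ] at this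
        have h1 := ih (j + 1) (by omega) (by omega)
        obtain ⟨a, ha⟩ := (hS.to_subgroup (L j)).exists_card_eq
        have h2 : Nat.card (L (j + 1)) < Nat.card (L j) :=
          Set.ncard_lt_ncard (SetLike.coe_ssubset_coe.mpr hlt2) (Set.toFinite _)
        rw [ha] at h2 ⊢
        exact Nat.pow_le_pow_right hp.pos
          ((Nat.pow_lt_pow_iff_right hp.one_lt).mp (h1.trans_lt h2))
    intro j hj hj'
    refine le_antisymm ?_ (hlb (n - 1 - j) j hj (by omega))
    rcases Nat.lt_or_ge (n - 2) j with h | h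
    · have : L j = ⊥ := Subgroup.lowerCentralSeries_eq_bot_iff_nilpotencyClass_le.mpr (by omega)
      rw [this, card_bot]
      exact Nat.one_le_pow _ _ hp.pos
    · obtain ⟨i, rfl⟩ := Nat.exists_eq_add_of_le' hj
      refine Nat.le_of_mul_le_mul_right ((hub i h).trans ?_) (pow_pos hp.pos i)
      rw [← pow_add]
      exact Nat.pow_le_pow_right hp.pos (by omega)
  -- `S / S'` is elementary of order `p ^ 2`
  have hfr : frattini S = commutator S := by
    obtain ⟨f, hf⟩ := hS.index (frattini S)
    have hf2 : 2 ≤ f := by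
      by_contra hlt2
      have hcy : IsCyclic S := PGroup.isCyclic_of_index_frattini_le hS (by
        rw [hf]; exact (Nat.pow_le_pow_right hp.pos (show f ≤ 1 by omega)).trans (pow_one p).le)
      refine hne 1 (by omega) ?_
      rw [hL1, commutator_eq_bot_iff_center_eq_top, eq_top_iff]
      exact fun x _ => mem_center_iff.mpr fun y => hcy.isMulCommutative.is_comm.comm y x
    refine (eq_of_le_of_card_ge (PGroup.commutator_le_frattini hS) ?_).symm
    refine Nat.le_of_mul_le_mul_right ?_ (pow_pos hp.pos 2)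
    calc Nat.card (frattini S) * p ^ 2 ≤ Nat.card (frattini S) * (frattini S).index :=
          Nat.mul_le_mul le_rfl (hf ▸ Nat.pow_le_pow_right hp.pos hf2)
      _ = Nat.card (commutator S) * p ^ 2 := by rw [← hidx, card_mul_index, card_mul_index]
  have hpow : ∀ g : S, g ^ p ∈ commutator S := fun g => by
    rw [← hfr, PGroup.frattini_eq_sup hS]
    exact mem_sup_right (subset_closure ⟨g, rfl⟩)
  have hk2 : 2 ≤ k := by
    have hab : IsMulCommutative (⊤ : Subgroup (S ⧸ commutator S)) := isMulCommutative_iff.mpr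
      fun a b => Subtype.ext (by
        obtain ⟨a', ha'⟩ := QuotientGroup.mk_surjective (a : S ⧸ commutator S)
        obtain ⟨b', hb'⟩ := QuotientGroup.mk_surjective (b : S ⧸ commutator S)
        show (a : S ⧸ commutator S) * b = b * a
        rw [← ha', ← hb', ← QuotientGroup.mk_mul, ← QuotientGroup.mk_mul, QuotientGroup.eq]
        have := commutator_mem_commutator (mem_top (b'⁻¹)) (mem_top (a'⁻¹))
        simpa [_root_.commutator_def, commutatorElement_def, mul_assoc] using this)
    have h := TwoGroups.pRankLE_quotient hsr.1 (commutator S) ⊤ hab (fun a _ => by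
      obtain ⟨a', rfl⟩ := QuotientGroup.mk_surjective a
      rw [← QuotientGroup.mk_pow, QuotientGroup.eq_one_iff]; exact hpow a')
    rw [card_top, ← index_eq_card, hidx] at h
    exact (Nat.pow_le_pow_iff_right hp.one_lt).mp h
  -- the quotient of order `p ^ (2k+1)`
  haveI : (L (2 * k)).Normal := inferInstance
  set π := QuotientGroup.mk' (L (2 * k))
  have hmap : ∀ j, MaxClassP.lcs (S ⧸ L (2 * k)) j = (L j).map π := fun j => by
    show (⊤ : Subgroup (S ⧸ L (2 * k))).lowerCentralSeries j = _
    rw [← map_top_of_surjective π (QuotientGroup.mk'_surjective _), ← map_lowerCentralSeries]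
  have hcardQ : ∀ j, 1 ≤ j → j ≤ 2 * k →
      Nat.card (MaxClassP.lcs (S ⧸ L (2 * k)) j) = p ^ (2 * k - j) := by
    intro j hj hj'
    rw [hmap, PSolv.card_map_mk_eq_relIndex]
    have hle : L (2 * k) ≤ L j := Subgroup.lowerCentralSeries_antitone _ hj'
    have h := relIndex_mul_relIndex ⊥ (L (2 * k)) (L j) bot_le hle
    rw [relIndex_bot_left, relIndex_bot_left, hcardL (2 * k) (by omega) (by omega),
      hcardL j hj (by omega), show n - 1 - j = (n - 1 - 2 * k) + (2 * k - j) by omega, pow_add] at h
    exact Nat.eq_of_mul_eq_mul_left (pow_pos hp.pos _) h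
  obtain ⟨hab, hexp⟩ := MaxClassP.elementary hk2 hpk (hS.to_quotient _) hcardQ (fun g => by
    obtain ⟨g', rfl⟩ := QuotientGroup.mk'_surjective (L (2 * k)) g
    rw [hmap, ← map_pow]
    exact mem_map_of_mem π (hL1.symm ▸ hpow g'))
  have hQ := TwoGroups.sectional_of_surjective π (QuotientGroup.mk'_surjective _) hsr.1
  have hrank := TwoGroups.pRankLE_quotient hQ (⊥ : Subgroup (S ⧸ L (2 * k)))
  set A := MaxClassP.lcs (S ⧸ L (2 * k)) (k - 1)
  set ψ := (QuotientGroup.quotientBot (G := S ⧸ L (2 * k))).symm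
  have h := hrank (A.map ψ.toMonoidHom) (isMulCommutative_iff.mpr fun a b => by
    obtain ⟨a', ha', hae⟩ := a.2
    obtain ⟨b', hb', hbe⟩ := b.2
    apply Subtype.ext
    show (a : (S ⧸ L (2 * k)) ⧸ (⊥ : Subgroup (S ⧸ L (2 * k)))) * b = b * a
    rw [← hae, ← hbe, ← map_mul, ← map_mul]
    exact congrArg ψ.toMonoidHom
      (congrArg Subtype.val (isMulCommutative_iff.mp hab ⟨a', ha'⟩ ⟨b', hb'⟩))) (fun a ha => by
    obtain ⟨a', ha', rfl⟩ := ha
    rw [← map_pow, hexp a' ha', map_one])
  rw [card_map_of_injective ψ.injective, hcardQ (k - 1) (by omega) (by omega)] at h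
  have := (Nat.pow_le_pow_iff_right hp.one_lt).mp h
  omega

end Cfsg.Agent.S3806
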