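import Cfsg.Statements.S3807
import Cfsg.Agent.Lib.IndexP

set_option autoImplicit false
open Cfsg

namespace Cfsg.Agent.S3807

/-- Let S be a non-abelian finite p-group with an abelian subgroup A of index p. Then [S : Z(S)] = p·#[S,S], and either [S,S] has order p, S/Z(S) is elementary abelian of order p², and S has exactly p + 1 abelian subgroups of index p; or [S,S] has order at least p² and A is the only abelian subgroup of index p in S. -/
theorem result {S : Type*} [Group S] [Finite S] (p : ℕ) [Fact p.Prime] (hS : IsPGroup p S) (hna : ¬ IsMulCommutative S)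
    (A : Subgroup S) (hA : IsMulCommutative ↥A) (hAi : A.index = p) :
    (Subgroup.center S).index = p * Nat.card (commutator S) ∧
      ((Nat.card (commutator S) = p ∧ Cfsg.IsElementaryAbelian p (⊤ : Subgroup (S ⧸ Subgroup.center S)) ∧
          Nat.card (S ⧸ Subgroup.center S) = p ^ 2 ∧
          Nat.card {B : Subgroup S // IsMulCommutative ↥B ∧ B.index = p} = p + 1) ∨
        (p ^ 2 ≤ Nat.card (commutator S) ∧ ∀ B : Subgroup S, IsMulCommutative ↥B → B.index = p → B = A)) := by
  haveI := hA
  have hidx := Cfsg.Agent.IndexP.index_center_eq hS hna A hAi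
  refine ⟨hidx, ?_⟩
  have hp : p.Prime := Fact.out
  have hnormA := Cfsg.Agent.IndexP.normal_of_index hS hAi
  obtain ⟨k, -, hk⟩ := (Nat.dvd_prime_pow hp).mp
    ((Subgroup.card_subgroup_dvd_card (commutator S)).trans (IsPGroup.iff_card.mp hS).choose_spec.dvd)
  have hk0 : k ≠ 0 := by
    intro h
    rw [h, pow_zero, Subgroup.card_eq_one, commutator_eq_bot_iff_center_eq_top] at hk
    exact hna ⟨⟨fun a b => Subgroup.mem_center_iff.mp (hk ▸ Subgroup.mem_top b) a⟩⟩
  rcases Nat.lt_or_ge k 2 with hk2 | hk2
  · left
    have hk1 : k = 1 := by omega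
    subst hk1
    rw [pow_one] at hk
    have hQ2 : Nat.card (S ⧸ Subgroup.center S) = p ^ 2 := by
      rw [← Subgroup.index_eq_card, hidx, hk, sq]
    have hncyc : ¬ IsCyclic (S ⧸ Subgroup.center S) := fun hc =>
      hna ((QuotientGroup.mk' (Subgroup.center S)).isMulCommutative_of_isCyclic_of_ker_le_center
        (by rw [QuotientGroup.ker_mk']))
    have hexp : ∀ v : S ⧸ Subgroup.center S, v ^ p = 1 := by
      intro v
      have hd : orderOf v ∣ p ^ 2 := hQ2 ▸ orderOf_dvd_natCard v
      obtain ⟨i, hi, hv⟩ := (Nat.dvd_prime_pow hp).mp hd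
      rcases hi.lt_or_eq with hi | rfl
      · rw [← orderOf_dvd_iff_pow_eq_one, hv]
        exact (pow_dvd_pow p (by omega : i ≤ 1)).trans (pow_one p).dvd
      · exact absurd (isCyclic_of_orderOf_eq_card v (hv.trans hQ2.symm)) hncyc
    refine ⟨hk, ⟨?_, fun v _ => hexp v⟩, hQ2, ?_⟩
    · haveI := IsPGroup.isMulCommutative_of_card_eq_prime_sq hQ2
      infer_instance
    rw [← Cfsg.Agent.IndexP.natCard_subgroups_card_eq (p := p) hQ2 hexp]
    set f := QuotientGroup.mk' (Subgroup.center S) with hf
    have hsurj : Function.Surjective f := QuotientGroup.mk'_surjective _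
    have hcard : ∀ L : Subgroup (S ⧸ Subgroup.center S), Nat.card L = p ↔ (L.comap f).index = p := by
      intro L
      rw [Subgroup.index_comap_of_surjective L hsurj]
      have := L.card_mul_index
      rw [hQ2, sq] at this
      constructor <;> intro h <;> rw [h] at this
      · exact Nat.eq_of_mul_eq_mul_left hp.pos this
      · exact Nat.eq_of_mul_eq_mul_right hp.pos this
    have hcomm : ∀ L : Subgroup (S ⧸ Subgroup.center S), Nat.card L = p →
        IsMulCommutative ↥(L.comap f) := by
      intro L hL
      haveI : IsCyclic L := isCyclic_of_prime_card hL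
      refine (f.subgroupComap L).isMulCommutative_of_isCyclic_of_ker_le_center ?_
      intro x hx
      rw [MonoidHom.mem_ker] at hx
      have hxZ : (x : S) ∈ Subgroup.center S := (QuotientGroup.eq_one_iff _).mp (congrArg Subtype.val hx)
      exact Subgroup.mem_center_iff.mpr fun y => Subtype.ext (Subgroup.mem_center_iff.mp hxZ y)
    refine Nat.card_congr
      { toFun := fun B => ⟨B.1.map f, (hcard _).mpr (by
          rw [Subgroup.comap_map_eq, QuotientGroup.ker_mk', sup_eq_left.mpr ?_]
          · exact B.2.2
          · haveI := B.2.1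
            exact Cfsg.Agent.IndexP.center_le hS hna B.2.2)⟩
        invFun := fun L => ⟨L.1.comap f, hcomm _ L.2, (hcard _).mp L.2⟩
        left_inv := fun B => by
          apply Subtype.ext
          show (B.1.map f).comap f = B.1
          rw [Subgroup.comap_map_eq, QuotientGroup.ker_mk', sup_eq_left]
          haveI := B.2.1
          exact Cfsg.Agent.IndexP.center_le hS hna B.2.2
        right_inv := fun L => Subtype.ext (Subgroup.map_comap_eq_self_of_surjective hsurj L.1) }
  · right
    refine ⟨hk ▸ Nat.pow_le_pow_right hp.pos hk2, fun B hB hBi => ?_⟩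
    haveI := hB
    by_contra hne
    haveI := Cfsg.Agent.IndexP.normal_of_index hS hBi
    have hnle : ¬ B ≤ A := by
      intro h
      refine hne (Subgroup.eq_of_le_of_card_ge h (Nat.le_of_eq (Nat.eq_of_mul_eq_mul_right hp.pos ?_)))
      calc Nat.card A * p = Nat.card A * A.index := by rw [hAi]
        _ = Nat.card S := A.card_mul_index
        _ = Nat.card B * B.index := B.card_mul_index.symm
        _ = Nat.card B * p := by rw [hBi]
    have htop : A ⊔ B = ⊤ := Cfsg.Agent.IndexP.eq_top_of_lt hS hAi le_sup_left
      fun h => hnle (le_sup_right.trans h)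
    have hle : A ⊓ B ≤ Subgroup.center S := by
      intro x hx
      rw [Subgroup.mem_center_iff]
      intro g
      have hle' : A ⊔ B ≤ Subgroup.centralizer ({x} : Set S) := by
        refine sup_le (fun a ha => ?_) (fun b hb => ?_) <;>
          rw [Subgroup.mem_centralizer_singleton_iff]
        · exact congrArg Subtype.val (hA.is_comm.comm ⟨a, ha⟩ ⟨x, hx.1⟩)
        · exact congrArg Subtype.val (hB.is_comm.comm ⟨b, hb⟩ ⟨x, hx.2⟩)
      exact Subgroup.mem_centralizer_singleton_iff.mp (hle' (htop ▸ Subgroup.mem_top g))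
    have hle2 := Nat.le_of_dvd (Nat.pos_of_ne_zero Subgroup.index_ne_zero_of_finite)
      (Subgroup.index_dvd_of_le hle)
    have h4 := Subgroup.index_inf_le (H := A) (K := B)
    rw [hAi, hBi] at h4
    rw [hidx, hk] at hle2
    have h5 : p ^ k ≤ p ^ 1 := by
      rw [pow_one]; exact Nat.le_of_mul_le_mul_left (hle2.trans h4) hp.pos
    have := (Nat.pow_le_pow_iff_right hp.one_lt).mp h5
    omega

end Cfsg.Agent.S3807
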