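import Cfsg.Statements.S3808
import Cfsg.Agent.Lib.IndexP

set_option autoImplicit false
open Cfsg

namespace Cfsg.Agent.S3808

/-- Let S be a finite p-group with an extraspecial subgroup Q of index p. Then either Z(S) = Z(Q), or S = Q·Z(S) and Z(S) has order p². -/
theorem result {S : Type*} [Group S] [Finite S] (p : ℕ) [Fact p.Prime] (hS : IsPGroup p S) (Q : Subgroup S) (hQ : Cfsg.IsExtraspecial p ↥Q) (hQi : Q.index = p) :
    Subgroup.center S = (Subgroup.center ↥Q).map Q.subtype ∨
      (Q ⊔ Subgroup.center S = ⊤ ∧ Nat.card (Subgroup.center S) = p ^ 2) := by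
  have hp : p.Prime := Fact.out
  haveI := Cfsg.Agent.IndexP.normal_of_index hS hQi
  have hle := Cfsg.Agent.IndexP.normal_card_center hS Q hQ hQi
  have hinf : Subgroup.center S ⊓ Q = (Subgroup.center ↥Q).map Q.subtype := by
    refine le_antisymm ?_ (le_inf hle (Subgroup.map_subtype_le _))
    intro x hx
    exact ⟨⟨x, hx.2⟩, Subgroup.mem_center_iff.mpr fun y =>
      Subtype.ext (Subgroup.mem_center_iff.mp hx.1 y), rfl⟩
  by_cases hZQ : Subgroup.center S ≤ Q
  · left
    rw [← hinf, inf_eq_left.mpr hZQ]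
  · right
    have htop : Q ⊔ Subgroup.center S = ⊤ := Cfsg.Agent.IndexP.eq_top_of_lt hS hQi le_sup_left
      fun h => hZQ (le_sup_right.trans h)
    refine ⟨htop, ?_⟩
    have h1 : Q.relIndex (Subgroup.center S) = p := by
      rw [← Subgroup.relIndex_sup_right (Subgroup.center S) Q, sup_comm, htop,
        Subgroup.relIndex_top_right, hQi]
    have h2 : Nat.card ↥(Subgroup.center S ⊓ Q) = p := by
      rw [hinf, Subgroup.card_map_of_injective Q.subtype_injective, hQ.2]
    have h3 := (Subgroup.center S ⊓ Q).relIndex_bot_left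
    have h4 := Subgroup.relIndex_mul_relIndex ⊥ (Subgroup.center S ⊓ Q) (Subgroup.center S) bot_le inf_le_left
    rw [h3, h2, Subgroup.inf_relIndex_left, h1, Subgroup.relIndex_bot_left] at h4
    rw [← h4, sq]

end Cfsg.Agent.S3808
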