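import Cfsg.Statements.S3809
import Cfsg.Agent.Lib.IndexP

set_option autoImplicit false
open Cfsg

namespace Cfsg.Agent.S3809

/-- Let S be a finite p-group with an extraspecial subgroup of index p. Then S has order p^(2+2n) for some n ≥ 1, derived length at most 3, and exponent dividing p³. -/
theorem result {S : Type*} [Group S] [Finite S] (p : ℕ) [Fact p.Prime] (hS : IsPGroup p S) (Q : Subgroup S) (hQ : Cfsg.IsExtraspecial p ↥Q) (hQi : Q.index = p) :
    (∃ n : ℕ, 1 ≤ n ∧ Nat.card S = p ^ (2 + 2 * n)) ∧ derivedSeries S 3 = ⊥ ∧ ∀ x : S, x ^ (p ^ 3) = 1 := by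
  have hp : p.Prime := Fact.out
  haveI := Cfsg.Agent.IndexP.normal_of_index hS hQi
  obtain ⟨n, hn1, hn⟩ := Cfsg.Agent.PGroup.extraspecial_exists_card hQ
  have hZ : ∀ x ∈ (Subgroup.center ↥Q).map Q.subtype, x ^ p = 1 := by
    rintro _ ⟨z, hz, rfl⟩
    rw [← map_pow, Cfsg.Agent.PGroup.special_center_pow hQ.1 hz, map_one]
  refine ⟨⟨n, hn1, ?_⟩, ?_, ?_⟩
  · rw [← Q.card_mul_index, hQi, hn, ← pow_succ]
    congr 1
    omega
  · have hcomm : commutator S ≤ Q := by
      rw [← Subgroup.Normal.quotient_commutative_iff_commutator_le]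
      haveI : IsCyclic (S ⧸ Q) := isCyclic_of_prime_card (p := p) (by rw [← Subgroup.index_eq_card, hQi])
      infer_instance
    have h1 : derivedSeries S 1 ≤ Q := by rw [derivedSeries_one]; exact hcomm
    have h2 : derivedSeries S 2 ≤ (Subgroup.center ↥Q).map Q.subtype := by
      rw [derivedSeries_succ, ← hQ.1.2.2, map_commutator_eq]
      rw [Q.range_subtype]
      exact Subgroup.commutator_mono h1 h1
    rw [derivedSeries_succ, eq_bot_iff, Subgroup.commutator_le]
    intro a ha b hb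
    obtain ⟨x, hx, rfl⟩ := h2 ha
    obtain ⟨y, hy, rfl⟩ := h2 hb
    rw [← map_commutatorElement, Subgroup.mem_bot, commutatorElement_eq_one_iff_commute.mpr
      (show Commute x y from (Subgroup.mem_center_iff.mp hy x)), map_one]
  · intro x
    have h1 : x ^ p ∈ Q := hQi ▸ Q.pow_index_mem x
    have h2 : (x ^ p) ^ p ∈ (Subgroup.center ↥Q).map Q.subtype :=
      ⟨(⟨x ^ p, h1⟩ : Q) ^ p, Cfsg.Agent.PGroup.special_pow_mem_center hQ.1 _, rfl⟩
    rw [pow_succ p 2, pow_mul, sq, pow_mul]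
    exact hZ _ h2

end Cfsg.Agent.S3809
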