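import Cfsg.Statements.S3810
import Cfsg.Agent.Lib.IndexP
import Cfsg.Agent.Lib.ClassSize

set_option autoImplicit false
open Cfsg

namespace Cfsg.Agent.S3810

/-- Let S be a finite p-group with an extraspecial subgroup of index p. Then S has an abelian subgroup of index p if and only if S has order p⁴. -/
theorem result {S : Type*} [Group S] [Finite S] (p : ℕ) [Fact p.Prime] (hS : IsPGroup p S) (Q : Subgroup S) (hQ : Cfsg.IsExtraspecial p ↥Q) (hQi : Q.index = p) :
    (∃ A : Subgroup S, IsMulCommutative ↥A ∧ A.index = p) ↔ Nat.card S = p ^ 4 := by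
  have hp : p.Prime := Fact.out
  haveI := Cfsg.Agent.IndexP.normal_of_index hS hQi
  obtain ⟨n, hn1, hn⟩ := Cfsg.Agent.PGroup.extraspecial_exists_card hQ
  have hcardS : Nat.card S = p ^ (2 * n + 2) := by
    rw [← Q.card_mul_index, hQi, hn, ← pow_succ]
  constructor
  · rintro ⟨A, hA, hAi⟩
    haveI := hA
    have hAQ : IsMulCommutative ↥(A.subgroupOf Q) := ⟨⟨fun x y => Subtype.ext (Subtype.ext (by
      simp only [Subgroup.coe_mul]
      exact congrArg Subtype.val (hA.is_comm.comm (⟨((x : Q) : S), x.2⟩ : A) ⟨((y : Q) : S), y.2⟩)))⟩⟩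
    have h1 := Cfsg.Agent.PGroup.extraspecial_card_abelian_le hQ hn hAQ
    haveI := Cfsg.Agent.IndexP.normal_of_index hS hAi
    have h2 : (A.subgroupOf Q).index ∣ p := hAi ▸ Subgroup.relIndex_dvd_index_of_normal A Q
    have h3 := (A.subgroupOf Q).card_mul_index
    rw [hn] at h3
    have h4 : p ^ (2 * n) ≤ Nat.card ↥(A.subgroupOf Q) := by
      refine Nat.le_of_mul_le_mul_right ?_ hp.pos
      rw [← pow_succ, ← h3]
      exact Nat.mul_le_mul_left _ (Nat.le_of_dvd hp.pos h2)
    have := (Nat.pow_le_pow_iff_right hp.one_lt).mp (h4.trans h1)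
    rw [hcardS]
    congr 1
    omega
  · intro h4
    have hn' : n = 1 := by
      rw [hcardS] at h4
      have := Nat.pow_right_injective hp.two_le h4
      omega
    subst hn'
    set Z := (Subgroup.center ↥Q).map Q.subtype with hZdef
    have hZc : Z ≤ Subgroup.center S := Cfsg.Agent.IndexP.normal_card_center hS Q hQ hQi
    have hZcard : Nat.card Z = p := by
      rw [hZdef, Subgroup.card_map_of_injective Q.subtype_injective, hQ.2]
    obtain ⟨N, hNn, -, -, hNcard⟩ := Cfsg.Agent.PGroup.exists_normal_card_eq hS (k := 2)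
      (N := (⊥ : Subgroup S)) (M := ⊤) bot_le (by rw [Subgroup.card_bot]; exact Nat.one_le_pow _ _ hp.pos)
      (by rw [Subgroup.card_top, h4]; exact Nat.pow_le_pow_right hp.pos (by omega))
    haveI := hNn
    have hNab : IsMulCommutative N := IsPGroup.isMulCommutative_of_card_eq_prime_sq hNcard
    have hNne : N ≠ ⊥ := fun h => by
      rw [h, Subgroup.card_bot] at hNcard
      exact absurd hNcard.symm (Nat.one_lt_pow (by omega) hp.one_lt).ne'
    have hnle : ¬ N ≤ Z := fun h => by
      have := Nat.le_of_dvd hp.pos (hZcard ▸ Subgroup.card_dvd_of_le h)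
      rw [hNcard] at this
      nlinarith [hp.two_le]
    obtain ⟨m, hm, hmZ⟩ := Set.not_subset.mp hnle
    set C := Subgroup.centralizer ({m} : Set S) with hC
    have hindex : C.index ∣ p := by
      have hlt := Cfsg.Agent.PGroup.commutator_top_lt hS hNne
      have hcle : Nat.card ↥(⁅N, (⊤ : Subgroup S)⁆) ∣ p := by
        obtain ⟨i, hi, hc⟩ := (Nat.dvd_prime_pow hp).mp (hNcard ▸ Subgroup.card_dvd_of_le hlt.le)
        have hi2 : i ≠ 2 := fun h => hlt.ne (Subgroup.eq_of_le_of_card_ge hlt.le (by rw [hc, hNcard, h]))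
        rw [hc]
        exact (pow_dvd_pow p (by omega : i ≤ 1)).trans (pow_one p).dvd
      obtain ⟨i, -, hi⟩ := (Nat.dvd_prime_pow hp).mp
        ((C.index_dvd_card).trans hcardS.dvd)
      have hsmall : C.index ≤ Nat.card ↥(⁅N, (⊤ : Subgroup S)⁆) := by
        rw [hC, ← Cfsg.Agent.ClassSize.ncard_range_conj m, ← SetLike.coe_sort_coe,
          Nat.card_coe_set_eq]
        refine le_trans (Set.ncard_le_ncard ?_ (Set.toFinite _))
          (Set.ncard_image_le (f := fun c => c * m) (Set.toFinite _))
        rintro _ ⟨g, rfl⟩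
        refine ⟨g * m * g⁻¹ * m⁻¹, ?_, by simp⟩
        rw [← commutatorElement_def, ← commutatorElement_inv m g]
        exact inv_mem (Subgroup.commutator_mem_commutator hm (Subgroup.mem_top g))
      have hile : i ≤ 1 := by
        have := hsmall.trans (Nat.le_of_dvd hp.pos hcle)
        rw [hi] at this
        exact (Nat.pow_le_pow_iff_right hp.one_lt).mp (this.trans (pow_one p).ge)
      rw [hi]
      exact (pow_dvd_pow p hile).trans (pow_one p).dvd
    have hZab : ∀ z ∈ Z, ∀ g : S, g * z = z * g := fun z hz g => Subgroup.mem_center_iff.mp (hZc hz) g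
    rcases (Nat.dvd_prime hp).mp hindex with h1 | h1
    · -- `m` is central
      have hmc : ∀ g : S, g * m = m * g := fun g => Subgroup.mem_centralizer_singleton_iff.mp
        (show g ∈ C by rw [Subgroup.index_eq_one.mp h1]; exact Subgroup.mem_top g)
      set M := Z ⊔ Subgroup.zpowers m with hM
      have hMc : M ≤ Subgroup.center S := sup_le hZc
        (Subgroup.zpowers_le.mpr (Subgroup.mem_center_iff.mpr hmc))
      have hMtop : Subgroup.center S ≠ ⊤ := fun h => by
        refine Cfsg.Agent.PGroup.extraspecial_not_comm hQ ⟨⟨fun a b => Subtype.ext ?_⟩⟩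
        exact Subgroup.mem_center_iff.mp (show (b : S) ∈ Subgroup.center S by rw [h]; exact Subgroup.mem_top _) (a : S)
      obtain ⟨x, -, hx⟩ := SetLike.exists_of_lt (lt_top_iff_ne_top.mpr hMtop)
      set A := Subgroup.center S ⊔ Subgroup.zpowers x with hA
      have hAab : IsMulCommutative A := ⟨⟨fun a b => Subtype.ext (by
        obtain ⟨u, hu, v, hv, e⟩ := Subgroup.mem_sup_of_normal_left.mp a.2
        obtain ⟨u', hu', v', hv', e'⟩ := Subgroup.mem_sup_of_normal_left.mp b.2
        obtain ⟨i, rfl⟩ := hv
        obtain ⟨j, rfl⟩ := hv'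
        show (a : S) * b = b * a
        rw [← e, ← e']
        have h5 : Commute u (x ^ j) := (Subgroup.mem_center_iff.mp hu (x ^ j)).symm
        have h6 : Commute (x ^ i) u' := Subgroup.mem_center_iff.mp hu' (x ^ i)
        have h7 : Commute u u' := Subgroup.mem_center_iff.mp hu' u
        exact ((h7.mul_right h5).mul_left (h6.mul_right (Commute.zpow_zpow_self x i j))).eq)⟩⟩
      refine ⟨A, hAab, ?_⟩
      obtain ⟨i, -, hi⟩ := (Nat.dvd_prime_pow hp).mp
        ((A.card_subgroup_dvd_card).trans hcardS.dvd)
      obtain ⟨j, -, hj⟩ := (Nat.dvd_prime_pow hp).mp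
        ((Subgroup.card_subgroup_dvd_card (Subgroup.center S)).trans hcardS.dvd)
      have hlt1 : Nat.card Z < Nat.card (Subgroup.center S) := Cfsg.Agent.IndexP.card_lt_card
        (lt_of_le_not_ge hZc fun h => hmZ (h (hMc (Subgroup.mem_sup_right (Subgroup.mem_zpowers m)))))
      have hlt2 : Nat.card (Subgroup.center S) < Nat.card A := Cfsg.Agent.IndexP.card_lt_card
        (lt_of_le_not_ge le_sup_left fun h => hx (h (Subgroup.mem_sup_right (Subgroup.mem_zpowers x))))
      have hlt3 : Nat.card A < Nat.card (⊤ : Subgroup S) := Cfsg.Agent.IndexP.card_lt_card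
        (lt_top_iff_ne_top.mpr fun h => hMtop (by
          rw [eq_top_iff]
          intro g _
          refine Subgroup.mem_center_iff.mpr fun g' => ?_
          exact congrArg Subtype.val (hAab.is_comm.comm
            (⟨g', h ▸ Subgroup.mem_top g'⟩ : A) ⟨g, h ▸ Subgroup.mem_top g⟩)))
      rw [hZcard, hj] at hlt1
      rw [hj, hi] at hlt2
      rw [Subgroup.card_top, h4, hi] at hlt3
      have e1 : 1 < j := (Nat.pow_lt_pow_iff_right hp.one_lt).mp (by rwa [pow_one])
      have e2 := (Nat.pow_lt_pow_iff_right hp.one_lt).mp hlt2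
      have e3 := (Nat.pow_lt_pow_iff_right hp.one_lt).mp hlt3
      have := A.card_mul_index
      rw [h4, hi, show i = 3 by omega, pow_succ p 3] at this
      exact Nat.eq_of_mul_eq_mul_left (pow_pos hp.pos 3) this
    · refine ⟨C, ?_, h1⟩
      have hCcard : Nat.card C = p ^ 3 := by
        have := C.card_mul_index
        rw [h1, h4, pow_succ p 3] at this
        exact Nat.eq_of_mul_eq_mul_right hp.pos this
      have hZle : Z ≤ C := fun z hz => Subgroup.mem_centralizer_singleton_iff.mpr (hZab z hz m).symm
      have hmC : m ∈ C := Subgroup.mem_centralizer_singleton_iff.mpr rfl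
      have hcen : (Z ⊔ Subgroup.zpowers m).subgroupOf C ≤ Subgroup.center C := by
        intro y hy
        refine Subgroup.mem_center_iff.mpr fun g => Subtype.ext ?_
        have hle : Z ⊔ Subgroup.zpowers m ≤ Subgroup.centralizer ({(g : S)} : Set S) := sup_le
          (fun z hz => Subgroup.mem_centralizer_singleton_iff.mpr (hZab z hz g).symm)
          (Subgroup.zpowers_le.mpr (Subgroup.mem_centralizer_singleton_iff.mpr
            (Subgroup.mem_centralizer_singleton_iff.mp g.2).symm))
        exact (Subgroup.mem_centralizer_singleton_iff.mp (hle (Subgroup.mem_subgroupOf.mp hy))).symm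
      obtain ⟨j, hj3, hj⟩ := (Nat.dvd_prime_pow hp).mp
        (hCcard ▸ Subgroup.card_subgroup_dvd_card (Subgroup.center C))
      have h5 : p < Nat.card (Subgroup.center C) := by
        have hsub : Z < Z ⊔ Subgroup.zpowers m := lt_of_le_not_ge le_sup_left
          fun h => hmZ (h (Subgroup.mem_sup_right (Subgroup.mem_zpowers m)))
        have := Cfsg.Agent.IndexP.card_lt_card hsub
        rw [hZcard] at this
        refine this.trans_le (le_of_eq_of_le ?_ (Subgroup.card_le_of_le hcen))
        exact (Nat.card_congr (Subgroup.subgroupOfEquivOfLe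
          (sup_le hZle (Subgroup.zpowers_le.mpr hmC))).toEquiv).symm
      have hj2 : 2 ≤ j := by
        rw [hj] at h5
        exact (Nat.pow_lt_pow_iff_right hp.one_lt).mp (by rwa [pow_one])
      haveI : IsCyclic (C ⧸ Subgroup.center C) := by
        have h6 := Subgroup.card_eq_card_quotient_mul_card_subgroup (Subgroup.center C)
        rw [hCcard, hj] at h6
        rcases Nat.lt_or_ge j 3 with h | h
        · rw [show j = 2 by omega, pow_succ p 2, mul_comm _ (p ^ 2)] at h6
          exact isCyclic_of_prime_card (p := p) (Nat.eq_of_mul_eq_mul_left (pow_pos hp.pos 2) h6).symm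
        · rw [show j = 3 by omega] at h6
          haveI : Subsingleton (C ⧸ Subgroup.center C) := (Nat.card_eq_one_iff_unique.mp (by
            exact (Nat.eq_of_mul_eq_mul_right (pow_pos hp.pos 3) (h6.symm.trans (one_mul _).symm)))).1
          infer_instance
      exact (QuotientGroup.mk' (Subgroup.center C)).isMulCommutative_of_isCyclic_of_ker_le_center
        (by rw [QuotientGroup.ker_mk'])

end Cfsg.Agent.S3810
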