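import Cfsg.Statements.S3811
import Cfsg.Agent.Lib.SoftSubgroup
-- import your own Cfsg.Agent.* helpers here

set_option autoImplicit false
open Cfsg

open scoped commutatorElement

namespace Cfsg.Agent.S3811

variable {P : Type*} [Group P]

/-- The normalizer tower. -/
def tower (E : Subgroup P) : ℕ → Subgroup P
  | 0 => E
  | i + 1 => Subgroup.normalizer (tower E i : Set P)

theorem tower_mono (E : Subgroup P) : Monotone (tower E) :=
  monotone_nat_of_le_succ fun _ => Subgroup.le_normalizer

theorem le_tower (E : Subgroup P) (i : ℕ) : E ≤ tower E i := tower_mono E (Nat.zero_le i)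

variable [Finite P] {p : ℕ} [Fact p.Prime]

/-- All steps below `j` have index `p`. -/
def StepsBelow (p : ℕ) (E : Subgroup P) (j : ℕ) : Prop :=
  ∀ i < j, (tower E i).relIndex (tower E (i + 1)) = p

theorem relIndex_tower {E : Subgroup P} {j : ℕ} (hs : StepsBelow p E j) :
    ∀ i ≤ j, E.relIndex (tower E i) = p ^ i := by
  intro i
  induction i with
  | zero => intro _; simp [tower]
  | succ i ih =>
    intro hi
    rw [← Subgroup.relIndex_mul_relIndex _ _ _ (le_tower E i) (tower_mono E (Nat.le_succ i)), ih (by omega),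
      hs i (by omega), pow_succ]

theorem exists_eq_tower (hP : IsPGroup p P) {E : Subgroup P} {j : ℕ} (hs : StepsBelow p E j) {H : Subgroup P}
    (hEH : E ≤ H) (hH : H ≤ tower E j) : ∃ i ≤ j, H = tower E i := by
  classical
  set s := (Finset.range (j + 1)).filter fun i => tower E i ≤ H with hsdef
  have hne : s.Nonempty := ⟨0, by simp [hsdef, tower, hEH]⟩
  obtain ⟨hi, hle⟩ := Finset.mem_filter.mp (Finset.max'_mem s hne)
  set i := s.max' hne with hidef
  rw [Finset.mem_range] at hi
  refine ⟨i, by omega, ?_⟩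
  rcases eq_or_lt_of_le hle with h | h
  · exact h.symm
  · exfalso
    have hij : i < j := by
      by_contra hc
      rw [show i = j by omega] at h
      exact absurd hH (not_le_of_gt h)
    have : Group.IsNilpotent ↥H := (hP.to_subgroup H).isNilpotent
    have hlt := Group.normalizerCondition_of_isNilpotent ((tower E i).subgroupOf H)
      (lt_top_iff_ne_top.mpr fun he => absurd (Subgroup.subgroupOf_eq_top.mp he) (not_le_of_gt h))
    rw [← Subgroup.subgroupOf_normalizer_eq hle] at hlt
    obtain ⟨x, hxN, hxi⟩ := SetLike.exists_of_lt hlt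
    have hxN' : (x : P) ∈ tower E (i + 1) := hxN
    have hxi' : (x : P) ∉ tower E i := hxi
    have hlt' : tower E i < H ⊓ tower E (i + 1) :=
      lt_of_le_of_ne (le_inf hle (tower_mono E (Nat.le_succ i))) fun he => hxi' (he ▸ ⟨x.2, hxN'⟩)
    have hmul := Subgroup.relIndex_mul_relIndex (tower E i) (H ⊓ tower E (i + 1)) (tower E (i + 1)) hlt'.le inf_le_right
    rw [hs i hij] at hmul
    rcases (Nat.dvd_prime (Fact.out : p.Prime)).mp ⟨_, hmul.symm⟩ with h1 | h1
    · exact absurd (Subgroup.relIndex_eq_one.mp h1) (not_le_of_gt hlt')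
    · rw [h1] at hmul
      have h2 : (H ⊓ tower E (i + 1)).relIndex (tower E (i + 1)) = 1 :=
        (mul_eq_left₀ (Fact.out : p.Prime).ne_zero).mp hmul
      have hsucc : tower E (i + 1) ≤ H := (Subgroup.relIndex_eq_one.mp h2).trans inf_le_left
      have : i + 1 ≤ i := Finset.le_max' s (i + 1) (Finset.mem_filter.mpr ⟨Finset.mem_range.mpr (by omega), hsucc⟩)
      omega

theorem isTowerTop (hP : IsPGroup p P) {E : Subgroup P} (hEab : IsMulCommutative ↥E)
    (hC : Subgroup.centralizer (E : Set P) ≤ E) {j : ℕ} (hs : StepsBelow p E j) :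
    Soft.IsTowerTop p (E.subgroupOf (tower E j)) := by
  refine ⟨?_, ?_, ?_⟩
  · refine ⟨⟨fun a b => ?_⟩⟩
    apply Subtype.ext; apply Subtype.ext
    have := congrArg Subtype.val (hEab.is_comm.comm (⟨_, a.2⟩ : ↥E) ⟨_, b.2⟩)
    exact this
  · intro x hx
    refine hC (Subgroup.mem_centralizer_iff.mpr fun e he => ?_)
    exact congrArg Subtype.val (Subgroup.mem_centralizer_iff.mp hx ⟨e, le_tower E j he⟩ he)
  · intro H hEH hH
    have h1 : E ≤ H.map (tower E j).subtype := fun e he => ⟨⟨e, le_tower E j he⟩, hEH he, rfl⟩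
    obtain ⟨i, hij, hi⟩ := exists_eq_tower hP hs h1 (Subgroup.map_subtype_le H)
    have hHe : H = (tower E i).subgroupOf (tower E j) := by
      rw [← hi]; exact (Subgroup.comap_map_eq_self_of_injective (tower E j).subtype_injective H).symm
    have hij' : i < j := lt_of_le_of_ne hij fun he => hH (by rw [hHe, he, Subgroup.subgroupOf_self])
    rw [hHe, ← Subgroup.subgroupOf_normalizer_eq (tower_mono E hij)]
    show Subgroup.relIndex _ ((tower E (i + 1)).subgroupOf (tower E j)) = p
    rw [Subgroup.relIndex_subgroupOf (tower_mono E hij')]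
    exact hs i hij'

/-- Conjugation by an element of the normalizer. -/
def conjAut (K : Subgroup P) (x : ↥(Subgroup.normalizer (K : Set P))) : MulAut ↥K where
  toFun a := ⟨x * a * (x : P)⁻¹, (Subgroup.mem_normalizer_iff.mp x.2 a).mp a.2⟩
  invFun a := ⟨(x : P)⁻¹ * a * x, (Subgroup.mem_normalizer_iff.mp x.2 _).mpr (by
    rw [← mul_assoc, ← mul_assoc, mul_inv_cancel, one_mul, mul_assoc, mul_inv_cancel, mul_one]; exact a.2)⟩
  left_inv a := Subtype.ext (by simp [mul_assoc])
  right_inv a := Subtype.ext (by simp [mul_assoc])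
  map_mul' a b := Subtype.ext (by simp [mul_assoc])

theorem tower_pred (hP : IsPGroup p P) {E : Subgroup P} (hEab : IsMulCommutative ↥E)
    (hC : Subgroup.centralizer (E : Set P) ≤ E) {j : ℕ} (hs : StepsBelow p E (j + 1)) :
    E.subgroupOf (tower E (j + 1)) ⊔ (⊤ : Subgroup ↥(tower E (j + 1))).lowerCentralSeries 1
      = (tower E j).subgroupOf (tower E (j + 1)) := by
  have hp : p.Prime := Fact.out
  have : Group.IsNilpotent ↥(tower E (j + 1)) := (hP.to_subgroup _).isNilpotent
  have h := isTowerTop hP hEab hC hs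
  have hne : E.subgroupOf (tower E (j + 1)) ≠ ⊤ := by
    intro he
    have := relIndex_tower hs (j + 1) le_rfl
    rw [Subgroup.relIndex, he, Subgroup.index_top] at this
    exact absurd this.symm (fun h => by simp [hp.one_lt.ne'] at h)
  set M := E.subgroupOf (tower E (j + 1)) ⊔ (⊤ : Subgroup ↥(tower E (j + 1))).lowerCentralSeries 1 with hM
  have hidx : M.index = p := h.index_max hne
  obtain ⟨i, hij, hi⟩ := exists_eq_tower hP hs (H := M.map (tower E (j + 1)).subtype)
    (fun e he => ⟨⟨e, le_tower E _ he⟩, (le_sup_left : _ ≤ M) he, rfl⟩) (Subgroup.map_subtype_le M)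
  have hMe : M = (tower E i).subgroupOf (tower E (j + 1)) := by
    rw [← hi]; exact (Subgroup.comap_map_eq_self_of_injective (tower E (j + 1)).subtype_injective M).symm
  have hmul := Subgroup.relIndex_mul_relIndex _ _ _ (le_tower E i) (tower_mono E hij)
  rw [relIndex_tower hs i hij, relIndex_tower hs (j + 1) le_rfl, Subgroup.relIndex, ← hMe, hidx, ← pow_succ] at hmul
  have := Nat.pow_right_injective hp.two_le hmul
  rw [hMe, show i = j by omega]

/-- The step at a proper member of the tower: index `p`, and the class. -/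
theorem step (hP : IsPGroup p P) {E : Subgroup P} (hEab : IsMulCommutative ↥E)
    (hC : Subgroup.centralizer (E : Set P) ≤ E) {j : ℕ} (hs : StepsBelow p E (j + 1))
    (hne : tower E (j + 1) ≠ ⊤) [Group.IsNilpotent ↥(tower E (j + 1))] :
    (tower E (j + 1)).relIndex (tower E (j + 2)) = p ∧ Group.nilpotencyClass ↥(tower E (j + 1)) = j + 2 := by
  classical
  have hp : p.Prime := Fact.out
  set K := tower E (j + 1) with hK
  set N := Subgroup.normalizer (K : Set P) with hN
  have h := isTowerTop hP hEab hC hs
  rw [← hK] at h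
  have hidxE : (E.subgroupOf K).index = p ^ (j + 1) := relIndex_tower hs (j + 1) le_rfl
  have hEne : E.subgroupOf K ≠ ⊤ := by
    intro he; rw [he, Subgroup.index_top] at hidxE
    exact absurd hidxE.symm (fun h => by simp [hp.one_lt.ne'] at h)
  set M := E.subgroupOf K ⊔ (⊤ : Subgroup ↥K).lowerCentralSeries 1 with hM
  have hMt : M = (tower E j).subgroupOf K := tower_pred hP hEab hC hs
  have hMidx : M.index = p := h.index_max hEne
  let X : ↥N → Subgroup ↥K := fun x => M.map (conjAut K x).toMonoidHom
  have hXidx : ∀ x, (X x).index = p := fun x => by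
    rw [Subgroup.index_map_of_bijective (f := (conjAut K x).toMonoidHom) (conjAut K x).bijective]; exact hMidx
  -- the stabilizer of `M` is `K`
  have hstab : ∀ x y : ↥N, X x = X y → (x : P)⁻¹ * y ∈ K := by
    intro x y hxy
    have hfwd : ∀ a b : ↥N, X a = X b → ∀ z ∈ tower E j, ((a : P)⁻¹ * b) * z * ((a : P)⁻¹ * b)⁻¹ ∈ tower E j := by
      intro a b hab z hz
      have hzK : z ∈ K := tower_mono E (Nat.le_succ j) hz
      have hzM : (⟨z, hzK⟩ : ↥K) ∈ M := by rw [hMt]; exact hz
      have h1 : conjAut K b ⟨z, hzK⟩ ∈ X a := hab ▸ ⟨_, hzM, rfl⟩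
      obtain ⟨w, hw, hwe⟩ := h1
      rw [SetLike.mem_coe, hMt] at hw
      have h2 : (a : P) * w * (a : P)⁻¹ = b * z * (b : P)⁻¹ := by
        have := congrArg Subtype.val hwe
        simpa [conjAut] using this
      have hw' : ((w : ↥K) : P) ∈ tower E j := hw
      have h3 : ((a : P)⁻¹ * b) * z * ((a : P)⁻¹ * b)⁻¹ = w := by
        calc _ = (a : P)⁻¹ * ((b : P) * z * (b : P)⁻¹) * a := by group
          _ = (a : P)⁻¹ * ((a : P) * w * (a : P)⁻¹) * a := by rw [h2]
          _ = w := by group
      rw [h3]; exact hw'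
    show _ ∈ Subgroup.normalizer (tower E j : Set P)
    rw [Subgroup.mem_normalizer_iff]
    intro z
    refine ⟨hfwd x y hxy z, fun hz => ?_⟩
    have := hfwd y x hxy.symm _ hz
    simpa [mul_assoc] using this
  -- an element moving `M`
  have hlt : K < N := by
    have : Group.IsNilpotent P := hP.isNilpotent
    exact Group.normalizerCondition_of_isNilpotent K (lt_top_iff_ne_top.mpr hne)
  obtain ⟨g, hgN, hgK⟩ := SetLike.exists_of_lt hlt
  have hX1 : X 1 = M := by
    have : conjAut K (1 : ↥N) = 1 := MulEquiv.ext fun a => Subtype.ext (by simp [conjAut])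
    show M.map _ = M
    rw [this]; exact Subgroup.map_id M
  have hg : X ⟨g, hgN⟩ ≠ M := fun he => hgK (by simpa using hstab 1 ⟨g, hgN⟩ (hX1.trans he.symm))
  refine ⟨?_, Soft.nilpotencyClass_eq hp (hP.to_subgroup K) h hidxE (Nat.succ_ne_zero j) (conjAut K ⟨g, hgN⟩) hg⟩
  -- counting the orbit
  set D := M ⊓ X ⟨g, hgN⟩ with hD
  have hDX : ∀ x, D ≤ X x := fun x => Soft.inter_le hp h hEne (conjAut K ⟨g, hgN⟩) (conjAut K x) hg
  have hinf : ∀ A B : Subgroup ↥K, A.index = p → B.index = p → A ≠ B → (A ⊓ B).index = p ^ 2 := by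
    intro A B hA hB hAB
    obtain ⟨t, ht⟩ := ((hP.to_subgroup K).to_subgroup A).index ((A ⊓ B).subgroupOf A)
    have h1 : (A ⊓ B).index ≤ p * p := (Subgroup.index_inf_le (H := A) (K := B)).trans_eq (by rw [hA, hB])
    rw [← Subgroup.relIndex_mul_index (inf_le_left : A ⊓ B ≤ A), hA, Subgroup.relIndex, ht] at h1 ⊢
    rcases Nat.lt_trichotomy t 1 with ht1 | ht1 | ht1
    · exfalso
      obtain rfl : t = 0 := by omega
      rw [pow_zero] at ht
      exact hAB (Soft.eq_of_le_of_prime_index hp hA
        ((Subgroup.subgroupOf_eq_top.mp (Subgroup.index_eq_one.mp ht)).trans inf_le_right)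
        (fun he => by rw [he, Subgroup.index_top] at hB; exact hp.one_lt.ne hB))
    · subst ht1; ring
    · exfalso
      have : p ^ 2 ≤ p ^ t := Nat.pow_le_pow_right hp.pos ht1
      have := Nat.le_of_mul_le_mul_right h1 hp.pos
      nlinarith [hp.two_le]
  have hDidx : D.index = p ^ 2 := hinf _ _ hMidx (hXidx _) (Ne.symm hg)
  have hpair : ∀ x y, X x ≠ X y → X x ⊓ X y = D := by
    intro x y hxy
    refine (le_antisymm (le_inf (hDX x) (hDX y)) ?_).symm
    have he := Subgroup.relIndex_mul_index (le_inf (hDX x) (hDX y))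
    rw [hinf _ _ (hXidx x) (hXidx y) hxy, hDidx] at he
    exact Subgroup.relIndex_eq_one.mp ((mul_eq_right₀ (pow_ne_zero _ hp.ne_zero)).mp he)
  let S := ↥N ⧸ K.subgroupOf N
  have : Fintype S := Fintype.ofFinite S
  have : Fintype ↥K := Fintype.ofFinite ↥K
  have hinj : ∀ a b : S, X a.out = X b.out → a = b := by
    intro a b hab
    rw [← QuotientGroup.out_eq' a, ← QuotientGroup.out_eq' b, QuotientGroup.eq]
    exact hstab _ _ hab
  let piece : S → Finset ↥K := fun a => Finset.univ.filter fun z => z ∈ X a.out ∧ z ∉ D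
  have hfilter : ∀ A : Subgroup ↥K, (Finset.univ.filter fun z => z ∈ A).card = Nat.card A := fun A => by
    rw [Nat.card_eq_fintype_card, Fintype.card_subtype]
  have hpiece : ∀ a, (piece a).card + Nat.card D = Nat.card (X a.out) := by
    intro a
    rw [← hfilter, ← hfilter, ← Finset.card_union_of_disjoint]
    · congr 1
      ext z
      simp only [piece, Finset.mem_union, Finset.mem_filter, Finset.mem_univ, true_and]
      constructor
      · rintro (⟨hz, _⟩ | hz)
        exacts [hz, hDX _ hz]
      · intro hz; by_cases hzD : z ∈ D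
        exacts [Or.inr hzD, Or.inl ⟨hz, hzD⟩]
    · rw [Finset.disjoint_left]
      intro z hz hz'
      exact ((Finset.mem_filter.mp hz).2).2 (Finset.mem_filter.mp hz').2
  have hdisj : ∀ a b : S, a ≠ b → Disjoint (piece a) (piece b) := by
    intro a b hab
    rw [Finset.disjoint_left]
    intro z hz hz'
    obtain ⟨hza, hzD⟩ := (Finset.mem_filter.mp hz).2
    exact hzD (hpair _ _ (fun he => hab (hinj _ _ he)) ▸ ⟨hza, ((Finset.mem_filter.mp hz').2).1⟩)
  have hsum : ∑ a : S, (piece a).card + Nat.card D ≤ Nat.card ↥K := by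
    rw [← Finset.card_biUnion (fun a _ b _ hab => hdisj a b hab), ← hfilter,
      ← Finset.card_union_of_disjoint, Nat.card_eq_fintype_card]
    · exact Finset.card_le_univ _
    · rw [Finset.disjoint_left]
      intro z hz hz'
      obtain ⟨a, _, ha⟩ := Finset.mem_biUnion.mp hz
      exact ((Finset.mem_filter.mp ha).2).2 (Finset.mem_filter.mp hz').2
  have hcD := Subgroup.index_mul_card D
  rw [hDidx] at hcD
  have hconst : ∀ a : S, (piece a).card + Nat.card D = p * Nat.card D := by
    intro a
    have hcX := Subgroup.index_mul_card (X a.out)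
    rw [hXidx, ← hcD] at hcX
    rw [hpiece]
    exact Nat.eq_of_mul_eq_mul_left hp.pos (by rw [hcX]; ring)
  have hconst' : ∀ a : S, (piece a).card = (p - 1) * Nat.card D := fun a => by
    have := hconst a
    rw [Nat.sub_mul, one_mul]; omega
  rw [Finset.sum_congr rfl (fun a _ => hconst' a), Finset.sum_const, smul_eq_mul, Finset.card_univ,
    ← hcD, ← Nat.card_eq_fintype_card] at hsum
  have hd : 0 < Nat.card D := Nat.card_pos
  have hbound : Nat.card S * (p - 1) + 1 ≤ p ^ 2 :=
    Nat.le_of_mul_le_mul_right (by linarith) hd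
  obtain ⟨t, ht⟩ := (hP.to_subgroup N).index (K.subgroupOf N)
  have htS : Nat.card S = p ^ t := ht
  show (K.subgroupOf N).index = p
  rw [ht]
  rcases Nat.lt_trichotomy t 1 with ht1 | ht1 | ht1
  · exfalso
    obtain rfl : t = 0 := by omega
    rw [pow_zero] at ht
    exact absurd (Subgroup.subgroupOf_eq_top.mp (Subgroup.index_eq_one.mp ht)) (not_le_of_gt hlt)
  · rw [ht1, pow_one]
  · exfalso
    have h2 : p ^ 2 ≤ p ^ t := Nat.pow_le_pow_right hp.pos ht1
    rw [htS] at hbound
    obtain ⟨q, rfl⟩ : ∃ q, p = q + 2 := ⟨p - 2, by have := hp.two_le; omega⟩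
    simp only [Nat.add_sub_cancel, show q + 2 - 1 = q + 1 by omega] at hbound
    nlinarith

end Cfsg.Agent.S3811

namespace Cfsg.Agent.S3811

/-- Let P be a finite p-group and E an abelian subgroup of P that contains its centralizer, has index p in its normalizer, and has index at least p² in P. Then the subgroups of P containing E are totally ordered by inclusion, each proper one has index p in its normalizer (so they form the normalizer tower of E, with all steps of index p), and the i-th member of the tower above E has nilpotency class i + 1 whenever it is a proper subgroup of P. -/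
theorem result {P : Type*} [Group P] [Finite P] (p : ℕ) [Fact p.Prime] (hP : IsPGroup p P)
    (E : Subgroup P) (hEab : IsMulCommutative ↥E) (hC : Subgroup.centralizer (E : Set P) ≤ E)
    (hN : (E.subgroupOf (Subgroup.normalizer (E : Set P))).index = p) (hidx : p ^ 2 ≤ E.index) :
    (∀ K L : Subgroup P, E ≤ K → E ≤ L → K ≤ L ∨ L ≤ K) ∧
      (∀ K : Subgroup P, E ≤ K → K ≠ ⊤ → (K.subgroupOf (Subgroup.normalizer (K : Set P))).index = p) ∧
      ∀ (i : ℕ) (K : Subgroup P) [Group.IsNilpotent ↥K], E ≤ K → K ≠ ⊤ → K.index * p ^ i = E.index →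
        Group.nilpotencyClass ↥K = i + 1 := by
  classical
  have hidxE2 := hidx
  have hp : p.Prime := Fact.out
  have hPn : Group.IsNilpotent P := hP.isNilpotent
  have h0 : E.relIndex (Subgroup.normalizer (E : Set P)) = p := hN
  have hstep1 : StepsBelow p E 1 := fun i hi => by
    obtain rfl : i = 0 := by omega
    exact h0
  have hsteps : ∀ j, (∀ i < j, tower E i ≠ ⊤) → StepsBelow p E j := by
    intro j
    induction j with
    | zero => intro _ i hi; omega
    | succ j ih =>
      intro hne i hi
      have hsj := ih fun i hi => hne i (by omega)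
      rcases Nat.lt_succ_iff_lt_or_eq.mp hi with hlt | rfl
      · exact hsj i hlt
      · rcases i with _ | i
        · exact h0
        · have : Group.IsNilpotent ↥(tower E (i + 1)) := (hP.to_subgroup _).isNilpotent
          exact (step hP hEab hC hsj (hne _ (Nat.lt_succ_self _))).1
  have htop : ∃ r, tower E r = ⊤ := by
    by_contra hc
    push_neg at hc
    have hs := hsteps (E.index + 1) fun i _ => hc i
    have hdvd : p ^ (E.index + 1) ∣ E.index := by
      rw [← relIndex_tower hs _ le_rfl]
      exact Subgroup.relIndex_dvd_index_of_le (le_tower E _)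
    have h1 := Nat.le_of_dvd (Nat.pos_of_ne_zero Subgroup.index_ne_zero_of_finite) hdvd
    have h2 := Nat.lt_pow_self (n := E.index + 1) hp.one_lt
    omega
  set r := Nat.find htop with hr
  have hrt : tower E r = ⊤ := Nat.find_spec htop
  have hbelow : ∀ i < r, tower E i ≠ ⊤ := fun i hi => Nat.find_min htop hi
  have hs : StepsBelow p E r := hsteps r hbelow
  have hall : ∀ K : Subgroup P, E ≤ K → ∃ i ≤ r, K = tower E i := fun K hK =>
    exists_eq_tower hP hs hK (hrt ▸ le_top)
  refine ⟨?_, ?_, ?_⟩
  · intro K L hK hL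
    obtain ⟨i, -, rfl⟩ := hall K hK
    obtain ⟨k, -, rfl⟩ := hall L hL
    exact (le_total i k).imp (fun h => tower_mono E h) (fun h => tower_mono E h)
  · intro K hK hne
    obtain ⟨i, hi, rfl⟩ := hall K hK
    exact hs i (lt_of_le_of_ne hi fun he => hne (he ▸ hrt))
  · intro i K _ hK hne hidx
    have hidx' := hidxE2
    obtain ⟨k, hk, rfl⟩ := hall K hK
    have hkr : k < r := lt_of_le_of_ne hk fun he => hne (he ▸ hrt)
    have hki : k = i := by
      have := Subgroup.relIndex_mul_index (le_tower E k)
      rw [relIndex_tower hs k hk, ← hidx, mul_comm] at this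
      exact Nat.pow_right_injective hp.two_le
        (Nat.eq_of_mul_eq_mul_left (Nat.pos_of_ne_zero Subgroup.index_ne_zero_of_finite) this)
    subst hki
    rcases k with _ | k
    · have hEne : E ≠ ⊥ := by
        intro he
        have h1 : (⊤ : Subgroup P) ≤ E := le_trans (fun x _ => Subgroup.mem_centralizer_iff.mpr fun y hy => by
          rw [he] at hy; simp [Subgroup.mem_bot.mp hy]) hC
        rw [top_le_iff.mp h1, Subgroup.index_top] at hidx'
        nlinarith [hp.two_le]
      apply le_antisymm
      · refine Subgroup.lowerCentralSeries_eq_bot_iff_nilpotencyClass_le.mp ?_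
        rw [show (0 : ℕ) + 1 = 0 + 1 from rfl, Subgroup.lowerCentralSeries_succ, eq_bot_iff, Subgroup.commutator_le]
        intro a _ b _
        rw [Subgroup.mem_bot, commutatorElement_eq_one_iff_mul_comm]
        exact hEab.is_comm.comm a b
      · by_contra hc
        have h1 := Subgroup.lowerCentralSeries_eq_bot_iff_nilpotencyClass_le (G := ↥(tower E 0)) (n := 0) |>.mpr (by omega)
        rw [Subgroup.lowerCentralSeries_zero] at h1
        refine hEne (Subgroup.eq_bot_iff_forall _ |>.mpr fun x hx => ?_)
        have : (⟨x, hx⟩ : ↥(tower E 0)) ∈ (⊥ : Subgroup _) := h1 ▸ Subgroup.mem_top _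
        exact congrArg Subtype.val (Subgroup.mem_bot.mp this)
    · exact (step hP hEab hC (fun i hi => hs i (by omega)) hne).2

end Cfsg.Agent.S3811
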