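import Cfsg.Statements.S3824
import Cfsg.Agent.Char.Burnside
import Cfsg.Agent.Lib.ClassSize

set_option autoImplicit false
open Cfsg

namespace Cfsg.Agent.S3824

universe u

theorem aux : ∀ (n : ℕ) (G : Type u) [Group G] [Finite G], Nat.card G ≤ n → ∀ A : Subgroup G,
    IsMulCommutative A → (∃ k : ℕ, A.index = 2 ^ k) → Group.IsSolvable G := by
  intro n
  induction n with
  | zero =>
    intro G _ _ hn
    have := Nat.card_pos (α := G)
    omega
  | succ n ih =>
    intro G _ _ hn A hA hidx
    obtain ⟨k, hk⟩ := hidx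
    rcases subsingleton_or_nontrivial G with hs | hs
    · infer_instance
    by_cases hsimple : ∀ N : Subgroup G, N.Normal → N = ⊥ ∨ N = ⊤
    · haveI : IsSimpleGroup G := ⟨hsimple⟩
      haveI := Fact.mk Nat.prime_two
      rcases eq_or_ne A ⊥ with rfl | hA1
      · rw [Subgroup.index_bot] at hk
        haveI := (IsPGroup.of_card hk).isNilpotent
        infer_instance
      obtain ⟨g, hgA, hg⟩ := (Subgroup.ne_bot_iff_exists_ne_one.mp hA1 : ∃ a : A, a ≠ 1) |> fun ⟨a, ha⟩ =>
        (⟨a, a.2, fun h => ha (Subtype.ext h)⟩ : ∃ g : G, g ∈ A ∧ g ≠ 1)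
      have hle : A ≤ Subgroup.centralizer ({g} : Set G) := fun a ha => by
        rw [Subgroup.mem_centralizer_singleton_iff]
        exact congrArg Subtype.val (hA.is_comm.comm (⟨a, ha⟩ : A) ⟨g, hgA⟩)
      obtain ⟨j, -, hj⟩ := (Nat.dvd_prime_pow Nat.prime_two).mp (hk ▸ Subgroup.index_dvd_of_le hle)
      have hprime := Cfsg.Agent.Char.prime_card_of_prime_power_class 2 j Nat.prime_two g hg hj
      haveI := Fact.mk hprime
      haveI : IsCyclic G := isCyclic_of_prime_card rfl
      exact Group.isSolvable_of_comm fun x y => (IsCyclic.commGroup (α := G)).mul_comm x y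
    push Not at hsimple
    obtain ⟨N, hN, hNb, hNt⟩ := hsimple
    haveI := hN
    have hNlt : Nat.card N ≤ n := by
      have h2 : Nat.card N < Nat.card G :=
        lt_of_le_of_ne (Subgroup.card_le_card_group N) fun hc => hNt (Subgroup.eq_top_of_card_eq N hc)
      omega
    have hQlt : Nat.card (G ⧸ N) ≤ n := by
      have h2 : Nat.card (G ⧸ N) < Nat.card G := by
        rw [Subgroup.card_eq_card_quotient_mul_card_subgroup N]
        exact lt_mul_of_one_lt_right Nat.card_pos ((Subgroup.one_lt_card_iff_ne_bot _).mpr hNb)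
      omega
    have hNsol : Group.IsSolvable N := by
      refine ih N hNlt (A.subgroupOf N) ?_ ?_
      · refine ⟨⟨fun x y => Subtype.ext (Subtype.ext ?_)⟩⟩
        simp only [Subgroup.coe_mul]
        exact congrArg Subtype.val
          (hA.is_comm.comm (⟨((x : N) : G), x.2⟩ : A) ⟨((y : N) : G), y.2⟩)
      · obtain ⟨j, -, hj⟩ := (Nat.dvd_prime_pow Nat.prime_two).mp
          (hk ▸ Cfsg.Agent.ClassSize.relIndex_dvd_index_of_normal_left N A)
        exact ⟨j, hj⟩
    have hQsol : Group.IsSolvable (G ⧸ N) := by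
      refine ih _ hQlt (A.map (QuotientGroup.mk' N)) ?_ ?_
      · haveI := hA; infer_instance
      · obtain ⟨j, -, hj⟩ := (Nat.dvd_prime_pow Nat.prime_two).mp
          (hk ▸ Subgroup.index_map_dvd A (QuotientGroup.mk'_surjective N))
        exact ⟨j, hj⟩
    haveI := hNsol
    haveI := hQsol
    exact Group.isSolvable_of_ker_le_range N.subtype (QuotientGroup.mk' N)
      (by rw [QuotientGroup.ker_mk', Subgroup.range_subtype])

/-- Every finite group having an abelian subgroup whose index is a power of 2 is solvable. -/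
theorem result {G : Type*} [Group G] [Finite G]
    (A : Subgroup G) (hA : IsMulCommutative A) (hidx : ∃ k : ℕ, A.index = 2 ^ k) : Group.IsSolvable G := by
  exact aux _ G le_rfl A hA hidx

end Cfsg.Agent.S3824
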