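import Cfsg.Statements.S3868
import Mathlib
import Cfsg.Agent.H73.MinNonClosed
-- import your own Cfsg.Agent.* helpers here

set_option autoImplicit false
open Cfsg

set_option linter.style.haveILetI false

namespace Cfsg.Agent.S3868

/-- Structure of the non-simple minimal non-p-closed groups. Call a finite group p-closed when its Sylow p-subgroups are normal, and minimal non-p-closed when it is not p-closed but every proper subgroup and every proper quotient is. If such a group G is not simple, then there is a prime q ≠ p such that G has order p · q^e, where e is the multiplicative order of q modulo p, and G has a normal subgroup A of order q^e that is elementary abelian and is a minimal normal subgroup of G (so G is the semidirect product of A by a group of order p acting irreducibly). -/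
theorem result {G : Type*} [Group G] [Finite G] {p : ℕ} [Fact p.Prime]
    (hnc : ¬ Cfsg.IsPClosed p G) (hsub : ∀ H : Subgroup G, H ≠ ⊤ → Cfsg.IsPClosed p ↥H)
    (hquo : ∀ (N : Subgroup G) [N.Normal], N ≠ ⊥ → Cfsg.IsPClosed p (G ⧸ N)) (hns : ¬ IsSimpleGroup G) :
    ∃ q : ℕ, q.Prime ∧ q ≠ p ∧ Nat.card G = p * q ^ orderOf (q : ZMod p) ∧
      ∃ A : Subgroup G, A.Normal ∧ Nat.card ↥A = q ^ orderOf (q : ZMod p) ∧ Cfsg.IsElementaryAbelian q A ∧
        ∀ B : Subgroup G, B.Normal → B ≤ A → B = ⊥ ∨ B = A := by
  classical
  have hp : p.Prime := Fact.out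
  haveI : Nontrivial G := by
    by_contra hG
    rw [not_nontrivial_iff_subsingleton] at hG
    exact hnc fun S => ⟨fun a ha g => by rw [Subsingleton.elim (g * a * g⁻¹) a]; exact ha⟩
  obtain ⟨M, hM, hM1, hM2⟩ : ∃ M : Subgroup G, M.Normal ∧ M ≠ ⊥ ∧ M ≠ ⊤ := by
    by_contra h
    push Not at h
    exact hns ⟨fun H hH => or_iff_not_imp_left.2 (h H hH)⟩
  -- proper normal subgroups have order prime to `p`
  have hprime : ∀ M : Subgroup G, M.Normal → M ≠ ⊤ → ¬ p ∣ Nat.card M := by
    intro M hM hMt hdvd
    haveI := hM
    let S : Sylow p M := default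
    haveI : (S : Subgroup M).Normal := hsub M hMt S
    haveI : (S : Subgroup M).Characteristic := Sylow.characteristic_of_normal S inferInstance
    set S₁ := (S : Subgroup M).map M.subtype with hS₁
    have hS₁p : IsPGroup p S₁ := S.2.map _
    have hS₁n : S₁.Normal := inferInstance
    have hne : S₁ ≠ ⊥ := fun h => S.ne_bot_of_dvd_card hdvd
      ((Subgroup.map_eq_bot_iff_of_injective _ Subtype.val_injective).1 h)
    haveI := hS₁n
    refine hnc fun T => ?_
    have hle : S₁ ≤ T := le_sup_right.trans (T.is_maximal' (T.2.to_sup_of_normal_right hS₁p) le_sup_left).le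
    obtain ⟨R, hR⟩ := (T.2.map (QuotientGroup.mk' S₁)).exists_le_sylow
    have hRn := hquo S₁ hne R
    have hcomap : ((R : Subgroup (G ⧸ S₁)).comap (QuotientGroup.mk' S₁)) = T := by
      refine T.is_maximal' (R.2.comap_of_ker_isPGroup _ (by rw [QuotientGroup.ker_mk']; exact hS₁p)) ?_
      exact Subgroup.map_le_iff_le_comap.1 hR
    rw [← hcomap]
    exact hRn.comap _
  obtain ⟨N, hN, hN1, hNM, hmin⟩ := Cfsg.Agent.H73.exists_minimal_normal_le M hM hM1
  haveI := hN
  have hNt : N ≠ ⊤ := fun h => hM2 (eq_top_iff.2 (h ▸ hNM))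
  have hNp := hprime N hN hNt
  have hpG : p ∣ Nat.card G := by
    by_contra h
    refine hnc fun T => ?_
    have : (T : Subgroup G) = ⊥ := by
      obtain ⟨k, hk⟩ := T.2.exists_card_eq
      rw [← Subgroup.card_eq_one, hk]
      cases k with
      | zero => simp
      | succ k => exact absurd ((dvd_pow_self p k.succ_ne_zero).trans (hk ▸ (T : Subgroup G).card_subgroup_dvd_card)) h
    rw [this]; infer_instance
  have hpQ : IsPGroup p (G ⧸ N) := by
    let R : Sylow p (G ⧸ N) := default
    haveI := hquo N hN1 R
    have hRt : (R : Subgroup (G ⧸ N)) = ⊤ := by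
      by_contra h
      have h1 := hprime _ (this.comap (QuotientGroup.mk' N)) (fun h2 => h (by
        have := congrArg (Subgroup.map (QuotientGroup.mk' N)) h2
        rwa [Subgroup.map_comap_eq_self_of_surjective (QuotientGroup.mk'_surjective N),
          Subgroup.map_top_of_surjective _ (QuotientGroup.mk'_surjective N)] at this))
      have h3 : p ∣ Nat.card (G ⧸ N) := by
        have := N.card_mul_index
        rw [← this] at hpG
        exact (hp.dvd_mul.1 hpG).resolve_left hNp
      refine h1 ((dvd_trans (R.dvd_card_of_dvd_card h3) ?_))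
      have := Subgroup.card_map_dvd (H := (R : Subgroup (G ⧸ N)).comap (QuotientGroup.mk' N)) (f := QuotientGroup.mk' N)
      rwa [Subgroup.map_comap_eq_self_of_surjective (QuotientGroup.mk'_surjective N)] at this
    have := R.2
    rw [hRt] at this
    exact this.of_equiv Subgroup.topEquiv
  -- the index is `p`
  have hidx : N.index = p := by
    obtain ⟨k, hk⟩ := hpQ.exists_card_eq
    rcases k with _ | _ | k
    · exact absurd (Subgroup.index_eq_one.1 (by rw [N.index_eq_card, hk, pow_zero])) hNt
    · rw [N.index_eq_card, hk, zero_add, pow_one]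
    · exfalso
      have h1 : p ^ (k + 1) ∣ Nat.card (G ⧸ N) := hk ▸ pow_dvd_pow p (by omega)
      obtain ⟨K, hK⟩ := Sylow.exists_subgroup_card_pow_prime p h1
      have hKi : K.index = p := by
        have := K.card_mul_index
        rw [hK, hk, pow_succ p (k + 1)] at this
        exact Nat.eq_of_mul_eq_mul_left (pow_pos hp.pos _) this
      haveI : K.Normal := Subgroup.normal_of_index_eq_minFac_card (by rw [hKi, hk, hp.pow_minFac (by omega)])
      have hne : K.comap (QuotientGroup.mk' N) ≠ ⊤ := fun h => by
        have := congrArg (Subgroup.map (QuotientGroup.mk' N)) h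
        rw [Subgroup.map_comap_eq_self_of_surjective (QuotientGroup.mk'_surjective N),
          Subgroup.map_top_of_surjective _ (QuotientGroup.mk'_surjective N)] at this
        rw [this, Subgroup.index_top] at hKi
        exact hp.ne_one hKi.symm
      refine hprime _ (Subgroup.Normal.comap ‹_› _) hne ?_
      have h2 := Subgroup.card_map_dvd (H := K.comap (QuotientGroup.mk' N)) (f := QuotientGroup.mk' N)
      rw [Subgroup.map_comap_eq_self_of_surjective (QuotientGroup.mk'_surjective N), hK] at h2
      exact (dvd_pow_self p k.succ_ne_zero).trans h2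
  refine Cfsg.Agent.H73.structure_of_index_prime N hN1 hmin hNp hidx hnc ?_
  intro K hK x hxK hx k hkK
  obtain ⟨S, hS⟩ := (IsPGroup.of_card (n := 1) (by rw [Nat.card_zpowers, Subgroup.orderOf_mk _ hxK, hx, pow_one]) :
    IsPGroup p (Subgroup.zpowers (⟨x, hxK⟩ : K))).exists_le_sylow
  have hSn := hsub K hK S
  have hSm : IsPGroup p ((S : Subgroup K).map K.subtype) := S.2.map _
  have he := Cfsg.Agent.H73.eq_zpowers_of_card hx (S := (S : Subgroup K).map K.subtype)
    ⟨⟨x, hxK⟩, hS (Subgroup.mem_zpowers _), rfl⟩ (Cfsg.Agent.H73.card_dvd_prime_of_isPGroup hNp hidx hSm)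
  rw [← he]
  exact ⟨⟨k, hkK⟩ * ⟨x, hxK⟩ * ⟨k, hkK⟩⁻¹, hSn.conj_mem _ (hS (Subgroup.mem_zpowers _)) _, rfl⟩

end Cfsg.Agent.S3868
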