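import Cfsg.Statements.S3870
import Mathlib
-- import your own Cfsg.Agent.* helpers here

set_option autoImplicit false
open Cfsg

namespace Cfsg.Agent.S3870

/-- Let G be a finite simple group whose Sylow p-subgroups are not normal but such that every proper subgroup of G has a normal Sylow p-subgroup. Then any two distinct Sylow p-subgroups of G intersect trivially, and for every Sylow p-subgroup P the normalizer of every non-identity subgroup of P lies in the normalizer of P. -/
theorem result {G : Type*} [Group G] [Finite G] [IsSimpleGroup G] {p : ℕ} [Fact p.Prime]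
    (hnc : ¬ Cfsg.IsPClosed p G) (hsub : ∀ H : Subgroup G, H ≠ ⊤ → Cfsg.IsPClosed p ↥H) :
    (∀ P Q : Sylow p G, P ≠ Q → (P : Subgroup G) ⊓ (Q : Subgroup G) = ⊥) ∧
      ∀ (P : Sylow p G) (R : Subgroup G), R ≤ P → R ≠ ⊥ →
        Subgroup.normalizer (R : Set G) ≤ Subgroup.normalizer ((P : Subgroup G) : Set G) := by
  have hPtop : ∀ P : Sylow p G, (P : Subgroup G) ≠ ⊤ := fun P h =>
    hnc fun Q => by
      obtain ⟨g, hg⟩ := MulAction.exists_smul_eq G P Q
      have : (Q : Subgroup G) = ⊤ := by
        rw [← hg, eq_top_iff]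
        intro x _
        refine ⟨g⁻¹ * x * g, by rw [SetLike.mem_coe, h]; exact Subgroup.mem_top _, ?_⟩
        simp [mul_assoc]
      rw [this]; infer_instance
  have hproper : ∀ R : Subgroup G, IsPGroup p R → R ≠ ⊥ → Subgroup.normalizer (R : Set G) ≠ ⊤ := by
    intro R hR hne htop
    have hn : R.Normal := Subgroup.normalizer_eq_top_iff.1 htop
    rcases hn.eq_bot_or_eq_top with h | h
    · exact hne h
    · obtain ⟨P, hP⟩ := hR.exists_le_sylow
      exact hPtop P (top_le_iff.1 (h ▸ hP))
  have hone : ∀ (P : Sylow p G) (R : Subgroup G), R ≤ P → R < (P : Subgroup G) →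
      ∃ y ∈ (P : Subgroup G), y ∈ Subgroup.normalizer (R : Set G) ∧ y ∉ R := by
    intro P R hRP hlt
    haveI : Group.IsNilpotent (P : Subgroup G) := P.isPGroup'.isNilpotent
    have h1 : R.subgroupOf P < ⊤ := by
      rw [lt_top_iff_ne_top]; intro h
      exact hlt.ne (le_antisymm hRP (Subgroup.subgroupOf_eq_top.1 h))
    obtain ⟨y, hy1, hy2⟩ := SetLike.exists_of_lt (Group.normalizerCondition_of_isNilpotent _ h1)
    refine ⟨y, y.2, Subgroup.mem_normalizer_iff.2 fun z => ⟨fun hz => ?_, fun hz => ?_⟩, hy2⟩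
    · exact (Subgroup.mem_normalizer_iff.1 hy1 ⟨z, hRP hz⟩).1 hz
    · have h3 : z ∈ (P : Subgroup G) := by
        have := mul_mem (mul_mem (inv_mem y.2) (hRP hz)) y.2
        simpa [mul_assoc] using this
      exact (Subgroup.mem_normalizer_iff.1 hy1 ⟨z, h3⟩).2 hz
  have hTI : ∀ P Q : Sylow p G, P ≠ Q → (P : Subgroup G) ⊓ (Q : Subgroup G) = ⊥ := by
    intro P Q hPQ
    induction hn : Nat.card G - Nat.card ↥((P : Subgroup G) ⊓ (Q : Subgroup G)) using Nat.strong_induction_on
      generalizing P Q with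
    | _ n ih =>
    subst hn
    by_contra hD
    set D := (P : Subgroup G) ⊓ (Q : Subgroup G) with hDdef
    have hDp : IsPGroup p D := P.isPGroup'.to_le inf_le_left
    set L := Subgroup.normalizer (D : Set G)
    have hPc := hsub L (hproper D hDp hD)
    obtain ⟨S⟩ : Nonempty (Sylow p L) := inferInstance
    have hS := hPc S
    have hle : ∀ R : Subgroup G, R ≤ L → IsPGroup p R → R ≤ (S : Subgroup L).map L.subtype := by
      intro R hRL hR y hy
      have hR' : IsPGroup p (R.subgroupOf L) := hR.comap_of_injective L.subtype L.subtype_injective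
      obtain ⟨S', hS'⟩ := hR'.exists_le_sylow
      have hss : S' = S := by
        haveI := Sylow.unique_of_normal S hS
        exact Subsingleton.elim _ _
      exact ⟨⟨y, hRL hy⟩, hss ▸ hS' (show (⟨y, hRL hy⟩ : L) ∈ R.subgroupOf L from hy), rfl⟩
    obtain ⟨T, hT⟩ := (S.isPGroup'.map L.subtype).exists_le_sylow
    have hbigger : ∀ P' : Sylow p G, D < (P' : Subgroup G) →
        ∃ y ∈ (P' : Subgroup G) ⊓ (T : Subgroup G), y ∉ D := by
      intro P' hlt
      obtain ⟨y, hyP, hyN, hyD⟩ := hone P' D hlt.le hlt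
      refine ⟨y, ⟨hyP, hT ?_⟩, hyD⟩
      exact hle ((P' : Subgroup G) ⊓ L) inf_le_right (P'.isPGroup'.to_le inf_le_left) ⟨hyP, hyN⟩
    have hDT : D ≤ T := fun y hy =>
      hT (hle D Subgroup.le_normalizer hDp hy)
    have hDltP : D < (P : Subgroup G) := lt_of_le_of_ne inf_le_left fun he => hPQ (Sylow.ext
      (P.is_maximal' Q.isPGroup' (he.ge.trans inf_le_right)).symm)
    have hDltQ : D < (Q : Subgroup G) := lt_of_le_of_ne inf_le_right fun he => hPQ (Sylow.ext
      (Q.is_maximal' P.isPGroup' (he.ge.trans inf_le_left)))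
    have hPT : P = T := by
      by_contra hne
      obtain ⟨y, hy, hyD⟩ := hbigger P hDltP
      have hlt : D < (P : Subgroup G) ⊓ (T : Subgroup G) :=
        lt_of_le_of_ne (le_inf hDltP.le hDT) fun he => hyD (he ▸ hy)
      have hlt2 : Nat.card D < Nat.card ↥((P : Subgroup G) ⊓ (T : Subgroup G)) := by
        by_contra hge; push Not at hge
        exact hlt.ne (Subgroup.eq_of_le_of_card_ge hlt.le hge)
      have h0 := ih (Nat.card G - Nat.card ↥((P : Subgroup G) ⊓ (T : Subgroup G)))
        (by have := Subgroup.card_le_card_group ((P : Subgroup G) ⊓ (T : Subgroup G)); omega) P T hne rfl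
      rw [h0] at hlt; exact not_lt_bot hlt
    have hQT : Q = T := by
      by_contra hne
      obtain ⟨y, hy, hyD⟩ := hbigger Q hDltQ
      have hlt : D < (Q : Subgroup G) ⊓ (T : Subgroup G) :=
        lt_of_le_of_ne (le_inf hDltQ.le hDT) fun he => hyD (he ▸ hy)
      have hlt2 : Nat.card D < Nat.card ↥((Q : Subgroup G) ⊓ (T : Subgroup G)) := by
        by_contra hge; push Not at hge
        exact hlt.ne (Subgroup.eq_of_le_of_card_ge hlt.le hge)
      have h0 := ih (Nat.card G - Nat.card ↥((Q : Subgroup G) ⊓ (T : Subgroup G)))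
        (by have := Subgroup.card_le_card_group ((Q : Subgroup G) ⊓ (T : Subgroup G)); omega) Q T hne rfl
      rw [h0] at hlt; exact not_lt_bot hlt
    exact hPQ (hPT.trans hQT.symm)
  refine ⟨hTI, fun P R hRP hR g hg => ?_⟩
  refine Sylow.smul_eq_iff_mem_normalizer.1 ?_
  by_contra hne
  apply hR
  have h1 : R ≤ ((g • P : Sylow p G) : Subgroup G) := fun y hy =>
    ⟨g⁻¹ * y * g, hRP ((Subgroup.mem_normalizer_iff.1 hg (g⁻¹ * y * g)).2 (by simpa [mul_assoc] using hy)),
      by simp [mul_assoc]⟩
  exact le_bot_iff.1 ((hTI _ _ hne).le.trans' (le_inf h1 hRP))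

end Cfsg.Agent.S3870
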