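import Cfsg.Statements.S3872
import Mathlib
import Cfsg.Agent.H73.HallPetrescu
-- import your own Cfsg.Agent.* helpers here

set_option autoImplicit false
open Cfsg

set_option linter.style.haveILetI false

namespace Cfsg.Agent.S3872

theorem commutator_le_frattini {G : Type*} [Group G] [Finite G] {p : ℕ} [Fact p.Prime] (hG : IsPGroup p G) :
    _root_.commutator G ≤ frattini G := by
  haveI := hG.isNilpotent
  refine le_iInf fun M => le_iInf fun hM => ?_
  haveI : M.Normal := Subgroup.NormalizerCondition.normal_of_coatom M (Group.normalizerCondition_of_isNilpotent (G := G)) hM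
  haveI : IsCyclic (G ⧸ M) := by
    by_cases h : Subsingleton (G ⧸ M)
    · infer_instance
    haveI := not_subsingleton_iff_nontrivial.1 h
    obtain ⟨n, hn, he⟩ := (hG.to_quotient M).nontrivial_iff_card.1 inferInstance
    obtain ⟨q, hq⟩ := exists_prime_orderOf_dvd_card' p (he ▸ dvd_pow_self p hn.ne' : p ∣ Nat.card (G ⧸ M))
    refine isCyclic_iff_exists_zpowers_eq_top.2 ⟨q, ?_⟩
    have h1 : M ≤ (Subgroup.zpowers q).comap (QuotientGroup.mk' M) := fun m hm => by
      rw [Subgroup.mem_comap, QuotientGroup.mk'_apply, (QuotientGroup.eq_one_iff m).2 hm]; exact one_mem _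
    rcases hM.le_iff.1 h1 with h2 | h2
    · rw [← Subgroup.map_comap_eq_self_of_surjective (QuotientGroup.mk'_surjective M) (Subgroup.zpowers q), h2,
        Subgroup.map_top_of_surjective _ (QuotientGroup.mk'_surjective M)]
    · exfalso
      induction q using QuotientGroup.induction_on with
      | _ q =>
        have hqM : q ∈ M := h2 ▸ (Subgroup.mem_comap.2 (Subgroup.mem_zpowers (q : G ⧸ M)))
        rw [(QuotientGroup.eq_one_iff q).2 hqM, orderOf_one] at hq
        exact (Fact.out : p.Prime).ne_one hq.symm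
  rw [← QuotientGroup.ker_mk' M, _root_.commutator_def, Subgroup.commutator_le]
  intro a _ b _
  rw [MonoidHom.mem_ker, map_commutatorElement, commutatorElement_eq_one_iff_commute]
  haveI := IsCyclic.isMulCommutative (α := G ⧸ M)
  exact mul_comm' _ _


/-- Say that a finite group is p-exponent closed when its elements of order dividing p form a subgroup. Let G be a finite p-group that is not p-exponent closed, but all of whose proper subgroups and proper quotients are. Then G is generated by two elements, has nilpotency class at least p, has exponent p², has cyclic center, and has order at least p^(p+1). -/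
theorem result {G : Type*} [Group G] [Finite G] {p : ℕ} [Fact p.Prime] (hG : IsPGroup p G)
    (hnc : ¬ (∃ H : Subgroup G, (H : Set G) = {g : G | g ^ p = 1})) (hsub : ∀ K : Subgroup G, K ≠ ⊤ → (∃ H : Subgroup ↥K, (H : Set ↥K) = {g : ↥K | g ^ p = 1}))
    (hquo : ∀ (N : Subgroup G) [N.Normal], N ≠ ⊥ → (∃ H : Subgroup (G ⧸ N), (H : Set (G ⧸ N)) = {g : (G ⧸ N) | g ^ p = 1})) :
    (∃ x y : G, Subgroup.closure ({x, y} : Set G) = ⊤) ∧ (⊤ : Subgroup G).lowerCentralSeries (p - 1) ≠ ⊥ ∧
      Monoid.exponent G = p ^ 2 ∧ IsCyclic ↥(Subgroup.center G) ∧ p ^ (p + 1) ≤ Nat.card G := by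
  open Subgroup commutatorElement in
  classical
  have hp : p.Prime := Fact.out
  have h0 : ¬ (∀ a b : G, a ^ p = 1 → b ^ p = 1 → (a * b) ^ p = 1) := fun h =>
    hnc ⟨{ carrier := {g | g ^ p = 1}
           one_mem' := one_pow p
           mul_mem' := fun {a b} ha hb => h a b ha hb
           inv_mem' := fun {a} ha => by
             show a⁻¹ ^ p = 1
             rw [inv_pow, show a ^ p = 1 from ha, inv_one] }, rfl⟩
  push Not at h0
  obtain ⟨x, y, hx, hy, hxy⟩ := h0
  have hsubmul : ∀ K : Subgroup G, K ≠ ⊤ → ∀ a ∈ K, ∀ b ∈ K, a ^ p = 1 → b ^ p = 1 → (a * b) ^ p = 1 := by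
    intro K hK a ha b hb hap hbp
    obtain ⟨H, hH⟩ := hsub K hK
    have h1 : (⟨a, ha⟩ : K) ∈ H := by rw [← SetLike.mem_coe, hH]; exact Subtype.ext hap
    have h2 : (⟨b, hb⟩ : K) ∈ H := by rw [← SetLike.mem_coe, hH]; exact Subtype.ext hbp
    have h3 := H.mul_mem h1 h2
    rw [← SetLike.mem_coe, hH] at h3
    exact congrArg Subtype.val (show (⟨a, ha⟩ * ⟨b, hb⟩ : K) ^ p = 1 from h3)
  have hgen : closure ({x, y} : Set G) = ⊤ := by
    by_contra h
    exact hxy (hsubmul _ h x (subset_closure (by simp)) y (subset_closure (by simp)) hx hy)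
  haveI : Nontrivial G := ⟨⟨(x * y) ^ p, 1, hxy⟩⟩
  have hnil := hG.isNilpotent
  have hnx : ∀ z : G, zpowers z ≠ ⊤ := by
    intro z hz
    apply hxy
    obtain ⟨i, hi⟩ := mem_zpowers_iff.1 (hz.ge (mem_top x))
    obtain ⟨j, hj⟩ := mem_zpowers_iff.1 (hz.ge (mem_top y))
    have hc : Commute x y := by rw [← hi, ← hj]; exact Commute.zpow_zpow_self z i j
    rw [hc.mul_pow, hx, hy, one_mul]
  -- the class is at least `p`
  have hclass : (⊤ : Subgroup G).lowerCentralSeries (p - 1) ≠ ⊥ := by
    intro hcl
    obtain ⟨M, hM, hxM⟩ := (eq_top_or_exists_le_coatom (zpowers x)).resolve_left (hnx x)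
    have hMn : M.Normal := Subgroup.NormalizerCondition.normal_of_coatom M (Group.normalizerCondition_of_isNilpotent (G := G)) hM
    let W : Subgroup G :=
      { carrier := {g | g ∈ M ∧ g ^ p = 1}
        one_mem' := ⟨one_mem _, one_pow p⟩
        mul_mem' := fun {a b} ha hb => ⟨mul_mem ha.1 hb.1, hsubmul M hM.1 a ha.1 b hb.1 ha.2 hb.2⟩
        inv_mem' := fun {a} ha => ⟨inv_mem ha.1, by rw [inv_pow, ha.2, inv_one]⟩ }
    haveI hWn : W.Normal := ⟨fun a ha g => ⟨hMn.conj_mem _ ha.1 g, by rw [conj_pow, ha.2]; group⟩⟩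
    have hxW : x ∈ W := ⟨hxM (mem_zpowers x), hx⟩
    have hG' : commutator G ≤ W := by
      have htop : zpowers (y : G ⧸ W) = ⊤ := by
        have h1 : closure ({x, y} : Set G) ≤ (zpowers (y : G ⧸ W)).comap (QuotientGroup.mk' W) := by
          rw [closure_le]
          intro z hz
          rcases hz with rfl | rfl
          · show (z : G ⧸ W) ∈ zpowers (y : G ⧸ W)
            rw [(QuotientGroup.eq_one_iff z).2 hxW]; exact one_mem _
          · exact mem_zpowers _
        rw [eq_top_iff]
        intro q _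
        induction q using QuotientGroup.induction_on with
        | _ q => exact h1 (hgen.ge (mem_top q))
      rw [_root_.commutator_def, commutator_le]
      intro a _ b _
      rw [← QuotientGroup.eq_one_iff]
      obtain ⟨i, hi⟩ := mem_zpowers_iff.1 (htop.ge (mem_top (a : G ⧸ W)))
      obtain ⟨j, hj⟩ := mem_zpowers_iff.1 (htop.ge (mem_top (b : G ⧸ W)))
      have : QuotientGroup.mk' W ⁅a, b⁆ = ⁅(a : G ⧸ W), (b : G ⧸ W)⁆ := map_commutatorElement _ a b
      rw [QuotientGroup.mk'_apply] at this
      rw [this, ← hi, ← hj, commutatorElement_eq_one_iff_commute]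
      exact Commute.zpow_zpow_self _ i j
    apply hxy
    rw [Cfsg.Agent.H73.mul_pow_prime_of_class_lt hp hcl (fun c hc => (hG' hc).2), hx, hy, one_mul]
  -- nontrivial normal subgroups contain all `p`-th powers
  have hpow : ∀ N : Subgroup G, N.Normal → N ≠ ⊥ → ∀ g : G, g ^ p ∈ N := by
    intro N hN hN1 g
    haveI := hN
    obtain ⟨H, hH⟩ := hquo N hN1
    have h1 : closure ({x, y} : Set G) ≤ H.comap (QuotientGroup.mk' N) := by
      rw [closure_le]
      intro z hz
      show (z : G ⧸ N) ∈ H
      rw [← SetLike.mem_coe, hH]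
      show (z : G ⧸ N) ^ p = 1
      rcases hz with rfl | rfl
      · rw [← QuotientGroup.mk_pow, hx, QuotientGroup.mk_one]
      · rw [← QuotientGroup.mk_pow, hy, QuotientGroup.mk_one]
    have h2 : (g : G ⧸ N) ∈ H := h1 (hgen.ge (mem_top g))
    rw [← SetLike.mem_coe, hH] at h2
    rw [← QuotientGroup.eq_one_iff, QuotientGroup.mk_pow]
    exact h2
  haveI := hG.center_nontrivial
  obtain ⟨z, hz⟩ : ∃ z : center G, orderOf z = p := by
    refine exists_prime_orderOf_dvd_card' p ?_
    obtain ⟨n, hn, he⟩ := (hG.to_subgroup (center G)).nontrivial_iff_card.1 inferInstance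
    exact he ▸ dvd_pow_self p hn.ne'
  have hzG : orderOf (z : G) = p := by rw [orderOf_coe]; exact hz
  have hnormal : ∀ w ∈ center G, (zpowers w).Normal := fun w hw => ⟨fun a ha g => by
    have : a ∈ center G := zpowers_le.2 hw ha
    rw [mem_center_iff.1 this g, mul_inv_cancel_right]; exact ha⟩
  have hroot : ∀ w ∈ center G, w ^ p = 1 → w ≠ 1 → ∀ g : G, g ^ p ∈ zpowers w := fun w hw _ hw1 =>
    hpow _ (hnormal w hw) (by rw [Ne, zpowers_eq_bot]; exact hw1)
  have hz1 : (z : G) ≠ 1 := fun h => by rw [h, orderOf_one] at hzG; exact hp.ne_one hzG.symm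
  have hp2 : ∀ g : G, g ^ p ^ 2 = 1 := by
    intro g
    obtain ⟨i, hi⟩ := mem_zpowers_iff.1 (hroot z z.2 (hzG ▸ pow_orderOf_eq_one _) hz1 g)
    rw [pow_two, pow_mul, ← hi, ← zpow_natCast, ← zpow_mul, mul_comm, zpow_mul, zpow_natCast,
      show (z : G) ^ p = 1 from hzG ▸ pow_orderOf_eq_one _, one_zpow]
  refine ⟨⟨x, y, hgen⟩, hclass, ?_, ?_, ?_⟩
  · obtain ⟨i, hi, he⟩ := (Nat.dvd_prime_pow hp).1 (Monoid.exponent_dvd_of_forall_pow_eq_one hp2)
    interval_cases i
    · exact absurd (Monoid.pow_exponent_eq_one ((x * y) ^ p)) (by rw [he, pow_zero, pow_one]; exact hxy)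
    · exact absurd (Monoid.pow_exponent_eq_one (x * y)) (by rw [he, pow_one]; exact hxy)
    · exact he
  · -- the centre is cyclic
    have huniq : ∀ w ∈ center G, w ^ p = 1 → w ∈ zpowers (z : G) := by
      intro w hw hwp
      by_cases hw1 : w = 1
      · rw [hw1]; exact one_mem _
      by_contra hwz
      apply hxy
      have hdisj : zpowers w ⊓ zpowers (z : G) = ⊥ := by
        rw [eq_bot_iff]
        rintro a ⟨haw, haz⟩
        rw [mem_bot]
        by_contra ha
        apply hwz
        have ho : orderOf a = p := by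
          refine orderOf_eq_prime ?_ ha
          obtain ⟨i, hi⟩ := mem_zpowers_iff.1 haz
          rw [← hi, ← zpow_natCast, ← zpow_mul, mul_comm, zpow_mul, zpow_natCast,
            show (z : G) ^ p = 1 from hzG ▸ pow_orderOf_eq_one _, one_zpow]
        have e1 : zpowers a = zpowers w := eq_of_le_of_card_ge (zpowers_le.2 haw)
          (by rw [Nat.card_zpowers, Nat.card_zpowers, ho, orderOf_eq_prime hwp hw1])
        exact zpowers_le.2 haz (e1.ge (mem_zpowers w))
      have := mem_inf.2 ⟨hroot w hw hwp hw1 (x * y), hroot z z.2 (hzG ▸ pow_orderOf_eq_one _) hz1 (x * y)⟩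
      rwa [hdisj, mem_bot] at this
    by_cases hall : ∀ w ∈ center G, w ^ p = 1
    · refine isCyclic_iff_exists_zpowers_eq_top.2 ⟨z, eq_top_iff.2 fun w _ => ?_⟩
      obtain ⟨i, hi⟩ := mem_zpowers_iff.1 (huniq w w.2 (hall w w.2))
      exact mem_zpowers_iff.2 ⟨i, Subtype.ext hi⟩
    · push Not at hall
      obtain ⟨u, hu, hup⟩ := hall
      refine isCyclic_iff_exists_zpowers_eq_top.2 ⟨⟨u, hu⟩, eq_top_iff.2 fun w _ => ?_⟩
      have hup2 : (u ^ p) ^ p = 1 := by rw [← pow_mul, ← pow_two]; exact hp2 u
      have hupz := huniq (u ^ p) (pow_mem hu p) hup2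
      have hzu : zpowers (u ^ p) = zpowers (z : G) := eq_of_le_of_card_ge (zpowers_le.2 hupz)
        (by rw [Nat.card_zpowers, Nat.card_zpowers, hzG, orderOf_eq_prime hup2 hup])
      obtain ⟨i, hi⟩ := mem_zpowers_iff.1
        (hzu.ge (hroot z z.2 (hzG ▸ pow_orderOf_eq_one _) hz1 (w : G)))
      have hcm : Commute (w : G) (u ^ (-i)) :=
        (show Commute (w : G) u from (mem_center_iff.1 hu (w : G))).zpow_right (-i)
      have hm : (w : G) * u ^ (-i) ∈ center G := mul_mem w.2 (zpow_mem hu _)
      have hmp : ((w : G) * u ^ (-i)) ^ p = 1 := by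
        rw [hcm.mul_pow, ← hi, ← zpow_natCast u p, ← zpow_natCast (u ^ (-i)) p, ← zpow_mul,
          ← zpow_mul, ← zpow_add]
        convert zpow_zero u using 2
        ring
      obtain ⟨j, hj⟩ := mem_zpowers_iff.1 (zpowers_le.2 (npow_mem_zpowers u p) (hzu.ge (huniq _ hm hmp)))
      refine mem_zpowers_iff.2 ⟨j + i, Subtype.ext ?_⟩
      show u ^ (j + i) = (w : G)
      rw [zpow_add, hj, mul_assoc, ← zpow_add, neg_add_cancel, zpow_zero, mul_one]
  · -- the order
    have hstep : ∀ k, (⊤ : Subgroup G).lowerCentralSeries k ≠ ⊥ →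
        p * Nat.card ((⊤ : Subgroup G).lowerCentralSeries (k + 1)) ≤ Nat.card ((⊤ : Subgroup G).lowerCentralSeries k) := by
      intro k hk
      set L := (⊤ : Subgroup G).lowerCentralSeries k with hL
      set L' := (⊤ : Subgroup G).lowerCentralSeries (k + 1) with hL'
      have hle : L' ≤ L := Subgroup.lowerCentralSeries_antitone _ k.le_succ
      have hne : L' ≠ L := by
        intro he
        obtain ⟨n, hn⟩ := Subgroup.nilpotent_iff_lowerCentralSeries.1 hnil
        have : ∀ m, L ≤ (⊤ : Subgroup G).lowerCentralSeries m := by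
          intro m
          induction m with
          | zero => exact le_top
          | succ m ih =>
            calc L = L' := he.symm
              _ ≤ _ := by rw [hL', Subgroup.lowerCentralSeries_succ, Subgroup.lowerCentralSeries_succ]; exact commutator_mono ih le_rfl
        exact hk (le_bot_iff.1 (hn ▸ this n))
      obtain ⟨a, ha⟩ := (hG.to_subgroup L).exists_card_eq
      obtain ⟨b, hb⟩ := (hG.to_subgroup L').exists_card_eq
      have hlt : p ^ b < p ^ a := by
        rw [← ha, ← hb]
        exact lt_of_le_of_ne (card_le_of_le hle) fun h => hne (eq_of_le_of_card_ge hle h.ge)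
      rw [ha, hb, ← pow_succ']
      exact Nat.pow_le_pow_right hp.pos ((Nat.pow_lt_pow_iff_right hp.one_lt).1 hlt)
    have hmain : ∀ j, j ≤ p - 2 → p ^ (j + 1) ≤ Nat.card ((⊤ : Subgroup G).lowerCentralSeries (p - 1 - j)) := by
      intro j
      induction j with
      | zero =>
        intro _
        haveI := (nontrivial_iff_ne_bot _).2 hclass
        obtain ⟨a, ha, he⟩ := (hG.to_subgroup ((⊤ : Subgroup G).lowerCentralSeries (p - 1))).nontrivial_iff_card.1 inferInstance
        rw [Nat.sub_zero, he, Nat.zero_add, pow_one]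
        exact Nat.le_self_pow ha.ne' p
      | succ j ih =>
        intro hj
        have hne : (⊤ : Subgroup G).lowerCentralSeries (p - 1 - (j + 1)) ≠ ⊥ := fun h => hclass
          (le_bot_iff.1 (h ▸ Subgroup.lowerCentralSeries_antitone _ (Nat.sub_le _ _)))
        have := hstep _ hne
        rw [show p - 1 - (j + 1) + 1 = p - 1 - j by omega] at this
        rw [pow_succ']
        exact (Nat.mul_le_mul_left p (ih (by omega))).trans this
    have h2 := hp.two_le
    have hc := hmain (p - 2) le_rfl
    rw [show p - 2 + 1 = p - 1 by omega, show p - 1 - (p - 2) = 1 by omega] at hc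
    have hidx : p ^ 2 ≤ ((⊤ : Subgroup G).lowerCentralSeries 1).index := by
      obtain ⟨n, hn⟩ := hG.index ((⊤ : Subgroup G).lowerCentralSeries 1)
      rw [hn]
      refine Nat.pow_le_pow_right hp.pos ?_
      by_contra hlt
      push Not at hlt
      -- the quotient is cyclic, so `G` is
      obtain ⟨q, hq⟩ : ∃ q : G ⧸ (⊤ : Subgroup G).lowerCentralSeries 1, zpowers q = ⊤ := by
        interval_cases n
        · refine ⟨1, ?_⟩
          rw [pow_zero] at hn
          exact (eq_top_iff.2 fun g _ => by
            induction g using QuotientGroup.induction_on with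
            | _ g => rw [(QuotientGroup.eq_one_iff g).2 ((index_eq_one.1 hn).ge (mem_top g))]; exact one_mem _)
        · haveI : Fact p.Prime := ⟨hp⟩
          haveI := isCyclic_of_prime_card (p := p) (α := G ⧸ (⊤ : Subgroup G).lowerCentralSeries 1)
            (by rw [← index_eq_card, hn, pow_one])
          exact isCyclic_iff_exists_zpowers_eq_top.1 ‹_›
      induction q using QuotientGroup.induction_on with
      | _ q =>
        apply hnx q
        have hsup : zpowers q ⊔ (⊤ : Subgroup G).lowerCentralSeries 1 = ⊤ := by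
          rw [← QuotientGroup.ker_mk' ((⊤ : Subgroup G).lowerCentralSeries 1), ← comap_map_eq,
            MonoidHom.map_zpowers, QuotientGroup.mk'_apply, hq, comap_top]
        refine frattini_nongenerating (le_antisymm le_top (hsup.symm.le.trans (sup_le_sup_left ?_ _)))
        rw [top_lowerCentralSeries_one]
        exact Cfsg.Agent.S3872.commutator_le_frattini hG
    calc p ^ (p + 1) = p ^ (p - 1) * p ^ 2 := by rw [← pow_add]; congr 1; omega
      _ ≤ Nat.card ((⊤ : Subgroup G).lowerCentralSeries 1) * ((⊤ : Subgroup G).lowerCentralSeries 1).index :=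
        Nat.mul_le_mul hc hidx
      _ = Nat.card G := card_mul_index _

end Cfsg.Agent.S3872
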