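import Cfsg.Statements.S3873
import Mathlib
import Cfsg.Agent.H73.MinNonClosed
-- import your own Cfsg.Agent.* helpers here

set_option autoImplicit false
open Cfsg

set_option linter.style.haveILetI false

namespace Cfsg.Agent.S3873

/-- Say that a finite group is p-exponent closed when its elements of order dividing p form a subgroup. Let G be a finite group that is not p-exponent closed, but all of whose proper subgroups and proper quotients are, and suppose G is neither simple nor a p-group. Then there is a prime q ≠ p such that G has order p · q^e, where e is the multiplicative order of q modulo p, and G has a normal elementary abelian subgroup of order q^e that is a minimal normal subgroup of G. -/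
theorem result {G : Type*} [Group G] [Finite G] {p : ℕ} [Fact p.Prime]
    (hnc : ¬ (∃ H : Subgroup G, (H : Set G) = {g : G | g ^ p = 1})) (hsub : ∀ K : Subgroup G, K ≠ ⊤ → (∃ H : Subgroup ↥K, (H : Set ↥K) = {g : ↥K | g ^ p = 1}))
    (hquo : ∀ (N : Subgroup G) [N.Normal], N ≠ ⊥ → (∃ H : Subgroup (G ⧸ N), (H : Set (G ⧸ N)) = {g : (G ⧸ N) | g ^ p = 1}))
    (hns : ¬ IsSimpleGroup G) (hnp : ¬ IsPGroup p G) :
    ∃ q : ℕ, q.Prime ∧ q ≠ p ∧ Nat.card G = p * q ^ orderOf (q : ZMod p) ∧
      ∃ A : Subgroup G, A.Normal ∧ Nat.card ↥A = q ^ orderOf (q : ZMod p) ∧ Cfsg.IsElementaryAbelian q A ∧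
        ∀ B : Subgroup G, B.Normal → B ≤ A → B = ⊥ ∨ B = A := by
  classical
  have hp : p.Prime := Fact.out
  have hG1 : Nontrivial G := by
    by_contra hG
    rw [not_nontrivial_iff_subsingleton] at hG
    exact hnc ⟨⊤, Set.ext fun g => by simp [Subsingleton.elim g 1]⟩
  obtain ⟨M, hM, hM1, hM2⟩ : ∃ M : Subgroup G, M.Normal ∧ M ≠ ⊥ ∧ M ≠ ⊤ := by
    by_contra h
    push Not at h
    exact hns ⟨fun H hH => or_iff_not_imp_left.2 (h H hH)⟩
  -- the quotient by a nontrivial normal subgroup has exponent `p`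
  have hquot : ∀ N : Subgroup G, N.Normal → N ≠ ⊥ → ∀ g : G, g ^ p ∈ N := by
    intro N hN hN1
    haveI := hN
    obtain ⟨H, hH⟩ := hquo N hN1
    have hmem : ∀ g : G, g ∈ H.comap (QuotientGroup.mk' N) ↔ g ^ p ∈ N := fun g => by
      rw [Subgroup.mem_comap, ← SetLike.mem_coe, hH, Set.mem_setOf_eq, QuotientGroup.mk'_apply,
        ← QuotientGroup.mk_pow, QuotientGroup.eq_one_iff]
    intro g
    refine (hmem g).1 ?_
    by_contra hg
    apply hnc
    obtain ⟨O, hO⟩ := hsub (H.comap (QuotientGroup.mk' N)) (fun h => hg (h ▸ Subgroup.mem_top g))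
    refine ⟨O.map (H.comap (QuotientGroup.mk' N)).subtype, ?_⟩
    rw [Subgroup.coe_map, hO]
    ext g
    constructor
    · rintro ⟨y, hy, rfl⟩
      have := congrArg Subtype.val (show y ^ p = 1 from hy)
      exact this
    · intro hgp
      exact ⟨⟨g, (hmem g).2 ((show g ^ p = 1 from hgp).symm ▸ N.one_mem)⟩, Subtype.ext hgp, rfl⟩
  -- minimal normal subgroups have order prime to `p`
  have hminp : ∀ N : Subgroup G, N.Normal → N ≠ ⊥ → N ≠ ⊤ →
      (∀ B : Subgroup G, B.Normal → B ≤ N → B = ⊥ ∨ B = N) → ¬ p ∣ Nat.card N := by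
    intro N hN hN1 hNt hmin hdvd
    haveI := hN
    obtain ⟨O, hO⟩ := hsub N hNt
    have hOn : (O.map N.subtype).Normal := by
      refine ⟨?_⟩
      rintro _ ⟨y, hy, rfl⟩ g
      rw [SetLike.mem_coe, ← SetLike.mem_coe, hO] at hy
      refine ⟨⟨g * y.1 * g⁻¹, hN.conj_mem _ y.2 g⟩, ?_, rfl⟩
      rw [hO]
      apply Subtype.ext
      have h1 : (y : G) ^ p = 1 := congrArg Subtype.val (show y ^ p = 1 from hy)
      show (g * (y : G) * g⁻¹) ^ p = 1
      rw [conj_pow, h1]; group
    obtain ⟨y, hy⟩ := exists_prime_orderOf_dvd_card' p hdvd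
    have hyO : y ∈ O := by
      rw [← SetLike.mem_coe, hO]; exact hy ▸ pow_orderOf_eq_one y
    rcases hmin _ hOn (Subgroup.map_subtype_le _) with h | h
    · have : (y : G) ∈ O.map N.subtype := ⟨y, hyO, rfl⟩
      rw [h, Subgroup.mem_bot] at this
      rw [show y = 1 from Subtype.ext this, orderOf_one] at hy
      exact hp.ne_one hy.symm
    · apply hnp
      intro g
      have h1 := hquot N hN hN1 g
      obtain ⟨z, hz, hzg⟩ := h.symm ▸ h1
      rw [SetLike.mem_coe, ← SetLike.mem_coe, hO] at hz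
      refine ⟨2, ?_⟩
      have hz1 : (z : G) ^ p = 1 := congrArg Subtype.val (show z ^ p = 1 from hz)
      rw [pow_two, pow_mul, ← hzg]
      exact hz1
  have hprime : ∀ M : Subgroup G, M.Normal → M ≠ ⊤ → ¬ p ∣ Nat.card M := by
    intro M hM hMt hdvd
    obtain ⟨O, hO⟩ := hsub M hMt
    haveI := hM
    have hOn : (O.map M.subtype).Normal := by
      refine ⟨?_⟩
      rintro _ ⟨y, hy, rfl⟩ g
      rw [SetLike.mem_coe, ← SetLike.mem_coe, hO] at hy
      refine ⟨⟨g * y.1 * g⁻¹, hM.conj_mem _ y.2 g⟩, ?_, rfl⟩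
      rw [hO]
      apply Subtype.ext
      have h1 : (y : G) ^ p = 1 := congrArg Subtype.val (show y ^ p = 1 from hy)
      show (g * (y : G) * g⁻¹) ^ p = 1
      rw [conj_pow, h1]; group
    obtain ⟨y, hy⟩ := exists_prime_orderOf_dvd_card' p hdvd
    have hyO : y ∈ O := by
      rw [← SetLike.mem_coe, hO]; exact hy ▸ pow_orderOf_eq_one y
    have hne : O.map M.subtype ≠ ⊥ := by
      intro h
      have : (y : G) ∈ O.map M.subtype := ⟨y, hyO, rfl⟩
      rw [h, Subgroup.mem_bot] at this
      rw [show y = 1 from Subtype.ext this, orderOf_one] at hy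
      exact hp.ne_one hy.symm
    obtain ⟨B, hB, hB1, hBO, hBmin⟩ := Cfsg.Agent.H73.exists_minimal_normal_le _ hOn hne
    have hBt : B ≠ ⊤ := fun h => hMt (eq_top_iff.2 (h ▸ hBO.trans (Subgroup.map_subtype_le _)))
    apply hminp B hB hB1 hBt hBmin
    haveI : Nontrivial B := (Subgroup.nontrivial_iff_ne_bot B).2 hB1
    obtain ⟨b, hb⟩ := exists_ne (1 : B)
    have hbp : (b : G) ^ p = 1 := by
      obtain ⟨z, hz, hzb⟩ := hBO b.2
      rw [SetLike.mem_coe, ← SetLike.mem_coe, hO] at hz
      rw [← hzb]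
      exact congrArg Subtype.val (show z ^ p = 1 from hz)
    have : orderOf b = p := orderOf_eq_prime (Subtype.ext hbp) hb
    exact this ▸ orderOf_dvd_natCard b
  obtain ⟨N, hN, hN1, hNM, hmin⟩ := Cfsg.Agent.H73.exists_minimal_normal_le M hM hM1
  haveI := hN
  have hNt : N ≠ ⊤ := fun h => hM2 (eq_top_iff.2 (h ▸ hNM))
  have hNp := hprime N hN hNt
  have hpQ : IsPGroup p (G ⧸ N) := by
    intro g
    induction g using QuotientGroup.induction_on with
    | _ g =>
      exact ⟨1, by rw [pow_one, ← QuotientGroup.mk_pow, QuotientGroup.eq_one_iff]; exact hquot N hN hN1 g⟩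
  have hidx : N.index = p := by
    obtain ⟨k, hk⟩ := hpQ.exists_card_eq
    rcases k with _ | _ | k
    · exact absurd (Subgroup.index_eq_one.1 (by rw [N.index_eq_card, hk, pow_zero])) hNt
    · rw [N.index_eq_card, hk, zero_add, pow_one]
    · exfalso
      have h1 : p ^ (k + 1) ∣ Nat.card (G ⧸ N) := hk ▸ pow_dvd_pow p (by omega)
      obtain ⟨K, hK⟩ := Sylow.exists_subgroup_card_pow_prime p h1
      have hKi : K.index = p := by
        have := K.card_mul_index
        rw [hK, hk, pow_succ p (k + 1)] at this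
        exact Nat.eq_of_mul_eq_mul_left (pow_pos hp.pos _) this
      haveI : K.Normal := Subgroup.normal_of_index_eq_minFac_card (by rw [hKi, hk, hp.pow_minFac (by omega)])
      have hne : K.comap (QuotientGroup.mk' N) ≠ ⊤ := fun h => by
        have := congrArg (Subgroup.map (QuotientGroup.mk' N)) h
        rw [Subgroup.map_comap_eq_self_of_surjective (QuotientGroup.mk'_surjective N),
          Subgroup.map_top_of_surjective _ (QuotientGroup.mk'_surjective N)] at this
        rw [this, Subgroup.index_top] at hKi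
        exact hp.ne_one hKi.symm
      refine hprime _ (Subgroup.Normal.comap ‹_› _) hne ?_
      have h2 := Subgroup.card_map_dvd (H := K.comap (QuotientGroup.mk' N)) (f := QuotientGroup.mk' N)
      rw [Subgroup.map_comap_eq_self_of_surjective (QuotientGroup.mk'_surjective N), hK] at h2
      exact (dvd_pow_self p k.succ_ne_zero).trans h2
  have hncl : ¬ Cfsg.IsPClosed p G := by
    intro hcl
    apply hnc
    let S : Sylow p G := default
    refine ⟨S, Set.ext fun g => ⟨fun hg => ?_, fun hg => ?_⟩⟩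
    · have h1 := (Cfsg.Agent.H73.card_dvd_prime_of_isPGroup hNp hidx S.2)
      exact orderOf_dvd_iff_pow_eq_one.1 (((S : Subgroup G).orderOf_dvd_natCard hg).trans h1)
    · haveI := hcl S
      have hz : IsPGroup p (Subgroup.zpowers g) := by
        rintro ⟨y, i, rfl⟩
        exact ⟨1, Subtype.ext (by
          show (g ^ i) ^ p ^ 1 = 1
          rw [pow_one, ← zpow_natCast, ← zpow_mul, mul_comm, zpow_mul, zpow_natCast,
            (show g ^ p = 1 from hg), one_zpow])⟩
      exact (le_sup_left.trans (S.is_maximal' (hz.to_sup_of_normal_right S.2) le_sup_right).le)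
        (Subgroup.mem_zpowers g)
  refine Cfsg.Agent.H73.structure_of_index_prime N hN1 hmin hNp hidx hncl ?_
  intro K hK x hxK hx k hkK
  obtain ⟨O, hO⟩ := hsub K hK
  have hOp : IsPGroup p O := fun y => ⟨1, by
    rw [pow_one]
    apply Subtype.ext
    have h1 : (y : K) ∈ (O : Set K) := y.2
    rw [hO] at h1
    simpa using h1⟩
  have hxO : (⟨x, hxK⟩ : K) ∈ O := by
    rw [← SetLike.mem_coe, hO]; exact Subtype.ext (hx ▸ pow_orderOf_eq_one x)
  have he := Cfsg.Agent.H73.eq_zpowers_of_card hx (S := O.map K.subtype)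
    ⟨⟨x, hxK⟩, hxO, rfl⟩ (Cfsg.Agent.H73.card_dvd_prime_of_isPGroup hNp hidx (hOp.map _))
  rw [← he]
  refine ⟨⟨k, hkK⟩ * ⟨x, hxK⟩ * ⟨k, hkK⟩⁻¹, ?_, rfl⟩
  rw [hO, Set.mem_setOf_eq, conj_pow]
  rw [← SetLike.mem_coe, hO, Set.mem_setOf_eq] at hxO
  rw [hxO]; group

end Cfsg.Agent.S3873
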