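import Cfsg.Statements.S3875
import Cfsg.Agent.LeastOrder.Bound
import Cfsg.Agent.LeastOrder.Example

set_option autoImplicit false
open Cfsg

namespace Cfsg.Agent.S3875

/-- Let p be an odd prime and let m be the least prime power congruent to 1 modulo p. Then the least order of a finite group whose Sylow p-subgroups are not normal is the smaller of p · m and p(p² − 1)/2: every finite group whose Sylow p-subgroups are not normal has at least that order, and some group of exactly that order has non-normal Sylow p-subgroups. -/
theorem result (p : ℕ) [Fact p.Prime] (hp : p ≠ 2) (m : ℕ) (hm : IsPrimePow m) (hm1 : m % p = 1)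
    (hleast : ∀ k : ℕ, IsPrimePow k → k % p = 1 → m ≤ k) :
    (∀ (H : Type) [Group H] [Finite H], ¬ Cfsg.IsPClosed p H → min (p * m) (p * (p ^ 2 - 1) / 2) ≤ Nat.card H) ∧
      ∃ (H : Type) (_ : Group H) (_ : Finite H), Nat.card H = min (p * m) (p * (p ^ 2 - 1) / 2) ∧ ¬ Cfsg.IsPClosed p H := by
  refine ⟨fun H _ _ hH => LeastOrder.bound hleast _ H rfl hH, ?_⟩
  rcases le_total (p * m) (p * (p ^ 2 - 1) / 2) with hle | hle
  · rw [min_eq_left hle]
    exact LeastOrder.exists_affine hm hm1
  · by_cases h5 : 5 ≤ p
    · rw [min_eq_right hle]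
      exact LeastOrder.exists_psl h5
    · have hp3 : p = 3 := by
        have h2 := (Fact.out : p.Prime).two_le
        rcases Nat.lt_or_ge p 4 with h | h
        · omega
        · have h4 : p = 4 := by omega
          exact absurd (h4 ▸ (Fact.out : p.Prime)) (by norm_num)
      subst hp3
      have h4 : m ≤ 4 := hleast 4 ⟨2, 2, Nat.prime_two.prime, two_pos, rfl⟩ rfl
      rw [min_eq_left (by omega)]
      exact LeastOrder.exists_affine hm hm1

end Cfsg.Agent.S3875
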