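import Cfsg.Statements.S3889
import Mathlib
-- import your own Cfsg.Agent.* helpers here

set_option autoImplicit false
open Cfsg

namespace Cfsg.Agent.S3889

/-- A finite abelian group that is the union of a family of proper subgroups any two of which intersect trivially is elementary abelian: its exponent is a prime. -/
theorem result {G : Type*} [CommGroup G] [Finite G] (𝓑 : Set (Subgroup G)) (hprop : ∀ B ∈ 𝓑, B ≠ ⊤)
    (hcov : ∀ g : G, ∃ B ∈ 𝓑, g ∈ B) (hdisj : ∀ B ∈ 𝓑, ∀ C ∈ 𝓑, B ≠ C → B ⊓ C = ⊥) :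
    (Monoid.exponent G).Prime := by
  classical
  have key : ∀ B ∈ 𝓑, ∀ a ∈ B, a ≠ 1 → ∀ b ∉ B, b ^ orderOf a = 1 := by
    intro B hB a ha ha1 b hb
    obtain ⟨Bb, hBb, hbb⟩ := hcov b
    obtain ⟨C, hC, hab⟩ := hcov (a * b)
    by_contra hne
    have hCB : C = Bb := by
      by_contra hne2
      apply hne
      have h1 : b ^ orderOf a ∈ C ⊓ Bb := by
        refine ⟨?_, pow_mem hbb _⟩
        have h2 := pow_mem hab (orderOf a)
        rwa [mul_pow, pow_orderOf_eq_one, one_mul] at h2
      rwa [hdisj C hC Bb hBb hne2, Subgroup.mem_bot] at h1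
    have haBb : a ∈ Bb := by
      have := mul_mem (hCB ▸ hab) (inv_mem hbb)
      rwa [mul_inv_cancel_right] at this
    have hBBb : B = Bb := by
      by_contra hne2
      have : a ∈ B ⊓ Bb := ⟨ha, haBb⟩
      rw [hdisj B hB Bb hBb hne2, Subgroup.mem_bot] at this
      exact ha1 this
    exact hb (hBBb ▸ hbb)
  obtain ⟨B₀, hB₀, -⟩ := hcov 1
  obtain ⟨g, hg⟩ : ∃ g : G, g ≠ 1 := by
    by_contra h
    push Not at h
    exact hprop B₀ hB₀ (eq_top_iff.2 fun x _ => by rw [h x]; exact one_mem _)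
  obtain ⟨p, hp, hpd⟩ := Nat.exists_prime_and_dvd (mt orderOf_eq_one_iff.1 hg)
  obtain ⟨B, hB, hgB⟩ := hcov g
  set a := g ^ (orderOf g / p)
  have haord : orderOf a = p := orderOf_pow_orderOf_div (orderOf_pos g).ne' hpd
  have haB : a ∈ B := pow_mem hgB _
  have ha1 : a ≠ 1 := fun h => by rw [h, orderOf_one] at haord; exact hp.ne_one haord.symm
  obtain ⟨b, hb⟩ : ∃ b, b ∉ B := by
    by_contra h; push Not at h; exact hprop B hB (eq_top_iff.2 fun x _ => h x)
  have hout : ∀ y ∉ B, y ^ p = 1 := fun y hy => haord ▸ key B hB a haB ha1 y hy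
  have hall : ∀ x : G, x ^ p = 1 := by
    intro x
    by_cases hx : x ∈ B
    · have hxb : x * b ∉ B := fun h => hb (by simpa using mul_mem (inv_mem hx) h)
      have h1 := hout _ hxb
      rwa [mul_pow, hout b hb, mul_one] at h1
    · exact hout x hx
  have hdvd : Monoid.exponent G ∣ p := Monoid.exponent_dvd_of_forall_pow_eq_one hall
  rcases (Nat.dvd_prime hp).1 hdvd with h | h
  · exfalso
    have h2 := Monoid.order_dvd_exponent a
    rw [h, haord, Nat.dvd_one] at h2
    exact hp.ne_one h2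
  · rw [h]; exact hp

end Cfsg.Agent.S3889
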