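import Cfsg.Statements.S3890
import Mathlib
import Cfsg.Agent.H73.NilCover
-- import your own Cfsg.Agent.* helpers here

set_option autoImplicit false
open Cfsg

set_option linter.style.haveILetI false

namespace Cfsg.Agent.S3890

/-- A cover of a group is a finite set of proper subgroups whose union is the whole group; it is minimal when no cover has fewer members, and nilpotent when all its members are nilpotent. Let G be a finite group with trivial center admitting a nilpotent minimal cover 𝓐, and let P be an abelian Sylow p-subgroup of G that is not normal. Then either P is elementary abelian of order greater than p, or P is a Sylow p-subgroup of some member A of 𝓐, the normalizer N of P is a maximal subgroup of G, N meets each of its conjugates by elements outside N in a subgroup of order prime to p, and the centralizer of P equals A. -/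
theorem result {G : Type*} [Group G] [Finite G] (hZ : Subgroup.center G = ⊥) (𝓐 : Finset (Subgroup G))
    (h𝓐 : ((∀ A ∈ 𝓐, A ≠ ⊤) ∧ (∀ g : G, ∃ A ∈ 𝓐, g ∈ A)) ∧ (∀ 𝓑 : Finset (Subgroup G), (∀ A ∈ 𝓑, A ≠ ⊤) ∧ (∀ g : G, ∃ A ∈ 𝓑, g ∈ A) → 𝓐.card ≤ 𝓑.card) ∧ (∀ A ∈ 𝓐, Group.IsNilpotent ↥A)) {p : ℕ} [Fact p.Prime] (P : Sylow p G) (hab : IsMulCommutative ↥(P : Subgroup G))
    (hnn : ¬ (P : Subgroup G).Normal) :
    (Cfsg.IsElementaryAbelian p (P : Subgroup G) ∧ p < Nat.card ↥(P : Subgroup G)) ∨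
    (∃ A ∈ 𝓐, (P : Subgroup G) ≤ A ∧ ¬ p ∣ ((P : Subgroup G).subgroupOf A).index ∧
      IsCoatom (Subgroup.normalizer ((P : Subgroup G) : Set G)) ∧
      (∀ g : G, g ∉ Subgroup.normalizer ((P : Subgroup G) : Set G) →
        ¬ p ∣ Nat.card ↥(Subgroup.normalizer ((P : Subgroup G) : Set G) ⊓
          (Subgroup.normalizer ((P : Subgroup G) : Set G)).map (MulAut.conj g).toMonoidHom)) ∧
      Subgroup.centralizer ((P : Subgroup G) : Set G) = A) := by
  open Cfsg.Agent.H73.NilCover in
  rcases Classical.em (Cfsg.IsElementaryAbelian p (P : Subgroup G) ∧ p < Nat.card ↥(P : Subgroup G)) with hP | hP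
  · exact Or.inl hP
  refine Or.inr ?_
  have hA : Cfsg.Agent.H73.NilCover.IsMinNilCover 𝓐 := h𝓐
  have hS := Cfsg.Agent.H73.NilCover.abSyl_of_sylow P hab
  have hne : (P : Subgroup G) ≠ ⊥ := fun hb => hnn (hb ▸ inferInstance)
  obtain ⟨A, hAm, hPA⟩ := Cfsg.Agent.H73.NilCover.exists_member_ge hA hS hZ P hne hP
  have hC := Cfsg.Agent.H73.NilCover.centralizer_eq hA hS hZ P hne hAm hPA
  have hNt : Subgroup.normalizer ((P : Subgroup G) : Set G) ≠ ⊤ :=
    fun ht => hnn (Subgroup.normalizer_eq_top_iff.1 ht)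
  refine ⟨A, hAm, hPA, fun hd => P.not_dvd_index
    (hd.trans (Subgroup.relIndex_dvd_index_of_le hPA)), ⟨hNt, fun M hlt => ?_⟩, fun g hg hd => ?_, hC⟩
  · by_contra hM
    exact absurd (Cfsg.Agent.H73.NilCover.isCoatom_normalizer hA hS hZ P hnn hP M hM
      (fun c hc => hlt.le (Cfsg.Agent.H73.NilCover.mem_normalizer_of_mem_centralizer hc))) hlt.not_ge
  · obtain ⟨x, hx⟩ := exists_prime_orderOf_dvd_card' p hd
    have hx' : (x : G) ^ p ^ 1 = 1 := by
      have hxp : orderOf (x : G) = p := by rw [Subgroup.orderOf_coe, hx]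
      rw [pow_one]
      conv_lhs => arg 2; rw [← hxp]
      exact pow_orderOf_eq_one _
    have hx1 : (x : G) ≠ 1 := fun h1 => (Fact.out : p.Prime).ne_one (hx.symm.trans (by
      rw [← Subgroup.orderOf_coe, h1, orderOf_one]))
    obtain ⟨y, hy, hyx⟩ := x.2.2
    have hy' : y ^ p ^ 1 = 1 := (MulAut.conj g).injective (by
      rw [map_pow, map_one]; simpa using (congrArg (· ^ p ^ 1) hyx).trans hx')
    have h1 : (x : G) ∈ A := hPA (Cfsg.Agent.H73.NilCover.mem_sylow_of_normalizes P hx' x.2.1)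
    have h2 : (x : G) ∈ (Subgroup.centralizer ((P : Subgroup G) : Set G)).map
        (MulAut.conj g).toMonoidHom := by
      refine ⟨y, ?_, hyx⟩
      rw [hC]
      exact hPA (Cfsg.Agent.H73.NilCover.mem_sylow_of_normalizes P hy' hy)
    have h3 := Cfsg.Agent.H73.NilCover.member_eq hA hS hZ
      (Cfsg.Agent.H73.NilCover.conj_centralizer_mem hA hS hZ P hne hP g) hAm hx' hx1 h2 h1
    exact hg (Cfsg.Agent.H73.NilCover.mem_normalizer_of_conj_eq P (h3.trans hC.symm) hS)

end Cfsg.Agent.S3890
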