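import Cfsg.Statements.S3891
import Mathlib
import Cfsg.Agent.H73.NilCover
-- import your own Cfsg.Agent.* helpers here

set_option autoImplicit false
open Cfsg

set_option linter.style.haveILetI false

namespace Cfsg.Agent.S3891

/-- A cover of a group is a finite set of proper subgroups whose union is the whole group; it is minimal when no cover has fewer members, and nilpotent when all its members are nilpotent. Let G be a finite group with trivial center admitting a nilpotent minimal cover, and let P be a non-normal Sylow p-subgroup of G that is cyclic, or abelian but not elementary abelian. Then the centralizer of P is nilpotent and the normalizer of P is the unique maximal subgroup of G containing the centralizer of P. -/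
theorem result {G : Type*} [Group G] [Finite G] (hZ : Subgroup.center G = ⊥) (𝓐 : Finset (Subgroup G))
    (h𝓐 : ((∀ A ∈ 𝓐, A ≠ ⊤) ∧ (∀ g : G, ∃ A ∈ 𝓐, g ∈ A)) ∧ (∀ 𝓑 : Finset (Subgroup G), (∀ A ∈ 𝓑, A ≠ ⊤) ∧ (∀ g : G, ∃ A ∈ 𝓑, g ∈ A) → 𝓐.card ≤ 𝓑.card) ∧ (∀ A ∈ 𝓐, Group.IsNilpotent ↥A)) {p : ℕ} [Fact p.Prime] (P : Sylow p G)
    (hP : IsCyclic ↥(P : Subgroup G) ∨ (IsMulCommutative ↥(P : Subgroup G) ∧ ¬ Cfsg.IsElementaryAbelian p (P : Subgroup G)))
    (hnn : ¬ (P : Subgroup G).Normal) :
    Group.IsNilpotent ↥(Subgroup.centralizer ((P : Subgroup G) : Set G)) ∧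
      IsCoatom (Subgroup.normalizer ((P : Subgroup G) : Set G)) ∧
      ∀ M : Subgroup G, IsCoatom M → Subgroup.centralizer ((P : Subgroup G) : Set G) ≤ M →
        M = Subgroup.normalizer ((P : Subgroup G) : Set G) := by
  have hA : Cfsg.Agent.H73.NilCover.IsMinNilCover 𝓐 := h𝓐
  have hab : IsMulCommutative ↥(P : Subgroup G) := by
    rcases hP with h | h
    · exact ⟨⟨fun a b => by letI := IsCyclic.commGroup (α := ↥(P : Subgroup G)); exact mul_comm a b⟩⟩
    · exact h.1
  have hS := Cfsg.Agent.H73.NilCover.abSyl_of_sylow P hab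
  have hne : (P : Subgroup G) ≠ ⊥ := fun hb => hnn (hb ▸ inferInstance)
  have hP' : ¬ (Cfsg.IsElementaryAbelian p (P : Subgroup G) ∧ p < Nat.card ↥(P : Subgroup G)) := by
    rintro ⟨he, hlt⟩
    rcases hP with h | h
    · obtain ⟨g, hg⟩ := IsCyclic.exists_generator (α := ↥(P : Subgroup G))
      have h1 : orderOf g = Nat.card ↥(P : Subgroup G) := orderOf_eq_card_of_forall_mem_zpowers hg
      have h2 : g ^ p = 1 := Subtype.ext (by simpa using he.2 g g.2)
      have := Nat.le_of_dvd (Fact.out : p.Prime).pos (orderOf_dvd_of_pow_eq_one h2)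
      omega
    · exact h.2 he
  have hmem := Cfsg.Agent.H73.NilCover.centralizer_mem hA hS hZ P hne hP'
  have hle := Cfsg.Agent.H73.NilCover.isCoatom_normalizer hA hS hZ P hnn hP'
  have hNt : Subgroup.normalizer ((P : Subgroup G) : Set G) ≠ ⊤ :=
    fun ht => hnn (Subgroup.normalizer_eq_top_iff.1 ht)
  refine ⟨hA.2.2 _ hmem, ⟨hNt, fun M hlt => ?_⟩, fun M hM hCM => ?_⟩
  · by_contra hMt
    exact absurd (hle M hMt
      (fun c hc => hlt.le (Cfsg.Agent.H73.NilCover.mem_normalizer_of_mem_centralizer hc))) hlt.not_ge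
  · exact ((hle M hM.1 hCM).eq_or_lt).resolve_right (fun hlt => hNt (hM.2 _ hlt))

end Cfsg.Agent.S3891
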