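import Cfsg.Statements.S3893
import Mathlib
import Cfsg.Agent.Suzuki.LieModel
import Cfsg.Agent.H73.ZassenhausCover
-- import your own Cfsg.Agent.* helpers here

set_option autoImplicit false
open Cfsg

namespace Cfsg.Agent.S3893

/-- A cover of a group is a finite set of proper subgroups whose union is the whole group; it is minimal when no cover has fewer members, and nilpotent when all its members are nilpotent. The Suzuki groups Sz(q), q = 2^(2m+1) with m ≥ 1, have no nilpotent minimal cover. -/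
theorem result {F : Type*} [Field F] [Fintype F] (m : ℕ) (hm : 1 ≤ m) (hF : Fintype.card F = 2 ^ (2 * m + 1)) :
    ¬ ∃ 𝓐 : Finset (Subgroup ↥(Cfsg.Lie.Sz F (2 ^ (m + 1)))), ((∀ A ∈ 𝓐, A ≠ ⊤) ∧ (∀ g : ↥(Cfsg.Lie.Sz F (2 ^ (m + 1))), ∃ A ∈ 𝓐, g ∈ A)) ∧ (∀ 𝓑 : Finset (Subgroup ↥(Cfsg.Lie.Sz F (2 ^ (m + 1)))), (∀ A ∈ 𝓑, A ≠ ⊤) ∧ (∀ g : ↥(Cfsg.Lie.Sz F (2 ^ (m + 1))), ∃ A ∈ 𝓑, g ∈ A) → 𝓐.card ≤ 𝓑.card) ∧ (∀ A ∈ 𝓐, Group.IsNilpotent ↥A) := by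
  classical
  haveI : Cfsg.Agent.Suzuki.SuzukiField F m := ⟨hm, hF⟩
  set e := Cfsg.Agent.Suzuki.szEquivLie F m
  letI : MulAction ↥(Cfsg.Lie.Sz F (2 ^ (m + 1))) (Cfsg.suzukiOvoid F m) :=
    MulAction.compHom _ e.symm.toMonoidHom
  have hsmul : ∀ (g : ↥(Cfsg.Lie.Sz F (2 ^ (m + 1)))) (x : Cfsg.suzukiOvoid F m), g • x = e.symm g • x :=
    fun _ _ => rfl
  have hq : Fintype.card F = 2 * 2 ^ (2 * m) := by rw [hF, pow_succ, mul_comm]
  have hq8 : 8 ≤ Fintype.card F := by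
    rw [hF]; calc 8 = 2 ^ 3 := by norm_num
      _ ≤ _ := Nat.pow_le_pow_right (by norm_num) (by omega)
  obtain ⟨r, hr, hrd⟩ := Nat.exists_prime_and_dvd (n := Fintype.card Fˣ) (by rw [Fintype.card_units]; omega)
  haveI := Fact.mk hr
  have hr2 : r ≠ 2 := by
    rintro rfl
    rw [Fintype.card_units] at hrd
    omega
  obtain ⟨u, hu⟩ := exists_prime_orderOf_dvd_card r hrd
  have ht : orderOf (e (Cfsg.Agent.Suzuki.gD u)) = r := by
    rw [MulEquiv.orderOf_eq, ← hu]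
    exact orderOf_injective (Cfsg.Agent.Suzuki.gDHom F m) (fun a b h => Cfsg.Agent.Suzuki.gD_inj h) u
  refine Cfsg.Agent.H73.zassenhaus_no_nilpotent_min_cover (Ω := Cfsg.suzukiOvoid F m) ?_ ?_ ?_ ?_
    (e (Cfsg.Agent.Suzuki.gD u)) r ht hr2 (Cfsg.Agent.Suzuki.oInf F m) (Cfsg.Agent.Suzuki.oPt F m 0 0)
    (Cfsg.Agent.Suzuki.oPt_ne_oInf 0 0).symm ?_ ?_
  · intro a b c d hab hcd
    obtain ⟨g, h1, h2⟩ := Cfsg.Agent.Suzuki.exists_smul_pair (m := m) hab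
    obtain ⟨k, h3, h4⟩ := Cfsg.Agent.Suzuki.exists_smul_pair (m := m) hcd
    refine ⟨e (k⁻¹ * g), ?_, ?_⟩ <;> rw [hsmul, MulEquiv.symm_apply_apply, mul_smul, inv_smul_eq_iff]
    · rw [h1, h3]
    · rw [h2, h4]
  · intro g a b c hab hbc hac ha hb hc
    exact e.symm.injective ((Cfsg.Agent.Suzuki.sz_fix_three (m := m) hab hbc hac ha hb hc).trans (map_one e.symm).symm)
  · rw [Cfsg.Agent.Suzuki.card_suzukiOvoid, Nat.odd_iff]
    have : Fintype.card F ^ 2 = 4 * (2 ^ (2 * m)) ^ 2 := by rw [hq]; ring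
    omega
  · rw [Cfsg.Agent.Suzuki.card_suzukiOvoid]
    have : Fintype.card F ≤ Fintype.card F ^ 2 := Nat.le_self_pow (by norm_num) _
    omega
  · rw [hsmul, MulEquiv.symm_apply_apply]; exact Cfsg.Agent.Suzuki.gD_smul_oInf u
  · rw [hsmul, MulEquiv.symm_apply_apply, Cfsg.Agent.Suzuki.gD_smul_oPt, mul_zero, mul_zero]

end Cfsg.Agent.S3893
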