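import Cfsg.Statements.S3921
import Cfsg.Agent.SelfCentNC.Local
import Cfsg.Agent.SelfCentNC.PSL
import Cfsg.Agent.S0205
import Cfsg.Agent.S0508

set_option autoImplicit false
open Cfsg

namespace Cfsg.Agent.S3921

/-- Say that a group has self-centralizing non-cyclic subgroups when every non-cyclic subgroup H satisfies C_G(H) ≤ H. A non-abelian finite simple group has self-centralizing non-cyclic subgroups if and only if it is isomorphic to PSL₂(q) with q = 4, q = 9, or q a prime of the form 2^k + 1 or 2^k − 1. -/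
theorem result {G : Type*} [Group G] [Finite G] [IsSimpleGroup G] (hna : ¬ IsMulCommutative G) :
    (∀ H : Subgroup G, ¬ IsCyclic ↥H → Subgroup.centralizer (H : Set G) ≤ H) ↔ ∃ (F : Type) (_ : Field F) (_ : Fintype F),
      (Fintype.card F = 4 ∨ Fintype.card F = 9 ∨ ((Fintype.card F).Prime ∧ ∃ k : ℕ, Fintype.card F = 2 ^ k + 1 ∨ Fintype.card F = 2 ^ k - 1)) ∧
      Nonempty (G ≃* Matrix.ProjectiveSpecialLinearGroup (Fin 2) F) := by
  constructor
  · intro hG
    haveI : Fact (Nat.Prime 2) := ⟨Nat.prime_two⟩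
    have h2 : 2 ∣ Nat.card G := by
      by_contra h
      haveI := Cfsg.Agent.S0205.result (G := G) (Nat.odd_iff.2 (Nat.two_dvd_ne_zero.1 h))
      exact hna ⟨⟨IsSimpleGroup.comm_iff_isSolvable.2 inferInstance⟩⟩
    obtain ⟨S⟩ : Nonempty (Sylow 2 G) := inferInstance
    obtain ⟨n, hn, hS, t, ht, htS, htZ, hC⟩ :=
      Cfsg.Agent.SelfCentNC.dihedral_sylow hna h2 hG S
    set C := Subgroup.centralizer ({t} : Set G)
    have hcore : Cfsg.oddCore C = ⊥ := by
      refine eq_bot_iff.2 (sSup_le ?_)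
      rintro N ⟨-, hN⟩
      have h2C : IsPGroup 2 C := hC ▸ S.isPGroup'
      obtain ⟨j, hj⟩ := IsPGroup.iff_card.1 (h2C.to_subgroup N)
      rw [le_bot_iff, ← Subgroup.card_eq_one]
      exact Nat.eq_one_of_dvd_coprimes (hN.pow_right j) dvd_rfl hj.dvd
    obtain ⟨F, iF, iFF, hodd, ⟨e⟩⟩ := Cfsg.Agent.S0508.result S n hn hS t ht htS htZ ⊥
      (by rw [hcore, Subgroup.map_bot]) (fun h => absurd rfl h)
      (fun s _ hs => absurd (Subgroup.mem_centralizer_iff.2 fun y hy => by
        rw [SetLike.mem_coe, Subgroup.mem_bot] at hy; simp [hy]) hs)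
      (fun Y hY hY1 => absurd (le_bot_iff.1 hY) hY1)
    refine ⟨F, iF, iFF, Or.inr ?_, ⟨e⟩⟩
    refine Cfsg.Agent.SelfCentNC.card_cases hodd (x := e t) ?_ ?_ ?_
    · intro h
      rw [e.map_eq_one_iff] at h
      rw [h, orderOf_one] at ht
      exact absurd ht (by norm_num)
    · rw [← map_mul, Cfsg.Agent.TwoFusion.involution_mul_self ht, map_one]
    · have : (Subgroup.centralizer ({e t} : Set (Matrix.ProjectiveSpecialLinearGroup (Fin 2) F))) =
          C.map e.toMonoidHom := by
        ext y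
        obtain ⟨y, rfl⟩ := e.surjective y
        rw [Subgroup.mem_map_equiv, e.symm_apply_apply, Subgroup.mem_centralizer_singleton_iff,
          Subgroup.mem_centralizer_singleton_iff, ← map_mul, ← map_mul, e.injective.eq_iff]
      rw [this]
      exact (hC ▸ S.isPGroup').map _
  · rintro ⟨F, iF, iFF, hq, ⟨e⟩⟩ H hH x hx
    have h1 := Cfsg.Agent.SelfCentNC.psl_scn hq (H.map e.toMonoidHom)
      (fun h => hH ((H.equivMapOfInjective e.toMonoidHom e.injective).isCyclic.2 h))
    have h2 := h1 (show e x ∈ Subgroup.centralizer _ from Subgroup.mem_centralizer_iff.2 (by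
      rintro _ ⟨y, hy, rfl⟩
      show e y * e x = e x * e y
      rw [← map_mul, ← map_mul, Subgroup.mem_centralizer_iff.1 hx y hy]))
    rwa [Subgroup.mem_map_equiv, e.symm_apply_apply] at h2

end Cfsg.Agent.S3921
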