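-- statement Cfsg.CfsgFrozen.S3939 (Cfsg/Statements/S3939.lean; the theorem Cfsg.fg3_elements_nilpotent_with_everything_form_hypercenter);
import Cfsg.Statements.S3939
import Cfsg.Agent.FGSev.Nilpotent
import Cfsg.Agent.PGroup.Basic
import Cfsg.Agent.Cores.Fitting

set_option autoImplicit false
open Cfsg

namespace Cfsg.Agent.S3939

open scoped commutatorElement

universe v

theorem center_ne_bot {G : Type*} [Group G] [Finite G] [Nontrivial G] (g : G) (hg : g ≠ 1)
    (h : ∀ x : G, Group.IsNilpotent ↥(Subgroup.closure ({x, g} : Set G))) :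
    Subgroup.center G ≠ ⊥ := by
  set p := (orderOf g).minFac with hp
  have hne : orderOf g ≠ 1 := fun e => hg (orderOf_eq_one_iff.1 e)
  have hpp : p.Prime := Nat.minFac_prime hne
  haveI := Fact.mk hpp
  set a := g ^ (orderOf g / p) with ha
  have hao : orderOf a = p := by
    have hd : p ∣ orderOf g := Nat.minFac_dvd _
    rw [ha, orderOf_pow, Nat.gcd_eq_right (Nat.div_dvd_of_dvd hd),
      Nat.div_div_self hd (orderOf_pos g).ne']
  -- the centralizer of the elements of prime power order prime to `p`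
  set S : Set G := {y | ∃ q k : ℕ, q.Prime ∧ q ≠ p ∧ orderOf y = q ^ k} with hS
  set C := Subgroup.centralizer S with hC
  have haC : a ∈ C := by
    rw [hC, Subgroup.mem_centralizer_iff]
    rintro y ⟨q, k, hq, hqp, hy⟩
    haveI := Fact.mk hq
    haveI := h y
    set K := Subgroup.closure ({y, g} : Set G)
    have hyK : y ∈ K := Subgroup.subset_closure (by simp)
    have haK : a ∈ K := K.pow_mem (Subgroup.subset_closure (by simp)) _
    have := Cfsg.Agent.FGSev.commute_of_nilpotent (G := K) (p := q) (q := p) hqp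
      (x := ⟨y, hyK⟩) (y := ⟨a, haK⟩) ⟨k, by rwa [Subgroup.orderOf_mk]⟩
      ⟨1, by rw [Subgroup.orderOf_mk, hao, pow_one]⟩
    exact congrArg Subtype.val this
  haveI hCn : C.Normal := by
    refine ⟨fun c hc x => ?_⟩
    rw [hC, Subgroup.mem_centralizer_iff] at hc ⊢
    rintro y ⟨q, k, hq, hqp, hy⟩
    have ho : orderOf (x⁻¹ * y * x) = orderOf y := by
      have := orderOf_injective (MulAut.conj x⁻¹).toMonoidHom (MulAut.conj x⁻¹).injective y
      simpa using this
    have := hc (x⁻¹ * y * x) ⟨q, k, hq, hqp, ho.trans hy⟩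
    calc y * (x * c * x⁻¹) = x * ((x⁻¹ * y * x) * c) * x⁻¹ := by group
      _ = x * (c * (x⁻¹ * y * x)) * x⁻¹ := by rw [this]
      _ = x * c * x⁻¹ * y := by group
  obtain ⟨P, hP⟩ := Cfsg.Agent.Element.exists_sylow_mem (p := p) (g := a) (k := 1)
    (by rw [hao, pow_one])
  have hN : C.subgroupOf (P : Subgroup G) ≠ ⊥ := fun e => by
    have : (⟨a, hP⟩ : (P : Subgroup G)) ∈ C.subgroupOf (P : Subgroup G) := haC
    rw [e, Subgroup.mem_bot] at this
    have h1 : a = 1 := congrArg Subtype.val this
    rw [h1, orderOf_one] at hao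
    exact hpp.ne_one hao.symm
  obtain ⟨⟨z, hzC, hzZ⟩, hz1⟩ := Subgroup.ne_bot_iff_exists_ne_one.1
    (Cfsg.Agent.PGroup.inf_center_ne_bot P.2 (C.subgroupOf (P : Subgroup G)) hN)
  intro hbot
  apply hz1
  have htop : Subgroup.centralizer ({(z : G)} : Set G) = ⊤ := by
    refine Cfsg.Agent.Cores.eq_top_of_forall_sylow_le _ fun q hq => ?_
    haveI := Fact.mk hq
    by_cases hqp : q = p
    · subst hqp
      refine ⟨P, fun y hy => Subgroup.mem_centralizer_singleton_iff.2 ?_⟩
      exact congrArg Subtype.val (Subgroup.mem_center_iff.1 hzZ ⟨y, hy⟩)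
    · obtain ⟨Q⟩ := (inferInstance : Nonempty (Sylow q G))
      refine ⟨Q, fun y hy => Subgroup.mem_centralizer_singleton_iff.2 ?_⟩
      obtain ⟨k, hk⟩ := IsPGroup.iff_orderOf.1 Q.2 ⟨y, hy⟩
      exact Subgroup.mem_centralizer_iff.1 hzC y ⟨q, k, hq, hqp, by rwa [Subgroup.orderOf_mk] at hk⟩
  have hzc : (z : G) ∈ Subgroup.center G := Subgroup.mem_center_iff.2 fun y =>
    Subgroup.mem_centralizer_singleton_iff.1 (htop ▸ Subgroup.mem_top y)
  rw [hbot, Subgroup.mem_bot] at hzc
  exact Subtype.ext (Subtype.ext hzc)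

theorem mem_upperCentral_aux : ∀ (n : ℕ) (G : Type v) [Group G] [Finite G], Nat.card G ≤ n →
    ∀ g : G, (∀ x : G, Group.IsNilpotent ↥(Subgroup.closure ({x, g} : Set G))) →
      ∃ m, g ∈ Subgroup.upperCentralSeries G m := by
  intro n
  induction n with
  | zero => intro G _ _ hn; have := Nat.card_pos (α := G); omega
  | succ n ih =>
    intro G _ _ hn g h
    by_cases hg : g = 1
    · exact ⟨0, by simp [hg]⟩
    haveI : Nontrivial G := ⟨⟨g, 1, hg⟩⟩
    have hZ := center_ne_bot g hg h
    have hcard : Nat.card (G ⧸ Subgroup.center G) ≤ n := by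
      have h1 := (Subgroup.card_eq_card_quotient_mul_card_subgroup (Subgroup.center G))
      have h2 : 1 < Nat.card (Subgroup.center G) := (Subgroup.one_lt_card_iff_ne_bot _).2 hZ
      have h3 := Nat.card_pos (α := G ⧸ Subgroup.center G)
      nlinarith
    obtain ⟨m, hm⟩ := ih (G ⧸ Subgroup.center G) hcard (QuotientGroup.mk' _ g) (fun x => by
      obtain ⟨y, rfl⟩ := QuotientGroup.mk'_surjective (Subgroup.center G) x
      have e : (Subgroup.closure ({y, g} : Set G)).map (QuotientGroup.mk' (Subgroup.center G)) =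
          Subgroup.closure ({QuotientGroup.mk' _ y, QuotientGroup.mk' _ g} : Set _) := by
        rw [MonoidHom.map_closure, Set.image_pair]
      rw [← e]
      haveI := h y
      exact Group.nilpotent_of_surjective _ ((QuotientGroup.mk' _).subgroupMap_surjective _))
    refine ⟨m + 1, ?_⟩
    rw [← Subgroup.comap_upperCentralSeries_quotient_center]
    exact hm

theorem coe_mem_upperCentral {G : Type*} [Group G] (K : Subgroup G) :
    ∀ (m : ℕ) (x : K), (x : G) ∈ Subgroup.upperCentralSeries G m →
      x ∈ Subgroup.upperCentralSeries K m := by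
  intro m
  induction m with
  | zero =>
    intro x hx
    simp only [Subgroup.upperCentralSeries_zero, Subgroup.mem_bot] at hx ⊢
    exact Subtype.ext hx
  | succ m ih =>
    intro x hx
    rw [Subgroup.mem_upperCentralSeries_succ_iff] at hx ⊢
    intro y
    exact ih _ (by simpa [commutatorElement_def] using hx y)

/-- In a finite group G the set of elements g such that the subgroup generated by g and x is nilpotent for every x ∈ G is exactly the hypercenter of G (the last term of the upper central series). -/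
theorem result {G : Type*} [Group G] [Finite G] (g : G) :
    (∀ x : G, Group.IsNilpotent ↥(Subgroup.closure ({x, g} : Set G))) ↔ g ∈ ⨆ n : ℕ, Subgroup.upperCentralSeries G n := by
  have hdir : Directed (· ≤ ·) (fun n : ℕ => Subgroup.upperCentralSeries G n) :=
    (Subgroup.upperCentralSeries_mono G).directed_le
  rw [Subgroup.mem_iSup_of_directed hdir]
  refine ⟨fun h => mem_upperCentral_aux _ G le_rfl g h, ?_⟩
  rintro ⟨m, hm⟩ x
  set K := Subgroup.closure ({x, g} : Set G) with hK
  set xK : K := ⟨x, Subgroup.subset_closure (by simp)⟩ with hxK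
  set gK : K := ⟨g, Subgroup.subset_closure (by simp)⟩ with hgK
  have hgm : gK ∈ Subgroup.upperCentralSeries K m := coe_mem_upperCentral K m gK hm
  set N := Subgroup.upperCentralSeries K m with hN
  set π := QuotientGroup.mk' N with hπ
  have hgen : Subgroup.closure ({xK} : Set K) ⊔ N = ⊤ := by
    rw [eq_top_iff]
    rintro ⟨y, hy⟩ -
    have hle : K ≤ (Subgroup.closure ({xK} : Set K) ⊔ N).map K.subtype := by
      refine (Subgroup.closure_le _).2 ?_
      rintro z (rfl | rfl)
      · exact ⟨xK, Subgroup.mem_sup_left (Subgroup.subset_closure rfl), rfl⟩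
      · exact ⟨gK, Subgroup.mem_sup_right hgm, rfl⟩
    obtain ⟨z, hz, e⟩ := hle hy
    exact (Subtype.ext e : z = ⟨y, hy⟩) ▸ hz
  have hcyc : ∀ q : K ⧸ N, q ∈ Subgroup.zpowers (π xK) := by
    intro q
    obtain ⟨y, rfl⟩ := QuotientGroup.mk'_surjective N q
    have := Subgroup.mem_map_of_mem π (hgen ▸ Subgroup.mem_top y : y ∈ _)
    rw [Subgroup.map_sup, hπ, QuotientGroup.map_mk'_self, sup_bot_eq, MonoidHom.map_closure,
      Set.image_singleton, ← Subgroup.zpowers_eq_closure] at this
    exact this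
  refine ⟨m + 1, eq_top_iff.2 fun y _ => ?_⟩
  rw [Subgroup.mem_upperCentralSeries_succ_iff]
  intro z
  rw [← hN, ← QuotientGroup.eq_one_iff (N := N)]
  show π ⁅y, z⁆ = 1
  rw [map_commutatorElement, commutatorElement_eq_one_iff_commute]
  obtain ⟨i, hi⟩ := hcyc (π y)
  obtain ⟨j, hj⟩ := hcyc (π z)
  rw [← hi, ← hj]
  exact Commute.zpow_zpow_self _ _ _

end Cfsg.Agent.S3939
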