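-- statement Cfsg.CfsgFrozen.S3928 (Cfsg/Statements/S3928.lean; the theorem Cfsg.fg3_order_bounded_by_inverted_odd_elements_of_involutory_automorphism);
import Cfsg.Statements.S3928
import Cfsg.Agent.InvBound.Generation
import Cfsg.Agent.S3939

set_option autoImplicit false
open Cfsg

namespace Cfsg.Agent.S3928

open Cfsg.Agent.InvBound
open scoped Nat commutatorElement

theorem card_fix_center_le {G : Type} [Group G] [Finite G] (α : MulAut G)
    (hgen : Subgroup.closure {g : G | Odd (orderOf g) ∧ α g = g⁻¹} = ⊤) :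
    ∃ f : fix α → Equiv.Perm (OddInv α), ∀ d d' : fix α, f d = f d' →
      (d : G)⁻¹ * (d' : G) ∈ Subgroup.center G := by
  have hmem : ∀ (d : fix α) (g : G), (Odd (orderOf g) ∧ α g = g⁻¹) →
      Odd (orderOf ((d : G) * g * (d : G)⁻¹)) ∧
        α ((d : G) * g * (d : G)⁻¹) = ((d : G) * g * (d : G)⁻¹)⁻¹ := by
    intro d g hg
    refine ⟨?_, ?_⟩
    · have : orderOf ((d : G) * g * (d : G)⁻¹) = orderOf g :=
        orderOf_injective (MulAut.conj (d : G)).toMonoidHom (MulAut.conj (d : G)).injective g
      rw [this]; exact hg.1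
    · rw [map_mul, map_mul, map_inv, mem_fix.1 d.2, hg.2]; group
  refine ⟨fun d =>
    { toFun := fun g => ⟨(d : G) * g * (d : G)⁻¹, hmem d g g.2⟩
      invFun := fun g => ⟨(d : G)⁻¹ * g * (d : G), by simpa using hmem d⁻¹ g g.2⟩
      left_inv := fun g => Subtype.ext (by simp [mul_assoc])
      right_inv := fun g => Subtype.ext (by simp [mul_assoc]) }, fun d d' h => ?_⟩
  have hI : ∀ g : OddInv α, (d : G) * g * (d : G)⁻¹ = (d' : G) * g * (d' : G)⁻¹ := fun g =>
    congrArg (fun e : Equiv.Perm (OddInv α) => ((e g : OddInv α) : G)) h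
  rw [Subgroup.mem_center_iff]
  intro y
  have hy : y ∈ Subgroup.centralizer ({(d : G)⁻¹ * (d' : G)} : Set G) := by
    have hle : Subgroup.closure {g : G | Odd (orderOf g) ∧ α g = g⁻¹} ≤
        Subgroup.centralizer ({(d : G)⁻¹ * (d' : G)} : Set G) := by
      rw [Subgroup.closure_le]
      intro g hg
      rw [SetLike.mem_coe, Subgroup.mem_centralizer_singleton_iff]
      calc g * ((d : G)⁻¹ * (d' : G)) = (d : G)⁻¹ * ((d : G) * g * (d : G)⁻¹) * (d' : G) := by group
        _ = (d : G)⁻¹ * ((d' : G) * g * (d' : G)⁻¹) * (d' : G) := by rw [hI ⟨g, hg⟩]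
        _ = (d : G)⁻¹ * (d' : G) * g := by group
    exact hle (hgen ▸ Subgroup.mem_top y)
  exact Subgroup.mem_centralizer_singleton_iff.1 hy

theorem center_trivial_fix_le {G : Type} [Group G] [Finite G] (α : MulAut G)
    (hgen : Subgroup.closure {g : G | Odd (orderOf g) ∧ α g = g⁻¹} = ⊤)
    (hZ : Subgroup.center G = ⊥) {m : ℕ} (hm : Nat.card (OddInv α) ≤ m) :
    Nat.card (fix α) ≤ m ! := by
  obtain ⟨f, hf⟩ := card_fix_center_le α hgen
  refine le_trans (Nat.card_le_card_of_injective f fun d d' h => Subtype.ext ?_) ?_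
  · have := hf d d' h
    rw [hZ, Subgroup.mem_bot, inv_mul_eq_one] at this
    exact this
  · rw [Nat.card_perm]; exact Nat.factorial_le hm

/-- Elements of 2-power order in the hypercentre commute with elements of odd order. -/
theorem commute_upper {G : Type} [Group G] [Finite G] (n : ℕ) (u g : G) {k : ℕ}
    (hu : orderOf u = 2 ^ k) (hg : Odd (orderOf g))
    (hmem : u ∈ Subgroup.upperCentralSeries G n) : Commute u g := by
  haveI := (Cfsg.Agent.S3939.result u).2 (Subgroup.mem_iSup_of_mem n hmem) g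
  set K := Subgroup.closure ({g, u} : Set G)
  have hgK : g ∈ K := Subgroup.subset_closure (Set.mem_insert g _)
  have huK : u ∈ K := Subgroup.subset_closure (Set.mem_insert_of_mem g rfl)
  have htop : (Subgroup.centralizer ({u} : Set G)).subgroupOf (Subgroup.zpowers g) = ⊤ := by
    refine Cfsg.Agent.Cores.eq_top_of_forall_sylow_le _ fun q hq => ?_
    haveI := Fact.mk hq
    obtain ⟨P⟩ := (inferInstance : Nonempty (Sylow q (Subgroup.zpowers g)))
    refine ⟨P, fun y hy => Subgroup.mem_centralizer_singleton_iff.2 ?_⟩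
    obtain ⟨j, hj⟩ := IsPGroup.iff_orderOf.1 P.2 ⟨y, hy⟩
    rw [Subgroup.orderOf_mk, ← Subgroup.orderOf_coe] at hj
    by_cases hq2 : q = 2
    · subst hq2
      have hd : orderOf (y : G) ∣ orderOf g := orderOf_dvd_of_mem_zpowers y.2
      have hodd := hg.of_dvd_nat hd
      rw [hj] at hodd
      rcases Nat.eq_zero_or_pos j with rfl | hjpos
      · rw [pow_zero, orderOf_eq_one_iff] at hj
        show (y : G) * u = u * (y : G)
        rw [hj, one_mul, mul_one]
      · exact absurd hodd (Nat.not_odd_iff_even.2 ((Nat.even_pow' hjpos.ne').2 even_two))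
    · haveI : Fact (2 : ℕ).Prime := ⟨Nat.prime_two⟩
      have hyK : (y : G) ∈ K := Subgroup.zpowers_le.2 hgK y.2
      exact congrArg Subtype.val (Cfsg.Agent.FGSev.commute_of_nilpotent (G := K) (p := q) (q := 2) hq2
        (x := ⟨(y : G), hyK⟩) (y := ⟨u, huK⟩) ⟨j, by rwa [Subgroup.orderOf_mk]⟩
        ⟨k, by rwa [Subgroup.orderOf_mk]⟩)
  have h : (⟨g, Subgroup.mem_zpowers g⟩ : Subgroup.zpowers g) ∈
      (Subgroup.centralizer ({u} : Set G)).subgroupOf (Subgroup.zpowers g) := htop ▸ Subgroup.mem_top _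
  exact (Subgroup.mem_centralizer_singleton_iff.1 h).symm

theorem card_commutatorSet_le {G : Type} [Group G] [Finite G] :
    Nat.card (commutatorSet G) ≤ (Subgroup.center G).index * (Subgroup.center G).index := by
  rw [Subgroup.index_eq_card, ← Nat.card_prod]
  have hmem : ∀ c : commutatorSet G, ∃ p : G × G, ⁅p.1, p.2⁆ = (c : G) := fun c =>
    let ⟨g, h, e⟩ := c.2; ⟨(g, h), e⟩
  choose p hp using hmem
  refine Nat.card_le_card_of_injective
    (fun c => ((QuotientGroup.mk (p c).1 : G ⧸ Subgroup.center G),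
      (QuotientGroup.mk (p c).2 : G ⧸ Subgroup.center G))) fun c d hcd => Subtype.ext ?_
  obtain ⟨h1, h2⟩ := Prod.mk.inj hcd
  rw [← hp c, ← hp d]
  set z1 := (p c).1⁻¹ * (p d).1 with hz1
  set z2 := (p c).2⁻¹ * (p d).2 with hz2
  have hc1 := Subgroup.mem_center_iff.1 (QuotientGroup.eq.1 h1)
  have hc2 := Subgroup.mem_center_iff.1 (QuotientGroup.eq.1 h2)
  have e1 : (p d).1 = (p c).1 * z1 := by rw [hz1, mul_inv_cancel_left]
  have e2 : (p d).2 = (p c).2 * z2 := by rw [hz2, mul_inv_cancel_left]
  rw [e1, e2]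
  rw [← hz1] at hc1
  rw [← hz2] at hc2
  clear_value z1 z2
  simp only [commutatorElement_def, mul_inv_rev]
  symm
  calc (p c).1 * z1 * ((p c).2 * z2) * (z1⁻¹ * (p c).1⁻¹) * (z2⁻¹ * (p c).2⁻¹)
      = (p c).1 * (z1 * ((p c).2 * z2) * z1⁻¹) * (p c).1⁻¹ * z2⁻¹ * (p c).2⁻¹ := by group
    _ = (p c).1 * ((p c).2 * z2) * (p c).1⁻¹ * z2⁻¹ * (p c).2⁻¹ := by
        rw [← hc1 ((p c).2 * z2), mul_inv_cancel_right]
    _ = (p c).1 * (p c).2 * (z2 * (p c).1⁻¹ * z2⁻¹) * (p c).2⁻¹ := by group
    _ = (p c).1 * (p c).2 * (p c).1⁻¹ * (p c).2⁻¹ := by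
        rw [← hc2 (p c).1⁻¹, mul_inv_cancel_right]

def indexBound (m : ℕ) : ℕ := centerlessBound m ! m * (m * m !)

/-- There is a function f such that for every non-trivial finite group G and every automorphism α of G of order 2 with [G, α] = G (the elements g·α(g)⁻¹ generate G), the order of G is at most f(m), where m is the number of elements of odd order inverted by α. -/
theorem result : ∃ f : ℕ → ℕ, ∀ (G : Type) [Group G] [Finite G] [Nontrivial G] (α : MulAut G), orderOf α = 2 →
    Subgroup.closure (Set.range (fun c : G => c * (α c)⁻¹)) = ⊤ →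
      Nat.card G ≤ f (Nat.card {g : G // Odd (orderOf g) ∧ α g = g⁻¹}) := by
  refine ⟨fun m => m * ∑ i ∈ Finset.range (indexBound m * indexBound m + 1),
    Subgroup.cardCommutatorBound i, ?_⟩
  intro G _ _ _ α hα hG
  set m := Nat.card (OddInv α) with hm
  show Nat.card G ≤ m * _
  have hα2 : α * α = 1 := by
    have := pow_orderOf_eq_one α
    rwa [hα, _root_.sq] at this
  have hinv : ∀ g, α (α g) = g := fun g => congrArg (fun e : MulAut G => e g) hα2
  have hgen := closure_oddInv_eq_top α hα hG
  -- the hypercentre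
  obtain ⟨n, hn⟩ : ∃ n, Subgroup.upperCentralSeries G (n + 1) = Subgroup.upperCentralSeries G n := by
    by_contra hne
    push Not at hne
    have hlt : ∀ i : ℕ, i < Nat.card (Subgroup.upperCentralSeries G i) := by
      intro i
      induction i with
      | zero => exact Nat.card_pos
      | succ i ih =>
        have h1 : Subgroup.upperCentralSeries G i < Subgroup.upperCentralSeries G (i + 1) :=
          lt_of_le_of_ne (Subgroup.upperCentralSeries_mono G (Nat.le_succ i)) (hne i).symm
        have h2 := Set.ncard_lt_ncard (SetLike.coe_ssubset_coe.mpr h1)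
        rw [← Nat.card_coe_set_eq, ← Nat.card_coe_set_eq] at h2
        change Nat.card (Subgroup.upperCentralSeries G i) < Nat.card (Subgroup.upperCentralSeries G (i + 1)) at h2
        omega
    exact absurd (Subgroup.card_le_card_group _) (not_le.2 (hlt (Nat.card G)))
  set U := Subgroup.upperCentralSeries G n with hU
  haveI hUn : U.Normal := by rw [hU]; infer_instance
  have hUs : Stable α U := fun x hx => by
    rw [hU, ← Subgroup.comap_upperCentralSeries α n] at hx
    exact hx
  set π := QuotientGroup.mk' U with hπ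
  set β := quotAut α hinv U hUs with hβ
  have hπs := QuotientGroup.mk'_surjective U
  have hm' : Nat.card (OddInv β) ≤ m := card_oddInv_le π hπs α β (fun g => rfl) hinv
  have hcen : Subgroup.center (G ⧸ U) = ⊥ := by
    rw [eq_bot_iff]
    intro q hq
    obtain ⟨g, rfl⟩ := hπs q
    rw [Subgroup.mem_bot]
    show (QuotientGroup.mk' U) g = 1
    rw [QuotientGroup.mk'_apply, QuotientGroup.eq_one_iff, ← hn,
      Subgroup.mem_upperCentralSeries_succ_iff]
    intro y
    rw [← hU, ← QuotientGroup.eq_one_iff (N := U)]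
    show (QuotientGroup.mk' U) ⁅g, y⁆ = 1
    rw [map_commutatorElement, commutatorElement_eq_one_iff_commute]
    exact (Subgroup.mem_center_iff.1 hq (π y)).symm
  have hgen' : Subgroup.closure {q : G ⧸ U | Odd (orderOf q) ∧ β q = q⁻¹} = ⊤ := by
    rw [eq_top_iff, ← Subgroup.map_top_of_surjective π hπs, ← hgen, MonoidHom.map_closure]
    refine Subgroup.closure_mono ?_
    rintro _ ⟨g, ⟨hg1, hg2⟩, rfl⟩
    refine ⟨hg1.of_dvd_nat (orderOf_map_dvd π g), ?_⟩
    rw [← map_inv, ← hg2]
    rfl
  have hb : U.index ≤ centerlessBound m ! m := by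
    rw [Subgroup.index_eq_card]
    refine card_le_centerlessBound β (quotAut_invol α hinv U hUs)
      (center_trivial_fix_le β hgen' hcen hm') hm' fun A hAn hAc hAi => ?_
    rw [eq_bot_iff, ← hcen]
    intro a ha
    have hle : Subgroup.closure (Set.range fun q : G ⧸ U => q * (β q)⁻¹) ≤
        Subgroup.centralizer ({a} : Set (G ⧸ U)) := by
      rw [Subgroup.closure_le]
      rintro _ ⟨q, rfl⟩
      rw [SetLike.mem_coe, Subgroup.mem_centralizer_singleton_iff]
      have h1 := hAi _ (hAn.conj_mem a ha q)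
      rw [map_mul, map_mul, map_inv, hAi a ha, mul_inv_rev, mul_inv_rev, inv_inv] at h1
      have h7 := hAi _ (hAn.conj_mem a ha q⁻¹)
      rw [inv_inv, map_mul, map_mul, map_inv, hAi a ha, mul_inv_rev, mul_inv_rev, inv_inv] at h7
      -- h7 : (β q)⁻¹ * a⁻¹ * β q = q⁻¹ * (a⁻¹ * q)
      have h8 : q * (β q)⁻¹ * a⁻¹ = a⁻¹ * (q * (β q)⁻¹) := by
        calc q * (β q)⁻¹ * a⁻¹ = q * ((β q)⁻¹ * a⁻¹ * β q) * (β q)⁻¹ := by group
          _ = q * (q⁻¹ * (a⁻¹ * q)) * (β q)⁻¹ := by rw [h7]
          _ = _ := by group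
      calc q * (β q)⁻¹ * a = a * (a⁻¹ * (q * (β q)⁻¹)) * a := by group
        _ = a * (q * (β q)⁻¹ * a⁻¹) * a := by rw [h8]
        _ = a * (q * (β q)⁻¹) := by group
    rw [Subgroup.mem_center_iff]
    intro y
    exact Subgroup.mem_centralizer_singleton_iff.1
      (hle ((commutator_generate π hπs α β (fun g => rfl) hG).symm ▸ Subgroup.mem_top y))
  -- the hypercentre over the centre
  set αU := restr α hinv U hUs with hαU
  have hinvU : ∀ x, αU (αU x) = x := fun x => Subtype.ext (hinv _)
  set V := (Subgroup.center G).subgroupOf U with hV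
  haveI hVn : V.Normal := by rw [hV]; infer_instance
  have hVs : Stable αU V := fun x hx =>
    (Subgroup.characteristic_iff_le_comap.1 (inferInstance : (Subgroup.center G).Characteristic) α) hx
  set σ := QuotientGroup.mk' V with hσ
  set γ := quotAut αU hinvU V hVs with hγ
  have hσs := QuotientGroup.mk'_surjective V
  have hmQ : Nat.card (OddInv γ) ≤ m :=
    (card_oddInv_le σ hσs αU γ (fun g => rfl) hinvU).trans (card_oddInv_restr_le α hinv U hUs)
  -- representatives of odd order
  have hrep : ∀ q : U ⧸ V, ∃ x : U, σ x = q ∧ Odd (orderOf (x : G)) := by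
    intro q
    obtain ⟨u, rfl⟩ := hσs q
    refine ⟨Cfsg.Agent.Element.pComplPart 2 u, ?_, ?_⟩
    · conv_rhs => rw [← Cfsg.Agent.Element.pPart_mul_pComplPart 2 u, map_mul]
      have hc : σ (Cfsg.Agent.Element.pPart 2 u) = 1 := by
        rw [hσ, QuotientGroup.mk'_apply, QuotientGroup.eq_one_iff, hV, Subgroup.mem_subgroupOf,
          Subgroup.mem_center_iff]
        intro g
        have hle : Subgroup.closure {g : G | Odd (orderOf g) ∧ α g = g⁻¹} ≤
            Subgroup.centralizer ({((Cfsg.Agent.Element.pPart 2 u : U) : G)} : Set G) := by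
          rw [Subgroup.closure_le]
          intro g hg
          rw [SetLike.mem_coe, Subgroup.mem_centralizer_singleton_iff]
          refine (commute_upper n _ g ((Subgroup.orderOf_coe _).trans
            (Cfsg.Agent.Element.orderOf_pPart_eq_pow Nat.prime_two u)) hg.1
            (Cfsg.Agent.Element.pPart 2 u).2).eq.symm
        exact Subgroup.mem_centralizer_singleton_iff.1 (hle (hgen ▸ Subgroup.mem_top g))
      rw [hc, one_mul]
    · rw [Subgroup.orderOf_coe, ← Nat.coprime_two_right]
      exact Cfsg.Agent.Element.coprime_orderOf_pComplPart Nat.prime_two u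
  have hoddQ : ∀ q : U ⧸ V, Odd (orderOf q) := by
    intro q
    obtain ⟨x, rfl, hx⟩ := hrep q
    rw [Subgroup.orderOf_coe] at hx
    exact hx.of_dvd_nat (orderOf_map_dvd σ x)
  obtain ⟨f, hf⟩ := card_fix_center_le α hgen
  have hfixQ : Nat.card (fix γ) ≤ m ! := by
    have hd : ∀ q : fix γ, ∃ (x : U) (d : fix α), σ x = (q : U ⧸ V) ∧
        (x : G)⁻¹ * (d : G) ∈ Subgroup.center G := by
      intro q
      obtain ⟨x, hx, hxo⟩ := hrep q
      set z : G := (x : G)⁻¹ * α x with hz
      have hzc : z ∈ Subgroup.center G := by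
        have h1 : σ (x⁻¹ * αU x) = 1 := by
          rw [map_mul, map_inv, hx]
          have : σ (αU x) = (q : U ⧸ V) := by
            rw [← mem_fix.1 q.2, ← hx]; rfl
          rw [this, inv_mul_cancel]
        exact (QuotientGroup.eq_one_iff (N := V) _).1 h1
      have hzc' := Subgroup.mem_center_iff.1 hzc
      have hax : α (x : G) = (x : G) * z := by rw [hz, mul_inv_cancel_left]
      obtain ⟨k, hk⟩ := hxo
      have hzo : z ^ orderOf (x : G) = 1 := by
        have h := congrArg α (pow_orderOf_eq_one (x : G))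
        rw [map_pow, map_one, hax, (show Commute (x : G) z from hzc' x).mul_pow,
          pow_orderOf_eq_one, one_mul] at h
        exact h
      have hαz : α z = z⁻¹ := by
        rw [hz, map_mul, map_inv, hinv, mul_inv_rev, inv_inv]
      refine ⟨x, ⟨(x : G) * z ^ (k + 1), ?_⟩, hx, ?_⟩
      · rw [mem_fix, map_mul, map_pow, hax, hαz, mul_assoc]
        congr 1
        rw [inv_pow, mul_inv_eq_iff_eq_mul, ← pow_add]
        have : k + 1 + (k + 1) = orderOf (x : G) + 1 := by omega
        rw [this, pow_succ, hzo, one_mul]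
      · simpa using pow_mem hzc (k + 1)
    choose x d hx hd using hd
    refine le_trans (Nat.card_le_card_of_injective (fun q => f (d q)) fun q q' h => ?_) ?_
    · apply Subtype.ext
      rw [← hx q, ← hx q', hσ, QuotientGroup.mk'_apply, QuotientGroup.mk'_apply, QuotientGroup.eq]
      show ((x q : G))⁻¹ * (x q' : G) ∈ Subgroup.center G
      have h3 : (x q : G)⁻¹ * (x q' : G) =
          ((x q : G)⁻¹ * d q) * ((d q : G)⁻¹ * d q') * ((x q' : G)⁻¹ * d q')⁻¹ := by group
      rw [h3]
      exact mul_mem (mul_mem (hd q) (hf _ _ h)) (inv_mem (hd q'))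
    · rw [Nat.card_perm]
  have hQ : V.index ≤ m * m ! := by
    rw [Subgroup.index_eq_card]
    refine (card_le_mul_of_fiber (fun q : U ⧸ V => (⟨q⁻¹ * γ q, hoddQ _, ?_⟩ : OddInv γ)) (m !)
      fun v => ?_).trans (Nat.mul_le_mul_right _ hmQ)
    · rw [map_mul, map_inv, quotAut_invol αU hinvU V hVs, mul_inv_rev, inv_inv]
    · refine le_trans (le_of_eq_of_le (Nat.card_congr
        { toFun := fun q => ⟨⟨q.1, Subgroup.mem_top _⟩, congrArg Subtype.val q.2⟩
          invFun := fun q => ⟨q.1.1, Subtype.ext q.2⟩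
          left_inv := fun q => rfl
          right_inv := fun q => rfl }) (fiber_le γ ⊤ (v : U ⧸ V))) hfixQ
  have hZ : (Subgroup.center G).index ≤ indexBound m := by
    refine (Subgroup.index_antitone (inf_le_left : Subgroup.center G ⊓ U ≤ _)).trans ?_
    rw [← Subgroup.relIndex_mul_index (inf_le_right : Subgroup.center G ⊓ U ≤ U),
      Subgroup.inf_relIndex_right, indexBound, mul_comm (centerlessBound _ _)]
    exact Nat.mul_le_mul hQ hb
  -- the abelianisation
  have hcs : Stable α (_root_.commutator G) := fun x hx =>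
    (Subgroup.characteristic_iff_le_comap.1 (inferInstance : (_root_.commutator G).Characteristic) α) hx
  set τ := QuotientGroup.mk' (_root_.commutator G) with hτ
  set δ := quotAut α hinv _ hcs with hδ
  have hτs := QuotientGroup.mk'_surjective (_root_.commutator G)
  have hcommQ : ∀ a b : G ⧸ _root_.commutator G, a * b = b * a := by
    intro a b
    obtain ⟨g, rfl⟩ := hτs a
    obtain ⟨h, rfl⟩ := hτs b
    rw [← commutatorElement_eq_one_iff_mul_comm, ← map_commutatorElement,
      QuotientGroup.mk'_apply, QuotientGroup.eq_one_iff]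
    exact Subgroup.commutator_mem_commutator (Subgroup.mem_top g) (Subgroup.mem_top h)
  have hgenQ := commutator_generate τ hτs α δ (fun g => rfl) hG
  have hinvQ : ∀ q, δ q = q⁻¹ := by
    intro q
    let J : Subgroup (G ⧸ _root_.commutator G) :=
      { carrier := {q | δ q = q⁻¹}
        mul_mem' := fun {a b} ha hb => by
          show δ (a * b) = (a * b)⁻¹
          rw [map_mul, (show δ a = a⁻¹ from ha), (show δ b = b⁻¹ from hb), mul_inv_rev, hcommQ]
        one_mem' := by simp
        inv_mem' := fun {a} ha => by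
          show δ a⁻¹ = a⁻¹⁻¹
          rw [map_inv, (show δ a = a⁻¹ from ha)] }
    have hle : Subgroup.closure (Set.range fun q => q * (δ q)⁻¹) ≤ J := by
      rw [Subgroup.closure_le]
      rintro _ ⟨q, rfl⟩
      show δ (q * (δ q)⁻¹) = (q * (δ q)⁻¹)⁻¹
      rw [map_mul, map_inv, quotAut_invol α hinv _ hcs, mul_inv_rev, inv_inv]
    exact hle (hgenQ.symm ▸ Subgroup.mem_top q)
  have hoddAb : ∀ q : G ⧸ _root_.commutator G, Odd (orderOf q) := by
    let sq : G ⧸ _root_.commutator G →* G ⧸ _root_.commutator G :=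
      { toFun := fun q => q ^ 2
        map_one' := by simp
        map_mul' := fun a b => (show Commute a b from hcommQ a b).mul_pow 2 }
    have hsurj : Function.Surjective sq := by
      rw [← MonoidHom.range_eq_top, eq_top_iff, ← hgenQ, Subgroup.closure_le]
      rintro _ ⟨q, rfl⟩
      exact ⟨q, by show q ^ 2 = q * (δ q)⁻¹; rw [hinvQ, inv_inv, _root_.sq]⟩
    intro q
    by_contra hne
    rw [Nat.not_odd_iff_even] at hne
    obtain ⟨r, hr⟩ := hne
    have hr0 : 0 < r := by have := orderOf_pos q; omega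
    have h1 : sq (q ^ r) = sq 1 := by
      show (q ^ r) ^ 2 = 1 ^ 2
      rw [one_pow, ← pow_mul, show r * 2 = orderOf q by omega, pow_orderOf_eq_one]
    have h2 := Finite.injective_iff_surjective.2 hsurj h1
    have := Nat.le_of_dvd hr0 (orderOf_dvd_of_pow_eq_one h2)
    omega
  have hab : (_root_.commutator G).index ≤ m := by
    rw [Subgroup.index_eq_card]
    refine le_trans (Nat.card_le_card_of_injective
      (fun q => (⟨q, hoddAb q, hinvQ q⟩ : OddInv δ)) fun a b h => congrArg Subtype.val h) ?_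
    exact card_oddInv_le τ hτs α δ (fun g => rfl) hinv
  have hcomm := Subgroup.card_commutator_le_of_finite_commutatorSet G
  rw [← Subgroup.card_mul_index (_root_.commutator G), mul_comm]
  refine Nat.mul_le_mul hab (hcomm.trans ?_)
  refine Finset.single_le_sum (f := Subgroup.cardCommutatorBound) (fun i _ => Nat.zero_le _)
    (Finset.mem_range.2 (Nat.lt_succ_of_le ?_))
  exact card_commutatorSet_le.trans (Nat.mul_le_mul hZ hZ)

end Cfsg.Agent.S3928
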