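import Cfsg.Statements.S3930
import Cfsg.Agent.Pyramid.Main
import Cfsg.Agent.Pyramid.Converse

set_option autoImplicit false
open Cfsg

namespace Cfsg.Agent.S3930

/-- Call a finite group m-pyramidal when it has exactly m involutions and they form a single conjugacy class. Let p be an odd prime and k ≥ 1. Then every p^k-pyramidal finite group is solvable if and only if k is odd or p^k = 9. -/
theorem result (p k : ℕ) (hp : p.Prime) (hp2 : p ≠ 2) (hk : 1 ≤ k) :
    (∀ (G : Type) [Group G] [Finite G], Nat.card {x : G // orderOf x = 2} = p ^ k →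
      (∀ x y : G, orderOf x = 2 → orderOf y = 2 → ∃ g : G, g * x * g⁻¹ = y) → Group.IsSolvable G) ↔ (Odd k ∨ p ^ k = 9) := by
  constructor
  · intro h
    by_contra hno
    push Not at hno
    obtain ⟨G, _, _, hcard, hconj, hns⟩ :=
      Pyramid.converse p k hp hp2 hk (Nat.not_odd_iff_even.1 hno.1) hno.2
    exact hns (h G hcard hconj)
  · intro h G _ _ hcard hconj
    exact Pyramid.main_forward G p k hp hp2 h hcard hconj

end Cfsg.Agent.S3930
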