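import Cfsg.Statements.S3940
import Cfsg.Agent.OddPre.PPrimeNilpotent.Main
import Cfsg.Agent.S0205

set_option autoImplicit false
open Cfsg

namespace Cfsg.Agent.S3940

/-- Let p > 3 be a prime and G a finite group in which every subgroup of order prime to p is nilpotent. Then G is solvable. -/
theorem result {G : Type*} [Group G] [Finite G] (p : ℕ) (hp : p.Prime) (hp3 : 3 < p)
    (h : ∀ H : Subgroup G, (Nat.card ↥H).Coprime p → Group.IsNilpotent ↥H) : Group.IsSolvable G := by
  haveI := Fact.mk hp
  have h5 : 5 ≤ p := by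
    by_contra hlt
    have : p = 4 := by omega
    exact absurd (this ▸ hp) (by norm_num)
  refine Cfsg.Agent.OddPre.PPrimeNilpotent.isSolvable_of_nilp h5
    (fun K _ _ hK => Cfsg.Agent.S0205.result hK) fun H hH => h H ?_
  exact ((hp.coprime_iff_not_dvd).2 hH).symm

end Cfsg.Agent.S3940
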