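import Cfsg.Statements.S4017
import Mathlib
import Cfsg.Agent.MixedPrime.Alpha
import Cfsg.Agent.MixedPrime.Beta
import Cfsg.Agent.Transfer.Frobenius

set_option autoImplicit false
open Cfsg Cfsg.Agent Cfsg.Agent.MixedPrime

namespace Cfsg.Agent.S4017

universe u

/-- Elements of a normalizer and the normalized subgroup give a mixed subgroup. -/
theorem no_pair {G : Type u} [Group G] [Finite G] {p q : ℕ} (hp : p.Prime) (hpG : p ∣ Nat.card G)
    (hmix : ∀ H : Subgroup G, H ≠ ⊤ → ¬ IsPGroup q H → q ∣ Nat.card H → p ∣ Nat.card H) (hq : q.Prime)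
    {A : Subgroup G} {y : G} (hy : y ∈ Subgroup.normalizer (A : Set G)) (hpA : ¬ p ∣ Nat.card A)
    (hpy : ¬ p ∣ orderOf y) (hqd : q ∣ Nat.card A ∨ q ∣ orderOf y)
    (hs : ∃ s : ℕ, s.Prime ∧ s ≠ q ∧ (s ∣ Nat.card A ∨ s ∣ orderOf y)) : False := by
  set N := Subgroup.normalizer (A : Set G)
  set A' := A.subgroupOf N
  haveI : A'.Normal := Subgroup.normal_in_normalizer
  set H := (Subgroup.zpowers (⟨y, hy⟩ : N) ⊔ A').map N.subtype
  have hH : Nat.card H ∣ orderOf y * Nat.card A := by
    rw [Subgroup.card_map_of_injective N.subtype_injective]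
    refine (Cores.card_sup_dvd_mul (Subgroup.zpowers (⟨y, hy⟩ : N)) A').trans (dvd_of_eq ?_)
    rw [Nat.card_zpowers, Subgroup.orderOf_mk, Nat.card_congr (Subgroup.subgroupOfEquivOfLe Subgroup.le_normalizer).toEquiv]
  have hA : Nat.card A ∣ Nat.card H := by
    rw [← Nat.card_congr (Subgroup.subgroupOfEquivOfLe (Subgroup.le_normalizer : A ≤ N)).toEquiv,
      Subgroup.card_map_of_injective N.subtype_injective]
    exact Subgroup.card_dvd_of_le le_sup_right
  have hy' : orderOf y ∣ Nat.card H := by
    rw [Subgroup.card_map_of_injective N.subtype_injective,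
      show orderOf y = Nat.card (Subgroup.zpowers (⟨y, hy⟩ : N)) by rw [Nat.card_zpowers, Subgroup.orderOf_mk]]
    exact Subgroup.card_dvd_of_le le_sup_left
  have hpH : ¬ p ∣ Nat.card H := fun h => (hp.dvd_mul.mp (h.trans hH)).elim hpy hpA
  refine hpH (hmix H (fun e => hpH (by rw [e, Subgroup.card_top]; exact hpG)) (fun hq' => ?_) ?_)
  · obtain ⟨s, hs, hsq, hsd⟩ := hs
    haveI := Fact.mk hq
    obtain ⟨k, hk⟩ := hq'.exists_card_eq
    have hsH : s ∣ Nat.card H := hsd.elim (fun h => h.trans hA) (fun h => h.trans hy')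
    rw [hk] at hsH
    exact hsq ((Nat.prime_dvd_prime_iff_eq hs hq).mp (hs.dvd_of_dvd_pow hsH))
  · exact hqd.elim (fun h => h.trans hA) (fun h => h.trans hy')

theorem main : ∀ (n : ℕ) (G : Type u) [Group G] [Finite G], Nat.card G ≤ n →
    ∀ p q : ℕ, p.Prime → q.Prime → p ≠ q → p ≠ 2 → p ∣ Nat.card G → q ∣ Nat.card G →
    (∀ H : Subgroup G, H ≠ ⊤ → ¬ IsPGroup q H → q ∣ Nat.card H → p ∣ Nat.card H) →
    (q ^ (Nat.card G).factorization q - 1 < p ∨
      (p = q ^ (Nat.card G).factorization q - 1 ∧ ∀ P : Sylow p G, IsMulCommutative P)) →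
    ∀ r : ℕ, r.Prime → r ∣ Nat.card G → r = p ∨ r = q := by
  intro n
  induction n with
  | zero => intro G _ _ hn; have h0 : 0 < Nat.card G := Nat.card_pos; omega
  | succ n ih =>
  intro G _ _ hn p q hp hq hpq hp2 hpG hqG hmix hlarge r hr hrG
  by_contra hcon
  push Not at hcon
  obtain ⟨hrp, hrq⟩ := hcon
  haveI := Fact.mk hp
  haveI := Fact.mk hq
  haveI := Fact.mk hr
  classical
  have hqU : ∀ {U : Subgroup G}, IsPGroup q U → U ≠ ⊥ → q ∣ Nat.card U ∧ ¬ p ∣ Nat.card U := fun {U} hU hne => by
    refine ⟨(hU.card_eq_or_dvd).resolve_left fun e => hne (Subgroup.card_eq_one.mp e), fun hd => ?_⟩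
    obtain ⟨k, hk⟩ := hU.exists_card_eq
    rw [hk] at hd
    exact hpq ((Nat.prime_dvd_prime_iff_eq hp hq).mp (hp.dvd_of_dvd_pow hd))
  have hnorm : ∀ (U : Subgroup G), IsPGroup q U → U ≠ ⊥ → ∀ y ∈ Subgroup.normalizer (U : Set G),
      ∀ s : ℕ, s.Prime → s ≠ p → s ≠ q → orderOf y = s → False := by
    intro U hU hne y hy s hs hsp hsq hyo
    refine no_pair hp hpG hmix hq hy (hqU hU hne).2 (fun hd => ?_) (Or.inl (hqU hU hne).1)
      ⟨s, hs, hsq, Or.inr hyo.symm.dvd⟩
    rw [hyo] at hd
    exact hsp ((Nat.prime_dvd_prime_iff_eq hp hs).mp hd).symm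
  -- some `p`-element moves a point of a normalized `q`-subgroup
  obtain ⟨U, hU, g, k, hgk, hgU, w, hwU, hmove⟩ : ∃ U : Subgroup G, IsPGroup q U ∧ ∃ (g : G) (k : ℕ),
      g ^ p ^ k = 1 ∧ g ∈ Subgroup.normalizer (U : Set G) ∧ ∃ w ∈ U, g * w * g⁻¹ ≠ w := by
    by_contra! hall
    have hfrob : Cfsg.HasNormalPComplement q G := by
      refine Transfer.hasNormalPComplement_of_coprime_centralize fun U hU hne g hg hgo => ?_
      have hpp : ∃ k, g ^ p ^ k = 1 := by
        obtain ⟨k, hk⟩ : ∃ k, orderOf g = p ^ k := by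
          refine ⟨_, Nat.eq_prime_pow_of_unique_prime_dvd (orderOf_pos g).ne' fun {d} hd hdd => ?_⟩
          by_contra hdp
          have hdq : d ≠ q := fun e => by
            subst e
            exact hd.not_dvd_one (hgo ▸ Nat.dvd_gcd hdd dvd_rfl)
          refine hnorm U hU hne _ (pow_mem hg (orderOf g / d)) d hd hdp hdq ?_
          rw [orderOf_pow_of_dvd (Nat.div_ne_zero_iff_of_dvd hdd |>.mpr ⟨(orderOf_pos g).ne', hd.ne_zero⟩) (Nat.div_dvd_of_dvd hdd),
            Nat.div_div_self hdd (orderOf_pos g).ne']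
        exact ⟨k, hk ▸ pow_orderOf_eq_one g⟩
      obtain ⟨k, hk⟩ := hpp
      refine Subgroup.mem_centralizer_iff.mpr fun w hw => ?_
      exact (mul_inv_eq_iff_eq_mul.mp (hall U hU g k hk hg w hw)).symm
    obtain ⟨P, K, hKn, hK⟩ := hfrob
    haveI := hKn
    obtain ⟨R⟩ := (inferInstance : Nonempty (Sylow r K))
    set R' := (R : Subgroup K).map K.subtype
    have hfr := Sylow.normalizer_sup_eq_top R
    have hKc : Nat.card K = (P : Subgroup G).index :=
      Nat.eq_of_mul_eq_mul_right (Nat.card_pos (α := (P : Subgroup G)))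
        (hK.card_mul_card.trans (by rw [mul_comm, Subgroup.card_mul_index]))
    have hqK : ¬ q ∣ Nat.card K := hKc ▸ P.not_dvd_index
    have hqN : q ∣ Nat.card (Subgroup.normalizer (R' : Set G)) := by
      have h1 : Nat.card G ∣ Nat.card (Subgroup.normalizer (R' : Set G)) * Nat.card K := by
        have := Cores.card_sup_dvd_mul (Subgroup.normalizer (R' : Set G)) K
        rwa [hfr, Subgroup.card_top] at this
      exact (hq.dvd_mul.mp (hqG.trans h1)).resolve_right hqK
    obtain ⟨⟨y, hy⟩, hyo⟩ := exists_prime_orderOf_dvd_card' q hqN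
    rw [Subgroup.orderOf_mk] at hyo
    have hrK : r ∣ Nat.card K := by
      refine (hr.dvd_mul.mp (hrG.trans (dvd_of_eq hK.card_mul_card.symm))).resolve_right fun hd => ?_
      obtain ⟨j, hj⟩ := P.isPGroup'.exists_card_eq
      rw [hj] at hd
      exact hrq ((Nat.prime_dvd_prime_iff_eq hr hq).mp (hr.dvd_of_dvd_pow hd))
    have hR' : r ∣ Nat.card R' := by
      rw [Subgroup.card_map_of_injective K.subtype_injective]; exact R.dvd_card_of_dvd_card hrK
    refine no_pair hp hpG hmix hq hy (fun hd => ?_) (fun hd => ?_) (Or.inr hyo.symm.dvd)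
      ⟨r, hr, hrq, Or.inl hR'⟩
    · rw [Subgroup.card_map_of_injective K.subtype_injective] at hd
      obtain ⟨j, hj⟩ := R.isPGroup'.exists_card_eq
      rw [hj] at hd
      exact hrp ((Nat.prime_dvd_prime_iff_eq hp hr).mp (hp.dvd_of_dvd_pow hd)).symm
    · rw [hyo] at hd
      exact hpq ((Nat.prime_dvd_prime_iff_eq hp hq).mp hd)
  obtain ⟨h1, h2⟩ := moved_card hgk hgU hwU hmove
  have hUle : Nat.card U ≤ q ^ (Nat.card G).factorization q := by
    obtain ⟨j, hj⟩ := hU.exists_card_eq
    rw [hj]
    exact Nat.pow_le_pow_right hq.pos ((hq.pow_dvd_iff_le_factorization Nat.card_pos.ne').mp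
      (hj ▸ Subgroup.card_subgroup_dvd_card U))
  rcases hlarge with hlt | ⟨hpe, hab⟩
  · omega
  have hqa : q ^ (Nat.card G).factorization q = p + 1 := by omega
  obtain rfl : q = 2 := by
    have he : 2 ∣ p + 1 := by
      obtain ⟨l, hl⟩ := hp.odd_of_ne_two hp2
      exact ⟨l + 1, by omega⟩
    rw [← hqa] at he
    exact ((Nat.prime_dvd_prime_iff_eq Nat.prime_two hq).mp (Nat.prime_two.dvd_of_dvd_pow he)).symm
  have hUc : Nat.card U = p + 1 := by omega
  have horb := h2 hUc.le
  have hw1 : w ≠ 1 := fun e => hmove (by rw [e]; group)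
  have hexp : ∀ u ∈ U, u * u = 1 := by
    obtain ⟨⟨t, htU⟩, ht⟩ := exists_prime_orderOf_dvd_card' (G := U) 2 (hqU hU fun e => hw1 (by
      rwa [e, Subgroup.mem_bot] at hwU)).1
    rw [Subgroup.orderOf_mk] at ht
    have hw2 : w * w = 1 := by
      obtain ⟨i, hi⟩ := horb t htU (fun e => by rw [e, orderOf_one] at ht; omega)
      rw [← hi, ← MulAut.conj_apply, MulEquiv.orderOf_eq] at ht
      rw [← pow_two, ← ht, pow_orderOf_eq_one]
    intro u hu
    by_cases hu1 : u = 1
    · rw [hu1, one_mul]
    obtain ⟨i, hi⟩ := horb u hu hu1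
    rw [← hi, ← MulAut.conj_apply, ← map_mul, hw2, map_one]
  have hcard : ∀ Q : Sylow 2 G, Nat.card Q = p + 1 := fun Q => by rw [← hqa]; exact Q.card_eq_multiplicity
  obtain ⟨Q₀, hQ₀⟩ : ∃ Q₀ : Sylow 2 G, (Q₀ : Subgroup G) = U :=
    ⟨Sylow.ofCard U (hUc.trans hqa.symm), Sylow.coe_ofCard U _⟩
  have htrans : ∀ Q : Sylow 2 G, ∀ u ∈ (Q : Subgroup G), ∀ v ∈ (Q : Subgroup G), u ≠ 1 → v ≠ 1 →
      ∃ (g : G) (k : ℕ), g ^ p ^ k = 1 ∧ g ∈ Subgroup.normalizer ((Q : Subgroup G) : Set G) ∧ g * u * g⁻¹ = v := by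
    intro Q u hu v hv hu1 hv1
    obtain ⟨c, rfl⟩ := MulAction.exists_smul_eq G Q₀ Q
    rw [Sylow.coe_subgroup_smul, Subgroup.mem_pointwise_smul_iff_inv_smul_mem, ← map_inv,
      MulAut.smul_def, MulAut.conj_apply, inv_inv, hQ₀] at hu hv
    obtain ⟨i, hi⟩ := horb _ hu (fun e => hu1 (by
      calc u = c * (c⁻¹ * u * c) * c⁻¹ := by group
        _ = 1 := by rw [e]; group))
    obtain ⟨j, hj⟩ := horb _ hv (fun e => hv1 (by
      calc v = c * (c⁻¹ * v * c) * c⁻¹ := by group
        _ = 1 := by rw [e]; group))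
    set h := g ^ j * (g ^ i)⁻¹ with hh
    refine ⟨c * h * c⁻¹, k, ?_, ?_, ?_⟩
    · rw [conj_pow, hh, ((Commute.refl g).pow_pow j i).inv_right.mul_pow, inv_pow, ← pow_mul, ← pow_mul,
        mul_comm j, mul_comm i, pow_mul, pow_mul, hgk, one_pow, one_pow]
      group
    · have hhN : h ∈ Subgroup.normalizer ((Q₀ : Subgroup G) : Set G) := by
        rw [hQ₀]; exact mul_mem (pow_mem hgU j) (inv_mem (pow_mem hgU i))
      rw [← Cex.smul_iff, smul_smul, show c * h * c⁻¹ * c = c * h by group, mul_smul, Cex.smul_iff.mpr hhN]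
    · calc c * h * c⁻¹ * u * (c * h * c⁻¹)⁻¹ = c * (g ^ j * ((g ^ i)⁻¹ * (c⁻¹ * u * c) * g ^ i) * (g ^ j)⁻¹) * c⁻¹ := by
            rw [hh]; group
        _ = c * (g ^ j * w * (g ^ j)⁻¹) * c⁻¹ := by rw [← hi]; group
        _ = v := by rw [hj]; group
  have hproper : ∀ H : Subgroup G, H ≠ ⊤ → 2 ∣ Nat.card H → ∀ s : ℕ, s.Prime → s ∣ Nat.card H → s = p ∨ s = 2 := by
    intro H hH h2H s hs hsH
    by_cases hH2 : IsPGroup 2 H
    · obtain ⟨j, hj⟩ := hH2.exists_card_eq
      rw [hj] at hsH
      exact Or.inr ((Nat.prime_dvd_prime_iff_eq hs Nat.prime_two).mp (hs.dvd_of_dvd_pow hsH))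
    have hlt : Nat.card H < Nat.card G := by
      refine lt_of_le_of_ne (Nat.le_of_dvd Nat.card_pos (Subgroup.card_subgroup_dvd_card H)) fun e => hH ?_
      exact Subgroup.eq_top_of_card_eq H e
    refine ih H (by omega) p 2 hp Nat.prime_two hpq hp2 (hmix H hH hH2 h2H) h2H ?_ ?_ s hs hsH
    · intro K hK hK2 h2K
      have hc := Subgroup.card_map_of_injective (K := K) H.subtype_injective
      have := hmix (K.map H.subtype) (fun e => hH (top_le_iff.mp (e ▸ Subgroup.map_subtype_le K)))
        (fun h => hK2 (h.of_equiv (K.equivMapOfInjective _ H.subtype_injective).symm)) (hc.symm ▸ h2K)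
      rwa [hc] at this
    · have hle : (Nat.card H).factorization 2 ≤ (Nat.card G).factorization 2 :=
        (Nat.factorization_le_iff_dvd Nat.card_pos.ne' Nat.card_pos.ne').mpr (Subgroup.card_subgroup_dvd_card H) 2
      rcases hle.eq_or_lt with e | e
      · right
        refine ⟨by rw [e]; exact hpe, fun P => ?_⟩
        obtain ⟨S, hS⟩ := (P.isPGroup'.map H.subtype).exists_le_sylow
        exact isMulCommutative_iff.mpr fun a b => Subtype.ext (Subtype.ext
          (congrArg Subtype.val (isMulCommutative_iff.mp (hab S) ⟨_, hS ⟨_, a.2, rfl⟩⟩ ⟨_, hS ⟨_, b.2, rfl⟩⟩) :))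
      · left
        have := Nat.pow_lt_pow_right (by norm_num : 1 < 2) e
        have := Nat.one_le_pow ((Nat.card H).factorization 2) 2 two_pos
        have h0 := Nat.one_le_pow ((Nat.card G).factorization 2) 2 two_pos
        omega
  have hcex : Cex G p :=
    { prime := hp
      ne_two := hp2
      dvd := hpG
      two_dvd := hqG
      third := ⟨r, hr, hrp, hrq, hrG⟩
      proper := hproper
      abelian := hab
      card_two := hcard
      exp_two := fun Q u hu => by
        obtain ⟨c, rfl⟩ := MulAction.exists_smul_eq G Q₀ Q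
        rw [Sylow.coe_subgroup_smul, Subgroup.mem_pointwise_smul_iff_inv_smul_mem, ← map_inv,
          MulAut.smul_def, MulAut.conj_apply, inv_inv, hQ₀] at hu
        calc u * u = c * ((c⁻¹ * u * c) * (c⁻¹ * u * c)) * c⁻¹ := by group
          _ = 1 := by rw [hexp _ hu]; group
      trans := htrans
      simple := fun N hN => by
        by_contra hcon
        push Not at hcon
        obtain ⟨hNb, hNt⟩ := hcon
        haveI := hN
        by_cases h2N : 2 ∣ Nat.card N
        · obtain ⟨S⟩ := (inferInstance : Nonempty (Sylow 2 N))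
          have hfr := Sylow.normalizer_sup_eq_top S
          set S' := (S : Subgroup N).map N.subtype with hS'
          have h1 : Nat.card G ∣ Nat.card (Subgroup.normalizer (S' : Set G)) * Nat.card N := by
            have := Cores.card_sup_dvd_mul (Subgroup.normalizer (S' : Set G)) N
            rwa [hfr, Subgroup.card_top] at this
          have hrN : r ∣ Nat.card (Subgroup.normalizer (S' : Set G)) :=
            (hr.dvd_mul.mp (hrG.trans h1)).resolve_right fun hd =>
              (hproper N hNt h2N r hr hd).elim hrp hrq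
          obtain ⟨⟨y, hy⟩, hyo⟩ := exists_prime_orderOf_dvd_card' r hrN
          rw [Subgroup.orderOf_mk] at hyo
          refine hnorm S' (S.isPGroup'.map _) (fun e => ?_) y hy r hr hrp hrq hyo
          have := S.dvd_card_of_dvd_card h2N
          rw [← Subgroup.card_map_of_injective N.subtype_injective, ← hS', e, Subgroup.card_bot] at this
          omega
        · have hNp : ∀ s : ℕ, s.Prime → s ∣ Nat.card N → s = p := by
            intro s hs hsN
            by_contra hsp
            haveI := Fact.mk hs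
            have hs2 : s ≠ 2 := fun e => h2N (e ▸ hsN)
            obtain ⟨S⟩ := (inferInstance : Nonempty (Sylow s N))
            have hfr := Sylow.normalizer_sup_eq_top S
            set S' := (S : Subgroup N).map N.subtype with hS'
            have h1 : Nat.card G ∣ Nat.card (Subgroup.normalizer (S' : Set G)) * Nat.card N := by
              have := Cores.card_sup_dvd_mul (Subgroup.normalizer (S' : Set G)) N
              rwa [hfr, Subgroup.card_top] at this
            have h2S : 2 ∣ Nat.card (Subgroup.normalizer (S' : Set G)) :=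
              (Nat.prime_two.dvd_mul.mp (hqG.trans h1)).resolve_right h2N
            obtain ⟨⟨y, hy⟩, hyo⟩ := exists_prime_orderOf_dvd_card' 2 h2S
            rw [Subgroup.orderOf_mk] at hyo
            have hS : s ∣ Nat.card S' := by
              rw [hS', Subgroup.card_map_of_injective N.subtype_injective]; exact S.dvd_card_of_dvd_card hsN
            refine no_pair hp hpG hmix Nat.prime_two hy (fun hd => ?_) (fun hd => ?_) (Or.inr hyo.symm.dvd)
              ⟨s, hs, hs2, Or.inl hS⟩
            · obtain ⟨j, hj⟩ := (S.isPGroup'.map N.subtype).exists_card_eq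
              rw [hS', hj] at hd
              exact hsp ((Nat.prime_dvd_prime_iff_eq hp hs).mp (hp.dvd_of_dvd_pow hd)).symm
            · rw [hyo] at hd
              exact hp2 ((Nat.prime_dvd_prime_iff_eq hp Nat.prime_two).mp hd)
          have hcard := Subgroup.card_eq_card_quotient_mul_card_subgroup N
          have hlt : Nat.card (G ⧸ N) < Nat.card G := by
            have h1 : 1 < Nat.card N := (Subgroup.one_lt_card_iff_ne_bot N).mpr hNb
            rw [hcard]
            exact lt_mul_of_one_lt_right Nat.card_pos h1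
          have hpQ : p ∣ Nat.card (G ⧸ N) := by
            by_contra hd
            have hgN : g ∈ N := by
              rw [← QuotientGroup.eq_one_iff, ← orderOf_eq_one_iff]
              refine Nat.eq_one_of_dvd_coprimes (((Nat.Prime.coprime_iff_not_dvd hp).mpr hd).pow_left k) ?_ (orderOf_dvd_natCard _)
              exact orderOf_dvd_of_pow_eq_one (by rw [← QuotientGroup.mk_pow, hgk, QuotientGroup.mk_one])
            have h1 : g * w * g⁻¹ * w⁻¹ ∈ U :=
              mul_mem ((Subgroup.mem_normalizer_iff.mp hgU w).mp hwU) (inv_mem hwU)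
            have h2 : g * w * g⁻¹ * w⁻¹ ∈ N := by
              have := mul_mem hgN (hN.conj_mem _ (inv_mem hgN) w)
              simpa [mul_assoc] using this
            refine hmove (mul_inv_eq_one.mp ?_)
            rw [← orderOf_eq_one_iff]
            refine Nat.eq_one_of_dvd_coprimes ?_ (U.orderOf_dvd_natCard h1) (N.orderOf_dvd_natCard h2)
            rw [hUc, ← hqa]
            exact ((Nat.Prime.coprime_iff_not_dvd Nat.prime_two).mpr h2N).pow_left _
          have h2Q : 2 ∣ Nat.card (G ⧸ N) :=
            (Nat.prime_two.dvd_mul.mp (hcard ▸ hqG)).resolve_right h2N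
          have hrQ : r ∣ Nat.card (G ⧸ N) :=
            (hr.dvd_mul.mp (hcard ▸ hrG)).resolve_right fun hd => hrp (hNp r hr hd)
          refine (ih (G ⧸ N) (by omega) p 2 hp Nat.prime_two hpq hp2 hpQ h2Q ?_ ?_ r hr hrQ).elim hrp hrq
          · intro H hH hH2 h2H
            set K := H.comap (QuotientGroup.mk' N) with hK
            have hKc : Nat.card K = Nat.card N * Nat.card H := Cores.card_comap_mk_eq N H
            have hKt : K ≠ ⊤ := fun e => hH (by
              rw [← Subgroup.map_comap_eq_self_of_surjective (QuotientGroup.mk'_surjective N) H, ← hK, e,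
                Subgroup.map_top_of_surjective _ (QuotientGroup.mk'_surjective N)])
            by_contra hpH
            refine hH2 (IsPGroup.of_card (Nat.eq_prime_pow_of_unique_prime_dvd Nat.card_pos.ne' fun {d} hd hdd => ?_))
            exact (hproper K hKt (hKc ▸ h2H.trans (dvd_mul_left _ _)) d hd
              (hKc ▸ hdd.trans (dvd_mul_left _ _))).resolve_left fun e => hpH (e ▸ hdd)
          · right
            have he : (Nat.card (G ⧸ N)).factorization 2 = (Nat.card G).factorization 2 := by
              rw [hcard, Nat.factorization_mul Nat.card_pos.ne' Nat.card_pos.ne', Finsupp.add_apply,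
                Nat.factorization_eq_zero_of_not_dvd h2N, add_zero]
            refine ⟨by rw [he]; exact hpe, fun P => ?_⟩
            obtain ⟨S, rfl⟩ := Sylow.mapSurjective_surjective (QuotientGroup.mk'_surjective N) p P
            refine isMulCommutative_iff.mpr fun a b => Subtype.ext ?_
            have ha := a.2
            have hb := b.2
            simp only [Sylow.coe_mapSurjective, Subgroup.mem_map] at ha hb
            obtain ⟨x, hx, hxa⟩ := ha
            obtain ⟨y, hy, hyb⟩ := hb
            show (a : G ⧸ N) * b = b * a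
            rw [← hxa, ← hyb, ← map_mul, ← map_mul]
            exact congrArg _ (congrArg Subtype.val (isMulCommutative_iff.mp (hab S) ⟨x, hx⟩ ⟨y, hy⟩) :) }
  by_cases hex : ∃ (Q : Sylow 2 G) (P : Sylow p G), (Q : Subgroup G) ≤ Subgroup.normalizer ((P : Subgroup G) : Set G)
  · obtain ⟨Q, P, hQP⟩ := hex
    exact hcex.alpha Q P hQP
  · push Not at hex
    exact hcex.beta hex

/-- Let G be a finite group and let p and q be distinct primes dividing the order of G, with p odd. Suppose that p divides the order of every proper subgroup of G that is neither a q-group nor of order prime to q. Let q^a be the q-part of the order of G. If p > q^a − 1, or if p = q^a − 1 and the Sylow p-subgroups of G are abelian, then p and q are the only primes dividing the order of G. -/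
theorem result {G : Type*} [Group G] [Finite G]
    {p q : ℕ} (hp : p.Prime) (hq : q.Prime) (hpq : p ≠ q) (hp2 : p ≠ 2)
    (hpG : p ∣ Nat.card G) (hqG : q ∣ Nat.card G)
    (hmix : ∀ H : Subgroup G, H ≠ ⊤ → ¬ IsPGroup q H → q ∣ Nat.card H → p ∣ Nat.card H)
    (hlarge : q ^ (Nat.card G).factorization q - 1 < p ∨
      (p = q ^ (Nat.card G).factorization q - 1 ∧ ∀ P : Sylow p G, IsMulCommutative P)) :
    ∀ r : ℕ, r.Prime → r ∣ Nat.card G → r = p ∨ r = q := by
  exact main (Nat.card G) G le_rfl p q hp hq hpq hp2 hpG hqG hmix hlarge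

end Cfsg.Agent.S4017
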