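import Cfsg.Statements.S4018
import Mathlib
import Cfsg.Agent.S3282
import Cfsg.Agent.TwoFusion.DihedralFusion
import Cfsg.Agent.Cores.Basic

set_option autoImplicit false
open Cfsg

namespace Cfsg.Agent.S4018

theorem aux {n : ℕ} (i : ℕ) (h : 3 ^ n = 4 * 3 ^ i + 1) : False := by
  rcases Nat.eq_zero_or_pos i with rfl | hi
  · rcases n with _ | _ | n
    · norm_num at h
    · norm_num at h
    · rw [pow_succ, pow_succ] at h; have := Nat.one_le_pow n 3 (by norm_num); omega
  · obtain ⟨i, rfl⟩ : ∃ k, i = k + 1 := ⟨i - 1, by omega⟩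
    rcases n with _ | n
    · rw [pow_zero, pow_succ] at h; have := Nat.one_le_pow i 3 (by norm_num); omega
    · rw [pow_succ, pow_succ] at h; omega


/-- Let G be a finite group with an abelian Sylow 3-subgroup P such that the normalizer of P has order 4·#P, the centralizer C of P has order 2·#P, C meets each of its conjugates by elements outside its normalizer trivially, and every proper subgroup of G of even order has order dividing 4·#P. Then G is not simple. -/
theorem result {G : Type*} [Group G] [Finite G]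
    (P : Sylow 3 G) (hab : IsMulCommutative P)
    (hN : Nat.card (Subgroup.normalizer ((P : Subgroup G) : Set G)) = 4 * Nat.card P)
    (hC : Nat.card (Subgroup.centralizer (P : Set G)) = 2 * Nat.card P)
    (hTI : Cfsg.IsTISubset (Subgroup.centralizer (P : Set G) : Set G))
    (heven : ∀ H : Subgroup G, H ≠ ⊤ → 2 ∣ Nat.card H → Nat.card H ∣ 4 * Nat.card P) :
    ¬ IsSimpleGroup G := by
  intro hsimple
  classical
  haveI := Fintype.ofFinite G
  haveI : Fact (Nat.Prime 3) := ⟨Nat.prime_three⟩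
  haveI : Fact (Nat.Prime 2) := ⟨Nat.prime_two⟩
  obtain ⟨a, ha⟩ := P.isPGroup'.exists_card_eq
  have hpos : 0 < Nat.card P := Nat.card_pos
  set NP := Subgroup.normalizer ((P : Subgroup G) : Set G) with hNPdef
  set C := Subgroup.centralizer (P : Set G) with hCdef
  have hNG : 4 * Nat.card P ∣ Nat.card G := hN ▸ Subgroup.card_subgroup_dvd_card _
  have ha0 : a ≠ 0 := by
    intro h0
    rw [h0, pow_zero] at ha
    have hbot : (P : Subgroup G) = ⊥ := Subgroup.card_eq_one.mp ha
    have hNtop : NP = ⊤ := by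
      rw [hNPdef, hbot]; exact Subgroup.normalizer_eq_top_iff.mpr inferInstance
    have hG4 : Nat.card G = 4 := by
      rw [← Subgroup.card_top, ← hNtop, hN, show Nat.card P = 1 from ha]
    have hp2 : IsPGroup 2 G := IsPGroup.of_card (n := 2) (by rw [hG4]; norm_num)
    haveI : Nontrivial G := hsimple.toNontrivial
    have hz := hp2.center_nontrivial
    have hc := (hsimple.eq_bot_or_eq_top_of_normal (Subgroup.center G) inferInstance).resolve_left
      ((Subgroup.nontrivial_iff_ne_bot _).mp hz)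
    obtain ⟨z, hz2⟩ := exists_prime_orderOf_dvd_card' (G := G) 2 (by rw [hG4]; norm_num)
    haveI : (Subgroup.zpowers z).Normal := ⟨fun u hu g => by
      rw [Subgroup.mem_center_iff.mp (hc ▸ Subgroup.mem_top u) g, mul_inv_cancel_right]; exact hu⟩
    rcases hsimple.eq_bot_or_eq_top_of_normal (Subgroup.zpowers z) inferInstance with h | h
    · have := congrArg (fun H : Subgroup G => Nat.card H) h
      simp only [Nat.card_zpowers, hz2, Subgroup.card_bot] at this; omega
    · have := congrArg (fun H : Subgroup G => Nat.card H) h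
      simp only [Nat.card_zpowers, hz2, Subgroup.card_top, hG4] at this; omega
  have hp3 : 3 ∣ Nat.card P := ha ▸ dvd_pow_self 3 ha0
  have hpodd : ¬ 2 ∣ Nat.card P := by
    rw [ha]; intro h; have := Nat.prime_two.dvd_of_dvd_pow h; omega
  have hPC : (P : Subgroup G) ≤ C := fun x hx => Subgroup.mem_centralizer_iff.mpr fun y hy =>
    congrArg Subtype.val (isMulCommutative_iff.mp hab ⟨y, hy⟩ ⟨x, hx⟩)
  obtain ⟨⟨t, htC⟩, ht⟩ := exists_prime_orderOf_dvd_card' (G := C) 2 (by rw [hC]; exact dvd_mul_right 2 _)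
  rw [Subgroup.orderOf_mk] at ht
  have ht1 : t ≠ 1 := fun e => by rw [e, orderOf_one] at ht; omega
  have hgenC : (P : Subgroup G) ⊔ Subgroup.zpowers t = C := by
    refine Subgroup.eq_of_le_of_card_ge (sup_le hPC (Subgroup.zpowers_le.mpr htC)) ?_
    rw [hC]
    refine Nat.le_of_dvd Nat.card_pos (Nat.Coprime.mul_dvd_of_dvd_of_dvd
      (Nat.prime_two.coprime_iff_not_dvd.mpr hpodd) ?_ (Subgroup.card_dvd_of_le le_sup_left))
    rw [← ht, ← Nat.card_zpowers]; exact Subgroup.card_dvd_of_le le_sup_right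
  have hcl : C = Subgroup.closure (((P : Subgroup G) : Set G) ∪ {t}) := by
    rw [Subgroup.closure_union, Subgroup.closure_eq, ← Subgroup.zpowers_eq_closure, hgenC]
  have hCc : ∀ x ∈ C, ∀ y ∈ C, x * y = y * x := by
    intro x hx y hy
    haveI := Subgroup.isMulCommutative_closure (k := ((P : Subgroup G) : Set G) ∪ {t}) (by
      rintro u (hu | hu) v (hv | hv)
      · exact congrArg Subtype.val (isMulCommutative_iff.mp hab ⟨u, hu⟩ ⟨v, hv⟩)
      · rw [Set.mem_singleton_iff.mp hv]; exact Subgroup.mem_centralizer_iff.mp htC u hu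
      · rw [Set.mem_singleton_iff.mp hu]; exact (Subgroup.mem_centralizer_iff.mp htC v hv).symm
      · rw [Set.mem_singleton_iff.mp hu, Set.mem_singleton_iff.mp hv])
    rw [hcl] at hx hy
    exact congrArg Subtype.val (isMulCommutative_iff.mp this ⟨x, hx⟩ ⟨y, hy⟩)
  have htop3 : ∀ {H : Subgroup G}, Nat.card H ∣ 4 * Nat.card P → H = ⊤ → False := by
    intro H hd hH
    rw [hH, Subgroup.card_top] at hd
    have hG : Nat.card G = 4 * Nat.card P := Nat.dvd_antisymm hd hNG
    have hNtop : NP = ⊤ := Subgroup.card_eq_iff_eq_top _ |>.mp (by rw [hN, hG])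
    rcases hsimple.eq_bot_or_eq_top_of_normal (P : Subgroup G) (Subgroup.normalizer_eq_top_iff.mp hNtop) with h | h
    · rw [h, Subgroup.card_bot] at hp3; omega
    · have : Nat.card P = Nat.card G := by rw [show Nat.card P = Nat.card (P : Subgroup G) from rfl, h, Subgroup.card_top]
      omega
  -- a Sylow 2-subgroup is a four-group
  have htp : IsPGroup 2 (Subgroup.zpowers t) := IsPGroup.of_card (n := 1) (by rw [Nat.card_zpowers, ht, pow_one])
  obtain ⟨T, hT⟩ := htp.exists_le_sylow
  have h4G : 4 ∣ Nat.card G := (dvd_mul_right 4 _).trans hNG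
  obtain ⟨m, hm⟩ := T.isPGroup'.exists_card_eq
  have hTne : (T : Subgroup G) ≠ ⊤ := by
    intro h
    have h3 : 3 ∣ Nat.card G := hp3.trans (Subgroup.card_subgroup_dvd_card _)
    rw [← Subgroup.card_top, ← h, hm] at h3
    have := Nat.prime_three.dvd_of_dvd_pow h3
    omega
  have hT4 : Nat.card (T : Subgroup G) = 4 := by
    have hd := heven _ hTne (dvd_trans (dvd_of_eq ht.symm) (Subgroup.orderOf_dvd_natCard _ (hT (Subgroup.mem_zpowers t))))
    have hcop : (Nat.card (T : Subgroup G)).Coprime (Nat.card P) := by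
      rw [hm]; exact Nat.Coprime.pow_left m (Nat.prime_two.coprime_iff_not_dvd.mpr hpodd)
    have h1 := hcop.dvd_of_dvd_mul_right hd
    have h2 : 4 ∣ Nat.card (T : Subgroup G) := by
      rw [show (4 : ℕ) = 2 ^ 2 from rfl]
      exact T.pow_dvd_card_of_pow_dvd_card h4G
    exact Nat.dvd_antisymm h1 h2
  have hTncyc : ¬ IsCyclic (T : Subgroup G) := by
    intro hcy
    have h2min : (Nat.card G).minFac = 2 :=
      (Nat.minFac_eq_two_iff _).mpr ((dvd_mul_right 2 2).trans h4G)
    have hNC := IsCyclic.normalizer_le_centralizer (P := T) h2min hcy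
    have hcompl := MonoidHom.ker_transferSylow_isComplement' T hNC
    have hi : (MonoidHom.transferSylow T hNC).ker.index = 4 := by
      rw [hcompl.symm.index_eq_card]; exact hT4
    rcases hsimple.eq_bot_or_eq_top_of_normal (MonoidHom.transferSylow T hNC).ker inferInstance with h | h
    · rw [h, Subgroup.index_bot] at hi
      have : 3 ∣ Nat.card G := hp3.trans (Subgroup.card_subgroup_dvd_card _)
      omega
    · rw [h, Subgroup.index_top] at hi; omega
  have hTsq : ∀ x ∈ (T : Subgroup G), x * x = 1 := by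
    intro x hx
    have hd := Subgroup.orderOf_dvd_natCard _ hx
    rw [hT4] at hd
    have hne4 : orderOf x ≠ 4 := fun e => hTncyc (isCyclic_of_orderOf_eq_card (⟨x, hx⟩ : (T : Subgroup G))
      (by rw [Subgroup.orderOf_mk, e, hT4]))
    have h2 : orderOf x ∣ 2 := by
      rcases (Nat.dvd_prime_pow Nat.prime_two).mp (show orderOf x ∣ 2 ^ 2 from hd) with ⟨i, hi, he⟩
      interval_cases i <;> simp_all
    rw [← pow_two]; exact orderOf_dvd_iff_pow_eq_one.mp h2
  have hconj := TwoFusion.all_conj_of_no_index_two_four (S := T) ⟨hT4, hTsq⟩ fun H hH => by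
    haveI := Subgroup.normal_of_index_eq_two hH
    rcases hsimple.eq_bot_or_eq_top_of_normal H inferInstance with h | h
    · rw [h, Subgroup.index_bot] at hH; omega
    · rw [h, Subgroup.index_top] at hH; omega
  -- the centraliser of `t`
  set H := Subgroup.centralizer ({t} : Set G) with hHdef
  have hCH : C ≤ H := fun x hx => Subgroup.mem_centralizer_singleton_iff.mpr (hCc x hx t htC)
  have hTH : (T : Subgroup G) ≤ H := fun x hx => by
    have hi : ∀ u ∈ (T : Subgroup G), u⁻¹ = u := fun u hu => inv_eq_of_mul_eq_one_right (hTsq u hu)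
    have htT := hT (Subgroup.mem_zpowers t)
    refine Subgroup.mem_centralizer_singleton_iff.mpr ?_
    calc x * t = (x * t)⁻¹ := (hi _ (mul_mem hx htT)).symm
      _ = t * x := by rw [mul_inv_rev, hi x hx, hi t htT]
  have hHne : H ≠ ⊤ := by
    intro h
    haveI : (Subgroup.zpowers t).Normal := ⟨fun u hu g => by
      obtain ⟨k, rfl⟩ := hu
      have hc : Commute g t := Subgroup.mem_centralizer_singleton_iff.mp (h ▸ Subgroup.mem_top g : g ∈ H)
      show g * t ^ k * g⁻¹ ∈ _
      rw [(hc.zpow_right k).eq, mul_inv_cancel_right]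
      exact Subgroup.zpow_mem _ (Subgroup.mem_zpowers t) k⟩
    rcases hsimple.eq_bot_or_eq_top_of_normal (Subgroup.zpowers t) inferInstance with e | e
    · exact ht1 (by have := Subgroup.mem_zpowers t; rwa [e, Subgroup.mem_bot] at this)
    · have := congrArg (fun K : Subgroup G => Nat.card K) e
      simp only [Nat.card_zpowers, ht, Subgroup.card_top] at this
      omega
  have hHcard : Nat.card H = 4 * Nat.card P := by
    refine Nat.dvd_antisymm (heven H hHne (ht ▸ Subgroup.orderOf_dvd_natCard _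
      (Subgroup.mem_centralizer_singleton_iff.mpr rfl))) ?_
    exact Nat.Coprime.mul_dvd_of_dvd_of_dvd
      (Nat.Coprime.pow_left 2 (Nat.prime_two.coprime_iff_not_dvd.mpr hpodd) : (2 ^ 2).Coprime _)
      (hT4 ▸ Subgroup.card_dvd_of_le hTH) (Subgroup.card_dvd_of_le (hPC.trans hCH))
  -- elements of `3`-power order in `NP` lie in `P`
  have h3mem : ∀ {x : G}, x ∈ NP → (∃ k, x ^ 3 ^ k = 1) → x ∈ (P : Subgroup G) := by
    intro x hxN ⟨k, hk⟩
    have hx : IsPGroup 3 (Subgroup.zpowers x) := by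
      rintro ⟨y, hy⟩
      obtain ⟨i, rfl⟩ := hy
      refine ⟨k, Subtype.ext ?_⟩
      show (x ^ i) ^ 3 ^ k = 1
      rw [← zpow_natCast (x ^ i), ← zpow_mul, mul_comm, zpow_mul, zpow_natCast, hk, one_zpow]
    have hsup := IsPGroup.to_sup_of_normal_right' hx P.isPGroup' (Subgroup.zpowers_le.mpr hxN)
    rw [← P.is_maximal' hsup le_sup_right]
    exact Subgroup.mem_sup_left (Subgroup.mem_zpowers x)
  have h3mem' : ∀ {x : G}, x ∈ C → (∃ k, x ^ 3 ^ k = 1) → x ∈ (P : Subgroup G) := fun {x} hx hk =>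
    h3mem (Subgroup.mem_normalizer_iff.mpr fun y => ⟨fun hy => by
      rw [← Subgroup.mem_centralizer_iff.mp hx y hy, mul_inv_cancel_right]; exact hy, fun hy => by
      have := Subgroup.mem_centralizer_iff.mp hx _ hy
      have e : y = x * y * x⁻¹ := by
        calc y = x⁻¹ * (x * y * x⁻¹ * x) := by group
          _ = x * y * x⁻¹ := by rw [this]; group
      rw [e]; exact hy⟩) hk
  have h3pow : ∀ y ∈ (P : Subgroup G), ∃ k, y ^ 3 ^ k = 1 := fun y hy => by
    obtain ⟨k, hk⟩ := P.isPGroup' ⟨y, hy⟩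
    exact ⟨k, congrArg Subtype.val hk⟩
  have hNC : ∀ g : G, g ∈ Subgroup.normalizer (C : Set G) → g ∈ NP := by
    intro g hg
    have h1 : ∀ g : G, g ∈ Subgroup.normalizer (C : Set G) → ∀ y ∈ (P : Subgroup G), g * y * g⁻¹ ∈ (P : Subgroup G) := by
      intro g hg y hy
      obtain ⟨k, hk⟩ := h3pow y hy
      exact h3mem' ((Subgroup.mem_normalizer_iff.mp hg y).mp (hPC hy))
        ⟨k, by rw [conj_pow, hk, mul_one, mul_inv_cancel]⟩
    refine Subgroup.mem_normalizer_iff.mpr fun y => ⟨h1 g hg y, fun hy => ?_⟩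
    have := h1 g⁻¹ (inv_mem hg) _ hy
    simpa [mul_assoc] using this
  have hHN : H = NP := by
    refine Subgroup.eq_of_le_of_card_ge (fun g hg => hNC g ?_) (by rw [hN, hHcard])
    by_contra hgn
    refine ht1 (hTI g hgn t htC ?_)
    rw [Subgroup.mem_centralizer_singleton_iff.mp hg, mul_inv_cancel_right]
    exact htC
  -- an involution of `T` outside `C`
  obtain ⟨u, huT, huC⟩ : ∃ u ∈ (T : Subgroup G), u ∉ C := by
    by_contra h
    push Not at h
    have := Subgroup.card_dvd_of_le (show (T : Subgroup G) ≤ C from h)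
    rw [hT4, hC] at this
    omega
  have hu1 : u ≠ 1 := fun e => huC (e ▸ one_mem _)
  have hu : orderOf u = 2 := orderOf_eq_prime ((pow_two u).trans (hTsq u huT)) hu1
  have huH : u ∈ H := hTH huT
  have huN : u ∈ NP := hHN ▸ huH
  have hfpf : ∀ c ∈ (P : Subgroup G), u * c * u⁻¹ = c → c = 1 := by
    intro c hc hfix
    obtain ⟨g, hg⟩ := isConj_iff.mp (hconj t u ht hu)
    have hcu : c * u = u * c := (mul_inv_eq_iff_eq_mul.mp hfix).symm
    have hmem : g⁻¹ * c * g ∈ H := Subgroup.mem_centralizer_singleton_iff.mpr (by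
      calc g⁻¹ * c * g * t = g⁻¹ * (c * (g * t * g⁻¹)) * g := by group
        _ = g⁻¹ * ((g * t * g⁻¹) * c) * g := by rw [hg, hcu]
        _ = t * (g⁻¹ * c * g) := by group)
    obtain ⟨k, hk⟩ := h3pow c hc
    have hP' : g⁻¹ * c * g ∈ (P : Subgroup G) := h3mem (hHN ▸ hmem) ⟨k, by
      have : (g⁻¹ * c * (g⁻¹)⁻¹) ^ 3 ^ k = 1 := by rw [conj_pow, hk, mul_one, mul_inv_cancel]
      rwa [inv_inv] at this⟩
    have h1 : g⁻¹ * c * g = 1 := by
      refine hTI g (fun hgn => huC ?_) _ (hPC hP') (by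
        rw [show g * (g⁻¹ * c * g) * g⁻¹ = c by group]; exact hPC hc)
      have hgH : g ∈ H := hHN ▸ hNC g hgn
      rw [← hg, Subgroup.mem_centralizer_singleton_iff.mp hgH, mul_inv_cancel_right]
      exact htC
    calc c = g * (g⁻¹ * c * g) * g⁻¹ := by group
      _ = 1 := by rw [h1]; group
  have hinvP : ∀ c ∈ (P : Subgroup G), u * c * u⁻¹ = c⁻¹ := by
    intro c hc
    let φ : MulAut (P : Subgroup G) := Subgroup.normalizerMonoidHom (P : Subgroup G) ⟨u, huN⟩
    have hff : MonoidHom.FixedPointFree φ := fun v hv =>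
      Subtype.ext (hfpf v.1 v.2 (congrArg Subtype.val hv))
    have hinvol : Function.Involutive φ := fun v => by
      have e : (⟨u, huN⟩ : NP) * ⟨u, huN⟩ = 1 := Subtype.ext (hTsq u huT)
      show φ (φ v) = v
      rw [← MulAut.mul_apply, ← map_mul, e, map_one, MulAut.one_apply]
    exact congrArg Subtype.val (congrFun (hff.coe_eq_inv_of_involutive hinvol) ⟨c, hc⟩)
  let I : Subgroup G :=
    { carrier := {x | x ∈ C ∧ u * x * u⁻¹ = x⁻¹}
      one_mem' := ⟨one_mem _, by simp⟩
      mul_mem' := fun {x y} hx hy => ⟨mul_mem hx.1 hy.1, by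
        rw [show u * (x * y) * u⁻¹ = (u * x * u⁻¹) * (u * y * u⁻¹) by group, hx.2, hy.2,
          hCc _ (inv_mem hx.1) _ (inv_mem hy.1), mul_inv_rev]⟩
      inv_mem' := fun {x} hx => ⟨inv_mem hx.1, by
        rw [show u * x⁻¹ * u⁻¹ = (u * x * u⁻¹)⁻¹ by group, hx.2]⟩ }
  have hinvC : ∀ x ∈ C, u * x * u⁻¹ = x⁻¹ := by
    have hle : C ≤ I := by
      rw [← hgenC]
      refine sup_le (fun c hc => ⟨hPC hc, hinvP c hc⟩) (Subgroup.zpowers_le.mpr ⟨htC, ?_⟩)
      rw [Subgroup.mem_centralizer_singleton_iff.mp huH, mul_inv_cancel_right]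
      exact (inv_eq_of_mul_eq_one_right (by rw [← pow_two, ← ht, pow_orderOf_eq_one])).symm
    exact fun x hx => (hle hx).2
  have hgenH : C ⊔ Subgroup.zpowers u = H := by
    refine Subgroup.eq_of_le_of_card_ge (sup_le hCH (Subgroup.zpowers_le.mpr huH)) ?_
    obtain ⟨i, hi⟩ := Subgroup.card_dvd_of_le (le_sup_left : C ≤ C ⊔ Subgroup.zpowers u)
    have hne : Nat.card C ≠ Nat.card ↥(C ⊔ Subgroup.zpowers u) := fun e => huC (by
      rw [Subgroup.eq_of_le_of_card_ge (le_sup_left : C ≤ C ⊔ Subgroup.zpowers u) e.ge]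
      exact Subgroup.mem_sup_right (Subgroup.mem_zpowers u))
    rw [hHcard, hi, hC]
    rw [hi, hC] at hne
    rcases i with _ | _ | i
    · have := Nat.card_pos (α := ↥(C ⊔ Subgroup.zpowers u)); rw [hi] at this; simp at this
    · simp at hne
    · nlinarith
  have hfix : C ⊓ Subgroup.centralizer ({u} : Set G) = Subgroup.zpowers t := by
    refine le_antisymm ?_ (Subgroup.zpowers_le.mpr ⟨htC, Subgroup.mem_centralizer_singleton_iff.mpr
      (Subgroup.mem_centralizer_singleton_iff.mp huH).symm⟩)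
    rintro x ⟨hxC, hxu⟩
    have h := hinvC x hxC
    rw [← Subgroup.mem_centralizer_singleton_iff.mp hxu, mul_inv_cancel_right] at h
    have hx2 : x * x = 1 := mul_eq_one_iff_eq_inv.mpr h
    set V := Subgroup.zpowers x ⊔ Subgroup.zpowers t
    have hVC : V ≤ C := sup_le (Subgroup.zpowers_le.mpr hxC) (Subgroup.zpowers_le.mpr htC)
    have hxp : IsPGroup 2 (Subgroup.zpowers x) := by
      rintro ⟨y, hy⟩
      obtain ⟨i, rfl⟩ := hy
      refine ⟨1, Subtype.ext ?_⟩
      show (x ^ i) ^ 2 ^ 1 = 1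
      rw [pow_one, pow_two, ← (Commute.refl x).mul_zpow, hx2, one_zpow]
    have hVp := IsPGroup.to_sup_of_normal_right' hxp htp (Subgroup.zpowers_le.mpr
      (Subgroup.mem_normalizer_iff.mpr fun y => by
        constructor
        · intro hy
          rw [hCc x hxC y (Subgroup.zpowers_le.mpr htC hy), mul_inv_cancel_right]; exact hy
        · intro hy
          have hyC : x * y * x⁻¹ ∈ C := Subgroup.zpowers_le.mpr htC hy
          have := hCc x⁻¹ (inv_mem hxC) _ hyC
          rw [show x⁻¹ * (x * y * x⁻¹) = y * x⁻¹ by group] at this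
          have e : y = x * y * x⁻¹ := mul_right_cancel this
          rw [e]; exact hyC |> fun _ => hy))
    obtain ⟨i, hi⟩ := hVp.exists_card_eq
    have hdV := Subgroup.card_dvd_of_le hVC
    rw [hC, hi] at hdV
    have hi1 : i ≤ 1 := by
      by_contra hcon
      have : 2 * 2 ∣ 2 * Nat.card P := (pow_dvd_pow 2 (by omega : 2 ≤ i)).trans hdV
      exact hpodd (Nat.dvd_of_mul_dvd_mul_left two_pos this)
    have hle : (Subgroup.zpowers t) = V := Subgroup.eq_of_le_of_card_ge le_sup_right (by
      rw [hi, Nat.card_zpowers, ht]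
      exact (Nat.pow_le_pow_right two_pos hi1).trans (le_of_eq (pow_one 2)))
    rw [hle]; exact Subgroup.mem_sup_left (Subgroup.mem_zpowers x)
  have hTI' : ∀ g : G, g ∉ H → C ⊓ C.map (MulAut.conj g).toMonoidHom = ⊥ := by
    intro g hg
    rw [eq_bot_iff]
    rintro _ ⟨hgC, c, hc, rfl⟩
    have h1 := hTI g (fun h => hg (hHN ▸ hNC g h)) c hc hgC
    rw [Subgroup.mem_bot, h1, map_one]
  obtain ⟨Q, D, hG2, hQc, -, hDQ, hQD, hNQ, hND⟩ := S3282.result t ht C
    (isMulCommutative_iff.mpr fun x y => Subtype.ext (hCc x x.2 y y.2)) hCH htC u hu huH huC hgenH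
    hfix hinvC hTI' hconj
  set d := Nat.card D
  have hd0 : 0 < d := Nat.card_pos
  have hG : Nat.card G = 2 * d * (d + 1) * (2 * d + 1) := by
    rw [← hDQ, Nat.add_sub_cancel] at hG2
    refine Nat.eq_of_mul_eq_mul_left two_pos ?_
    rw [hG2]; ring
  have hd1 : d ≠ 1 := by
    intro e
    rw [e] at hG
    replace hG : Nat.card G = 12 := hG
    have h1 : 4 * Nat.card P ≤ 12 := hG ▸ Nat.le_of_dvd Nat.card_pos hNG
    have hP3 : Nat.card P = 3 := by have := Nat.le_of_dvd hpos hp3; omega
    exact htop3 (H := NP) (by rw [hN]) ((Subgroup.card_eq_iff_eq_top _).mp (by rw [hN, hP3, hG]))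
  have hDne : D ≠ ⊥ := fun e => hd1 (Subgroup.card_eq_one.mpr e)
  obtain ⟨-, v, hv, hvD, hvinv, hNDv⟩ := hND D le_rfl hDne
  have hQne : Nat.card Q = 2 * d + 1 := hDQ.symm
  have hNDcard : Nat.card (Subgroup.normalizer (D : Set G)) = 2 * d := by
    haveI : (D.subgroupOf (Subgroup.normalizer (D : Set G))).Normal :=
      Subgroup.normal_subgroupOf_of_le_normalizer le_rfl
    have hv2 : v * v = 1 := by rw [← pow_two, ← hv, pow_orderOf_eq_one]
    have h := Cores.card_sup_dvd_mul ((Subgroup.zpowers v).subgroupOf (Subgroup.normalizer (D : Set G)))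
      (D.subgroupOf (Subgroup.normalizer (D : Set G)))
    rw [← Subgroup.subgroupOf_sup (hNDv ▸ le_sup_right) Subgroup.le_normalizer, sup_comm, ← hNDv,
      Subgroup.subgroupOf_self, Subgroup.card_top,
      Nat.card_congr (Subgroup.subgroupOfEquivOfLe (Subgroup.le_normalizer : D ≤ _)).toEquiv,
      Nat.card_congr (Subgroup.subgroupOfEquivOfLe (hNDv ▸ le_sup_right :
        Subgroup.zpowers v ≤ Subgroup.normalizer (D : Set G))).toEquiv, Nat.card_zpowers, hv] at h
    have hdd : d ∣ Nat.card (Subgroup.normalizer (D : Set G)) := Subgroup.card_dvd_of_le Subgroup.le_normalizer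
    obtain ⟨i, hi⟩ := hdd
    rw [hi, mul_comm 2 d] at h
    have hi2 : i ∣ 2 := Nat.dvd_of_mul_dvd_mul_left hd0 h
    rcases (Nat.dvd_prime Nat.prime_two).mp hi2 with e | e
    · exfalso
      apply hvD
      rw [e, mul_one] at hi
      rw [Subgroup.eq_of_le_of_card_ge (Subgroup.le_normalizer : D ≤ _) hi.le, hNDv]
      exact Subgroup.mem_sup_right (Subgroup.mem_zpowers v)
    · rw [hi, e, mul_comm]
  have hdvd : 2 * d ∣ 4 * Nat.card P := by
    rw [← hNDcard]
    refine heven _ (fun h => ?_) (hNDcard ▸ dvd_mul_right 2 d)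
    rcases hsimple.eq_bot_or_eq_top_of_normal D (Subgroup.normalizer_eq_top_iff.mp h) with e | e
    · exact hDne e
    · exact hvD (e ▸ Subgroup.mem_top v)
  by_cases hde : 2 ∣ d
  · -- `Q ⋊ D` has even order
    obtain ⟨e, he⟩ := hde
    have hQDne : Subgroup.normalizer (Q : Set G) ≠ ⊤ := by
      intro h
      rcases hsimple.eq_bot_or_eq_top_of_normal Q (Subgroup.normalizer_eq_top_iff.mp h) with e' | e'
      · rw [e', Subgroup.card_bot] at hQne; omega
      · rw [e', Subgroup.card_top, hG] at hQne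
        have : 2 ≤ 2 * d * (d + 1) := by nlinarith
        nlinarith
    have hDle : D ≤ Subgroup.normalizer (Q : Set G) := hNQ ▸ le_sup_right
    have hd2 : d ∣ Nat.card (Subgroup.normalizer (Q : Set G)) := Subgroup.card_dvd_of_le hDle
    have hq : Nat.card Q ∣ Nat.card (Subgroup.normalizer (Q : Set G)) :=
      Subgroup.card_dvd_of_le Subgroup.le_normalizer
    have h2N := heven _ hQDne ((he ▸ dvd_mul_right 2 e : 2 ∣ d).trans hd2)
    have hqP : Nat.card Q ∣ Nat.card P := by
      have hodd : ¬ 2 ∣ Nat.card Q := by rw [hQne]; omega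
      exact ((Nat.Coprime.pow_left 2 (Nat.prime_two.coprime_iff_not_dvd.mpr hodd) :
        (2 ^ 2).Coprime _).symm).dvd_of_dvd_mul_left (hq.trans h2N)
    rw [ha] at hqP
    obtain ⟨n, -, hn⟩ := (Nat.dvd_prime_pow Nat.prime_three).mp hqP
    have he3 : e ∣ 3 ^ a := by
      rw [← ha]
      have : 4 * e ∣ 4 * Nat.card P := by rw [show 4 * e = 2 * (2 * e) by ring, ← he]; exact hdvd
      exact Nat.dvd_of_mul_dvd_mul_left (by norm_num) this
    obtain ⟨i, -, hi⟩ := (Nat.dvd_prime_pow Nat.prime_three).mp he3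
    exact aux i (by rw [← hn, hQne, he, hi]; ring)
  · -- `D` is a Sylow 3-subgroup with a small normaliser
    have hdP : d ∣ Nat.card P := by
      have : d ∣ 2 * Nat.card P := Nat.dvd_of_mul_dvd_mul_left two_pos (by rw [← mul_assoc]; exact hdvd)
      exact ((Nat.prime_two.coprime_iff_not_dvd.mpr hde).symm).dvd_of_dvd_mul_left this
    obtain ⟨j, -, hj⟩ := (Nat.dvd_prime_pow Nat.prime_three).mp (ha ▸ hdP)
    have hj0 : j ≠ 0 := fun e => hd1 (by rw [hj, e, pow_zero])
    have h3d : 3 ∣ d := hj ▸ dvd_pow_self 3 hj0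
    have hPd : Nat.card P = d := by
      refine Nat.dvd_antisymm ?_ hdP
      have hPG : Nat.card P ∣ Nat.card G := Subgroup.card_subgroup_dvd_card _
      rw [hG, ha] at hPG
      have c1 : (3 ^ a).Coprime (2 * d + 1) :=
        Nat.Coprime.pow_left a (Nat.prime_three.coprime_iff_not_dvd.mpr (by omega))
      have c2 : (3 ^ a).Coprime (d + 1) :=
        Nat.Coprime.pow_left a (Nat.prime_three.coprime_iff_not_dvd.mpr (by omega))
      have c3 : (3 ^ a).Coprime 2 := Nat.Coprime.pow_left a (by decide)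
      rw [ha]
      exact c3.dvd_of_dvd_mul_left (c2.dvd_of_dvd_mul_right (c1.dvd_of_dvd_mul_right hPG))
    let R : Sylow 3 G := Sylow.ofCard D (by rw [show Nat.card D = d from rfl, ← hPd, P.card_eq_multiplicity])
    have hR : (R : Subgroup G) = D := rfl
    have h1 := R.card_eq_index_normalizer
    rw [P.card_eq_index_normalizer] at h1
    have e1 := Subgroup.card_mul_index (Subgroup.normalizer ((P : Subgroup G) : Set G))
    have e2 := Subgroup.card_mul_index (Subgroup.normalizer ((R : Subgroup G) : Set G))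
    change Nat.card (Subgroup.normalizer ((R : Subgroup G) : Set G)) * _ = _ at e2
    rw [hR, hNDcard] at e2
    rw [hN, hPd] at e1
    have h1' : (Subgroup.normalizer ((P : Subgroup G) : Set G)).index = (Subgroup.normalizer (D : Set G)).index := h1
    rw [h1'] at e1
    have : 4 * d = 2 * d := Nat.eq_of_mul_eq_mul_right (Nat.pos_of_ne_zero Subgroup.index_ne_zero_of_finite) (e1.trans e2.symm)
    omega

end Cfsg.Agent.S4018
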