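import Cfsg.Statements.S4021
import Cfsg.Agent.ConjAll.QuatCase

set_option autoImplicit false
open Cfsg

namespace Cfsg.Agent.S4021

open Cfsg.Agent.ConjAll

/-- Let G be a finite group in which any two subgroups of the same order are conjugate. Then G/O(G), O(G) the largest normal subgroup of odd order, is one of: a cyclic 2-group; the one-dimensional affine group over the field with 8 elements; the one-dimensional semi-affine group over the field with 8 or with 32 elements; PSL₂(8); the full automorphism group of PSL₂(32); the alternating group of degree 4 or 5; SL₂(3); or SL₂(5). -/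
theorem result {G : Type*} [Group G] [Finite G]
    (hC : ∀ H K : Subgroup G, Nat.card H = Nat.card K → ∃ g : G, K = H.map (MulAut.conj g).toMonoidHom) :
    (IsCyclic (G ⧸ Cfsg.oddCore G) ∧ IsPGroup 2 (G ⧸ Cfsg.oddCore G)) ∨
    Nonempty (G ⧸ Cfsg.oddCore G ≃* Cfsg.affineGroup (GaloisField 2 3)) ∨
    Nonempty (G ⧸ Cfsg.oddCore G ≃* Cfsg.semiaffineGroup (GaloisField 2 3)) ∨
    Nonempty (G ⧸ Cfsg.oddCore G ≃* Cfsg.semiaffineGroup (GaloisField 2 5)) ∨
    Nonempty (G ⧸ Cfsg.oddCore G ≃* Matrix.ProjectiveSpecialLinearGroup (Fin 2) (GaloisField 2 3)) ∨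
    Nonempty (G ⧸ Cfsg.oddCore G ≃* MulAut (Matrix.ProjectiveSpecialLinearGroup (Fin 2) (GaloisField 2 5))) ∨
    Nonempty (G ⧸ Cfsg.oddCore G ≃* alternatingGroup (Fin 4)) ∨
    Nonempty (G ⧸ Cfsg.oddCore G ≃* alternatingGroup (Fin 5)) ∨
    Nonempty (G ⧸ Cfsg.oddCore G ≃* Matrix.SpecialLinearGroup (Fin 2) (ZMod 3)) ∨
    Nonempty (G ⧸ Cfsg.oddCore G ≃* Matrix.SpecialLinearGroup (Fin 2) (ZMod 5)) := by
  haveI : Fact (Nat.Prime 2) := ⟨Nat.prime_two⟩
  have hC' : IsConjAll (G ⧸ Cfsg.oddCore G) := IsConjAll.quotient hC (Cfsg.oddCore G)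
  have hO : Cfsg.oddCore (G ⧸ Cfsg.oddCore G) = ⊥ := PSolv.pPrimeCore_quotient_eq_bot 2 G
  obtain ⟨S⟩ : Nonempty (Sylow 2 (G ⧸ Cfsg.oddCore G)) := inferInstance
  by_cases hc : IsCyclic (S : Subgroup (G ⧸ Cfsg.oddCore G))
  · exact Or.inl (cyclic_case hO S hc)
  rcases Cfsg.Agent.S4020.result hC'.pGroups S with h | ⟨-, h⟩ | ⟨⟨e⟩⟩
  · exact absurd h hc
  · have hel : ExpTwo (G ⧸ Cfsg.oddCore G) := expTwo_of_one S h
    obtain ⟨k, hk⟩ := IsPGroup.iff_card.1 S.2
    have hk2 : 2 ≤ k := by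
      by_contra hlt
      apply hc
      rcases (by omega : k = 0 ∨ k = 1) with rfl | rfl
      · haveI : Subsingleton (S : Subgroup (G ⧸ Cfsg.oddCore G)) :=
          (Nat.card_eq_one_iff_unique.1 (hk.trans (pow_zero 2))).1
        exact isCyclic_of_subsingleton
      · exact isCyclic_of_prime_card (p := 2) (hk.trans (pow_one 2))
    rcases eq_or_lt_of_le hk2 with rfl | h3
    · rcases four_case hC' hel hO S hk with ⟨-, -, he⟩ | he
      · exact Or.inr <| Or.inr <| Or.inr <| Or.inr <| Or.inr <| Or.inr <| Or.inl he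
      · exact Or.inr <| Or.inr <| Or.inr <| Or.inr <| Or.inr <| Or.inr <| Or.inr <| Or.inl he
    · rcases large_case hC' hel hO S hk h3 with he | he | he | he | he
      · exact Or.inr <| Or.inl he
      · exact Or.inr <| Or.inr <| Or.inl he
      · exact Or.inr <| Or.inr <| Or.inr <| Or.inl he
      · exact Or.inr <| Or.inr <| Or.inr <| Or.inr <| Or.inl he
      · exact Or.inr <| Or.inr <| Or.inr <| Or.inr <| Or.inr <| Or.inl he
  · rcases quat_case hC' hO S e with he | he
    · exact Or.inr <| Or.inr <| Or.inr <| Or.inr <| Or.inr <| Or.inr <| Or.inr <| Or.inr <| Or.inl he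
    · exact Or.inr <| Or.inr <| Or.inr <| Or.inr <| Or.inr <| Or.inr <| Or.inr <| Or.inr <| Or.inr he

end Cfsg.Agent.S4021
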