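import Cfsg.Statements.S4034
import Mathlib
import Cfsg.Agent.S0143
import Cfsg.Agent.Lib.ClassSize
import Cfsg.Agent.Lib.Element
import Cfsg.Agent.Lib.Hall
import Cfsg.Agent.Cores.Fitting

set_option autoImplicit false
open Cfsg
open scoped Pointwise

namespace Cfsg.Agent.S4034

/-- every `p`-regular class has `p`-power size -/
def Good (p : ℕ) (G : Type*) [Group G] : Prop :=
  ∀ x : G, (orderOf x).Coprime p → ∃ k : ℕ, (Subgroup.centralizer ({x} : Set G)).index = p ^ k

theorem good_iff {G : Type*} [Group G] {p : ℕ} (x : G) :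
    (ConjClasses.mk x).carrier.ncard = (Subgroup.centralizer ({x} : Set G)).index := by
  rw [← ClassSize.natCard_carrier, Nat.card_coe_set_eq]

theorem solvable_of_good {p : ℕ} (hp : p.Prime) (n : ℕ) : ∀ (G : Type*) [Group G] [Finite G],
    Nat.card G ≤ n → Good p G → Group.IsSolvable G := by
  induction n with
  | zero => intro G _ _ hn; exact absurd hn (by have := Nat.card_pos (α := G); omega)
  | succ n ih =>
    intro G _ _ hn hG
    haveI := Fact.mk hp
    rcases subsingleton_or_nontrivial G with hs | hnt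
    · infer_instance
    by_cases hsim : IsSimpleGroup G
    · by_cases hq : ∃ q : ℕ, q.Prime ∧ q ≠ p ∧ q ∣ Nat.card G
      · obtain ⟨q, hq, hqp, hqd⟩ := hq
        haveI := Fact.mk hq
        obtain ⟨x, hx⟩ := exists_prime_orderOf_dvd_card' q hqd
        obtain ⟨k, hk⟩ := hG x (hx ▸ (Nat.coprime_primes hq hp).mpr hqp)
        have hcard := Cfsg.Agent.S0143.result p k hp x
          (fun h => hq.ne_one (by rw [← hx, h, orderOf_one])) hk
        haveI := Fact.mk hcard
        haveI : IsCyclic G := isCyclic_of_prime_card (p := Nat.card G) rfl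
        haveI : IsMulCommutative G := IsCyclic.isMulCommutative
        exact Group.isSolvable_of_comm fun a b => isMulCommutative_iff.mp inferInstance a b
      · push Not at hq
        haveI : Group.IsNilpotent G := (IsPGroup.of_card (p := p) (n := (Nat.card G).primeFactorsList.length)
          (Nat.eq_prime_pow_of_unique_prime_dvd Nat.card_pos.ne' fun {d} hd hdd =>
            by_contra fun hne => hq d hd hne hdd)).isNilpotent
        infer_instance
    · obtain ⟨N, hN, hN1, hN2⟩ : ∃ N : Subgroup G, N.Normal ∧ N ≠ ⊥ ∧ N ≠ ⊤ := by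
        by_contra hc
        push Not at hc
        exact hsim ⟨fun H hH => or_iff_not_imp_left.mpr fun h => hc H hH h⟩
      have hlt : Nat.card N ≤ n := by
        have := lt_of_le_of_ne (Subgroup.card_le_card_group N) fun e => hN2 (Subgroup.eq_top_of_card_eq N e)
        omega
      have hlt2 : Nat.card (G ⧸ N) ≤ n := by
        have h1 := Subgroup.card_eq_card_quotient_mul_card_subgroup N
        have h2 : 1 < Nat.card N := Finite.one_lt_card_iff_nontrivial.mpr
          ((Subgroup.nontrivial_iff_ne_bot N).mpr hN1)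
        have h3 : Nat.card (G ⧸ N) * 2 ≤ Nat.card G := h1 ▸ Nat.mul_le_mul_left _ h2
        have := Nat.card_pos (α := G ⧸ N)
        omega
      haveI : Group.IsSolvable N := ih N hlt fun x hx => by
        obtain ⟨k, hk⟩ := hG x (by rwa [Subgroup.orderOf_coe])
        obtain ⟨j, -, hj⟩ := (Nat.dvd_prime_pow hp).mp (hk ▸ ClassSize.index_centralizer_normal_dvd N x)
        exact ⟨j, hj⟩
      haveI : Group.IsSolvable (G ⧸ N) := ih _ hlt2 fun y hy => by
        obtain ⟨x, rfl, hx⟩ := Element.exists_pPrimeElement_preimage hp (QuotientGroup.mk' N)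
          (QuotientGroup.mk'_surjective N) hy
        obtain ⟨k, hk⟩ := hG x hx
        obtain ⟨j, -, hj⟩ := (Nat.dvd_prime_pow hp).mp
          (hk ▸ ClassSize.index_centralizer_map_dvd _ (QuotientGroup.mk'_surjective N) x)
        exact ⟨j, hj⟩
      exact Group.isSolvable_of_ker_le_range N.subtype (QuotientGroup.mk' N)
        (by rw [QuotientGroup.ker_mk', Subgroup.range_subtype])

theorem abelian_fitting {p : ℕ} (hp : p.Prime) {G : Type*} [Group G] [Finite G]
    [Group.IsSolvable G] (hG : Good p G) (hbot : Cfsg.pCore p G = ⊥) :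
    IsMulCommutative (Cfsg.fittingSubgroup G) ∧
      ∀ x : G, (orderOf x).Coprime p → x ∈ Cfsg.fittingSubgroup G := by
  haveI := Fact.mk hp
  set F := Cfsg.fittingSubgroup G
  have hFnil : Group.IsNilpotent F := Cores.fittingSubgroup_isNilpotent
  have hFp : ¬ p ∣ Nat.card F := by
    intro hd
    obtain ⟨P⟩ : Nonempty (Sylow p F) := inferInstance
    haveI := P.normal_of_normalizerCondition Group.normalizerCondition_of_isNilpotent
    haveI : (P : Subgroup F).Characteristic := P.characteristic_of_normal inferInstance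
    have hle : (P : Subgroup F).map F.subtype ≤ ⊥ := hbot ▸
      Cores.le_pCore (Cores.normal_map_subtype_of_characteristic _) (P.isPGroup'.map _)
    have hP : (P : Subgroup F) = ⊥ :=
      (Subgroup.map_eq_bot_iff_of_injective _ F.subtype_injective).mp (le_bot_iff.mp hle)
    exact P.not_dvd_index (by rw [hP, Subgroup.index_bot]; exact hd)
  have hcent : ∀ x : G, (orderOf x).Coprime p → x ∈ Subgroup.centralizer (F : Set G) := by
    intro x hx
    obtain ⟨k, hk⟩ := hG x hx
    have h1 : (Subgroup.centralizer ({x} : Set G)).relIndex F ∣ p ^ k :=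
      hk ▸ ClassSize.relIndex_dvd_index_of_normal_left F _
    have h2 : (Subgroup.centralizer ({x} : Set G)).relIndex F ∣ Nat.card F :=
      Subgroup.index_dvd_card _
    have h3 := Nat.eq_one_of_dvd_coprimes ((hp.coprime_iff_not_dvd.mpr hFp).pow_left k) h1 h2
    rw [Subgroup.relIndex_eq_one] at h3
    exact Subgroup.mem_centralizer_iff.mpr fun f hf =>
      Subgroup.mem_centralizer_singleton_iff.mp (h3 hf)
  refine ⟨isMulCommutative_iff.mpr fun a b => Subtype.ext ?_,
    fun x hx => Cores.centralizer_fittingSubgroup_le (hcent x hx)⟩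
  refine Subgroup.mem_centralizer_iff.mp (hcent b ?_) a a.2
  exact ((hp.coprime_iff_not_dvd.mpr hFp).symm).coprime_dvd_left
    (Subgroup.orderOf_coe b ▸ orderOf_dvd_natCard _)

theorem solvable_of_hall {p : ℕ} (hp : p.Prime) (n : ℕ) : ∀ (G : Type*) [Group G] [Finite G],
    Nat.card G ≤ n → (∃ H : Subgroup G, IsMulCommutative H ∧ ∃ k : ℕ, H.index = p ^ k) →
    Group.IsSolvable G := by
  induction n with
  | zero => intro G _ _ hn; exact absurd hn (by have := Nat.card_pos (α := G); omega)
  | succ n ih =>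
    intro G _ _ hn ⟨H, hH, k, hk⟩
    haveI := Fact.mk hp
    rcases subsingleton_or_nontrivial G with hs | hnt
    · infer_instance
    by_cases hsim : IsSimpleGroup G
    · rcases H.bot_or_exists_ne_one with hb | ⟨h, hh, hh1⟩
      · haveI : Group.IsNilpotent G := (IsPGroup.of_card (p := p) (n := k)
          (by rw [← hk, hb, Subgroup.index_bot])).isNilpotent
        infer_instance
      · have hle : H ≤ Subgroup.centralizer ({h} : Set G) := fun u hu =>
          Subgroup.mem_centralizer_singleton_iff.mpr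
            (congrArg Subtype.val (isMulCommutative_iff.mp hH ⟨u, hu⟩ ⟨h, hh⟩))
        obtain ⟨j, -, hj⟩ := (Nat.dvd_prime_pow hp).mp (hk ▸ Subgroup.index_dvd_of_le hle)
        have hcard := Cfsg.Agent.S0143.result p j hp h hh1 hj
        haveI := Fact.mk hcard
        haveI : IsCyclic G := isCyclic_of_prime_card (p := Nat.card G) rfl
        haveI : IsMulCommutative G := IsCyclic.isMulCommutative
        exact Group.isSolvable_of_comm fun a b => isMulCommutative_iff.mp inferInstance a b
    · obtain ⟨N, hN, hN1, hN2⟩ : ∃ N : Subgroup G, N.Normal ∧ N ≠ ⊥ ∧ N ≠ ⊤ := by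
        by_contra hc
        push Not at hc
        exact hsim ⟨fun H hH => or_iff_not_imp_left.mpr fun h => hc H hH h⟩
      have hlt : Nat.card N ≤ n := by
        have := lt_of_le_of_ne (Subgroup.card_le_card_group N) fun e => hN2 (Subgroup.eq_top_of_card_eq N e)
        omega
      have hlt2 : Nat.card (G ⧸ N) ≤ n := by
        have h1 := Subgroup.card_eq_card_quotient_mul_card_subgroup N
        have h2 : 1 < Nat.card N := Finite.one_lt_card_iff_nontrivial.mpr
          ((Subgroup.nontrivial_iff_ne_bot N).mpr hN1)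
        have h3 : Nat.card (G ⧸ N) * 2 ≤ Nat.card G := h1 ▸ Nat.mul_le_mul_left _ h2
        have := Nat.card_pos (α := G ⧸ N)
        omega
      haveI : Group.IsSolvable N := ih N hlt ⟨H.subgroupOf N,
        isMulCommutative_iff.mpr fun a b => Subtype.ext (Subtype.ext
          (show ((a : N) : G) * ((b : N) : G) = ((b : N) : G) * ((a : N) : G) from
            congrArg Subtype.val (isMulCommutative_iff.mp hH ⟨_, a.2⟩ ⟨_, b.2⟩))), by
        obtain ⟨j, -, hj⟩ := (Nat.dvd_prime_pow hp).mp
          (hk ▸ ClassSize.relIndex_dvd_index_of_normal_left N H : H.relIndex N ∣ p ^ k)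
        exact ⟨j, hj⟩⟩
      haveI : Group.IsSolvable (G ⧸ N) := ih _ hlt2 ⟨H.map (QuotientGroup.mk' N),
        isMulCommutative_iff.mpr fun a b => by
          obtain ⟨_, u, hu, rfl⟩ := a
          obtain ⟨_, v, hv, rfl⟩ := b
          refine Subtype.ext ?_
          show (QuotientGroup.mk' N) u * (QuotientGroup.mk' N) v = (QuotientGroup.mk' N) v * (QuotientGroup.mk' N) u
          rw [← map_mul, ← map_mul]
          exact congrArg _ (congrArg Subtype.val (isMulCommutative_iff.mp hH ⟨u, hu⟩ ⟨v, hv⟩)), by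
        obtain ⟨j, -, hj⟩ := (Nat.dvd_prime_pow hp).mp
          (hk ▸ Subgroup.index_map_dvd H (QuotientGroup.mk'_surjective N))
        exact ⟨j, hj⟩⟩
      exact Group.isSolvable_of_ker_le_range N.subtype (QuotientGroup.mk' N)
        (by rw [QuotientGroup.ker_mk', Subgroup.range_subtype])


/-- Let G be a finite group and p a prime. Every conjugacy class of p-regular elements of G (elements of order prime to p) has p-power size if and only if G has an abelian p-complement, i.e. an abelian subgroup of order prime to p and p-power index. -/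
theorem result {G : Type*} [Group G] [Finite G] {p : ℕ} (hp : p.Prime) :
    (∀ x : G, (orderOf x).Coprime p → ∃ k : ℕ, (ConjClasses.mk x).carrier.ncard = p ^ k) ↔
    (∃ H : Subgroup G, IsMulCommutative H ∧ ¬ p ∣ Nat.card H ∧ ∃ k : ℕ, H.index = p ^ k) := by
  haveI := Fact.mk hp
  simp only [good_iff (p := p)]
  constructor
  · intro hG
    haveI : Group.IsSolvable G := solvable_of_good hp _ G le_rfl hG
    obtain ⟨H, hH⟩ := Hall.exists_isPiHall (G := G) {r | r ≠ p}
    have hHp : ¬ p ∣ Nat.card H := fun h => hH.1 p hp h rfl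
    refine ⟨H, ?_, hHp, _, Nat.eq_prime_pow_of_unique_prime_dvd Subgroup.index_ne_zero_of_finite
      fun {d} hd hdd => by_contra fun hne => hH.2 d hd hne hdd⟩
    set N := Cfsg.pCore p G
    let f := QuotientGroup.mk' N
    have hGq : Good p (G ⧸ N) := fun y hy => by
      obtain ⟨x, rfl, hx⟩ := Element.exists_pPrimeElement_preimage hp f
        (QuotientGroup.mk'_surjective N) hy
      obtain ⟨k, hk⟩ := hG x hx
      obtain ⟨j, -, hj⟩ := (Nat.dvd_prime_pow hp).mp
        (hk ▸ ClassSize.index_centralizer_map_dvd f (QuotientGroup.mk'_surjective N) x)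
      exact ⟨j, hj⟩
    obtain ⟨hF, hmem⟩ := abelian_fitting hp hGq Cores.pCore_quotient_pCore_eq_bot
    have hin : ∀ a ∈ H, f a ∈ Cfsg.fittingSubgroup (G ⧸ N) := fun a ha =>
      hmem _ (((hp.coprime_iff_not_dvd.mpr hHp).symm).coprime_dvd_left
        ((orderOf_map_dvd f a).trans (Subgroup.orderOf_mk a ha ▸ orderOf_dvd_natCard _)))
    refine isMulCommutative_iff.mpr fun a b => Subtype.ext ?_
    have e : f ((a : G) * b) = f ((b : G) * a) := by
      rw [map_mul, map_mul]
      exact congrArg Subtype.val (isMulCommutative_iff.mp hF ⟨_, hin a a.2⟩ ⟨_, hin b b.2⟩)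
    have hN : ((a : G) * b)⁻¹ * ((b : G) * a) ∈ N := by
      rw [← QuotientGroup.eq_one_iff]
      show f _ = 1
      rw [map_mul, map_inv, e, inv_mul_cancel]
    have hHm : ((a : G) * b)⁻¹ * ((b : G) * a) ∈ H :=
      mul_mem (inv_mem (mul_mem a.2 b.2)) (mul_mem b.2 a.2)
    obtain ⟨j, hj⟩ := (Cores.pCore_isPGroup (p := p) (G := G)).exists_card_eq
    have h1 := Nat.eq_one_of_dvd_coprimes ((hp.coprime_iff_not_dvd.mpr hHp).pow_left j)
      (hj ▸ (Subgroup.orderOf_mk _ hN ▸ orderOf_dvd_natCard _))
      (Subgroup.orderOf_mk _ hHm ▸ orderOf_dvd_natCard _)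
    exact (inv_mul_eq_one.mp (orderOf_eq_one_iff.mp h1))
  · rintro ⟨H, hH, hHp, k, hk⟩ x hx
    haveI : Group.IsSolvable G := solvable_of_hall hp _ G le_rfl ⟨H, hH, k, hk⟩
    have hHall : Cfsg.IsPiHall {r | r ≠ p} H := ⟨fun r _ hd e => hHp (e ▸ hd),
      fun r hr hne hd => hne ((Nat.prime_dvd_prime_iff_eq hr hp).mp
        (hr.dvd_of_dvd_pow (hk ▸ hd)))⟩
    obtain ⟨g, hg⟩ := Hall.le_conj_isPiHall hHall (S := Subgroup.zpowers x) (by
      rw [Nat.card_zpowers]
      intro r hr hd e
      subst e
      exact hp.ne_one (Nat.eq_one_of_dvd_coprimes hx hd dvd_rfl))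
    have hxH : g * x * g⁻¹ ∈ H :=
      hg (Subgroup.smul_mem_pointwise_smul x (MulAut.conj g) _ (Subgroup.mem_zpowers x))
    obtain ⟨j, -, hj⟩ := (Nat.dvd_prime_pow hp).mp
      (hk ▸ Subgroup.index_dvd_of_le (show H ≤ Subgroup.centralizer ({g * x * g⁻¹} : Set G) from
        fun u hu => Subgroup.mem_centralizer_singleton_iff.mpr
          (congrArg Subtype.val (isMulCommutative_iff.mp hH ⟨u, hu⟩ ⟨_, hxH⟩))))
    rw [ClassSize.index_centralizer_conj] at hj
    exact ⟨j, hj⟩

end Cfsg.Agent.S4034
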