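import Cfsg.Statements.S4113
-- import your own Cfsg.Agent.* helpers here

set_option autoImplicit false
open Cfsg

namespace Cfsg.Agent.S4113

/-- Let G be a finite group, M ≤ N non-trivial proper normal subgroups, and H a subgroup with HM = G and H ∩ M = 1. Then every element of G outside N acts fixed-point-freely on M (C_G(x) ≤ N for every x ∈ M, x ≠ 1) if and only if H ∩ gHg⁻¹ ≤ H ∩ N for every g outside H, with H proper and non-trivial and H ∩ N proper in H. -/
theorem result {G : Type*} [Group G] [Finite G] (N M : Subgroup G) [N.Normal] [M.Normal] (hMN : M ≤ N) (hM1 : M ≠ ⊥) (hN2 : N ≠ ⊤)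
    (H : Subgroup G) (hHM : H ⊔ M = ⊤) (hHM' : H ⊓ M = ⊥) :
    (∀ x ∈ M, x ≠ 1 → Subgroup.centralizer ({x} : Set G) ≤ N) ↔
      (H ≠ ⊥ ∧ H ≠ ⊤ ∧ H ⊓ N < H ∧ ∀ g : G, g ∉ H → H ⊓ H.map (MulAut.conj g).toMonoidHom ≤ N) := by
  classical
  have hMn : M.Normal := inferInstance
  constructor
  · intro h
    have hH1 : H ≠ ⊥ := by
      rintro rfl
      rw [bot_sup_eq] at hHM
      exact hN2 (top_unique (hHM ▸ hMN))
    have hH2 : H ≠ ⊤ := by
      rintro rfl
      rw [top_inf_eq] at hHM'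
      exact hM1 hHM'
    refine ⟨hH1, hH2, lt_of_le_of_ne inf_le_left fun he => hN2 ?_, fun g hg y hy => ?_⟩
    · exact top_unique (hHM ▸ sup_le (inf_eq_left.mp he) hMN)
    obtain ⟨hyH, hyc⟩ := hy
    obtain ⟨k, hk, hky⟩ := Subgroup.mem_map.mp hyc
    have hgmem : g ∈ M ⊔ H := by rw [sup_comm, hHM]; exact Subgroup.mem_top g
    obtain ⟨m, hm, h', hh', rfl⟩ := Subgroup.mem_sup_of_normal_left.mp hgmem
    simp only [MulEquiv.coe_toMonoidHom, MulAut.conj_apply] at hky
    set k' := h' * k * h'⁻¹ with hk'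
    have hk'H : k' ∈ H := mul_mem (mul_mem hh' hk) (inv_mem hh')
    have hy' : y = m * k' * m⁻¹ := by rw [← hky, hk']; group
    have h1 : k'⁻¹ * y = 1 := by
      have hH : k'⁻¹ * y ∈ H := mul_mem (inv_mem hk'H) hyH
      have hM : k'⁻¹ * y ∈ M := by
        have := mul_mem (hMn.conj_mem m hm k'⁻¹) (inv_mem hm)
        rw [hy']
        simpa [mul_assoc] using this
      exact Subgroup.mem_bot.mp (hHM' ▸ Subgroup.mem_inf.mpr ⟨hH, hM⟩)
    have hyk : y = k' := (inv_mul_eq_one.mp h1).symm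
    have hm1 : m ≠ 1 := by rintro rfl; exact hg (by simpa using hh')
    refine h m hm hm1 (Subgroup.mem_centralizer_singleton_iff.mpr ?_)
    calc y * m = m * k' * m⁻¹ * m := by rw [← hy']
      _ = m * y := by rw [hyk]; group
  · rintro ⟨-, -, -, hti⟩ x hx hx1 y hy
    by_contra hyN
    have hxy := Subgroup.mem_centralizer_singleton_iff.mp hy
    have hymem : y ∈ M ⊔ H := by rw [sup_comm, hHM]; exact Subgroup.mem_top y
    obtain ⟨m, hm, h, hh, rfl⟩ := Subgroup.mem_sup_of_normal_left.mp hymem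
    have hhN : h ∉ N := fun hn => hyN (mul_mem (hMN hm) hn)
    -- an element of `H` outside `N` commutes with no nontrivial element of `M`
    have key : ∀ z ∈ M, h * z = z * h → z = 1 := by
      intro z hz hc
      by_contra hz1
      have hzH : z ∉ H := fun hzH => hz1 (Subgroup.mem_bot.mp (hHM' ▸ Subgroup.mem_inf.mpr ⟨hzH, hz⟩))
      refine hhN (hti z hzH ⟨hh, h, hh, ?_⟩)
      show z * h * z⁻¹ = h
      rw [← hc, mul_inv_cancel_right]
    let f : M → M := fun a => ⟨(a : G) * (h * (a : G)⁻¹ * h⁻¹),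
      mul_mem a.2 (hMn.conj_mem _ (inv_mem a.2) h)⟩
    have hf : Function.Injective f := by
      intro a b hab
      have hab' : (a : G) * (h * (a : G)⁻¹ * h⁻¹) = (b : G) * (h * (b : G)⁻¹ * h⁻¹) :=
        congrArg Subtype.val hab
      have := key ((b : G)⁻¹ * a) (mul_mem (inv_mem b.2) a.2) ?_
      · exact Subtype.ext (inv_mul_eq_one.mp this).symm
      · calc h * ((b : G)⁻¹ * a) = (b : G)⁻¹ * ((b : G) * (h * (b : G)⁻¹ * h⁻¹)) * h * a := by group
          _ = (b : G)⁻¹ * ((a : G) * (h * (a : G)⁻¹ * h⁻¹)) * h * a := by rw [hab']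
          _ = (b : G)⁻¹ * a * h := by group
    obtain ⟨⟨n, hn⟩, hnm⟩ := Finite.injective_iff_surjective.mp hf ⟨m, hm⟩
    have hnm' : n * (h * n⁻¹ * h⁻¹) = m := congrArg Subtype.val hnm
    have hy' : m * h = n * h * n⁻¹ := by rw [← hnm']; group
    rw [hy'] at hxy
    have := key (n⁻¹ * x * n) (by simpa using hMn.conj_mem x hx n⁻¹) ?_
    · exact hx1 (by
        calc x = n * (n⁻¹ * x * n) * n⁻¹ := by group
          _ = 1 := by rw [this]; group)
    · calc h * (n⁻¹ * x * n) = n⁻¹ * (n * h * n⁻¹ * x) * n := by group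
        _ = n⁻¹ * (x * (n * h * n⁻¹)) * n := by rw [hxy]
        _ = n⁻¹ * x * n * h := by group

end Cfsg.Agent.S4113
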