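import Cfsg.Statements.S4130
import Cfsg.Agent.S0205
import Cfsg.Agent.FGSev.NotFour
import Cfsg.Agent.FGSev.SquareFreeFull
-- import your own Cfsg.Agent.* helpers here

set_option autoImplicit false
open Cfsg

namespace Cfsg.Agent.S4130

/-- Let G be a finite group all of whose conjugacy class sizes are square-free. Then G is supersolvable, G/F(G) and the derived subgroup G′ are cyclic of square-free order (F(G) the Fitting subgroup, which is normal), F(G) has nilpotency class at most 2, and G is metabelian. -/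
theorem result {G : Type*} [Group G] [Finite G]
    (h : ∀ x : G, Squarefree (Subgroup.centralizer ({x} : Set G)).index) :
    Cfsg.IsSupersolvable G ∧ (Cfsg.fittingSubgroup G).Normal ∧
    (∀ _h : (Cfsg.fittingSubgroup G).Normal, IsCyclic (G ⧸ Cfsg.fittingSubgroup G) ∧ Squarefree (Cfsg.fittingSubgroup G).index) ∧
    IsCyclic (commutator G) ∧ Squarefree (Nat.card (commutator G)) ∧
    Subgroup.upperCentralSeries ↥(Cfsg.fittingSubgroup G) 2 = ⊤ ∧ commutator ↥(commutator G) = ⊥ := by
  haveI : Group.IsSolvable G := Cfsg.Agent.FGSev.isSolvable_of_not_four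
    (fun X _ _ hX => Cfsg.Agent.S0205.result (G := X) hX) _ G rfl fun x hd =>
      Nat.prime_two.not_isUnit (h x 2 hd)
  have hp := Cfsg.Agent.FGSev.sqpp_of_sq h
  refine ⟨Cfsg.Agent.FGSev.supersolvable_of_sqpp hp, inferInstance,
    fun _ => ⟨Cfsg.Agent.FGSev.fitting_quotient_cyclic h, Cfsg.Agent.FGSev.index_fitting_squarefree h⟩,
    (Cfsg.Agent.FGSev.commutator_cyclic h).1, (Cfsg.Agent.FGSev.commutator_cyclic h).2,
    Cfsg.Agent.FGSev.upperCentralSeries_fitting_two hp, ?_⟩
  haveI := (Cfsg.Agent.FGSev.commutator_cyclic h).1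
  rw [_root_.commutator_eq_bot_iff]
  exact IsCyclic.commutative

end Cfsg.Agent.S4130
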