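import Cfsg.Statements.S4133
import Cfsg.Agent.AGHall.Main

set_option autoImplicit false
open Cfsg

namespace Cfsg.Agent.S4133

open Subgroup
open Cfsg.Agent.AGHall

/-- The subgroup `D` of `H` has even index if some element of `H` outside normalizes it and squares
into it. -/
theorem two_dvd_relIndex {G : Type*} [Group G] [Finite G] {D H : Subgroup G} (hDH : D ≤ H) {t : G}
    (htH : t ∈ H) (htD : t ∉ D) (htn : t ∈ normalizer (D : Set G)) (ht : t * t ∈ D) :
    2 ∣ D.relIndex H := by
  set R := zpowers t ⊔ D with hR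
  have hDR : D ≤ R := le_sup_right
  haveI : (D.subgroupOf R).Normal :=
    normal_subgroupOf_of_le_normalizer (sup_le (zpowers_le.2 htn) le_normalizer)
  have h2 : orderOf (QuotientGroup.mk' (D.subgroupOf R)
      ⟨t, hR ▸ mem_sup_left (mem_zpowers t)⟩) = 2 := by
    refine orderOf_eq_prime ?_ fun h => htD
      (mem_subgroupOf.1 ((QuotientGroup.eq_one_iff (N := D.subgroupOf R) _).1 h))
    rw [← map_pow]
    exact (QuotientGroup.eq_one_iff (N := D.subgroupOf R) _).2 (mem_subgroupOf.2 (by
      show t ^ 2 ∈ D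
      rw [sq]; exact ht))
  have h3 : 2 ∣ D.relIndex R := by
    rw [← h2]
    exact orderOf_dvd_natCard _
  rw [← relIndex_mul_relIndex D R H hDR (sup_le (zpowers_le.2 htH) hDH)]
  exact h3.mul_right _

/-- A nonsolvable group has a perfect nontrivial characteristic subgroup. -/
theorem exists_perfect {G : Type*} [Group G] [Finite G] (h : ¬ Group.IsSolvable G) :
    ∃ D : Subgroup G, D.Characteristic ∧ D ≠ ⊥ ∧ ⁅D, D⁆ = D := by
  obtain ⟨n, hn⟩ := WellFoundedLT.antitone_chain_condition (derivedSeries_antitone G)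
  exact ⟨derivedSeries G n, derivedSeries_characteristic G n,
    fun e => h ⟨⟨n, e⟩⟩, (hn (n + 1) (Nat.le_succ n)).symm⟩

/-- Let G be a finite group all of whose Sylow subgroups are abelian, and let 2^a be the largest power of 2 dividing the size of any conjugacy class of G. If some element has a conjugacy class of size exactly 2^a, then G is solvable. -/
theorem result {G : Type*} [Group G] [Finite G]
    (hA : ∀ (p : ℕ) [Fact p.Prime] (P : Sylow p G), IsMulCommutative (P : Subgroup G))
    (a : ℕ) (hmax : ∀ y : G, ¬ 2 ^ (a + 1) ∣ (Subgroup.centralizer ({y} : Set G)).index) (hx : ∃ x : G, (Subgroup.centralizer ({x} : Set G)).index = 2 ^ a) :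
    Group.IsSolvable G := by
  classical
  have hA' : AbSylows G := abSylows_of_sylow hA
  obtain ⟨x, hx⟩ := hx
  set H : Subgroup G := centralizer ({x} : Set G) with hH
  haveI : Fact (Nat.Prime 2) := ⟨Nat.prime_two⟩
  -- a Sylow 2-subgroup
  obtain ⟨P0⟩ : Nonempty (Sylow 2 H) := inferInstance
  set Q : Subgroup G := (P0 : Subgroup H).map H.subtype with hQ
  have hQp : IsPGroup 2 Q := P0.isPGroup'.map _
  obtain ⟨P, hQP⟩ := hQp.exists_le_sylow
  have hQH : Q ≤ H := map_subtype_le _
  -- `G = P H`
  have hPH : ∀ g : G, ∃ p ∈ (P : Subgroup G), ∃ c ∈ H, g = p * c := by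
    have hrel : 2 ^ a ∣ H.relIndex (P : Subgroup G) := by
      have e1 := relIndex_mul_index (inf_le_left : (P : Subgroup G) ⊓ H ≤ P)
      have e2 := relIndex_mul_index (inf_le_right : (P : Subgroup G) ⊓ H ≤ H)
      rw [hx] at e2
      rw [inf_relIndex_left] at e1
      have hd : 2 ^ a ∣ H.relIndex (P : Subgroup G) * (P : Subgroup G).index := by
        rw [e1, ← e2]; exact dvd_mul_left _ _
      exact ((Nat.prime_two.coprime_iff_not_dvd.2 P.not_dvd_index).pow_left a).dvd_of_dvd_mul_right hd
    have hc : H.relIndex (P : Subgroup G) ≤ 2 ^ a := by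
      have := relIndex_le_of_le_right (H := H) (K := (P : Subgroup G)) (L := ⊤) le_top
        (by rw [relIndex_top_right]; exact index_ne_zero_of_finite)
      rwa [relIndex_top_right, hx] at this
    have heq : H.relIndex (P : Subgroup G) = 2 ^ a := le_antisymm hc
      (Nat.le_of_dvd (Nat.pos_of_ne_zero index_ne_zero_of_finite) hrel)
    intro g
    have hsurj : Function.Surjective (Subgroup.quotientSubgroupOfEmbeddingOfLE H
        (le_top : (P : Subgroup G) ≤ ⊤)) := by
      refine ((Nat.bijective_iff_injective_and_card _).2 ⟨Function.Embedding.injective _, ?_⟩).2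
      show H.relIndex (P : Subgroup G) = H.relIndex ⊤
      rw [relIndex_top_right, hx, heq]
    obtain ⟨q, hq⟩ := hsurj (QuotientGroup.mk (⟨g, mem_top g⟩ : (⊤ : Subgroup G)))
    obtain ⟨p, rfl⟩ := QuotientGroup.mk_surjective q
    rw [quotientSubgroupOfEmbeddingOfLE_apply_mk, QuotientGroup.eq] at hq
    exact ⟨(p : G), p.2, (p : G)⁻¹ * g, hq, by simp⟩
  -- the normal subgroup generated by `x` and its centralizer
  set A : Subgroup G := normalClosure ({x} : Set G) with hAdef
  haveI : A.Normal := normalClosure_normal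
  set K : Subgroup G := centralizer (A : Set G) with hK
  haveI : K.Normal := inferInstanceAs (centralizer (A : Set G)).Normal
  have hxA : x ∈ A := subset_normalClosure rfl
  have hKH : K ≤ H := fun z hz =>
    mem_centralizer_singleton_iff.2 (mem_centralizer_iff.1 hz x hxA).symm
  have hQK : Q ≤ K := by
    intro u hu
    have hA_le : A ≤ centralizer ({u} : Set G) := by
      rw [hAdef]
      refine (closure_le _).2 ?_
      intro z hz
      obtain ⟨x', hx', hconj⟩ := Group.mem_conjugatesOfSet_iff.1 hz
      rw [Set.mem_singleton_iff] at hx'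
      rw [hx'] at hconj
      obtain ⟨g, rfl⟩ := isConj_iff.1 hconj
      obtain ⟨p, hp, c, hc, rfl⟩ := hPH g
      refine mem_centralizer_singleton_iff.2 ?_
      have hux : u * x = x * u := mem_centralizer_singleton_iff.1 (hQH hu)
      have hup : u * p = p * u := hA' 2 Nat.prime_two P P.isPGroup' u (hQP hu) p hp
      have hcx : c * x = x * c := mem_centralizer_singleton_iff.1 hc
      have e : p * c * x * (p * c)⁻¹ = p * x * p⁻¹ := by
        calc p * c * x * (p * c)⁻¹ = p * (c * x) * c⁻¹ * p⁻¹ := by group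
          _ = p * x * p⁻¹ := by rw [hcx]; group
      rw [e]
      exact (((show Commute p u from hup.symm).mul_left (show Commute x u from hux.symm)).mul_left
          (show Commute p u from hup.symm).inv_left).eq
    exact mem_centralizer_iff.2 fun z hz => mem_centralizer_singleton_iff.1 (hA_le hz)
  by_contra hG
  by_cases hKsol : Group.IsSolvable K
  · -- the quotient by `K`
    have h1 : Group.IsSolvable (G ⧸ K) := by
      refine hall (hA'.quotient K) (H.map (QuotientGroup.mk' K)) ?_ ⟨a, ?_⟩
      · have hcard : Nat.card ↥(H.map (QuotientGroup.mk' K)) = K.relIndex H := by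
          rw [← relIndex_bot_left, ← Subgroup.map_bot (QuotientGroup.mk' K), relIndex_map_map,
            bot_sup_eq, QuotientGroup.ker_mk', sup_eq_left.2 hKH]
        rw [hcard, ← Nat.not_even_iff_odd, even_iff_two_dvd]
        intro h2
        refine P0.not_dvd_index (h2.trans (index_dvd_of_le ?_))
        intro u hu
        exact hQK ⟨u, hu, rfl⟩
      · rw [index_map_eq H (QuotientGroup.mk'_surjective K) (by rwa [QuotientGroup.ker_mk']), hx]
    exact hG ((Group.isSolvable_iff_subgroup_quotient K).2 ⟨hKsol, h1⟩)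
  obtain ⟨D, hDc, hDne, hDp⟩ := exists_perfect hKsol
  haveI := hDc
  set L : Subgroup G := D.map K.subtype with hL
  haveI : L.Normal := ConjAct.normal_of_characteristic_of_normal
  have hLK : L ≤ K := map_subtype_le _
  have hLL : ⁅L, L⁆ = L := by rw [hL, ← map_commutator, hDp]
  have hperf : commutator L = ⊤ := by
    apply map_injective L.subtype_injective
    rw [_root_.commutator_def, map_commutator, ← MonoidHom.range_eq_map, range_subtype, hLL]
  haveI : Nontrivial L := (nontrivial_iff_ne_bot L).2 fun e =>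
    hDne ((map_eq_bot_iff_of_injective D K.subtype_injective).1 e)
  -- `A` meets `L` trivially
  have hAL : ∀ z ∈ A, z ∈ L → z = 1 := by
    intro z hzA hzL
    have hzc : (⟨z, hzL⟩ : L) ∈ commutator L ⊓ center L := by
      refine ⟨hperf ▸ mem_top _, mem_center_iff.2 fun g => Subtype.ext ?_⟩
      exact (mem_centralizer_iff.1 (hLK g.2) z hzA).symm
    rw [(hA'.subgroup L).inf_center, mem_bot] at hzc
    exact congrArg Subtype.val hzc
  obtain ⟨⟨t, htL⟩, ⟨y, hyL⟩, ht, hy1, hyo, hty⟩ := (hA'.subgroup L).exists_real hperf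
  have hty' : t * y * t⁻¹ = y⁻¹ := congrArg Subtype.val hty
  rw [Subgroup.orderOf_mk] at hyo
  have hy1' : y ≠ 1 := fun e => hy1 (Subtype.ext e)
  set Cy : Subgroup G := H ⊓ centralizer ({y} : Set G) with hCy
  have hCxy : centralizer ({x * y} : Set G) = Cy := by
    ext g
    rw [mem_centralizer_singleton_iff, hCy, mem_inf, hH, mem_centralizer_singleton_iff,
      mem_centralizer_singleton_iff]
    constructor
    · intro h
      have e : x⁻¹ * (g * x * g⁻¹) = y * (g * y * g⁻¹)⁻¹ := by
        calc x⁻¹ * (g * x * g⁻¹) = x⁻¹ * (g * (x * y)) * g⁻¹ * (g * y * g⁻¹)⁻¹ := by group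
          _ = y * (g * y * g⁻¹)⁻¹ := by rw [h]; group
      have h1 : x⁻¹ * (g * x * g⁻¹) = 1 := hAL _
        (A.mul_mem (A.inv_mem hxA) ((inferInstance : A.Normal).conj_mem x hxA g))
        (e ▸ L.mul_mem hyL (L.inv_mem ((inferInstance : L.Normal).conj_mem y hyL g)))
      rw [inv_mul_eq_one] at h1
      have hgx : g * x = x * g := mul_inv_eq_iff_eq_mul.1 h1.symm
      refine ⟨hgx, ?_⟩
      have : x * (g * y) = x * (y * g) := by
        rw [← mul_assoc, ← hgx, mul_assoc, h, mul_assoc]
      exact mul_left_cancel this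
    · rintro ⟨h1, h2⟩
      rw [← mul_assoc, h1, mul_assoc, h2, mul_assoc]
  have hodd : ¬ 2 ∣ Cy.relIndex H := by
    intro h
    apply hmax (x * y)
    rw [hCxy, ← relIndex_mul_index (inf_le_left : Cy ≤ H), hx, pow_succ, mul_comm _ 2]
    exact Nat.mul_dvd_mul_right h _
  have htH : t ∈ H := hKH (hLK htL)
  have htt : t * t = 1 := by
    have := congrArg Subtype.val (pow_orderOf_eq_one (⟨t, htL⟩ : L))
    rw [ht] at this
    simpa [sq] using this
  refine hodd (two_dvd_relIndex inf_le_left htH ?_ ?_ (htt.symm ▸ one_mem _))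
  · intro h
    have h2 := mem_centralizer_singleton_iff.1 h.2
    rw [h2, mul_inv_cancel_right] at hty'
    exact hy1' (FGS75.eq_one_of_inv_eq_self_of_odd hty'.symm hyo)
  · refine mem_normalizer_iff.2 fun g => ?_
    have hti : t⁻¹ = t := inv_eq_of_mul_eq_one_right htt
    have key : ∀ g : G, g ∈ Cy → t * g * t⁻¹ ∈ Cy := by
      intro g hg
      refine ⟨H.mul_mem (H.mul_mem htH hg.1) (H.inv_mem htH), mem_centralizer_singleton_iff.2 ?_⟩
      have hgy : Commute g y⁻¹ :=
        (show Commute g y from mem_centralizer_singleton_iff.1 hg.2).inv_right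
      have hsy' : t * y⁻¹ * t⁻¹ = y := by
        rw [show t * y⁻¹ * t⁻¹ = (t * y * t⁻¹)⁻¹ by group, hty', inv_inv]
      calc t * g * t⁻¹ * y = t * g * t⁻¹ * (t * y⁻¹ * t⁻¹) := by rw [hsy']
        _ = t * (g * y⁻¹) * t⁻¹ := by group
        _ = t * (y⁻¹ * g) * t⁻¹ := by rw [hgy.eq]
        _ = (t * y⁻¹ * t⁻¹) * (t * g * t⁻¹) := by group
        _ = y * (t * g * t⁻¹) := by rw [hsy']
    refine ⟨key g, fun hg => ?_⟩
    have := key _ hg
    rw [hti] at this
    have e : t * (t * g * t) * t = g := by
      calc t * (t * g * t) * t = t * t * g * (t * t) := by group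
        _ = g := by rw [htt, one_mul, mul_one]
    rwa [e] at this

end Cfsg.Agent.S4133
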