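import Cfsg.Statements.S4157
import Cfsg.Agent.ClassCount.KulakoffTwo

set_option autoImplicit false
open Cfsg

namespace Cfsg.Agent.S4157

/-- Let G be a finite p-group of order p^m that is not cyclic and, when p = 2, not of maximal class (nilpotency class m − 1). Then for every 1 ≤ k < m the number of subgroups of G of order p^k is congruent to 1 + p modulo p². -/
theorem result {G : Type*} [Group G] [Finite G] {p : ℕ} [Fact p.Prime] (m : ℕ)
    (hG : Nat.card G = p ^ m) (hnc : ¬ IsCyclic G) (h2 : p = 2 → Group.nilpotencyClass G ≠ m - 1)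
    (k : ℕ) (hk1 : 1 ≤ k) (hk2 : k < m) :
    Nat.card {H : Subgroup G // Nat.card H = p ^ k} ≡ 1 + p [MOD p ^ 2] := by
  classical
  have hp : p.Prime := Fact.out
  by_cases hp2 : p = 2
  · subst hp2
    exact Cfsg.Agent.KulakoffTwo.count_two hG hnc (h2 rfl) hk1 hk2
  have hdvd : p ^ (k + 1) ∣ Nat.card G := hG ▸ pow_dvd_pow p hk2
  have hP : IsPGroup p G := IsPGroup.of_card hG
  obtain ⟨P⟩ : Nonempty (Sylow p G) := inferInstance
  have hPt : (P : Subgroup G) = ⊤ := (P.3 (Q := ⊤) (fun g => by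
    obtain ⟨n, hn⟩ := hP g.1
    exact ⟨n, Subtype.ext (by simpa using hn)⟩) le_top).symm
  have hPnc : ¬ IsCyclic (P : Subgroup G) := fun h => hnc (by
    rw [hPt] at h
    haveI := h
    exact isCyclic_of_surjective (⊤ : Subgroup G).subtype fun x => ⟨⟨x, Subgroup.mem_top x⟩, rfl⟩)
  set c := Nat.card {H : Subgroup G // Nat.card H = p ^ (k + 1) ∧ IsCyclic H} with hc
  have h1 := Cfsg.Agent.OrderCount.sylow_dvd hp2 P hPnc (s := k + 1) (by omega)
  rw [Nat.card_congr (Equiv.subtypeEquivRight (q := fun x : G =>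
    orderOf x = p ^ (k + 1) ∧ x ∈ (⊤ : Subgroup G)) fun x => ⟨fun h => ⟨h, trivial⟩, fun h => h.1⟩),
    Cfsg.Agent.OrderCount.card_orderOf_eq_totient_mul, Nat.totient_prime_pow hp (by omega),
    Nat.card_congr (Equiv.subtypeEquivRight (q := fun H : Subgroup G =>
      Nat.card H = p ^ (k + 1) ∧ IsCyclic H) fun H =>
        ⟨fun h => ⟨h.2.1, h.1⟩, fun h => ⟨h.2, h.1, le_top⟩⟩), ← hc,
    show k + 1 - 1 = k from rfl, pow_succ, mul_assoc] at h1
  have hm : c ≡ 0 [MOD p] := Nat.modEq_zero_iff_dvd.2 ((hp.dvd_mul.1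
    (Nat.dvd_of_mul_dvd_mul_left (pow_pos hp.pos k) h1)).resolve_left fun h => by
      have := Nat.le_of_dvd (by have := hp.two_le; omega) h
      have := hp.pos
      omega)
  have h := Cfsg.Agent.S4237.linking' (G := G) hp hp2 hdvd
  rw [← hc] at h
  rw [← ZMod.natCast_eq_natCast_iff, h]
  have h' := Nat.ModEq.mul_right' p hm
  rw [zero_mul, ← pow_two] at h'
  have h'' := (ZMod.natCast_eq_natCast_iff _ _ _).2 h'
  push_cast at h'' ⊢
  linear_combination (-1 : ZMod (p ^ 2)) * h''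

end Cfsg.Agent.S4157
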