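import Cfsg.Statements.S4187
import Cfsg.Agent.RealGraph.Reduce
-- import your own Cfsg.Agent.* helpers here

set_option autoImplicit false
open Cfsg

namespace Cfsg.Agent.S4187

open Cfsg.Agent.RealGraph in
/-- The oriented form: `2` lies in the first part. -/
theorem oriented {G : Type*} [Group G] [Finite G] (π₁ π₂ : Set ℕ) (h₂ : π₂.Nonempty)
    (h2 : 2 ∈ π₁)
    (hcover : ∀ q : ℕ, q.Prime → (∃ x : G, IsConj x x⁻¹ ∧ q ∣ cls x) → q ∈ π₁ ∨ q ∈ π₂)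
    (hsub : ∀ q ∈ π₂, q.Prime ∧ ∃ x : G, IsConj x x⁻¹ ∧ q ∣ cls x)
    (hdisj : Disjoint π₁ π₂)
    (hnoedge : ∀ a ∈ π₁, ∀ b ∈ π₂, ∀ x : G, IsConj x x⁻¹ → ¬ (a ∣ cls x ∧ b ∣ cls x)) :
    Group.IsSolvable G := by
  have hyp : Hyp π₁ G := ⟨h2, fun x hx => by
    by_cases h : ∀ p, p.Prime → p ∣ cls x → p ∈ π₁
    · exact Or.inl h
    push Not at h
    obtain ⟨p, hp, hpx, hpn⟩ := h
    exact Or.inr fun q _ hqx hq1 =>
      hnoedge q hq1 p ((hcover p hp ⟨x, hx, hpx⟩).resolve_left hpn) x hx ⟨hqx, hpx⟩⟩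
  obtain ⟨b, hb⟩ := h₂
  obtain ⟨hbp, t, ht, hbt⟩ := hsub b hb
  have ht2 : t * t = 1 := by
    by_contra h
    exact hnoedge 2 h2 b hb t ht ⟨two_dvd_cls ht h, hbt⟩
  refine solvable_of_hyp hyp ht2 (fun p _ hpt hp1 => hnoedge p hp1 b hb t ht ⟨hpt, hbt⟩) fun e => ?_
  exact hbp.one_lt.ne' (Nat.dvd_one.1 (e ▸ hbt))

/-- Let G be a finite group. Call an element real when it is conjugate to its inverse, and consider the graph whose vertices are the primes dividing the size of some conjugacy class of real elements, two distinct primes being adjacent when their product divides such a class size. If this graph is disconnected — its vertex set splits into two non-empty parts such that no real class size is divisible by a prime from each part — then G is solvable. -/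
theorem result {G : Type*} [Group G] [Finite G] (π₁ π₂ : Set ℕ) (h₁ : π₁.Nonempty) (h₂ : π₂.Nonempty) (hcover : ∀ q : ℕ, q.Prime → (∃ n ∈ {n : ℕ | ∃ x : G, IsConj x x⁻¹ ∧ (Subgroup.centralizer ({x} : Set G)).index = n}, q ∣ n) → q ∈ π₁ ∨ q ∈ π₂) (hsub : ∀ q ∈ π₁ ∪ π₂, q.Prime ∧ ∃ n ∈ {n : ℕ | ∃ x : G, IsConj x x⁻¹ ∧ (Subgroup.centralizer ({x} : Set G)).index = n}, q ∣ n) (hdisj : Disjoint π₁ π₂) (hnoedge : ∀ a ∈ π₁, ∀ b ∈ π₂, ∀ n ∈ {n : ℕ | ∃ x : G, IsConj x x⁻¹ ∧ (Subgroup.centralizer ({x} : Set G)).index = n}, ¬ (a ∣ n ∧ b ∣ n)) : Group.IsSolvable G := by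
  have hc : ∀ q : ℕ, q.Prime → (∃ x : G, IsConj x x⁻¹ ∧ q ∣ RealGraph.cls x) →
      q ∈ π₁ ∨ q ∈ π₂ := fun q hq ⟨x, hx, hqx⟩ => hcover q hq ⟨_, ⟨x, hx, rfl⟩, hqx⟩
  have hs : ∀ q ∈ π₁ ∪ π₂, q.Prime ∧ ∃ x : G, IsConj x x⁻¹ ∧ q ∣ RealGraph.cls x := fun q hq => by
    obtain ⟨hp, n, ⟨x, hx, rfl⟩, hqn⟩ := hsub q hq
    exact ⟨hp, x, hx, hqn⟩
  have he : ∀ a ∈ π₁, ∀ b ∈ π₂, ∀ x : G, IsConj x x⁻¹ →
      ¬ (a ∣ RealGraph.cls x ∧ b ∣ RealGraph.cls x) := fun a ha b hb x hx =>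
    hnoedge a ha b hb _ ⟨x, hx, rfl⟩
  by_cases hno : ∀ x : G, ¬ RealGraph.Nice x
  · exact (RealGraph.structure_of_no_nice_aux _ G rfl hno).2
  push Not at hno
  obtain ⟨y, hy⟩ := hno
  rcases hc 2 Nat.prime_two ⟨y, hy.1, RealGraph.two_dvd_cls hy.1 hy.sq_ne_one⟩ with h | h
  · exact oriented π₁ π₂ h₂ h hc (fun q hq => hs q (Or.inr hq)) hdisj he
  · exact oriented π₂ π₁ h₁ h (fun q hq hx => (hc q hq hx).symm) (fun q hq => hs q (Or.inl hq))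
      hdisj.symm (fun a ha b hb x hx e => he b hb a ha x hx ⟨e.2, e.1⟩)

end Cfsg.Agent.S4187
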