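import Cfsg.Statements.S4235
-- import your own Cfsg.Agent.* helpers here
import Mathlib
import Cfsg.Agent.FGS75.CCKer.Sys

set_option autoImplicit false
open scoped Pointwise
open Cfsg

namespace Cfsg.Agent.S4235


/-- Let G be a finite group. Call a subgroup maximal solvable if it is solvable and not properly contained in a solvable subgroup. Suppose F assigns to each maximal solvable subgroup M a normal subgroup F(M) of M such that: every element of M outside F(M) centralizes no non-identity element of F(M); F(M) meets each conjugate g F(M) g⁻¹ with g outside M trivially; and F(M) is nontrivial unless M is abelian. Then G is solvable, or G is isomorphic to SL(2, K) for a finite field K of characteristic 2 with at least 4 elements, or G is isomorphic to a Suzuki group. -/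
theorem result {G : Type*} [Group G] [Finite G] (F : Subgroup G → Subgroup G)
    (h : ∀ M : Subgroup G, (Group.IsSolvable M ∧ ∀ M' : Subgroup G, M < M' → ¬ Group.IsSolvable M') →
      F M ≤ M ∧ M ≤ Subgroup.normalizer (F M : Set G) ∧
      (∀ a ∈ M, a ∉ F M → ∀ x ∈ F M, x * a = a * x → x = 1) ∧
      (∀ g : G, g ∉ M → F M ⊓ (MulAut.conj g • F M) = ⊥) ∧
      (F M ≠ ⊥ ∨ IsMulCommutative M)) :
    Group.IsSolvable G ∨
      (∃ (K : Type) (_ : Field K) (_ : Fintype K), (∃ n : ℕ, 2 ≤ n ∧ Fintype.card K = 2 ^ n) ∧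
        Nonempty (G ≃* Matrix.SpecialLinearGroup (Fin 2) K)) ∨
      Cfsg.Lie.IsoSuzuki G := by
  classical
  by_cases hns : Group.IsSolvable G
  · exact Or.inl hns
  refine Or.inr ?_
  haveI : Fact (Nat.Prime 2) := ⟨Nat.prime_two⟩
  obtain ⟨S⟩ := (inferInstance : Nonempty (Sylow 2 G))
  have hNsol : Group.IsSolvable (FGS75.CCKer.nS S) := by
    haveI hn : ((S : Subgroup G).subgroupOf (FGS75.CCKer.nS S)).Normal :=
      (Subgroup.normal_subgroupOf_iff_le_normalizer Subgroup.le_normalizer).mpr le_rfl
    haveI : Group.IsNilpotent (S : Subgroup G) := S.isPGroup'.isNilpotent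
    haveI : Group.IsSolvable (FGS75.CCKer.nS S ⧸ (S : Subgroup G).subgroupOf (FGS75.CCKer.nS S)) := by
      refine Cfsg.Agent.S0205.result (Nat.odd_iff.mpr (Nat.two_dvd_ne_zero.mp fun h2 => ?_))
      exact S.not_dvd_index (h2.trans
        ⟨(FGS75.CCKer.nS S).index, (Subgroup.relIndex_mul_index Subgroup.le_normalizer).symm⟩)
    exact Group.isSolvable_of_ker_le_range (Subgroup.inclusion (Subgroup.le_normalizer (H := (S : Subgroup G))))
      (QuotientGroup.mk' ((S : Subgroup G).subgroupOf (FGS75.CCKer.nS S))) (by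
        intro x hx
        rw [QuotientGroup.ker_mk'] at hx
        exact ⟨⟨x, hx⟩, rfl⟩)
  obtain ⟨M, hNM, hM⟩ : ∃ M : Subgroup G, FGS75.CCKer.nS S ≤ M ∧
      (Group.IsSolvable M ∧ ∀ M' : Subgroup G, M < M' → ¬ Group.IsSolvable M') := by
    obtain ⟨M, hle, hmax⟩ := Set.Finite.exists_le_maximal
      (s := {M : Subgroup G | Group.IsSolvable M}) (Set.toFinite _) hNsol
    exact ⟨M, hle, hmax.1, fun M' hlt hs => hlt.not_ge (hmax.2 hs hlt.le)⟩
  obtain ⟨hle, hnor, hfpf, hti, hne⟩ := h M hM
  have hne' : F M ≠ ⊥ := by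
    refine hne.resolve_right fun hab => hns ?_
    haveI := hab
    obtain ⟨P, N, hN, hcomp⟩ := Transfer.hasNormalPComplement_of_normalizer_le_centralizer S
      fun g hg => Subgroup.mem_centralizer_iff.mpr fun s hs => congrArg Subtype.val
        (mul_comm' (⟨s, hNM (Subgroup.le_normalizer hs)⟩ : M) ⟨g, hNM hg⟩)
    haveI := hN
    haveI : Group.IsSolvable N := Cfsg.Agent.S0205.result (Nat.odd_iff.mpr (Nat.two_dvd_ne_zero.mp (by
      rw [← hcomp.index_eq_card]; exact P.not_dvd_index)))
    haveI : Group.IsNilpotent (P : Subgroup G) := P.isPGroup'.isNilpotent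
    haveI : Group.IsSolvable (G ⧸ N) := by
      refine Group.isSolvable_of_surjective (f := (QuotientGroup.mk' N).comp (P : Subgroup G).subtype)
        fun y => ?_
      obtain ⟨g, rfl⟩ := QuotientGroup.mk'_surjective N y
      obtain ⟨⟨n, p⟩, hnp, -⟩ := hcomp.existsUnique g
      refine ⟨⟨p, p.2⟩, ?_⟩
      rw [← hnp]
      show QuotientGroup.mk' N p = QuotientGroup.mk' N (n * p)
      rw [map_mul, show QuotientGroup.mk' N (n : G) = 1 from (QuotientGroup.eq_one_iff _).mpr n.2,
        one_mul]
    exact Group.isSolvable_of_ker_le_range N.subtype (QuotientGroup.mk' N)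
      (by rw [QuotientGroup.ker_mk', Subgroup.range_subtype])
  obtain ⟨z, hD⟩ := (FGS75.CCKer.sys_of_hyp hM hle hnor hfpf hti hne').exists_dat hns hNM
  exact hD.classify

end Cfsg.Agent.S4235
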