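import Cfsg.Statements.S4237
import Cfsg.Agent.OrderCount.Miller
import Cfsg.Agent.Lib.SubgroupCount
import Cfsg.Agent.PGroup.Frattini

set_option autoImplicit false
open Cfsg

namespace Cfsg.Agent.S4237

open MulAction
open scoped Pointwise

section Choose
variable {p : ℕ}

theorem choose_mul_neg_one (hp : p.Prime) {i : ℕ} (hi0 : i ≠ 0) (hip : i < p) {N : ℕ} (hN : 0 < N) :
    ∀ j < p, ((p.choose i : ℕ) : ZMod (p ^ 2)) * (((p * N - 1).choose j : ℕ) : ZMod (p ^ 2)) =
      (p.choose i : ZMod (p ^ 2)) * (-1) ^ j := by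
  intro j
  induction j with
  | zero => simp
  | succ j ih =>
    intro hj
    have hM : p * N - 1 + 1 = p * N := by have := Nat.mul_pos hp.pos hN; omega
    have hd : p ∣ (p * N).choose (j + 1) := by
      have h := Nat.add_one_mul_choose_eq (p * N - 1) j
      rw [hM] at h
      exact (hp.dvd_mul.1 (h ▸ Dvd.dvd.mul_right (dvd_mul_right p N) _)).resolve_right
        (fun h' => by have := Nat.le_of_dvd (by omega) h'; omega)
    have hz : ((p.choose i * (p * N).choose (j + 1) : ℕ) : ZMod (p ^ 2)) = 0 := by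
      rw [ZMod.natCast_eq_zero_iff, pow_two]
      exact mul_dvd_mul (hp.dvd_choose_self hi0 hip) hd
    rw [← hM, Nat.choose_succ_succ', Nat.cast_mul, Nat.cast_add, mul_add, ih (by omega)] at hz
    rw [pow_succ (-1 : ZMod (p ^ 2)) j]
    linear_combination hz

theorem choose_pred_cast (hp : p.Prime) (hp2 : p ≠ 2) :
    ∀ N, 0 < N → (((p * N - 1).choose (p - 1) : ℕ) : ZMod (p ^ 2)) = 1 := by
  intro N hN
  induction N, hN using Nat.le_induction with
  | base => rw [show p * Nat.succ 0 = p by simp, Nat.choose_self, Nat.cast_one]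
  | succ N hN ih =>
    have hpN := Nat.mul_pos hp.pos hN
    have hev : Even (p - 1) := by
      obtain ⟨m, hm⟩ := hp.odd_of_ne_two hp2
      exact ⟨m, by omega⟩
    rw [show p * (N + 1) - 1 = p + (p * N - 1) by rw [mul_add, mul_one]; omega,
      Nat.add_choose_eq, Finset.Nat.sum_antidiagonal_eq_sum_range_succ_mk, Nat.cast_sum,
      show (p - 1).succ = p from by have := hp.pos; omega]
    have hterm : ∀ i ∈ Finset.range p, ((p.choose (i, p - 1 - i).1 *
        (p * N - 1).choose (i, p - 1 - i).2 : ℕ) : ZMod (p ^ 2)) =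
        (p.choose i : ZMod (p ^ 2)) * (-1) ^ (p - 1 - i) := by
      intro i hi
      rw [Finset.mem_range] at hi
      rcases Nat.eq_zero_or_pos i with rfl | hi0
      · simp [ih, hev.neg_one_pow]
      · rw [Nat.cast_mul]
        exact choose_mul_neg_one hp (by omega) hi hN _ (by omega)
    rw [Finset.sum_congr rfl hterm]
    have hsign : ∀ i ∈ Finset.range p, (p.choose i : ZMod (p ^ 2)) * (-1) ^ (p - 1 - i) =
        ((((-1) ^ i * p.choose i : ℤ)) : ZMod (p ^ 2)) := by
      intro i hi
      rw [Finset.mem_range] at hi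
      push_cast
      rw [mul_comm]
      congr 1
      rw [neg_one_pow_eq_pow_mod_two, neg_one_pow_eq_pow_mod_two (n := i)]
      congr 1
      obtain ⟨m, hm⟩ := hev
      omega
    rw [Finset.sum_congr rfl hsign, ← Int.cast_sum]
    have halt := Int.alternating_sum_range_choose_of_ne hp.ne_zero
    rw [Finset.sum_range_succ, Nat.choose_self, (hp.odd_of_ne_two hp2).neg_one_pow, Nat.cast_one] at halt
    rw [show (∑ i ∈ Finset.range p, (-1 : ℤ) ^ i * (p.choose i : ℤ)) = 1 by linarith, Int.cast_one]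

end Choose

section Count

theorem card_over {V : Type*} [Group V] (D : Subgroup V) [D.Normal] (n : ℕ) :
    Nat.card {M : Subgroup V // M.index = n ∧ D ≤ M} =
      Nat.card {Q : Subgroup (V ⧸ D) // Q.index = n} :=
  Nat.card_congr
    { toFun := fun M => ⟨M.1.map (QuotientGroup.mk' D), by
        rw [← Subgroup.index_comap_of_surjective _ (QuotientGroup.mk'_surjective D),
          Subgroup.comap_map_eq, QuotientGroup.ker_mk', sup_eq_left.2 M.2.2]
        exact M.2.1⟩
      invFun := fun Q => ⟨Q.1.comap (QuotientGroup.mk' D), by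
        rw [Subgroup.index_comap_of_surjective _ (QuotientGroup.mk'_surjective D)]; exact Q.2,
        fun x hx => by
          rw [Subgroup.mem_comap, show QuotientGroup.mk' D x = 1 from
            (QuotientGroup.eq_one_iff x).2 hx]
          exact one_mem _⟩
      left_inv := fun M => Subtype.ext (by
        show (M.1.map _).comap _ = M.1
        rw [Subgroup.comap_map_eq, QuotientGroup.ker_mk', sup_eq_left.2 M.2.2])
      right_inv := fun Q => Subtype.ext
        (Subgroup.map_comap_eq_self_of_surjective (QuotientGroup.mk'_surjective D) _) }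

theorem card_lines {W : Type*} [Group W] [Finite W] {p : ℕ} (hp : p.Prime)
    (hW : Nat.card W = p ^ 2) (hexp : ∀ w : W, w ^ p = 1) :
    Nat.card {Q : Subgroup W // Q.index = p} = p + 1 := by
  classical
  haveI := Fact.mk hp
  have h1 : Nat.card {Q : Subgroup W // Q.index = p} =
      Nat.card {A : Subgroup W // IsCyclic A ∧ Nat.card A = p ∧ A ≤ ⊤} := by
    refine Nat.card_congr (Equiv.subtypeEquivRight fun Q => ?_)
    have h := Q.card_mul_index
    rw [hW, pow_two] at h
    constructor
    · intro hQ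
      rw [hQ] at h
      have hc := Nat.eq_of_mul_eq_mul_right hp.pos h
      exact ⟨isCyclic_of_prime_card hc, hc, le_top⟩
    · rintro ⟨-, hc, -⟩
      rw [hc] at h
      exact Nat.eq_of_mul_eq_mul_left hp.pos h
  have h2 := Cfsg.Agent.OrderCount.card_orderOf_eq_totient_mul (⊤ : Subgroup W) p
  rw [Nat.totient_prime hp, ← h1] at h2
  haveI := Fintype.ofFinite W
  have h3 : Nat.card {x : W // orderOf x = p ∧ x ∈ (⊤ : Subgroup W)} = p ^ 2 - 1 := by
    rw [Nat.card_congr (Equiv.subtypeEquivRight (q := fun x : W => ¬ x = 1) fun x =>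
      ⟨fun h hx => hp.ne_one (by rw [← h.1, hx, orderOf_one]),
        fun hx => ⟨orderOf_eq_prime (hexp x) hx, trivial⟩⟩), Nat.card_eq_fintype_card,
      Fintype.card_subtype_compl, Fintype.card_subtype_eq, ← Nat.card_eq_fintype_card, hW]
  rw [h3] at h2
  set n := Nat.card {Q : Subgroup W // Q.index = p}
  obtain ⟨q, rfl⟩ : ∃ q, p = q + 1 := ⟨p - 1, by have := hp.pos; omega⟩
  have hq : 0 < q := by have := hp.two_le; omega
  refine Nat.eq_of_mul_eq_mul_left hq ?_
  rw [show q + 1 - 1 = q from rfl] at h2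
  rw [← h2, show (q + 1) ^ 2 = q * (q + 1 + 1) + 1 by ring, Nat.add_sub_cancel]

theorem card_hyperplanes {V : Type*} [Group V] [Finite V] {p d : ℕ} (hp : p.Prime)
    (hV : Nat.card V = p ^ d) (hd : 2 ≤ d) (hcomm : IsMulCommutative V)
    (hexp : ∀ v : V, v ^ p = 1) :
    Nat.card {M : Subgroup V // M.index = p} ≡ 1 + p [MOD p ^ 2] := by
  classical
  haveI := Fact.mk hp
  haveI := Fintype.ofFinite V
  obtain ⟨e, rfl⟩ : ∃ e, d = e + 2 := ⟨d - 2, by omega⟩
  obtain ⟨M0, hM0⟩ := Sylow.exists_subgroup_card_pow_prime (G := V) p (n := e + 1)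
    (hV ▸ pow_dvd_pow p (by omega))
  have idx : ∀ (A : Subgroup V) (i j : ℕ), i + j = e + 2 → A.index = p ^ i →
      Nat.card A = p ^ j := by
    intro A i j hij hA
    have h := A.card_mul_index
    rw [hV, hA, ← hij, pow_add, mul_comm (p ^ i)] at h
    exact Nat.eq_of_mul_eq_mul_right (pow_pos hp.pos i) h
  have idx' : ∀ (A : Subgroup V) (i j : ℕ), i + j = e + 2 → Nat.card A = p ^ j →
      A.index = p ^ i := by
    intro A i j hij hA
    have h := A.card_mul_index
    rw [hV, hA, ← hij, pow_add, mul_comm (p ^ i)] at h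
    exact Nat.eq_of_mul_eq_mul_left (pow_pos hp.pos j) h
  have hM0i : M0.index = p := by rw [idx' M0 1 (e + 1) (by omega) hM0, pow_one]
  set ℳ : Finset (Subgroup V) := Finset.univ.filter fun M => M.index = p with hℳ
  set 𝒟 : Finset (Subgroup V) := Finset.univ.filter fun D => D.index = p ^ 2 ∧ D ≤ M0 with h𝒟
  have hmaps : ∀ M ∈ ℳ.erase M0, M ⊓ M0 ∈ 𝒟 := by
    intro M hM
    rw [Finset.mem_erase, hℳ, Finset.mem_filter] at hM
    refine Finset.mem_filter.2 ⟨Finset.mem_univ _, ?_, inf_le_right⟩
    obtain ⟨i, -, hi⟩ := (Nat.dvd_prime_pow hp).1 (hV ▸ Subgroup.index_dvd_card (M ⊓ M0))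
    have h1 : (M ⊓ M0).index ≤ p ^ 2 := by
      rw [pow_two]
      calc (M ⊓ M0).index ≤ M.index * M0.index := Subgroup.index_inf_le
        _ = p * p := by rw [hM.2.2, hM0i]
    rw [hi] at h1 ⊢
    have hi2 := (Nat.pow_le_pow_iff_right hp.one_lt).1 h1
    have h2 : p ∣ p ^ i := by
      rw [← hi]; conv_lhs => rw [← hM.2.2]
      exact Subgroup.index_dvd_of_le inf_le_left
    have hi0 : i ≠ 0 := by rintro rfl; rw [pow_zero, Nat.dvd_one] at h2; exact hp.ne_one h2
    have hi1 : i ≠ 1 := by
      rintro rfl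
      rw [pow_one] at hi
      have hc : ∀ A : Subgroup V, A.index = p → Nat.card A = p ^ (e + 1) := fun A hA =>
        idx A 1 (e + 1) (by omega) (by rw [hA, pow_one])
      have e1 : M ⊓ M0 = M := Subgroup.eq_of_le_of_card_ge inf_le_left
        (by rw [hc M hM.2.2, hc _ hi])
      have e2 : M ⊓ M0 = M0 := Subgroup.eq_of_le_of_card_ge inf_le_right
        (by rw [hc M0 hM0i, hc _ hi])
      exact hM.1 (e1.symm.trans e2)
    rw [show i = 2 by omega]
  have hfib : ∀ D ∈ 𝒟, ((ℳ.erase M0).filter fun M => M ⊓ M0 = D).card = p := by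
    intro D hD
    obtain ⟨-, hDi, hDle⟩ := Finset.mem_filter.1 hD
    haveI : D.Normal := ⟨fun x hx g => by rwa [hcomm.is_comm.comm g x, mul_inv_cancel_right]⟩
    have h1 : ((ℳ.erase M0).filter fun M => M ⊓ M0 = D) =
        (ℳ.filter fun M => D ≤ M).erase M0 := by
      ext M
      simp only [Finset.mem_filter, Finset.mem_erase, hℳ, Finset.mem_univ, true_and]
      constructor
      · rintro ⟨⟨h1, h2⟩, h3⟩
        exact ⟨h1, h2, h3 ▸ inf_le_left⟩
      · rintro ⟨h1, h2, h3⟩
        refine ⟨⟨h1, h2⟩, (Subgroup.eq_of_le_of_card_ge (le_inf h3 hDle) ?_).symm⟩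
        obtain ⟨-, hi, -⟩ := Finset.mem_filter.1
          (hmaps M (Finset.mem_erase.2 ⟨h1, Finset.mem_filter.2 ⟨Finset.mem_univ _, h2⟩⟩))
        rw [idx D 2 e (by omega) hDi, idx _ 2 e (by omega) hi]
    have hW : Nat.card (V ⧸ D) = p ^ 2 := hDi
    have h2 : (ℳ.filter fun M => D ≤ M).card = p + 1 := by
      rw [← card_lines hp hW (fun w => by
        obtain ⟨v, rfl⟩ := QuotientGroup.mk_surjective w
        rw [← QuotientGroup.mk_pow, hexp, QuotientGroup.mk_one]), ← card_over D p,
        Nat.card_eq_fintype_card, Fintype.card_subtype, hℳ, Finset.filter_filter]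
    rw [h1, Finset.card_erase_of_mem (by
      simp only [Finset.mem_filter, hℳ, Finset.mem_univ, true_and]; exact ⟨hM0i, hDle⟩), h2]
    omega
  have hD : 𝒟.card ≡ 1 [MOD p] := by
    have h := Cfsg.Agent.SubgroupCount.card_subgroups_modEq_one (G := M0) (p := p) (β := e) hp
      (hM0 ▸ pow_dvd_pow p (by omega))
    have e1 : 𝒟.card = Nat.card {E : Subgroup M0 // Nat.card E = p ^ e} := ?_
    · rw [e1]; exact h
    rw [h𝒟, ← Fintype.card_subtype, ← Nat.card_eq_fintype_card]
    refine Nat.card_congr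
      { toFun := fun D => ⟨D.1.subgroupOf M0, by
          rw [Nat.card_congr (Subgroup.subgroupOfEquivOfLe D.2.2).toEquiv]
          exact idx _ 2 e (by omega) D.2.1⟩
        invFun := fun E => ⟨E.1.map M0.subtype, idx' _ 2 e (by omega)
          (by rw [Subgroup.card_map_of_injective M0.subtype_injective]; exact E.2),
          Subgroup.map_subtype_le _⟩
        left_inv := fun D => Subtype.ext (Subgroup.map_subgroupOf_eq_of_le D.2.2)
        right_inv := fun E => Subtype.ext
          (Subgroup.comap_map_eq_self_of_injective M0.subtype_injective _) }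
  have hcard : ℳ.card = 1 + 𝒟.card * p := by
    rw [← Finset.card_erase_add_one (show M0 ∈ ℳ by simp [hℳ, hM0i]), add_comm,
      Finset.card_eq_sum_card_fiberwise hmaps, Finset.sum_congr rfl hfib, Finset.sum_const,
      smul_eq_mul]
  rw [Nat.card_eq_fintype_card, Fintype.card_subtype, ← hℳ, hcard, pow_two]
  have := (Nat.ModEq.mul_right' p hD).add_left 1
  simpa using this

/-- The subgroups of index `p` of a non-cyclic `p`-group. -/
theorem card_maximal {H : Type*} [Group H] [Finite H] {p : ℕ} [Fact p.Prime] (hH : IsPGroup p H)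
    (hnc : ¬ IsCyclic H) : Nat.card {M : Subgroup H // M.index = p} ≡ 1 + p [MOD p ^ 2] := by
  have hp : p.Prime := Fact.out
  have hcont : ∀ M : Subgroup H, M.index = p → frattini H ≤ M := by
    intro M hM
    refine frattini_le_coatom ⟨fun h => ?_, fun K hK => ?_⟩
    · rw [h, Subgroup.index_top] at hM
      exact hp.ne_one hM.symm
    · rcases (Nat.dvd_prime hp).1 (hM ▸ Subgroup.index_dvd_of_le hK.le) with h | h
      · exact Subgroup.index_eq_one.1 h
      · exfalso
        refine hK.ne (Subgroup.eq_of_le_of_card_ge hK.le (le_of_eq ?_))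
        have h1 := M.card_mul_index
        have h2 := K.card_mul_index
        rw [hM] at h1
        rw [h, ← h1] at h2
        exact Nat.eq_of_mul_eq_mul_right hp.pos h2
  rw [Nat.card_congr (Equiv.subtypeEquivRight (q := fun M : Subgroup H => M.index = p ∧ frattini H ≤ M)
    fun M => ⟨fun h => ⟨h, hcont M h⟩, fun h => h.1⟩), card_over]
  obtain ⟨d, hd⟩ := Cfsg.Agent.PGroup.exists_index_frattini_eq_pow hH
  have hd2 : 2 ≤ d := by
    by_contra hlt
    refine hnc (Cfsg.Agent.PGroup.isCyclic_of_index_frattini_le hH ?_)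
    rw [hd]
    calc p ^ d ≤ p ^ 1 := Nat.pow_le_pow_right hp.pos (by omega)
      _ = p := pow_one p
  refine card_hyperplanes hp ((Subgroup.index_eq_card _).symm.trans hd) hd2
    ((Subgroup.Normal.quotient_commutative_iff_commutator_le).2
      (Cfsg.Agent.PGroup.commutator_le_frattini hH)) fun v => ?_
  obtain ⟨x, rfl⟩ := QuotientGroup.mk_surjective v
  rw [← QuotientGroup.mk_pow, QuotientGroup.eq_one_iff]
  exact Cfsg.Agent.PGroup.pow_mem_frattini hH x

variable {G : Type*} [Group G] [Finite G]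

/-- Subsets of size `|K| j` invariant under `K` correspond to `j`-subsets of `G ⧸ K`. -/
theorem card_invariant [DecidableEq G] (K : Subgroup G) (j : ℕ) :
    Nat.card {A : Finset G // A.card = Nat.card K * j ∧ K ≤ stabilizer G A} =
      K.index.choose j := by
  classical
  haveI := Fintype.ofFinite G
  rw [Subgroup.index_eq_card, Nat.card_eq_fintype_card (α := G ⧸ K), ← Fintype.card_finset_len,
    ← Nat.card_eq_fintype_card]
  let F : Finset (G ⧸ K) → Finset G := fun Q => Finset.univ.filter fun x => ((x⁻¹ : G) : G ⧸ K) ∈ Q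
  have hF : ∀ Q x, x ∈ F Q ↔ ((x⁻¹ : G) : G ⧸ K) ∈ Q := by simp [F]
  have hcardF : ∀ Q : Finset (G ⧸ K), (F Q).card = Nat.card K * Q.card := by
    intro Q
    rw [← Nat.card_eq_finsetCard, ← Nat.card_eq_finsetCard Q, ← Nat.card_prod]
    refine Nat.card_congr (Equiv.trans ?_ (QuotientGroup.preimageMkEquivSubgroupProdSet K
      (Q : Set (G ⧸ K))))
    exact (Equiv.inv G).subtypeEquiv fun x => by simp [hF]
  have hstab : ∀ Q, K ≤ stabilizer G (F Q) := by
    intro Q k hk
    rw [mem_stabilizer_iff]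
    ext x
    rw [← Finset.inv_smul_mem_iff, hF, hF]
    have : (((k⁻¹ • x)⁻¹ : G) : G ⧸ K) = ((x⁻¹ : G) : G ⧸ K) := by
      rw [QuotientGroup.eq]; simpa [mul_assoc] using K.inv_mem hk
    rw [this]
  have hinj : Function.Injective F := by
    intro Q Q' h
    ext q
    obtain ⟨g, rfl⟩ := QuotientGroup.mk_surjective q
    simpa [hF] using Finset.ext_iff.1 h g⁻¹
  symm
  refine Nat.card_eq_of_bijective (fun Q : {Q : Finset (G ⧸ K) // Q.card = j} =>
    (⟨F Q.1, by rw [hcardF, Q.2], hstab _⟩ :
      {A : Finset G // A.card = Nat.card K * j ∧ K ≤ stabilizer G A}))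
    ⟨fun a b h => Subtype.ext (hinj (congrArg Subtype.val h)), ?_⟩
  rintro ⟨A, hA, hAK⟩
  set Q : Finset (G ⧸ K) := A.image fun x => ((x⁻¹ : G) : G ⧸ K)
  have hFQ : F Q = A := by
    ext x
    rw [hF]
    constructor
    · intro hx
      obtain ⟨y, hy, hyx⟩ := Finset.mem_image.1 hx
      rw [QuotientGroup.eq, inv_inv] at hyx
      have h1 : x * y⁻¹ ∈ stabilizer G A := hAK (by simpa using K.inv_mem hyx)
      rw [← mem_stabilizer_iff.1 h1]
      simpa using Finset.smul_mem_smul_finset (a := x * y⁻¹) hy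
    · exact fun hx => Finset.mem_image.2 ⟨x, hx, rfl⟩
  refine ⟨⟨Q, ?_⟩, Subtype.ext hFQ⟩
  have h := hcardF Q
  rw [hFQ, hA] at h
  exact (Nat.eq_of_mul_eq_mul_left Nat.card_pos h).symm

/-- The fundamental congruence linking the numbers of subgroups of order `p ^ b`, `p ^ (b + 1)`. -/
theorem linking {p b N : ℕ} (hp : p.Prime) (hG : Nat.card G = p ^ (b + 1) * N) :
    let s := fun i => Nat.card {H : Subgroup G // Nat.card H = p ^ i}
    ((p ^ (b + 1) * N - 1).choose (p ^ (b + 1) - 1) +
      ∑ᶠ H : {H : Subgroup G // Nat.card H = p ^ (b + 1)},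
        Nat.card {K : Subgroup G // Nat.card K = p ^ b ∧ K ≤ H.1}) ≡
      s (b + 1) + s b * (p * N - 1).choose (p - 1) [MOD p ^ 2] := by
  intro s
  classical
  haveI := Fintype.ofFinite G
  have hNpos : 0 < N := Nat.pos_of_ne_zero fun h => by
    rw [h, mul_zero] at hG; exact Nat.card_pos.ne' hG
  set k := p ^ (b + 1) with hk
  have hkpos : 0 < k := pow_pos hp.pos _
  set 𝒜 : Finset (Finset G) := (Finset.univ : Finset G).powersetCard k with h𝒜
  have hmem : ∀ A, A ∈ 𝒜 ↔ A.card = k := by simp [h𝒜]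
  set 𝒦 : Finset (Subgroup G) := Finset.univ.filter fun K => Nat.card K = p ^ b with h𝒦
  set ℋ : Finset (Subgroup G) := Finset.univ.filter fun H => Nat.card H = k with hℋ
  let c : Finset G → ℕ := fun A => Nat.card (stabilizer G A)
  set good := 𝒜.filter fun A => c A = k with hgood
  set mid := 𝒜.filter fun A => c A = p ^ b with hmid
  set rest := 𝒜.filter fun A => ¬ c A = k ∧ ¬ c A = p ^ b with hrest
  set t : Subgroup G → ℕ := fun H => (𝒦.filter fun K => K ≤ H).card with ht
  have hdvdc : ∀ A ∈ 𝒜, ∃ i ≤ b + 1, c A = p ^ i := fun A hA =>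
    (Nat.dvd_prime_pow hp).1 (by
      rw [← hk, ← (hmem A).1 hA]; exact Cfsg.Agent.SubgroupCount.card_stabilizer_dvd A)
  have hne : p ^ b ≠ k := fun h => by
    have := Nat.pow_right_injective hp.two_le h
    omega
  -- splitting
  have hsplit : 𝒜.card = good.card + mid.card + rest.card := by
    have h1 := Finset.card_filter_add_card_filter_not (s := 𝒜) (fun A => c A = k)
    have h2 := Finset.card_filter_add_card_filter_not
      (s := 𝒜.filter fun A => ¬ c A = k) (fun A => c A = p ^ b)
    rw [Finset.filter_filter, Finset.filter_filter] at h2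
    have h3 : (𝒜.filter fun A => ¬ c A = k ∧ c A = p ^ b) = mid := by
      rw [hmid]; ext A; simp only [Finset.mem_filter]
      exact ⟨fun h => ⟨h.1, h.2.2⟩, fun h => ⟨h.1, fun e => hne (h.2.symm.trans e), h.2⟩⟩
    rw [h3] at h2
    rw [← hgood] at h1
    rw [← hrest] at h2
    omega
  -- fibres over subgroups of order `k`
  have hgmaps : ∀ A ∈ good, stabilizer G A ∈ ℋ := fun A hA =>
    Finset.mem_filter.2 ⟨Finset.mem_univ _, (Finset.mem_filter.1 hA).2⟩
  have hfib : ∀ H ∈ ℋ, (good.filter fun A => stabilizer G A = H).card = N := by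
    intro H hH
    have hHc : Nat.card H = k := (Finset.mem_filter.1 hH).2
    have hHi : H.index = N := by
      have h := H.card_mul_index
      rw [hHc, hG] at h
      exact Nat.eq_of_mul_eq_mul_left hkpos h
    have h := card_invariant H 1
    rw [Nat.choose_one_right, hHi, mul_one, hHc] at h
    rw [← h, Nat.card_eq_fintype_card, Fintype.card_subtype]
    congr 1
    ext A
    simp only [hgood, Finset.mem_filter, hmem, Finset.mem_univ, true_and]
    constructor
    · rintro ⟨⟨h1, -⟩, h2⟩; exact ⟨h1, h2.ge⟩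
    · rintro ⟨h1, h2⟩
      have he : stabilizer G A = H := by
        refine (Subgroup.eq_of_le_of_card_ge h2 ?_).symm
        rw [hHc, ← h1]
        exact Nat.le_of_dvd (h1 ▸ hkpos) (Cfsg.Agent.SubgroupCount.card_stabilizer_dvd A)
      exact ⟨⟨h1, by show Nat.card (stabilizer G A) = k; rw [he, hHc]⟩, he⟩
  have hgood_card : good.card = ℋ.card * N := by
    rw [Finset.card_eq_sum_card_fiberwise hgmaps, Finset.sum_congr rfl hfib, Finset.sum_const,
      smul_eq_mul]
  -- subsets with small stabilizer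
  have hrest_dvd : p ^ 2 * N ∣ rest.card := by
    let R : SubMulAction G (Finset G) :=
      { carrier := {A | A.card = k ∧ ¬ c A = k ∧ ¬ c A = p ^ b}
        smul_mem' := fun g A hA => ⟨by rw [Finset.card_smul_finset]; exact hA.1,
          by show ¬ Nat.card _ = _; rw [Cfsg.Agent.SubgroupCount.card_stabilizer_smul]; exact hA.2.1,
          by show ¬ Nat.card _ = _; rw [Cfsg.Agent.SubgroupCount.card_stabilizer_smul]; exact hA.2.2⟩ }
    have hRc : rest.card = Nat.card R := by
      rw [← Nat.card_eq_finsetCard]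
      refine Nat.card_congr (Equiv.subtypeEquivRight fun A => ?_)
      simp only [hrest, Finset.mem_filter, hmem]
      exact Iff.rfl
    haveI : Finite R := Subtype.finite
    haveI : Fintype R := Fintype.ofFinite _
    rw [hRc, Nat.card_congr (selfEquivSigmaOrbits G R), Nat.card_sigma]
    refine Finset.dvd_sum fun ω _ => ?_
    have hidx := index_stabilizer G (Quotient.out ω)
    have hst : stabilizer G (Quotient.out ω) = stabilizer G ((Quotient.out ω : R) : Finset G) := by
      ext g; simp [mem_stabilizer_iff, Subtype.ext_iff]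
    obtain ⟨hAc, hAs, hAs'⟩ := (Quotient.out ω : R).2
    obtain ⟨i, hi, hie⟩ := hdvdc _ ((hmem _).2 hAc)
    have hib : i + 2 ≤ b + 1 := by
      have : i ≠ b + 1 := fun h => hAs (by rw [hie, h])
      have : i ≠ b := fun h => hAs' (by rw [hie, h])
      omega
    rw [Nat.card_coe_set_eq, ← hidx, hst]
    have h := (stabilizer G ((Quotient.out ω : R) : Finset G)).card_mul_index
    rw [show Nat.card _ = p ^ i from hie, hG, hk,
      show b + 1 = i + (b + 1 - i) by omega, pow_add, mul_assoc] at h
    rw [Nat.eq_of_mul_eq_mul_left (pow_pos hp.pos i) h]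
    exact mul_dvd_mul_right (pow_dvd_pow p (by omega)) N
  -- double counting
  have hKfib : ∀ K ∈ 𝒦, (𝒜.bipartiteAbove (fun K A => K ≤ stabilizer G A) K).card =
      (p * N).choose p := by
    intro K hK
    have hKc : Nat.card K = p ^ b := (Finset.mem_filter.1 hK).2
    have hKi : K.index = p * N := by
      have h := K.card_mul_index
      rw [hKc, hG, hk, pow_succ, mul_assoc] at h
      exact Nat.eq_of_mul_eq_mul_left (pow_pos hp.pos b) h
    have h := card_invariant K p
    rw [hKi, hKc, ← pow_succ, ← hk] at h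
    rw [← h, Nat.card_eq_fintype_card, Fintype.card_subtype]
    congr 1
    ext A
    simp [Finset.bipartiteAbove, hmem]
  have hAfib : ∀ A ∈ 𝒜, (𝒦.bipartiteBelow (fun K A => K ≤ stabilizer G A) A).card =
      (if c A = k then t (stabilizer G A) else 0) + (if c A = p ^ b then 1 else 0) := by
    intro A hA
    by_cases h1 : c A = k
    · rw [if_pos h1, if_neg (fun e => hne (e.symm.trans h1)), add_zero]; rfl
    rw [if_neg h1, zero_add]
    by_cases h2 : c A = p ^ b
    · rw [if_pos h2, Finset.card_eq_one]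
      refine ⟨stabilizer G A, Finset.ext fun K => ?_⟩
      simp only [Finset.mem_bipartiteBelow, h𝒦, Finset.mem_filter, Finset.mem_univ, true_and,
        Finset.mem_singleton]
      constructor
      · rintro ⟨hK, hle⟩
        exact Subgroup.eq_of_le_of_card_ge hle (le_of_eq (h2.trans hK.symm))
      · rintro rfl; exact ⟨h2, le_rfl⟩
    · rw [if_neg h2, Finset.card_eq_zero, Finset.eq_empty_iff_forall_notMem]
      intro K hK
      rw [Finset.mem_bipartiteBelow, h𝒦, Finset.mem_filter] at hK
      obtain ⟨i, hi, hie⟩ := hdvdc A hA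
      have hbi : p ^ b ∣ p ^ i := by
        rw [← hie, ← hK.1.2]; exact Subgroup.card_dvd_of_le hK.2
      have := (Nat.pow_dvd_pow_iff_le_right hp.one_lt).1 hbi
      rcases (show i = b ∨ i = b + 1 by omega) with rfl | rfl
      · exact h2 hie
      · exact h1 hie
  have hcount : 𝒦.card * (p * N).choose p = N * (∑ H ∈ ℋ, t H) + mid.card := by
    have h := Finset.sum_card_bipartiteAbove_eq_sum_card_bipartiteBelow
      (r := fun (K : Subgroup G) (A : Finset G) => K ≤ stabilizer G A) (s := 𝒦) (t := 𝒜)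
    rw [Finset.sum_congr rfl hKfib, Finset.sum_congr rfl hAfib, Finset.sum_const, smul_eq_mul,
      Finset.sum_add_distrib, ← Finset.sum_filter, ← Finset.sum_filter, ← hgood, ← hmid,
      ← Finset.card_eq_sum_ones] at h
    rw [h, ← Finset.sum_fiberwise_of_maps_to hgmaps]
    congr 1
    rw [Finset.mul_sum]
    refine Finset.sum_congr rfl fun H hH => ?_
    rw [Finset.sum_congr rfl (g := fun _ => t H) (fun A hA => by rw [(Finset.mem_filter.1 hA).2]),
      Finset.sum_const, smul_eq_mul, hfib H hH]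
  have hA : 𝒜.card = N * (k * N - 1).choose (k - 1) := by
    rw [h𝒜, Finset.card_powersetCard, Finset.card_univ, ← Nat.card_eq_fintype_card, hG]
    refine Nat.eq_of_mul_eq_mul_right hkpos ?_
    have h := Nat.add_one_mul_choose_eq (k * N - 1) (k - 1)
    rw [Nat.sub_add_cancel (Nat.mul_pos hkpos hNpos), Nat.sub_add_cancel hkpos] at h
    rw [← h]; ring
  have hc : (p * N).choose p = N * (p * N - 1).choose (p - 1) := by
    refine Nat.eq_of_mul_eq_mul_right hp.pos ?_
    have h := Nat.add_one_mul_choose_eq (p * N - 1) (p - 1)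
    rw [Nat.sub_add_cancel (Nat.mul_pos hp.pos hNpos), Nat.sub_add_cancel hp.pos] at h
    rw [← h]; ring
  have hT : (∑ᶠ H : {H : Subgroup G // Nat.card H = k},
      Nat.card {K : Subgroup G // Nat.card K = p ^ b ∧ K ≤ H.1}) = ∑ H ∈ ℋ, t H := by
    rw [finsum_eq_sum_of_fintype, Finset.sum_subtype ℋ
      (show ∀ H, H ∈ ℋ ↔ Nat.card H = k by simp [hℋ]) t]
    refine Finset.sum_congr rfl fun H _ => ?_
    simp only [ht, h𝒦, Finset.filter_filter, Nat.card_eq_fintype_card (α := {K : Subgroup G // _}), Fintype.card_subtype]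
  have hs1 : s (b + 1) = ℋ.card := by
    rw [hℋ, ← Fintype.card_subtype, ← Nat.card_eq_fintype_card, hk]
  have hs0 : s b = 𝒦.card := by
    rw [h𝒦, ← Fintype.card_subtype, ← Nat.card_eq_fintype_card]
  rw [hT, hs1, hs0]
  obtain ⟨R, hR⟩ := hrest_dvd
  have key : (k * N - 1).choose (k - 1) + ∑ H ∈ ℋ, t H =
      ℋ.card + 𝒦.card * (p * N - 1).choose (p - 1) + p ^ 2 * R := by
    refine Nat.eq_of_mul_eq_mul_left hNpos ?_
    rw [hgood_card, hR] at hsplit
    rw [hA] at hsplit
    rw [hc] at hcount
    linear_combination hsplit - hcount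
  rw [Nat.ModEq, key, Nat.add_mul_mod_self_left]

/-- The linking congruence, evaluated. -/
theorem linking' {p b : ℕ} (hp : p.Prime) (hp2 : p ≠ 2) (hdvd : p ^ (b + 1) ∣ Nat.card G) :
    ((Nat.card {H : Subgroup G // Nat.card H = p ^ b} : ℕ) : ZMod (p ^ 2)) =
      1 + (p : ZMod (p ^ 2)) - p * (Nat.card {H : Subgroup G //
        Nat.card H = p ^ (b + 1) ∧ IsCyclic H} : ℕ) := by
  classical
  haveI := Fact.mk hp
  obtain ⟨N, hN⟩ := hdvd
  have hNpos : 0 < N := Nat.pos_of_ne_zero fun h => by
    rw [h, mul_zero] at hN; exact Nat.card_pos.ne' hN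
  have hs1 : ((Nat.card {H : Subgroup G // Nat.card H = p ^ (b + 1)} : ℕ) : ZMod (p ^ 2)) * p = p := by
    have h := Cfsg.Agent.SubgroupCount.card_subgroups_modEq_one (G := G) hp
      ((dvd_mul_right (p ^ (b + 1)) N).trans (dvd_of_eq hN.symm))
    have h' := Nat.ModEq.mul_right' p h
    rw [one_mul, ← pow_two] at h'
    simpa using (ZMod.natCast_eq_natCast_iff _ _ _).2 h'
  -- the cyclic group of the same order evaluates the binomial coefficient
  have hchoose : (((p ^ (b + 1) * N - 1).choose (p ^ (b + 1) - 1) : ℕ) : ZMod (p ^ 2)) = 1 := by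
    haveI : NeZero (p ^ (b + 1) * N) := ⟨(Nat.mul_pos (pow_pos hp.pos _) hNpos).ne'⟩
    let C := Multiplicative (ZMod (p ^ (b + 1) * N))
    have hC : Nat.card C = p ^ (b + 1) * N := by simp [C]
    have hex : ∀ i ≤ b + 1, ∃ K : Subgroup C, Nat.card K = p ^ i := fun i hi =>
      Sylow.exists_subgroup_card_pow_prime (G := C) p
        (hC ▸ (pow_dvd_pow p hi).trans (dvd_mul_right _ _))
    have hone : ∀ i ≤ b + 1, Nat.card {H : Subgroup C // Nat.card H = p ^ i} = 1 := fun i hi => by
      refine Nat.card_eq_one_iff_unique.2 ⟨⟨fun A B => ?_⟩, ?_⟩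
      · exact Subtype.ext (Cfsg.Agent.FrobeniusCompl.eq_of_card_eq (A.2.trans B.2.symm))
      · obtain ⟨K, hK⟩ := hex i hi; exact ⟨⟨K, hK⟩⟩
    have ht : ∀ H : {H : Subgroup C // Nat.card H = p ^ (b + 1)},
        Nat.card {K : Subgroup C // Nat.card K = p ^ b ∧ K ≤ H.1} = 1 := fun H => by
      refine Nat.card_eq_one_iff_unique.2 ⟨⟨fun A B => ?_⟩, ?_⟩
      · exact Subtype.ext (Cfsg.Agent.FrobeniusCompl.eq_of_card_eq (A.2.1.trans B.2.1.symm))
      · obtain ⟨K, hK⟩ := Sylow.exists_subgroup_card_pow_prime (G := H.1) p (n := b)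
          ((pow_dvd_pow p (Nat.le_succ b)).trans (dvd_of_eq H.2.symm))
        exact ⟨⟨K.map H.1.subtype, by
          rw [Subgroup.card_map_of_injective H.1.subtype_injective]; exact hK,
          Subgroup.map_subtype_le _⟩⟩
    have h := linking (G := C) hp hC
    simp only [hone b (by omega), hone (b + 1) le_rfl, one_mul] at h
    haveI : Fintype {H : Subgroup C // Nat.card H = p ^ (b + 1)} := Fintype.ofFinite _
    rw [finsum_eq_sum_of_fintype, Finset.sum_congr rfl (fun H _ => ht H), Finset.sum_const,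
      Finset.card_univ, ← Nat.card_eq_fintype_card, hone (b + 1) le_rfl, smul_eq_mul, one_mul,
      ← ZMod.natCast_eq_natCast_iff] at h
    push_cast at h
    rw [choose_pred_cast hp hp2 N hNpos] at h
    linear_combination h
  have h := linking (G := G) hp hN
  rw [← ZMod.natCast_eq_natCast_iff] at h
  haveI : Fintype {H : Subgroup G // Nat.card H = p ^ (b + 1)} := Fintype.ofFinite _
  rw [finsum_eq_sum_of_fintype] at h
  push_cast at h
  rw [hchoose, choose_pred_cast hp hp2 N hNpos, mul_one] at h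
  have hterm : ∀ H : {H : Subgroup G // Nat.card H = p ^ (b + 1)},
      ((Nat.card {K : Subgroup G // Nat.card K = p ^ b ∧ K ≤ H.1} : ℕ) : ZMod (p ^ 2)) =
        1 + (p : ZMod (p ^ 2)) - (if IsCyclic H.1 then (p : ZMod (p ^ 2)) else 0) := by
    intro H
    have he : Nat.card {K : Subgroup G // Nat.card K = p ^ b ∧ K ≤ H.1} =
        Nat.card {M : Subgroup H.1 // M.index = p} := by
      refine Nat.card_congr
        { toFun := fun K => ⟨K.1.subgroupOf H.1, ?_⟩
          invFun := fun M => ⟨M.1.map H.1.subtype, ?_, Subgroup.map_subtype_le _⟩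
          left_inv := fun K => Subtype.ext (Subgroup.map_subgroupOf_eq_of_le K.2.2)
          right_inv := fun M => Subtype.ext
            (Subgroup.comap_map_eq_self_of_injective H.1.subtype_injective _) }
      · have h1 := (K.1.subgroupOf H.1).card_mul_index
        rw [Nat.card_congr (Subgroup.subgroupOfEquivOfLe K.2.2).toEquiv, K.2.1] at h1
        exact Nat.eq_of_mul_eq_mul_left (pow_pos hp.pos b) (h1.trans (H.2.trans (pow_succ p b)))
      · rw [Subgroup.card_map_of_injective H.1.subtype_injective]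
        have h1 := M.1.card_mul_index
        rw [M.2] at h1
        exact Nat.eq_of_mul_eq_mul_right hp.pos (h1.trans (H.2.trans (pow_succ p b)))
    rw [he]
    split_ifs with hc
    · haveI := hc
      have h1 : Nat.card {M : Subgroup H.1 // M.index = p} = 1 := by
        refine Nat.card_eq_one_iff_unique.2 ⟨⟨fun A B => ?_⟩, ?_⟩
        · letI := IsCyclic.commGroup (α := H.1)
          refine Subtype.ext (Cfsg.Agent.FrobeniusCompl.eq_of_card_eq ?_)
          have h1 := A.1.card_mul_index
          have h2 := B.1.card_mul_index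
          rw [A.2] at h1
          rw [B.2, ← h1] at h2
          exact (Nat.eq_of_mul_eq_mul_right hp.pos h2).symm
        · obtain ⟨K, hK⟩ := Sylow.exists_subgroup_card_pow_prime (G := H.1) p (n := b)
            ((pow_dvd_pow p (Nat.le_succ b)).trans (dvd_of_eq H.2.symm))
          refine ⟨⟨K, ?_⟩⟩
          have h1 := K.card_mul_index
          rw [hK] at h1
          exact Nat.eq_of_mul_eq_mul_left (pow_pos hp.pos b) (h1.trans (H.2.trans (pow_succ p b)))
      rw [h1]; simp
    · rw [(ZMod.natCast_eq_natCast_iff _ _ _).2 (card_maximal (IsPGroup.of_card H.2) hc), sub_zero]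
      push_cast
      rfl
  have hsum : (∑ H : {H : Subgroup G // Nat.card H = p ^ (b + 1)},
      ((Nat.card {K : Subgroup G // Nat.card K = p ^ b ∧ K ≤ H.1} : ℕ) : ZMod (p ^ 2))) =
      (Nat.card {H : Subgroup G // Nat.card H = p ^ (b + 1)} : ℕ) * (1 + (p : ZMod (p ^ 2))) -
        p * (Nat.card {H : Subgroup G // Nat.card H = p ^ (b + 1) ∧ IsCyclic H} : ℕ) := by
    rw [Finset.sum_congr rfl (fun H _ => hterm H), Finset.sum_sub_distrib, Finset.sum_const,
      Finset.card_univ, nsmul_eq_mul, ← Nat.card_eq_fintype_card, ← Finset.sum_filter,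
      Finset.sum_const, nsmul_eq_mul, mul_comm (p : ZMod (p ^ 2)), ← Fintype.card_subtype,
      ← Nat.card_eq_fintype_card, Nat.card_congr (Equiv.subtypeSubtypeEquivSubtypeInter
        (fun H : Subgroup G => Nat.card H = p ^ (b + 1)) (fun H => IsCyclic H))]
  rw [hsum] at h
  linear_combination (-1 : ZMod (p ^ 2)) * h + hs1

theorem kulakoff {p a : ℕ} (hp : p.Prime) (hdvd : p ^ (a + 1) ∣ Nat.card G) :
    Nat.card {H : Subgroup G // Nat.card H = p ^ a} ≡ 1 [MOD p ^ 2] ∨
      Nat.card {H : Subgroup G // Nat.card H = p ^ a} ≡ 1 + p [MOD p ^ 2] := by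
  classical
  haveI := Fact.mk hp
  rcases Nat.eq_zero_or_pos a with rfl | ha
  · left
    have : Nat.card {H : Subgroup G // Nat.card H = p ^ 0} = 1 := by
      rw [Nat.card_congr (Equiv.subtypeEquivRight (q := fun H : Subgroup G => H = ⊥)
        fun H => by rw [pow_zero]; exact Subgroup.card_eq_one)]
      exact Nat.card_unique
    rw [this]
  have hs := Cfsg.Agent.SubgroupCount.card_subgroups_modEq_one (G := G) (β := a) hp
    ((pow_dvd_pow p (Nat.le_succ a)).trans hdvd)
  by_cases hp2 : p = 2
  · subst hp2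
    simp only [Nat.ModEq] at hs ⊢
    omega
  set c := Nat.card {H : Subgroup G // Nat.card H = p ^ (a + 1) ∧ IsCyclic H} with hc
  have hcmod : c ≡ 0 [MOD p] ∨ c ≡ 1 [MOD p] := by
    obtain ⟨P⟩ : Nonempty (Sylow p G) := inferInstance
    by_cases hnc : IsCyclic (P : Subgroup G)
    · right
      have hall : ∀ H : Subgroup G, Nat.card H = p ^ (a + 1) → IsCyclic H := fun H h => by
        obtain ⟨Q, hQ⟩ := (IsPGroup.of_card h).exists_le_sylow
        haveI : IsCyclic (Q : Subgroup G) := (P.equiv Q).isCyclic.1 hnc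
        exact Subgroup.isCyclic_of_le hQ
      rw [hc, Nat.card_congr (Equiv.subtypeEquivRight (q := fun H : Subgroup G =>
        Nat.card H = p ^ (a + 1)) fun H => ⟨fun h => h.1, fun h => ⟨h, hall H h⟩⟩)]
      exact Cfsg.Agent.SubgroupCount.card_subgroups_modEq_one hp hdvd
    · left
      have h1 := Cfsg.Agent.OrderCount.sylow_dvd hp2 P hnc (s := a + 1) (by omega)
      rw [Nat.card_congr (Equiv.subtypeEquivRight (q := fun x : G =>
        orderOf x = p ^ (a + 1) ∧ x ∈ (⊤ : Subgroup G)) fun x => ⟨fun h => ⟨h, trivial⟩, fun h => h.1⟩),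
        Cfsg.Agent.OrderCount.card_orderOf_eq_totient_mul, Nat.totient_prime_pow hp (by omega),
        Nat.card_congr (Equiv.subtypeEquivRight (q := fun H : Subgroup G =>
          Nat.card H = p ^ (a + 1) ∧ IsCyclic H) fun H =>
            ⟨fun h => ⟨h.2.1, h.1⟩, fun h => ⟨h.2, h.1, le_top⟩⟩), ← hc,
        show a + 1 - 1 = a from rfl, pow_succ, mul_assoc] at h1
      refine Nat.modEq_zero_iff_dvd.2 ((hp.dvd_mul.1
        (Nat.dvd_of_mul_dvd_mul_left (pow_pos hp.pos a) h1)).resolve_left fun h => ?_)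
      have := Nat.le_of_dvd (by have := hp.two_le; omega) h
      have := hp.pos
      omega
  have h := linking' (G := G) hp hp2 hdvd
  rw [← hc] at h
  rcases hcmod with hm | hm
  · right
    rw [← ZMod.natCast_eq_natCast_iff, h]
    have h' := Nat.ModEq.mul_right' p hm
    rw [zero_mul, ← pow_two] at h'
    have h'' := (ZMod.natCast_eq_natCast_iff _ _ _).2 h'
    push_cast at h'' ⊢
    linear_combination (-1 : ZMod (p ^ 2)) * h''
  · left
    rw [← ZMod.natCast_eq_natCast_iff, h]
    have h' := Nat.ModEq.mul_right' p hm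
    rw [one_mul, ← pow_two] at h'
    have h'' := (ZMod.natCast_eq_natCast_iff _ _ _).2 h'
    push_cast at h'' ⊢
    linear_combination (-1 : ZMod (p ^ 2)) * h''

end Count

/-- Let G be a finite group, p a prime and a a natural number such that p^(a+1) divides the order of G. Then the number of subgroups of G of order p^a is congruent to 1 or to 1 + p modulo p². -/
theorem result {G : Type*} [Group G] [Finite G] (p a : ℕ) (hp : p.Prime) (hdvd : p ^ (a + 1) ∣ Nat.card G) :
    Nat.card {H : Subgroup G // Nat.card H = p ^ a} ≡ 1 [MOD p ^ 2] ∨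
      Nat.card {H : Subgroup G // Nat.card H = p ^ a} ≡ 1 + p [MOD p ^ 2] := by
  exact kulakoff hp hdvd

end Cfsg.Agent.S4237
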