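import Cfsg.Statements.S4258
import Cfsg.Agent.TwoLen.Layer
import Cfsg.Agent.TwoLen.Solvable
import Cfsg.Agent.S0205

set_option autoImplicit false
open Cfsg

namespace Cfsg.Agent.S4258

/-- Let G be a finite 2-soluble group whose Sylow 2-subgroups have exponent dividing 2^e. Then the 2-length of G is at most e. -/
theorem result {G : Type*} [Group G] [Finite G] (hG : Cfsg.IsPSolvable 2 G) (e : ℕ)
    (hexp : ∀ (P : Sylow 2 G), ∀ x ∈ (P : Subgroup G), x ^ 2 ^ e = 1) : Cfsg.PLengthLE 2 e G := by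
  have := Fact.mk Nat.prime_two
  have : Group.IsSolvable G :=
    TwoLen.isSolvable_of_isPSolvable_two (fun _ _ _ h => S0205.result h) hG
  refine TwoLen.pLengthLE_exponent e G fun x ⟨j, hj⟩ => ?_
  obtain ⟨P, hP⟩ := ((IsPGroup.iff_card (p := 2) (G := Subgroup.zpowers x)).2
    ⟨j, by rw [Nat.card_zpowers, hj]⟩).exists_le_sylow
  exact hexp P x (hP (Subgroup.mem_zpowers x))

end Cfsg.Agent.S4258
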