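import Cfsg.Statements.S4259
import Cfsg.Agent.TwoDer.Main
import Cfsg.Agent.TwoLen.Solvable
import Cfsg.Agent.S0205
-- import your own Cfsg.Agent.* helpers here

set_option autoImplicit false
open Cfsg

namespace Cfsg.Agent.S4259

/-- Let G be a finite 2-soluble group whose Sylow 2-subgroups have derived length at most d. Then the 2-length of G is at most d. -/
theorem result {G : Type*} [Group G] [Finite G] (hG : Cfsg.IsPSolvable 2 G) (d : ℕ)
    (hd : ∀ P : Sylow 2 G, derivedSeries (P : Subgroup G) d = ⊥) : Cfsg.PLengthLE 2 d G := by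
  have := Fact.mk Nat.prime_two
  have : Group.IsSolvable G :=
    TwoLen.isSolvable_of_isPSolvable_two (fun _ _ _ h => S0205.result h) hG
  refine TwoDer.pLengthLE_derived d G fun S => ?_
  rw [TwoDer.dser_eq_map, hd S, Subgroup.map_bot]

end Cfsg.Agent.S4259
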