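import Cfsg.Statements.S4347


set_option autoImplicit false
open Cfsg

namespace Cfsg.Agent.S4347

/-- Let G be a finite group and p a prime. Say a Sylow p-subgroup Q is redundant when every element of p-power order lies in some Sylow p-subgroup other than Q. Then G has no redundant Sylow p-subgroup if and only if some element of p-power order lies in exactly one Sylow p-subgroup. -/
theorem result {G : Type*} [Group G] [Finite G]
    (p : ℕ) [Fact p.Prime] :
    (¬ ∃ Q : Sylow p G, ∀ x : G, (∃ k : ℕ, orderOf x = p ^ k) → ∃ P : Sylow p G, P ≠ Q ∧ x ∈ P) ↔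
      ∃ x : G, (∃ k : ℕ, orderOf x = p ^ k) ∧ ∃! P : Sylow p G, x ∈ P := by
  constructor
  · intro h
    by_contra hc
    push Not at hc
    obtain ⟨Q⟩ : Nonempty (Sylow p G) := inferInstance
    refine h ⟨Q, fun x hx => ?_⟩
    have hP : ∃ P : Sylow p G, x ∈ P := by
      obtain ⟨k, hk⟩ := hx
      obtain ⟨P, hP⟩ := IsPGroup.exists_le_sylow
        (IsPGroup.of_card (n := k) (by rw [Nat.card_zpowers, hk]) : IsPGroup p (Subgroup.zpowers x))
      exact ⟨P, hP (Subgroup.mem_zpowers x)⟩
    obtain ⟨P, hP⟩ := hP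
    by_contra hne
    push Not at hne
    refine hc x hx ⟨P, hP, fun R hR => ?_⟩
    have h1 : P = Q := by
      by_contra h1; exact hne P h1 hP
    have h2 : R = Q := by
      by_contra h2; exact hne R h2 hR
    rw [h1, h2]
  · rintro ⟨x, hx, P, hP, huniq⟩ ⟨Q, hQ⟩
    obtain ⟨g, hg⟩ := MulAction.exists_smul_eq G P Q
    have hmem : ∀ (R : Sylow p G) (a y : G), y ∈ R → a * y * a⁻¹ ∈ a • R := by
      intro R a y hy
      show a * y * a⁻¹ ∈ ((a • R : Sylow p G) : Subgroup G)
      rw [Sylow.coe_subgroup_smul]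
      exact Subgroup.smul_mem_pointwise_smul _ (MulAut.conj a) _ hy
    obtain ⟨R, hR, hxR⟩ := hQ (g * x * g⁻¹) ⟨_, by
      have : orderOf (g * x * g⁻¹) = orderOf x := MulEquiv.orderOf_eq (MulAut.conj g) x
      rw [this]; exact hx.choose_spec⟩
    have h1 : x ∈ g⁻¹ • R := by
      have := hmem R g⁻¹ _ hxR
      rwa [show g⁻¹ * (g * x * g⁻¹) * g⁻¹⁻¹ = x by group] at this
    apply hR
    rw [← hg, ← huniq _ h1, smul_inv_smul]

end Cfsg.Agent.S4347
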