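import Cfsg.Statements.S4348
import Cfsg.Agent.Cores.Basic

set_option autoImplicit false
open Cfsg

namespace Cfsg.Agent.S4348

/-- Let G be a finite group, p a prime and P a Sylow p-subgroup of G, and let O_p(G) be the largest normal p-subgroup of G. If P/O_p(G) is cyclic, then some element of p-power order of G lies in exactly one Sylow p-subgroup. -/
theorem result {G : Type*} [Group G] [Finite G]
    (p : ℕ) [Fact p.Prime] (P : Sylow p G)
    [hn : ((Cfsg.pCore p G).subgroupOf (P : Subgroup G)).Normal]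
    (hc : IsCyclic ((P : Subgroup G) ⧸ (Cfsg.pCore p G).subgroupOf (P : Subgroup G))) :
    ∃ x : G, (∃ k : ℕ, orderOf x = p ^ k) ∧ ∃! Q : Sylow p G, x ∈ Q := by
  set O := Cfsg.pCore p G with hO
  have hOQ : ∀ Q : Sylow p G, O ≤ Q := fun Q => Cfsg.Agent.Cores.pCore_le_sylow Q
  obtain ⟨g, hg⟩ := hc.exists_generator
  obtain ⟨x, rfl⟩ := QuotientGroup.mk_surjective g
  obtain ⟨k, hk⟩ := IsPGroup.iff_orderOf.1 P.isPGroup' x
  refine ⟨x, ⟨k, by simpa using hk⟩, P, x.2, fun Q hQ => ?_⟩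
  apply Sylow.ext
  refine P.is_maximal' Q.isPGroup' ?_
  intro y hy
  obtain ⟨n, hn⟩ := Subgroup.mem_zpowers_iff.1 (hg (⟨y, hy⟩ : ↥(P : Subgroup G)))
  rw [← QuotientGroup.mk_zpow, QuotientGroup.eq, Subgroup.mem_subgroupOf] at hn
  have h1 : ((x : G) ^ n)⁻¹ * y ∈ (Q : Subgroup G) := hOQ Q (by simpa using hn)
  have h2 : (x : G) ^ n ∈ (Q : Subgroup G) := Subgroup.zpow_mem _ hQ n
  simpa using Subgroup.mul_mem _ h2 h1

end Cfsg.Agent.S4348
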