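import Cfsg.Statements.S4349
import Cfsg.Agent.SymSylow.Main

set_option autoImplicit false
open Cfsg

namespace Cfsg.Agent.S4349

/-- Let n ≥ 2 and let x be an element of 2-power order of the symmetric group of degree n. Then x lies in exactly one Sylow 2-subgroup if and only if x has at most two fixed points and the nontrivial cycles of x have pairwise different lengths. -/
theorem result (n : ℕ) (hn : 2 ≤ n)
    (x : Equiv.Perm (Fin n)) (hx : ∃ k : ℕ, orderOf x = 2 ^ k) :
    (∃! P : Sylow 2 (Equiv.Perm (Fin n)), x ∈ P) ↔ (n ≤ x.support.card + 2 ∧ x.cycleType.Nodup) := by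
  haveI : Fact (Nat.Prime 2) := ⟨Nat.prime_two⟩
  have hgood := Cfsg.Agent.SymSylow.good_iff x
  rw [Fintype.card_fin] at hgood
  rw [← hgood]
  constructor
  · rintro ⟨P, -, huniq⟩
    exact Cfsg.Agent.SymSylow.good_of_unique _ x hx fun A B hA hB => (huniq A hA).trans (huniq B hB).symm
  · intro hg
    obtain ⟨k, hk⟩ := id hx
    obtain ⟨P, hP⟩ := (IsPGroup.of_card (n := k) (by rw [Nat.card_zpowers, hk]) :
      IsPGroup 2 (Subgroup.zpowers x)).exists_le_sylow
    exact ⟨P, hP (Subgroup.mem_zpowers x), fun R hR =>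
      Cfsg.Agent.SymSylow.unique_of_good n (Fin n) (Nat.card_fin n) x hx hg R P hR (hP (Subgroup.mem_zpowers x))⟩

end Cfsg.Agent.S4349
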