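import Cfsg.Statements.S4355
import Cfsg.Agent.S5274
import Cfsg.Agent.S5076

set_option autoImplicit false
open Cfsg

namespace Cfsg.Agent.S4355

/-- If every element of 2-power order of a finite group has a conjugacy class of odd size, then the Sylow 2-subgroups of the group are abelian. -/
theorem result {G : Type*} [Group G] [Finite G]
    (h : ∀ x : G, (∃ k : ℕ, orderOf x = 2 ^ k) → ¬ 2 ∣ (Subgroup.centralizer ({x} : Set G)).index) (P : Sylow 2 G) :
    IsMulCommutative P := by
  have key := S5274.result (Ω := G) (S := (P : Subgroup G)) P.isPGroup'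
    (Cfsg.groupFusionSystem (P : Subgroup G)) (S5076.result 2 P)
  apply key
  intro x hxP
  obtain ⟨k, hk⟩ := (IsPGroup.iff_orderOf.1 P.isPGroup') ⟨x, hxP⟩
  rw [Subgroup.orderOf_mk] at hk
  have hodd := h x ⟨k, hk⟩
  set C := Subgroup.centralizer ({x} : Set G) with hC
  have : Fact (Nat.Prime 2) := ⟨Nat.prime_two⟩
  obtain ⟨R₀⟩ := (inferInstance : Nonempty (Sylow 2 C))
  have hR : IsPGroup 2 ↥((R₀ : Subgroup C).map C.subtype) := R₀.isPGroup'.map _
  have hidx : ¬ 2 ∣ ((R₀ : Subgroup C).map C.subtype).index := by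
    rw [Subgroup.index_map_subtype]
    intro hd
    rcases Nat.prime_two.dvd_mul.1 hd with h' | h'
    · exact R₀.not_dvd_index h'
    · exact hodd h'
  let R : Sylow 2 G := hR.toSylow hidx
  have hRc : ∀ r ∈ (R : Subgroup G), r * x = x * r := by
    intro r hr
    obtain ⟨c, -, rfl⟩ := hr
    exact (Subgroup.mem_centralizer_singleton_iff.1 c.2)
  have hxR : x ∈ (R : Subgroup G) := by
    have hz : IsPGroup 2 ↥(Subgroup.zpowers x) := by
      refine IsPGroup.iff_card.2 ⟨k, ?_⟩
      rw [Nat.card_zpowers, hk]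
    have hn : Subgroup.zpowers x ≤ Subgroup.normalizer ((R : Subgroup G) : Set G) := by
      rw [Subgroup.zpowers_le, Subgroup.mem_normalizer_iff]
      intro r
      constructor
      · intro hr
        have := hRc r hr
        rwa [show x * r * x⁻¹ = r by rw [← this]; group]
      · intro hr
        have := hRc _ hr
        have e : r = x * r * x⁻¹ := by
          have : x * r * x⁻¹ * x = x * (x * r * x⁻¹) := this
          have h2 : x * r = x * (x * r * x⁻¹) := by rw [← this]; group
          exact mul_left_cancel h2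
        rwa [← e] at hr
    have hsup := R.isPGroup'.to_sup_of_normal_left' hz hn
    have := R.is_maximal' hsup le_sup_left
    exact this ▸ Subgroup.mem_sup_right (Subgroup.mem_zpowers x)
  obtain ⟨g, hg⟩ := MulAction.exists_smul_eq G R P
  have hmem : ∀ r ∈ (R : Subgroup G), g * r * g⁻¹ ∈ (P : Subgroup G) := by
    intro r hr
    rw [← hg]
    exact ⟨r, hr, rfl⟩
  have hcen : g * x * g⁻¹ ∈ Subgroup.centralizer ((P : Subgroup G) : Set G) := by
    rw [Subgroup.mem_centralizer_iff]
    intro q hq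
    have hq' : q ∈ ((g • R : Sylow 2 G) : Subgroup G) := by rw [hg]; exact hq
    obtain ⟨r, hr, rfl⟩ := hq'
    show g * r * g⁻¹ * (g * x * g⁻¹) = g * x * g⁻¹ * (g * r * g⁻¹)
    calc g * r * g⁻¹ * (g * x * g⁻¹) = g * (r * x) * g⁻¹ := by group
      _ = g * (x * r) * g⁻¹ := by rw [hRc r hr]
      _ = _ := by group
  refine ⟨g * x * g⁻¹, ⟨hmem x hxR, hcen⟩,
    (MulAut.conj g).toMonoidHom.comp (Subgroup.zpowers x).subtype, ?_, rfl⟩
  refine ⟨(Subgroup.zpowers_le.2 hxP), ?_, g, fun y => rfl⟩
  intro y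
  obtain ⟨n, hn⟩ := Subgroup.mem_zpowers_iff.1 y.2
  show g * (y : G) * g⁻¹ ∈ (P : Subgroup G)
  exact hmem _ (hn ▸ zpow_mem hxR n)

end Cfsg.Agent.S4355
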