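import Cfsg.Statements.S4363
import Cfsg.Agent.TurullOne.Climb

set_option autoImplicit false
open Cfsg

namespace Cfsg.Agent.S4363

open Cfsg.Agent.TurullOne SemidirectProduct in
theorem res_top_eq_bot {G : Type*} [Group G] [Finite G] (hG : Group.IsSolvable G) (σ : MulAut G) {r : ℕ}
    (hr : r.Prime) (hσ : σ ^ r = 1) (hcop : ¬ r ∣ Nat.card G) (C : Subgroup G) (hC : ∀ g : G, g ∈ C ↔ σ g = g)
    {n : ℕ} (hn : res^[n] (⊤ : Subgroup C) = ⊥) : res^[n + 2] (⊤ : Subgroup G) = ⊥ := by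
  let φ : Subgroup.zpowers σ →* MulAut G := (Subgroup.zpowers σ).subtype
  haveI : Finite (G ⋊[φ] Subgroup.zpowers σ) := Finite.of_equiv _ SemidirectProduct.equivProd.symm
  let s : Subgroup.zpowers σ := ⟨σ, Subgroup.mem_zpowers σ⟩
  let a : G ⋊[φ] Subgroup.zpowers σ := inr s
  have hconj : ∀ g : G, a * inl g * a⁻¹ = inl (σ g) := fun g => by
    rw [show σ g = φ s g from rfl, inl_aut, map_inv]
  set f : G →* G ⋊[φ] Subgroup.zpowers σ := inl with hf
  have hfi : Function.Injective f := inl_injective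
  haveI : Group.IsSolvable f.range := Group.isSolvable_of_surjective f.rangeRestrict_surjective
  have hcard : Nat.card f.range = Nat.card G := (Nat.card_congr (MonoidHom.ofInjective hfi).toEquiv).symm
  have hfix : fixG f.range a = C.map f := by
    ext x
    rw [mem_fixG]
    constructor
    · rintro ⟨⟨g, rfl⟩, hx⟩
      refine ⟨g, (hC g).mpr (hfi ?_), rfl⟩
      rw [← hconj g, hx, mul_inv_cancel_right]
    · rintro ⟨g, hg, rfl⟩
      refine ⟨⟨g, rfl⟩, ?_⟩
      rw [← mul_inv_eq_iff_eq_mul]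
      show a * f g * a⁻¹ = f g
      rw [hf, hconj g, (hC g).mp hg]
  have hbot : res^[n] (fixG f.range a) = ⊥ := by
    rw [hfix, ← iterate_res_map, show C = (⊤ : Subgroup C).map C.subtype by
      rw [← MonoidHom.range_eq_map, Subgroup.range_subtype], ← iterate_res_map, hn, Subgroup.map_bot,
      Subgroup.map_bot]
  have ha : a ^ r = 1 := by
    rw [← map_pow, show s ^ r = 1 from Subtype.ext hσ, map_one]
  have h := res_eq_bot (G0 := f.range) (a := a) hr ha (by rwa [hcard])
    (mem_nz (by rintro _ ⟨g, rfl⟩; exact ⟨σ g, (hconj g).symm⟩)) hbot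
  rw [MonoidHom.range_eq_map, ← iterate_res_map, Subgroup.map_eq_bot_iff_of_injective _ hfi] at h
  exact h

/-- Let G be a finite solvable group and σ an automorphism of G of prime order r not dividing the order of G, with fixed-point subgroup C. Then the Fitting height of G exceeds that of C by at most 2: if C has a chain of normal subgroups 1 = C₀ ≤ ⋯ ≤ Cₙ = C with nilpotent factors, then G has such a chain of length n + 2. -/
theorem result {G : Type*} [Group G] [Finite G]
    (hG : Group.IsSolvable G) (σ : MulAut G) (r : ℕ) (hr : r.Prime) (hσ : orderOf σ = r) (hcop : ¬ r ∣ Nat.card G)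
    (C : Subgroup G) (hC : ∀ g : G, g ∈ C ↔ σ g = g) (n : ℕ) (hn : (∃ F : Fin (n + 1) → Subgroup ↥C, F 0 = ⊥ ∧ F (Fin.last n) = ⊤ ∧ Monotone F ∧ (∀ i, (F i).Normal) ∧ ∀ i : Fin n, ∃ k : ℕ, (F i.succ).lowerCentralSeries k ≤ F i.castSucc)) :
    (∃ F : Fin ((n + 2) + 1) → Subgroup G, F 0 = ⊥ ∧ F (Fin.last (n + 2)) = ⊤ ∧ Monotone F ∧ (∀ i, (F i).Normal) ∧ ∀ i : Fin (n + 2), ∃ k : ℕ, (F i.succ).lowerCentralSeries k ≤ F i.castSucc) := by
  obtain ⟨F, h0, hlast, -, -, hF⟩ := hn
  exact Cfsg.Agent.TurullOne.exists_chain_of_iterate_res (res_top_eq_bot hG σ hr (by rw [← hσ, pow_orderOf_eq_one])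
    hcop C hC (Cfsg.Agent.TurullOne.iterate_res_eq_bot_of_chain F h0 hlast hF))

end Cfsg.Agent.S4363
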