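import Cfsg.Statements.S4395
import Cfsg.Agent.SchmidtMax.Construct
import Cfsg.Agent.SchmidtMax.Universal

set_option autoImplicit false
universe u
open Cfsg Polynomial

namespace Cfsg.Agent.S4395

/-- Let p ≠ q be primes, r ≥ 1, a the multiplicative order of p modulo q, and a₀ = a when a is odd, a₀ = 3a/2 when a is even. Call a finite group minimal non-p-nilpotent when it has no normal p-complement but every proper subgroup has one. Then there is a minimal non-p-nilpotent group G₀ of order p^a₀ · q^r such that every minimal non-p-nilpotent group of order p^t · q^r (any t) is a quotient of G₀ by a central subgroup. -/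
theorem result (p q r : ℕ) [Fact p.Prime] [Fact q.Prime] (hpq : p ≠ q) (hr : 1 ≤ r) (a a₀ : ℕ)
    (ha : a = orderOf (p : ZMod q)) (ha₀ : a₀ = if a % 2 = 1 then a else 3 * a / 2) :
    ∃ (G₀ : Type u) (_ : Group G₀) (_ : Finite G₀),
      (¬ Cfsg.HasNormalPComplement p G₀ ∧ ∀ K : Subgroup G₀, K ≠ ⊤ → Cfsg.HasNormalPComplement p ↥K) ∧ Nat.card G₀ = p ^ a₀ * q ^ r ∧
      ∀ (X : Type u) [Group X] [Finite X], (¬ Cfsg.HasNormalPComplement p X ∧ ∀ K : Subgroup X, K ≠ ⊤ → Cfsg.HasNormalPComplement p ↥K) →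
        (∃ t : ℕ, Nat.card X = p ^ t * q ^ r) → ∃ φ : G₀ →* X, Function.Surjective φ ∧ φ.ker ≤ Subgroup.center G₀ := by
  have hdeg : (cyclotomic q (ZMod p)).natDegree ≠ 0 := by
    rw [natDegree_cyclotomic]
    exact (Nat.totient_pos.2 (Fact.out : q.Prime).pos).ne'
  obtain ⟨f, hf, hfd⟩ := WfDvdMonoid.exists_irreducible_factor
    (fun h => hdeg (natDegree_eq_zero_of_isUnit h)) (cyclotomic_ne_zero q (ZMod p))
  haveI : Fact (Irreducible f) := ⟨hf⟩
  subst ha ha₀
  obtain ⟨G, i1, i2, d, hG⟩ := SchmidtMax.exists_max (r := r) hpq hr hfd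
  let d₀ := d.map (MulEquiv.ulift.{0, u} (α := G)).symm
  have hcard : Nat.card (ULift.{u} G) = _ := (Nat.card_congr Equiv.ulift).trans hG
  refine ⟨ULift.{u} G, inferInstance, inferInstance, d₀.isMNN hpq, hcard, ?_⟩
  intro X _ _ hX ⟨t, ht⟩
  obtain ⟨d₁, _⟩ := SchmidtMax.exists_datum hpq hr hX ht
  obtain ⟨e₀, -, h₀⟩ := d₀.exists_aligned (f := f) hpq hfd
  obtain ⟨e₁, -, h₁⟩ := d₁.exists_aligned (f := f) hpq hfd
  exact SchmidtMax.exists_cover hpq hfd e₀ e₁ h₀ h₁ hcard

end Cfsg.Agent.S4395
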