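import Cfsg.Statements.S4419
import Cfsg.Agent.PGroup.Frattini
import Cfsg.Agent.H73.MetaSubgroups
import Cfsg.Agent.Transfer.Frobenius
import Cfsg.Agent.PSolv.HallHigman
import Cfsg.Agent.Cores.Basic

set_option autoImplicit false
open Cfsg

namespace Cfsg.Agent.S4419

/-- An automorphism of prime order `r ∤ p² - 1` of a two-generated `p`-group is trivial. -/
theorem mulAut_eq_one_of_two_generated {p : ℕ} [Fact p.Prime] {Q : Type*} [Group Q] [Finite Q]
    (hQ : IsPGroup p Q) (a b : Q) (hgen : Subgroup.closure {a, b} = ⊤) (α : MulAut Q)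
    {r : ℕ} (hr : r.Prime) (hα : orderOf α = r) (hrp : r ≠ p) (hr2 : ¬ r ∣ p ^ 2 - 1) :
    α = 1 := by
  classical
  have hp : p.Prime := Fact.out
  haveI := Fact.mk hr
  refine Cfsg.Agent.PGroup.mulAut_eq_one_of_frattini hQ α
    (by rw [hα]; exact (Nat.coprime_primes hr hp).2 hrp) ?_
  obtain ⟨d, hd⟩ := hQ.index (frattini Q)
  have hd2 : d ≤ 2 := by
    have h := Cfsg.Agent.PGroup.index_frattini_le_pow_card hQ (S := {a, b}) (by simpa using hgen)
    rw [hd] at h
    exact ((Nat.pow_le_pow_iff_right hp.one_lt).1 h).trans Finset.card_le_two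
  let f : MulAut Q →* MulAut (Q ⧸ frattini Q) :=
    { toFun := fun e => QuotientGroup.congr (frattini Q) (frattini Q) e
        (Subgroup.characteristic_iff_map_eq.1 inferInstance e)
      map_one' := MulEquiv.ext fun x => QuotientGroup.induction_on x fun y => rfl
      map_mul' := fun u v => MulEquiv.ext fun x => QuotientGroup.induction_on x fun y => rfl }
  suffices h1 : f α = 1 by
    intro x
    have h := DFunLike.congr_fun h1 (x : Q ⧸ frattini Q)
    exact QuotientGroup.eq.1 (show ((x : Q ⧸ frattini Q)) = ((α x : Q) : Q ⧸ frattini Q) from h.symm)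
  set β := f α
  let F : Subgroup (Q ⧸ frattini Q) :=
    { carrier := {y | β y = y}
      one_mem' := map_one β
      mul_mem' := fun {u v} (hu : β u = u) (hv : β v = v) => by
        show β (u * v) = u * v
        rw [map_mul, hu, hv]
      inv_mem' := fun {u} (hu : β u = u) => by
        show β u⁻¹ = u⁻¹
        rw [map_inv, hu] }
  have hG : IsPGroup r (Subgroup.zpowers β) := by
    intro x
    refine ⟨1, Subtype.ext ?_⟩
    obtain ⟨k, hk⟩ := Subgroup.mem_zpowers_iff.1 x.2
    rw [pow_one, Subgroup.coe_pow, Subgroup.coe_one, ← hk, ← zpow_natCast (β ^ k), ← zpow_mul,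
      mul_comm, zpow_mul, zpow_natCast]
    show (f α ^ r) ^ k = 1
    rw [← map_pow, ← hα, pow_orderOf_eq_one, map_one, one_zpow]
  have hmod := hG.card_modEq_card_fixedPoints (Q ⧸ frattini Q)
  have hfix : MulAction.fixedPoints (Subgroup.zpowers β) (Q ⧸ frattini Q) = (F : Set _) := by
    ext y
    refine ⟨fun h => h ⟨β, Subgroup.mem_zpowers β⟩, fun h g => ?_⟩
    have hs : Subgroup.zpowers β ≤ MulAction.stabilizer (MulAut (Q ⧸ frattini Q)) y :=
      Subgroup.zpowers_le.2 h
    exact hs g.2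
  rw [hfix, SetLike.coe_sort_coe, ← Subgroup.index_eq_card, hd] at hmod
  obtain ⟨e, hed, he⟩ : ∃ e ≤ d, Nat.card F = p ^ e :=
    (Nat.dvd_prime_pow hp).1 (by rw [← hd, Subgroup.index_eq_card]; exact F.card_subgroup_dvd_card)
  rw [he] at hmod
  have hde : e = d := by
    by_contra hne
    have h : r ∣ p ^ d - p ^ e :=
      (Nat.modEq_iff_dvd' (Nat.pow_le_pow_right hp.pos hed)).1 hmod.symm
    rw [show p ^ d = p ^ e * p ^ (d - e) by rw [← pow_add, Nat.add_sub_cancel' hed]] at h
    rw [← Nat.mul_sub_one] at h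
    rcases hr.dvd_mul.1 h with h | h
    · exact hrp ((Nat.prime_dvd_prime_iff_eq hr hp).1 (hr.dvd_of_dvd_pow h))
    · refine hr2 (h.trans ?_)
      obtain h1 | h2 : d - e = 1 ∨ d - e = 2 := by omega
      · rw [h1, pow_one]
        exact Dvd.intro_left (p + 1) (by rw [← Nat.sq_sub_sq, one_pow])
      · rw [h2]
  have hFtop : F = ⊤ := Subgroup.eq_top_of_card_eq F (by rw [he, hde, ← hd, Subgroup.index_eq_card])
  exact MulEquiv.ext fun y => (hFtop ▸ Subgroup.mem_top y : y ∈ F)

/-- A metacyclic group is generated by two elements. -/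
theorem two_generated_of_isMetacyclic {R : Type*} [Group R] (h : Cfsg.IsMetacyclic R) :
    ∃ a b : R, Subgroup.closure {a, b} = ⊤ := by
  obtain ⟨N, hN, hNc, hQc⟩ := h
  haveI := hN
  haveI := hNc
  haveI := hQc
  obtain ⟨a, ha⟩ := IsCyclic.exists_generator (α := N)
  obtain ⟨bq, hb⟩ := IsCyclic.exists_generator (α := R ⧸ N)
  obtain ⟨b, rfl⟩ := QuotientGroup.mk_surjective bq
  refine ⟨a, b, eq_top_iff.2 fun x _ => ?_⟩
  obtain ⟨k, hk⟩ := Subgroup.mem_zpowers_iff.1 (hb x)
  have hx : (b ^ k)⁻¹ * x ∈ N := by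
    rw [← QuotientGroup.eq, QuotientGroup.mk_zpow]
    exact hk
  obtain ⟨j, hj⟩ := Subgroup.mem_zpowers_iff.1 (ha ⟨_, hx⟩)
  have hjx : (a : R) ^ j = (b ^ k)⁻¹ * x := congrArg Subtype.val hj
  rw [show x = b ^ k * ((b ^ k)⁻¹ * x) by group, ← hjx]
  exact mul_mem (zpow_mem (Subgroup.subset_closure (by simp)) k)
    (zpow_mem (Subgroup.subset_closure (by simp)) j)

/-- Let p be a prime and G a finite group whose Sylow p-subgroups are metacyclic (a cyclic normal subgroup with cyclic quotient). Then G has a normal p-complement if and only if the order of G/O_{p′,p}(G) is coprime to p² − 1. -/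
theorem result {G : Type*} [Group G] [Finite G] (p : ℕ) [Fact p.Prime] (S : Sylow p G) (hS : Cfsg.IsMetacyclic ↥(S : Subgroup G)) : Cfsg.HasNormalPComplement p G ↔ Nat.Coprime (Nat.card (G ⧸ Cfsg.pPrimePCore p G)) (p ^ 2 - 1) := by
  have hp : p.Prime := Fact.out
  haveI := Cfsg.Agent.PSolv.pPrimePCore_normal p G
  constructor
  · intro h
    have htop : Cfsg.pPrimePCore p G = ⊤ := by
      obtain ⟨P, N, hN, hNc⟩ := h
      haveI := hN
      have hNcard : N.index = Nat.card (P : Subgroup G) := hNc.symm.index_eq_card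
      have hcop : (Nat.card N).Coprime p := by
        rw [Nat.coprime_comm, hp.coprime_iff_not_dvd, ← hNc.index_eq_card]
        exact P.not_dvd_index
      have hle : N ≤ Cfsg.pPrimeCore p G := Cfsg.Agent.Cores.le_pPrimeCore hN hcop
      obtain ⟨k, hk⟩ := IsPGroup.iff_card.1 P.2
      have hq : IsPGroup p (G ⧸ Cfsg.pPrimeCore p G) := by
        obtain ⟨j, -, hj⟩ := (Nat.dvd_prime_pow hp).1
          ((Subgroup.index_dvd_of_le hle).trans (by rw [hNcard, hk]))
        exact IsPGroup.of_card (n := j) (by rw [← Subgroup.index_eq_card, hj])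
      rw [Cfsg.pPrimePCore, Cfsg.Agent.Cores.pCore_eq_top_of_isPGroup hq, Subgroup.comap_top]
    rw [← Subgroup.index_eq_card, htop, Subgroup.index_top]
    exact Nat.coprime_one_left _
  · intro h
    refine Cfsg.Agent.Transfer.hasNormalPComplement_of_coprime_centralize fun Q hQ _ g hg hgo => ?_
    set d := orderOf (g : G ⧸ Cfsg.pPrimePCore p G) with hd
    have hd2 : d.Coprime (p ^ 2 - 1) := Nat.Coprime.coprime_dvd_left (orderOf_dvd_natCard _) h
    -- the `d`-th power of `g` centralises `Q`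
    have hgd : g ^ d ∈ Cfsg.pPrimePCore p G := by
      rw [← QuotientGroup.eq_one_iff, QuotientGroup.mk_pow, hd, pow_orderOf_eq_one]
    have hcopd : (orderOf (g ^ d)).Coprime p := Nat.Coprime.coprime_dvd_left (orderOf_pow_dvd d) hgo
    have hO : g ^ d ∈ Cfsg.pPrimeCore p G := by
      rw [← QuotientGroup.eq_one_iff, ← orderOf_eq_one_iff]
      obtain ⟨k, hk⟩ := Cfsg.Agent.Cores.pCore_isPGroup (p := p) (G := G ⧸ Cfsg.pPrimeCore p G)
        ⟨((g ^ d : G) : G ⧸ Cfsg.pPrimeCore p G), hgd⟩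
      have h1 : orderOf ((g ^ d : G) : G ⧸ Cfsg.pPrimeCore p G) ∣ p ^ k :=
        orderOf_dvd_of_pow_eq_one (congrArg Subtype.val hk)
      exact Nat.dvd_one.1 ((Nat.Coprime.coprime_dvd_left
        (orderOf_map_dvd (QuotientGroup.mk' (Cfsg.pPrimeCore p G)) (g ^ d))
        hcopd).pow_right k |>.gcd_eq_one ▸ Nat.dvd_gcd dvd_rfl h1)
    have hC : g ^ d ∈ Subgroup.centralizer (Q : Set G) := by
      refine Subgroup.mem_centralizer_iff.2 fun x hx => ?_
      have h1 : x * g ^ d * x⁻¹ * (g ^ d)⁻¹ ∈ Cfsg.pPrimeCore p G ⊓ Q :=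
        ⟨(Cfsg.pPrimeCore p G).mul_mem (Subgroup.Normal.conj_mem inferInstance _ hO x) ((Cfsg.pPrimeCore p G).inv_mem hO), by
          rw [show x * g ^ d * x⁻¹ * (g ^ d)⁻¹ = x * (g ^ d * x⁻¹ * (g ^ d)⁻¹) by group]
          exact Q.mul_mem hx ((Subgroup.mem_normalizer_iff.1 (pow_mem hg d) _).1 (Q.inv_mem hx))⟩
      rw [inf_comm, Subgroup.inf_eq_bot_of_coprime (by
        obtain ⟨k, hk⟩ := IsPGroup.iff_card.1 hQ
        rw [hk]
        exact (Cfsg.Agent.Cores.pPrimeCore_coprime (p := p) (G := G)).symm.pow_left k),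
        Subgroup.mem_bot] at h1
      exact mul_inv_eq_iff_eq_mul.1 (mul_inv_eq_one.1 h1)
    -- two generators for `Q`
    obtain ⟨T, hT⟩ := hQ.exists_le_sylow
    obtain ⟨c, rfl⟩ := MulAction.exists_smul_eq G S T
    let φ : Q →* (S : Subgroup G) :=
      { toFun := fun x => ⟨c⁻¹ * x * c, by
          obtain ⟨y, hy, hyx⟩ := hT x.2
          have hyx' : c * y * c⁻¹ = x := hyx
          show c⁻¹ * (x : G) * c ∈ (S : Subgroup G)
          rw [← hyx', show c⁻¹ * (c * y * c⁻¹) * c = y by group]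
          exact hy⟩
        map_one' := Subtype.ext (by simp)
        map_mul' := fun u v => Subtype.ext (by simp [mul_assoc]) }
    have hφ : Function.Injective φ := fun u v huv => Subtype.ext (by
      have h3 : c⁻¹ * (u : G) * c = c⁻¹ * (v : G) * c := congrArg Subtype.val huv
      simpa using h3)
    let e := MonoidHom.ofInjective hφ
    obtain ⟨a, b, hab⟩ :=
      two_generated_of_isMetacyclic (Cfsg.Agent.H73.Meta.isMetacyclic_subgroup hS φ.range)
    have hgen : Subgroup.closure {e.symm a, e.symm b} = ⊤ := by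
      have := congrArg (Subgroup.map e.symm.toMonoidHom) hab
      rw [MonoidHom.map_closure, Subgroup.map_top_of_surjective _ e.symm.surjective,
        Set.image_pair] at this
      exact this
    -- the induced automorphism
    set β := Q.normalizerMonoidHom ⟨g, hg⟩ with hβ
    suffices hb1 : β = 1 by
      refine Subgroup.mem_centralizer_iff.2 fun x hx => ?_
      have h2 : g * x * g⁻¹ = x := by
        have h3 : ((β ⟨x, hx⟩ : Q) : G) = g * x * g⁻¹ := rfl
        rw [← h3, hb1, MulAut.one_apply]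
      exact (mul_inv_eq_iff_eq_mul.1 h2).symm
    by_contra hne
    have hdvd : orderOf β ∣ d := by
      refine orderOf_dvd_of_pow_eq_one ?_
      rw [hβ, ← map_pow]
      refine MulEquiv.ext fun x => Subtype.ext ?_
      show g ^ d * x * (g ^ d)⁻¹ = x
      rw [← Subgroup.mem_centralizer_iff.1 hC x x.2, mul_inv_cancel_right]
    have hβg : orderOf β ∣ orderOf g :=
      (orderOf_map_dvd _ _).trans (Subgroup.orderOf_coe _).symm.dvd
    obtain ⟨r, hr, hrd⟩ := Nat.exists_prime_and_dvd fun h1 => hne (orderOf_eq_one_iff.1 h1)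
    have hord : orderOf (β ^ (orderOf β / r)) = r := orderOf_pow_orderOf_div (orderOf_pos β).ne' hrd
    have h1 := mulAut_eq_one_of_two_generated hQ _ _ hgen _ hr hord
      (fun he => hp.coprime_iff_not_dvd.1 hgo.symm (he ▸ hrd.trans hβg))
      (fun h2 => hr.one_lt.ne' (Nat.dvd_one.1 (hd2.gcd_eq_one ▸ Nat.dvd_gcd (hrd.trans hdvd) h2)))
    rw [h1, orderOf_one] at hord
    exact hr.one_lt.ne hord

end Cfsg.Agent.S4419
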