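import Cfsg.Statements.S4531
import Cfsg.Agent.DihSolv.Semidihedral

set_option linter.style.haveILetI false

set_option autoImplicit false
open Cfsg

namespace Cfsg.Agent.S4531

/-- Let the finite group G have a 2-block B (relative to a maximal ideal M of the algebraic integers containing 2) of 2-regular rank three (three irreducible Brauer characters) whose defect group D is dihedral of order 2 ^ n with n ≥ 3 or semidihedral. Then the centre of G has odd order and G is not solvable. -/
theorem result {G : Type*} [Group G] [Finite G] (M : Ideal Cfsg.AlgInt) (hM : Cfsg.IsPModular 2 M) (B : Set (Cfsg.IrrCharacter G)) (hB : Cfsg.IsPBlock M B) (D : Subgroup G) (hD : Cfsg.IsDefectGroup 2 M B D) (hD' : (∃ n : ℕ, 3 ≤ n ∧ Nonempty (D ≃* DihedralGroup (2 ^ (n - 1)))) ∨ Cfsg.IsQuasiDihedral D) (hl : Cfsg.blockRank 2 B = 3) : Odd (Nat.card (Subgroup.center G)) ∧ ¬ Group.IsSolvable G := by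
  classical
  letI := Fintype.ofFinite G
  haveI : Fact (Nat.Prime 2) := ⟨Nat.prime_two⟩
  have hD2 : IsPGroup 2 D := Agent.Block.isDefectGroup_isPGroup hD
  refine ⟨Nat.not_even_iff_odd.1 fun hev => ?_, fun hsol => ?_⟩
  · obtain ⟨z, hz⟩ := exists_prime_orderOf_dvd_card' 2 (even_iff_two_dvd.1 hev)
    have hz2 : orderOf (z : G) = 2 := by rw [Subgroup.orderOf_coe]; exact hz
    rcases hD' with ⟨n, hn, ⟨e⟩⟩ | hq
    · have h4 : 4 ≤ 2 ^ (n - 1) :=
        le_trans (by norm_num) (Nat.pow_le_pow_right two_pos (show 2 ≤ n - 1 by omega))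
      have := DihSolv.blockRank_eq_one_of_center hM hB hD h4 e z.2 hz2
      omega
    · have := DihSolv.blockRank_le_two_of_quasiDihedral_center hM hB hD hq z.2 hz2
      omega
  · have hN : DihSolv.Narrow D := by
      rcases hD' with ⟨n, hn, ⟨e⟩⟩ | hq
      · exact DihSolv.narrow_of_dihedral hD2
          (le_trans (by norm_num) (Nat.pow_le_pow_right two_pos (show 2 ≤ n - 1 by omega))) e
      · exact DihSolv.narrow_of_quasiDihedral hD2 hq
    have := DihSolv.blockRank_le_two hM (Nat.card G) G rfl hsol B D hB hD hN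
    omega

end Cfsg.Agent.S4531
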