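import Cfsg.Statements.S4720
import Cfsg.Agent.Brauer.SectionColumns
import Cfsg.Agent.BlocksChar.Degree
import Cfsg.Agent.CharInd.Basic
import Cfsg.Agent.CharInd.GenChar

set_option autoImplicit false
open Cfsg
open scoped ComplexConjugate

namespace Cfsg.Agent.S4720

/-- Column product of the principal block at two elements of a `p`-subgroup. -/
theorem column_pair {G : Type*} [Group G] [Fintype G] {p : ℕ} {M : Ideal AlgInt}
    (hM : IsPModular p M) {P : Subgroup G} (hP : IsPGroup p P) {v v' : G} (hv : v ∈ P)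
    (hv' : v' ∈ P) [Decidable (IsConj v v')] :
    ∑ᶠ χ ∈ principalBlock M G, (χ : G → ℂ) v * conj ((χ : G → ℂ) v') =
      if IsConj v v' then
        ((∑ᶠ ψ ∈ principalBlock M ↥(Subgroup.centralizer ({v} : Set G)),
          charDegree (ψ : ↥(Subgroup.centralizer ({v} : Set G)) → ℂ) ^ 2 : ℕ) : ℂ)
      else 0 := by
  classical
  haveI : Fact p.Prime := ⟨hM.1⟩
  set C := Subgroup.centralizer ({v} : Set G) with hC
  letI := Fintype.ofFinite C
  haveI : Finite (IrrCharacter C) := CharInd.finite_irrCharacter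
  obtain ⟨k, hk⟩ := IsPGroup.iff_orderOf.1 hP ⟨v, hv⟩
  rw [Subgroup.orderOf_mk] at hk
  obtain ⟨k', hk'⟩ := IsPGroup.iff_orderOf.1 hP ⟨v', hv'⟩
  rw [Subgroup.orderOf_mk] at hk'
  have h1 : ¬ p ∣ orderOf (1 : C) := by rw [orderOf_one]; exact hM.1.not_dvd_one
  split_ifs with hc
  · have h := Brauer.principal_column_section hM hk C hC 1 1 h1 h1
    rw [OneMemClass.coe_one, mul_one] at h
    rw [finsum_mem_congr rfl (g := fun χ : IrrCharacter G =>
      (χ : G → ℂ) v * conj ((χ : G → ℂ) v)) (fun χ _ => by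
        rw [Char.isClassFunction_eq_of_isConj (Char.irr_isClassFunction χ.2) hc]), h,
      Nat.cast_finsum_mem (Set.toFinite _)]
    refine finsum_mem_congr rfl fun η _ => ?_
    rw [← BlocksChar.charDegree_eq, Complex.conj_natCast, pow_two, Nat.cast_mul]
  · have h := Brauer.principal_column_eq_zero hM hk (g := v') C hC 1 h1
      (by rwa [(Element.pPart_eq_self hM.1 hk').1])
    rwa [OneMemClass.coe_one, mul_one] at h

/-- Let p be a prime, M a maximal ideal of the algebraic integers containing p, P a p-subgroup of the finite group G, N a subgroup with P ≤ N ≤ N_G(P), and U a nonempty subset of P normalized by N such that an element of U and an element of P that are conjugate in G are already conjugate in N, and such that λ(C_G(y)) = w·#C_N(y) for every y ∈ U with one rational number w, where λ(X) denotes the sum of the squares of the degrees of the irreducible characters in the principal p-block of X. For a complex function θ on P and χ in the principal block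 of G put a_χ(θ) = #P⁻¹ Σ_{y ∈ P} χ(y) θ(y⁻¹). Then for generalized characters θ, η of P with θ vanishing outside U, Σ_χ a_χ(θ)·conj(a_χ(η)) = (w/#P²)·Σ_{y ∈ P} θ(y)·conj(Σ_{x ∈ N} η(x y x⁻¹)) (η extended by zero off P; the conjugates lie in P), the first sum over the principal p-block of G. -/
theorem result {G : Type*} [Group G] [Finite G] (p : ℕ) [Fact p.Prime] (M : Ideal Cfsg.AlgInt) (hM : Cfsg.IsPModular p M) (P : Subgroup G) (hP : IsPGroup p P) (N : Subgroup G) (hPN : P ≤ N) (hNN : N ≤ Subgroup.normalizer (P : Set G)) (U : Set G) (hUne : U.Nonempty) (hUP : U ⊆ (P : Set G)) (hUN : ∀ n ∈ N, ∀ u ∈ U, n * u * n⁻¹ ∈ U) (hfus : ∀ u ∈ U, ∀ g : G, g * u * g⁻¹ ∈ (P : Set G) → ∃ n ∈ N, n * u * n⁻¹ = g * u * g⁻¹) (w : ℚ) (hw : ∀ y ∈ U, ((∑ᶠ ψ ∈ Cfsg.principalBlock M ↥(Subgroup.centralizer ({y} : Set G)), Cfsg.charDegree (ψ : ↥(Subgroup.centralizer ({y} : Set G)) → ℂ) ^ 2) : ℚ) = w * Nat.card ↥(N ⊓ Subgroup.centralizer ({y} : Set G))) (θ η : ↥P → ℂ) (hθ : Cfsg.IsGeneralizedCharacter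 ↥P θ) (hη : Cfsg.IsGeneralizedCharacter ↥P η) (hθU : ∀ y : ↥P, (y : G) ∉ U → θ y = 0) : ∑ᶠ χ ∈ Cfsg.principalBlock M G, ((Nat.card ↥P : ℂ)⁻¹ * ∑ᶠ y : ↥P, (χ : G → ℂ) (y : G) * θ y⁻¹) * (starRingEnd ℂ) ((Nat.card ↥P : ℂ)⁻¹ * ∑ᶠ y : ↥P, (χ : G → ℂ) (y : G) * η y⁻¹) = ((w : ℂ) / ((Nat.card ↥P : ℂ) ^ 2)) * ∑ᶠ y : ↥P, θ y * (starRingEnd ℂ) (∑ᶠ x : ↥N, Cfsg.extendByZero P η ((x : G) * (y : G) * (x : G)⁻¹)) := by
  classical
  letI := Fintype.ofFinite G
  letI := Fintype.ofFinite P
  letI := Fintype.ofFinite N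
  haveI : Finite (IrrCharacter G) := CharInd.finite_irrCharacter
  letI := Fintype.ofFinite (IrrCharacter G)
  set B := principalBlock M G
  set c : ℂ := (Nat.card P : ℂ)⁻¹ with hc
  have step1 : ∑ᶠ χ ∈ B, (c * ∑ᶠ y : ↥P, (χ : G → ℂ) (y : G) * θ y⁻¹) *
      conj (c * ∑ᶠ y : ↥P, (χ : G → ℂ) (y : G) * η y⁻¹) =
      c * c * ∑ v : P, θ v * ∑ v' : P, conj (η v') *
        ∑ᶠ χ ∈ B, (χ : G → ℂ) (v⁻¹ : P) * conj ((χ : G → ℂ) (v'⁻¹ : P)) := by
    simp only [finsum_mem_eq_toFinset_sum]
    simp only [finsum_eq_sum_of_fintype]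
    have hcc : conj c = c := by simp [hc]
    simp only [map_mul, hcc, map_sum, Finset.mul_sum, Finset.sum_mul]
    rw [Finset.sum_comm]
    conv_rhs => rw [Finset.sum_comm]
    refine Fintype.sum_equiv (Equiv.inv P) _ _ fun v => ?_
    rw [Finset.sum_comm]
    refine Fintype.sum_equiv (Equiv.inv P) _ _ fun v' => ?_
    refine Finset.sum_congr rfl fun χ _ => ?_
    simp only [Equiv.inv_apply, inv_inv]
    ring
  have key : ∀ v : P, θ v * ∑ v' : P, conj (η v') *
      ∑ᶠ χ ∈ B, (χ : G → ℂ) (v⁻¹ : P) * conj ((χ : G → ℂ) (v'⁻¹ : P)) =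
      (w : ℂ) * (θ v * conj (∑ x : N, extendByZero P η ((x : G) * (v : G) * (x : G)⁻¹))) := by
    intro v
    by_cases hvU : (v : G) ∈ U
    swap
    · simp [hθU v hvU]
    rw [mul_left_comm (w : ℂ)]
    congr 1
    set C := Subgroup.centralizer ({(v : G)} : Set G) with hC
    have hCinv : Subgroup.centralizer ({((v⁻¹ : P) : G)} : Set G) = C := by
      ext g
      simp only [hC, Subgroup.mem_centralizer_singleton_iff, InvMemClass.coe_inv]
      exact ⟨fun h => Commute.inv_right_iff.1 h, fun h => Commute.inv_right h⟩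
    have hlam : ((∑ᶠ ψ ∈ principalBlock M ↥(Subgroup.centralizer ({((v⁻¹ : P) : G)} : Set G)),
        charDegree (ψ : ↥(Subgroup.centralizer ({((v⁻¹ : P) : G)} : Set G)) → ℂ) ^ 2 : ℕ) : ℂ) =
        (w : ℂ) * (Nat.card ↥(N ⊓ C) : ℂ) := by
      rw [hCinv]
      haveI : Finite (IrrCharacter C) := CharInd.finite_irrCharacter
      have h := hw _ hvU
      have e : (((∑ᶠ ψ ∈ principalBlock M ↥C, charDegree (ψ : ↥C → ℂ) ^ 2) : ℕ) : ℚ) =
          w * Nat.card ↥(N ⊓ C) := by
        rw [← h]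
        first
        | rfl
        | (rw [Nat.cast_finsum_mem (Set.toFinite _)]; simp only [Nat.cast_pow]; rfl)
      have e2 := congrArg (fun q : ℚ => (q : ℂ)) e
      simp only [Rat.cast_natCast, Rat.cast_mul] at e2
      exact e2
    have hrhs : ∑ x : N, conj (extendByZero P η ((x : G) * (v : G) * (x : G)⁻¹)) =
        ∑ v' : P, ∑ x : N,
          if (x : G) * (v : G) * (x : G)⁻¹ = (v' : G) then conj (η v') else 0 := by
      rw [Finset.sum_comm]
      refine Finset.sum_congr rfl fun x _ => ?_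
      have hx : (x : G) * (v : G) * (x : G)⁻¹ ∈ P :=
        (Subgroup.mem_normalizer_iff.1 (hNN x.2) (v : G)).1 v.2
      rw [Finset.sum_eq_single (⟨_, hx⟩ : P)]
      · rw [if_pos rfl, CharInd.extendByZero_mem P _ hx]
      · intro v' _ hne
        rw [if_neg fun h => hne (Subtype.ext h.symm)]
      · exact fun h => absurd (Finset.mem_univ _) h
    rw [map_sum, hrhs, Finset.mul_sum]
    refine Finset.sum_congr rfl fun v' _ => ?_
    rw [column_pair hM hP (v⁻¹).2 (v'⁻¹).2, hlam, ← Finset.sum_filter, Finset.sum_const,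
      nsmul_eq_mul]
    by_cases hconj : IsConj (v : G) (v' : G)
    · have hconj' : IsConj ((v⁻¹ : P) : G) ((v'⁻¹ : P) : G) := by
        obtain ⟨g, hg⟩ := isConj_iff.1 hconj
        exact isConj_iff.2 ⟨g, by rw [InvMemClass.coe_inv, InvMemClass.coe_inv, ← conj_inv, hg]⟩
      rw [if_pos hconj']
      obtain ⟨g, hg⟩ := isConj_iff.1 hconj
      obtain ⟨n, hn, hnv⟩ := hfus _ hvU g (hg ▸ v'.2)
      rw [hg] at hnv
      have hcard : (Finset.univ.filter fun x : N =>
          (x : G) * (v : G) * (x : G)⁻¹ = (v' : G)).card = Nat.card ↥(N ⊓ C) := by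
        rw [← Fintype.card_subtype, ← Nat.card_eq_fintype_card]
        refine Nat.card_congr
          { toFun := fun x => ⟨n⁻¹ * ((x : N) : G), N.mul_mem (N.inv_mem hn) x.1.2, ?_⟩
            invFun := fun y => ⟨⟨n * (y : G), N.mul_mem hn y.2.1⟩, ?_⟩
            left_inv := fun x => Subtype.ext (Subtype.ext (mul_inv_cancel_left n _))
            right_inv := fun y => Subtype.ext (inv_mul_cancel_left n _) }
        · refine Subgroup.mem_centralizer_singleton_iff.2 ?_
          have hx := x.2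
          calc n⁻¹ * ((x : N) : G) * (v : G)
              = n⁻¹ * (((x : N) : G) * v * ((x : N) : G)⁻¹) * ((x : N) : G) := by group
            _ = n⁻¹ * (n * (v : G) * n⁻¹) * ((x : N) : G) := by rw [hx, hnv]
            _ = _ := by group
        · show n * (y : G) * (v : G) * (n * (y : G))⁻¹ = (v' : G)
          have hy := Subgroup.mem_centralizer_singleton_iff.1 y.2.2
          rw [← hnv]
          calc n * (y : G) * (v : G) * (n * (y : G))⁻¹
              = n * ((y : G) * v) * (n * (y : G))⁻¹ := by group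
            _ = _ := by rw [hy]; group
      rw [hcard]
      ring
    · rw [Finset.filter_eq_empty_iff.2 fun (x : N) _ (hx : (x : G) * (v : G) * (x : G)⁻¹ = (v' : G)) =>
          hconj (isConj_iff.2 ⟨(x : G), hx⟩),
        if_neg fun h => hconj ?_, Finset.card_empty, Nat.cast_zero, zero_mul, mul_zero, mul_zero]
      obtain ⟨g, hg⟩ := isConj_iff.1 h
      rw [InvMemClass.coe_inv, InvMemClass.coe_inv, ← conj_inv, inv_inj] at hg
      exact isConj_iff.2 ⟨g, hg⟩
  rw [step1, Finset.sum_congr rfl fun v _ => key v, ← Finset.mul_sum]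
  simp only [finsum_eq_sum_of_fintype]
  rw [hc, div_eq_mul_inv, sq, mul_inv]
  ring

end Cfsg.Agent.S4720
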