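import Cfsg.Statements.S4776
import Cfsg.Agent.CharGraph.RelativeMain

set_option autoImplicit false
open Cfsg Cfsg.Agent.CharGraph

namespace Cfsg.Agent.S4776

/-- Let N be a normal subgroup of the finite group G that is not perfect and is contained in the derived subgroup of G. Consider the common-divisor graph on the relative degree set cd(G|N) (the degrees of the irreducible complex characters of G whose kernel does not contain N; two distinct degrees adjacent when they have a common divisor greater than one). Then this graph has at most two connected components; and if a, b ∈ cd(G|N) lie in different components, then one of a, b is coprime to the index m of the derived subgroup of N in N while the other is divisible by every prime divisor of m. -/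
theorem result {G : Type*} [Group G] [Finite G] (N : Subgroup G) [N.Normal] (hN : ⁅N, N⁆ < N) (hNG : N ≤ commutator G) : Nat.card (Cfsg.commonDivisorGraph.induce (Cfsg.relCharDegrees N)).ConnectedComponent ≤ 2 ∧ ∀ (a b : ℕ) (ha : a ∈ Cfsg.relCharDegrees N) (hb : b ∈ Cfsg.relCharDegrees N), ¬ (Cfsg.commonDivisorGraph.induce (Cfsg.relCharDegrees N)).Reachable ⟨a, ha⟩ ⟨b, hb⟩ → (Nat.Coprime a (⁅N, N⁆.relIndex N) ∧ ∀ r : ℕ, r.Prime → r ∣ ⁅N, N⁆.relIndex N → r ∣ b) ∨ (Nat.Coprime b (⁅N, N⁆.relIndex N) ∧ ∀ r : ℕ, r.Prime → r ∣ ⁅N, N⁆.relIndex N → r ∣ a) := by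
  classical
  have hm : ∃ p : ℕ, p.Prime ∧ p ∣ ⁅N, N⁆.relIndex N := by
    refine Nat.exists_prime_and_dvd fun h => hN.not_ge (Subgroup.relIndex_eq_one.1 h)
  obtain ⟨p, hp, hpm⟩ := hm
  set Γ := commonDivisorGraph.induce (relCharDegrees N) with hΓ
  have hX : ∀ x y : relCharDegrees N, Rel.InX N x → Rel.InX N y → Γ.Reachable x y := by
    rintro ⟨x, hx⟩ ⟨y, hy⟩ h h'
    obtain ⟨_, _, h1⟩ := Rel.linked_of_inX N hNG h h'
    exact h1
  have hY : ∀ x y : relCharDegrees N, ¬ Rel.InX N x → ¬ Rel.InX N y → Γ.Reachable x y := by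
    intro x y h h'
    have hdvd : ∀ z : relCharDegrees N, ¬ Rel.InX N z → p ∣ (z : ℕ) := fun z hz => by
      by_contra hpz
      exact hz ⟨z.2, p, hp, hpm, hpz⟩
    have hpos : 0 < (x : ℕ) := zero_lt_one.trans (Rel.one_lt_of_mem_rel N hNG x.2)
    obtain ⟨_, _, h1⟩ := Rel.linked_of_gcd x.2 y.2 (Rel.one_lt_gcd (s := p) (t := p)
      (fun hc => hp.one_lt.ne' ((Nat.coprime_self p).1 hc)) (hdvd x h) (hdvd y h') hpos)
    exact h1
  refine ⟨?_, fun a b ha hb hab => ?_⟩
  · let f : Γ.ConnectedComponent → Prop :=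
      fun C => ∃ x, Rel.InX N x.1 ∧ Γ.connectedComponentMk x = C
    have hinj : Function.Injective f := by
      intro C C'
      induction C using SimpleGraph.ConnectedComponent.ind with
      | h x =>
        induction C' using SimpleGraph.ConnectedComponent.ind with
        | h y =>
          intro hxy
          apply SimpleGraph.ConnectedComponent.sound
          by_cases hfx : f (Γ.connectedComponentMk x)
          · obtain ⟨u, hu, hux⟩ := hfx
            obtain ⟨w, hw, hwy⟩ : f (Γ.connectedComponentMk y) := hxy.mp ⟨u, hu, hux⟩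
            exact (SimpleGraph.ConnectedComponent.exact hux).symm.trans
              ((hX u w hu hw).trans (SimpleGraph.ConnectedComponent.exact hwy))
          · have hfy : ¬ f (Γ.connectedComponentMk y) := fun h => hfx (hxy.mpr h)
            exact hY x y (fun h => hfx ⟨x, h, rfl⟩) (fun h => hfy ⟨y, h, rfl⟩)
    calc Nat.card Γ.ConnectedComponent ≤ Nat.card Prop := Nat.card_le_card_of_injective f hinj
      _ = 2 := by simp [Nat.card_eq_fintype_card]
  · have key : ∀ (u w : relCharDegrees N), Rel.InX N u → ¬ Rel.InX N w → ¬ Γ.Reachable u w →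
        Nat.Coprime (u : ℕ) (⁅N, N⁆.relIndex N) ∧
          ∀ r : ℕ, r.Prime → r ∣ ⁅N, N⁆.relIndex N → r ∣ (w : ℕ) := by
      intro u w _ hw huw
      have hall : ∀ r : ℕ, r.Prime → r ∣ ⁅N, N⁆.relIndex N → r ∣ (w : ℕ) := fun r hr hrm => by
        by_contra h
        exact hw ⟨w.2, r, hr, hrm, h⟩
      refine ⟨Nat.coprime_of_dvd fun r hr hru hrm => huw ?_, hall⟩
      obtain ⟨_, _, h1⟩ := Rel.linked_of_gcd u.2 w.2 (Rel.one_lt_gcd (s := r) (t := r)
        (fun hc => hr.one_lt.ne' ((Nat.coprime_self r).1 hc)) hru (hall r hr hrm)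
        (zero_lt_one.trans (Rel.one_lt_of_mem_rel N hNG u.2)))
      exact h1
    by_cases h1 : Rel.InX N a <;> by_cases h2 : Rel.InX N b
    · exact absurd (hX ⟨a, ha⟩ ⟨b, hb⟩ h1 h2) hab
    · exact Or.inl (key ⟨a, ha⟩ ⟨b, hb⟩ h1 h2 hab)
    · exact Or.inr (key ⟨b, hb⟩ ⟨a, ha⟩ h2 h1 fun h => hab h.symm)
    · exact absurd (hY ⟨a, ha⟩ ⟨b, hb⟩ h1 h2) hab

end Cfsg.Agent.S4776
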