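import Cfsg.Statements.S4866
import Cfsg.Agent.RealChar.PermLemma
-- import your own Cfsg.Agent.* helpers here

set_option autoImplicit false
open Cfsg

namespace Cfsg.Agent.S4866

/-- Let K be a normal subgroup of odd index in the finite group G. Then G has as many orbits on the real-valued irreducible complex characters of K (acting by conjugation) as it has orbits on the conjugacy classes of K that are real in K; equivalently, the number of G-orbits of real-valued irreducible characters of K equals the number of G-conjugacy classes of elements of K that are conjugate in K to their inverses. -/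
theorem result {G : Type*} [Group G] [Finite G] (K : Subgroup G) [K.Normal] (hodd : Odd K.index) : Nat.card (Quot (fun θ η : {θ : Cfsg.IrrCharacter ↥K // (∀ k : ↥K, ((θ : ↥K → ℂ) k).im = 0)} => ∃ g : G, ∀ k k' : ↥K, (k' : G) = g * (k : G) * g⁻¹ → (η.1 : ↥K → ℂ) k' = (θ.1 : ↥K → ℂ) k)) = Nat.card (Quot (fun x y : {x : ↥K // IsConj x x⁻¹} => ∃ g : G, (y.1 : G) = g * x.1 * g⁻¹)) := by
  classical
  letI := Fintype.ofFinite G
  let cj : G → ↥K ≃* ↥K := fun g => MulAut.conjNormal g
  have hcj : ∀ (g : G) (k : ↥K), ((cj g k : ↥K) : G) = g * k * g⁻¹ := fun g k =>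
    MulAut.conjNormal_apply g k
  have hinner : ∀ g : G, g ∈ K → ∀ k : ↥K, IsConj k (cj g k) := fun g hg k =>
    isConj_iff.mpr ⟨⟨g, hg⟩, Subtype.ext (by rw [hcj]; rfl)⟩
  have hmul : ∀ (g h : G) (k : ↥K), cj (g * h) k = cj g (cj h k) := fun g h k => by
    simp only [cj, map_mul, MulAut.mul_apply]
  have hone : ∀ k : ↥K, cj 1 k = k := fun k => by simp [cj]
  -- iterate an inversion twisted by `g` an odd number of times
  have hiter : ∀ {α : Type _} (F : ↥K → α) (g : G), (∀ k : ↥K, F (cj g k⁻¹) = F k) →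
      ∀ j : ℕ, ∀ k : ↥K, F (cj (g ^ (2 * j + 1)) k⁻¹) = F k ∧ F (cj (g ^ (2 * j)) k) = F k := by
    intro α F g hF j
    induction j with
    | zero => intro k; exact ⟨by simpa using hF k, by simp [cj]⟩
    | succ j ih =>
      intro k
      have h2 : F (cj (g ^ (2 * (j + 1))) k) = F k := by
        rw [show 2 * (j + 1) = 1 + (2 * j + 1) by ring, pow_add, pow_one, hmul]
        have h3 := hF (cj (g ^ (2 * j + 1)) k)⁻¹
        rw [inv_inv] at h3
        rw [h3, ← map_inv]
        exact (ih k).1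
      refine ⟨?_, h2⟩
      rw [show 2 * (j + 1) + 1 = 1 + 2 * (j + 1) by ring, pow_add, pow_one, hmul, map_inv, hF]
      exact h2
  let X := {θ : Cfsg.IrrCharacter ↥K // ∀ k : ↥K, ((θ : ↥K → ℂ) k).im = 0}
  let Y := {C : ConjClasses ↥K // ∀ k : ↥K, ConjClasses.mk k = C → ConjClasses.mk k⁻¹ = C}
  letI aX : MulAction G X :=
    { smul := fun g θ => ⟨⟨fun k => (θ.1 : ↥K → ℂ) (cj g⁻¹ k),
          Agent.Char.isIrrCharacter_comp_mulEquiv θ.1.2 (cj g⁻¹)⟩, fun k => θ.2 _⟩
      one_smul := fun θ => Subtype.ext (Subtype.ext (funext fun k => by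
        show (θ.1 : ↥K → ℂ) (cj (1 : G)⁻¹ k) = _
        simp [cj]))
      mul_smul := fun g h θ => Subtype.ext (Subtype.ext (funext fun k => by
        show (θ.1 : ↥K → ℂ) (cj (g * h)⁻¹ k) = (θ.1 : ↥K → ℂ) (cj h⁻¹ (cj g⁻¹ k))
        rw [mul_inv_rev, hmul])) }
  letI aY : MulAction G Y :=
    { smul := fun g C => ⟨ConjClasses.map (cj g).toMonoidHom C.1, by
        obtain ⟨C, hC⟩ := C; obtain ⟨c, rfl⟩ := ConjClasses.mk_surjective C
        intro k hk
        simp only at hk ⊢
        rw [← hk, ConjClasses.mk_eq_mk_iff_isConj]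
        have h1 : IsConj k (cj g c) := ConjClasses.mk_eq_mk_iff_isConj.mp hk
        have h2 := ConjClasses.mk_eq_mk_iff_isConj.mp (hC c rfl)
        refine (Agent.RealChar.isConj_inv_iff.mp h1).trans ?_
        rw [← map_inv]
        exact ((Agent.RealChar.isConj_mulEquiv_iff (cj g)).mp h2).trans h1.symm⟩
      one_smul := fun C => by
        obtain ⟨C, hC⟩ := C; obtain ⟨c, rfl⟩ := ConjClasses.mk_surjective C
        exact Subtype.ext (by show ConjClasses.mk (cj (1 : G) c) = ConjClasses.mk c; simp [cj])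
      mul_smul := fun g h C => by
        obtain ⟨C, hC⟩ := C; obtain ⟨c, rfl⟩ := ConjClasses.mk_surjective C
        exact Subtype.ext (by
          show ConjClasses.mk (cj (g * h) c) = ConjClasses.mk (cj g (cj h c)); rw [hmul]) }
  have hfix : ∀ g : G, Nat.card (MulAction.fixedBy X g) = Nat.card (MulAction.fixedBy Y g) := by
    intro g
    obtain ⟨j, hj⟩ := hodd
    have hgK : g⁻¹ ^ (2 * j + 1) ∈ K := hj ▸ K.pow_index_mem g⁻¹
    have key := Agent.RealChar.card_fixed_inv_aut_eq (cj g⁻¹)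
    refine Eq.trans ?_ (key.trans ?_)
    · refine Nat.card_congr ⟨fun θ => ⟨θ.1.1, fun k => ?_⟩, fun χ => ⟨⟨χ.1, ?_⟩, ?_⟩, fun _ => rfl,
        fun _ => rfl⟩
      · have h1 := congrFun (congrArg (fun t : X => (t.1 : ↥K → ℂ)) θ.2) k⁻¹
        exact h1.trans ((Agent.RealChar.real_iff_apply_inv θ.1.1).mp θ.1.2 k)
      · rw [Agent.RealChar.real_iff_apply_inv]
        intro k
        have h1 := (hiter (χ.1 : ↥K → ℂ) g⁻¹ χ.2 j k).1
        rw [← h1]
        exact Agent.Char.isClassFunction_eq_of_isConj (Agent.Char.irr_isClassFunction χ.1.2)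
          (hinner _ hgK k⁻¹)
      · have hreal : ∀ k : ↥K, (χ.1 : ↥K → ℂ) k⁻¹ = (χ.1 : ↥K → ℂ) k := by
          intro k
          have h1 := (hiter (χ.1 : ↥K → ℂ) g⁻¹ χ.2 j k).1
          rw [← h1]
          exact Agent.Char.isClassFunction_eq_of_isConj (Agent.Char.irr_isClassFunction χ.1.2)
            (hinner _ hgK k⁻¹)
        refine Subtype.ext (Subtype.ext (funext fun k => ?_))
        have h1 := χ.2 k⁻¹
        rw [inv_inv, hreal] at h1
        exact h1
    · refine Nat.card_congr ⟨fun C => ⟨⟨C.1, ?_⟩, ?_⟩, fun C => ⟨C.1.1, ?_⟩, fun _ => rfl,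
        fun _ => rfl⟩
      · intro k hk
        have hF : ∀ x : ↥K, (ConjClasses.mk (cj g⁻¹ x⁻¹) = C.1) = (ConjClasses.mk x = C.1) := by
          intro x
          refine propext ⟨fun h => ?_, fun h => C.2 x h⟩
          rw [← C.2 k hk, ConjClasses.mk_eq_mk_iff_isConj] at h
          rw [← hk, ConjClasses.mk_eq_mk_iff_isConj]
          exact Agent.RealChar.isConj_inv_iff.mpr
            ((Agent.RealChar.isConj_mulEquiv_iff (cj g⁻¹)).mpr h)
        have h1 := (hiter (fun x => ConjClasses.mk x = C.1) g⁻¹ hF j k).1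
        rw [← ConjClasses.mk_eq_mk_iff_isConj.mpr (hinner _ hgK k⁻¹)] at h1
        exact h1.mpr hk
      · obtain ⟨C, hC⟩ := C; obtain ⟨c, rfl⟩ := ConjClasses.mk_surjective C
        refine Subtype.ext ?_
        show ConjClasses.mk (cj g c) = ConjClasses.mk c
        have h1 : IsConj (cj g⁻¹ c⁻¹) c := ConjClasses.mk_eq_mk_iff_isConj.mp (hC c rfl)
        have h2 := (Agent.RealChar.isConj_mulEquiv_iff (cj g)).mp h1
        rw [← hmul, mul_inv_cancel] at h2
        have h3 : IsConj c⁻¹ c := by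
          have hF : ∀ x : ↥K, (ConjClasses.mk (cj g⁻¹ x⁻¹) = ConjClasses.mk c) =
              (ConjClasses.mk x = ConjClasses.mk c) := by
            intro x
            refine propext ⟨fun h => ?_, fun h => hC x h⟩
            rw [ConjClasses.mk_eq_mk_iff_isConj] at h ⊢
            exact Agent.RealChar.isConj_inv_iff.mpr
              ((Agent.RealChar.isConj_mulEquiv_iff (cj g⁻¹)).mpr (h.trans h1.symm))
          have h4 := (hiter (fun x => ConjClasses.mk x = ConjClasses.mk c) g⁻¹ hF j c).1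
          rw [← ConjClasses.mk_eq_mk_iff_isConj.mpr (hinner _ hgK c⁻¹)] at h4
          exact ConjClasses.mk_eq_mk_iff_isConj.mp (h4.mpr rfl)
        rw [ConjClasses.mk_eq_mk_iff_isConj]
        rw [hone] at h2
        exact h2.symm.trans h3
      · intro k hk
        obtain ⟨⟨C, hC⟩, hg⟩ := C
        subst hk
        have h1 : ConjClasses.mk (cj g k⁻¹) = ConjClasses.mk k := by
          have h2 : ConjClasses.mk (cj g k) = ConjClasses.mk k := congrArg Subtype.val hg
          rw [← h2, ConjClasses.mk_eq_mk_iff_isConj]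
          exact (Agent.RealChar.isConj_mulEquiv_iff (cj g)).mp
            (ConjClasses.mk_eq_mk_iff_isConj.mp (hC k rfl))
        rw [ConjClasses.mk_eq_mk_iff_isConj]
        have h3 := (Agent.RealChar.isConj_mulEquiv_iff (cj g⁻¹)).mp
          (ConjClasses.mk_eq_mk_iff_isConj.mp h1)
        rw [← hmul, inv_mul_cancel] at h3
        rw [hone] at h3
        have h4 := Agent.RealChar.isConj_inv_iff.mp h3.symm
        rw [inv_inv, ← map_inv] at h4
        exact h4
  have hburn : ∀ (Z : Type _) [MulAction G Z] [Finite Z],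
      ∑ g : G, Nat.card (MulAction.fixedBy Z g) =
        Nat.card (MulAction.orbitRel.Quotient G Z) * Nat.card G := by
    intro Z _ _
    haveI : Fintype (MulAction.orbitRel.Quotient G Z) := Fintype.ofFinite _
    haveI : Fintype Z := Fintype.ofFinite Z
    simp only [Nat.card_eq_fintype_card]
    exact MulAction.sum_card_fixedBy_eq_card_orbits_mul_card_group G Z
  have horb : Nat.card (MulAction.orbitRel.Quotient G X) =
      Nat.card (MulAction.orbitRel.Quotient G Y) := by
    have h1 := hburn X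
    rw [Finset.sum_congr rfl fun g _ => hfix g, hburn Y] at h1
    exact (Nat.eq_of_mul_eq_mul_right Nat.card_pos h1).symm
  refine Eq.trans ?_ (horb.trans ?_)
  · refine Nat.card_congr (Quot.congrRight fun θ η => ?_)
    refine ⟨fun ⟨g, hg⟩ => ⟨g⁻¹, ?_⟩, fun ⟨g, hg⟩ => ⟨g⁻¹, fun k k' hk => ?_⟩⟩
    · refine Subtype.ext (Subtype.ext (funext fun k => ?_))
      show (η.1 : ↥K → ℂ) (cj g⁻¹⁻¹ k) = (θ.1 : ↥K → ℂ) k
      rw [inv_inv]
      exact hg k _ (hcj g k)
    · subst hg
      show (η.1 : ↥K → ℂ) k' = (η.1 : ↥K → ℂ) (cj g⁻¹ k)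
      exact congrArg _ (Subtype.ext (by rw [hk, hcj]))
  · let F : {x : ↥K // IsConj x x⁻¹} → Y := fun x => ⟨ConjClasses.mk x.1, fun k hk => by
      rw [← hk, ConjClasses.mk_eq_mk_iff_isConj]
      have h := ConjClasses.mk_eq_mk_iff_isConj.mp hk
      exact ((Agent.RealChar.isConj_inv_iff.mp h).trans x.2.symm).trans h.symm⟩
    let f : Quot (fun x y : {x : ↥K // IsConj x x⁻¹} => ∃ g : G, (y.1 : G) = g * x.1 * g⁻¹) →
        MulAction.orbitRel.Quotient G Y :=
      Quot.lift (fun x => Quotient.mk'' (F x)) (by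
        rintro x y ⟨g, hg⟩
        refine Quotient.eq''.mpr ⟨g⁻¹, Subtype.ext ?_⟩
        show ConjClasses.mk (cj g⁻¹ y.1) = ConjClasses.mk x.1
        refine congrArg _ (Subtype.ext ?_)
        rw [hcj, hg]; group)
    refine (Nat.card_eq_of_bijective f ⟨?_, ?_⟩).symm
    · rintro ⟨x⟩ ⟨y⟩ h
      obtain ⟨g, hg⟩ := Quotient.eq''.mp h
      have h1 : IsConj (cj g y.1) x.1 :=
        ConjClasses.mk_eq_mk_iff_isConj.mp (congrArg Subtype.val hg)
      obtain ⟨c, hc⟩ := isConj_iff.mp h1
      refine (Quot.sound ⟨(c : G) * g, ?_⟩).symm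
      rw [← hc]
      push_cast
      rw [hcj]; group
    · intro q
      obtain ⟨⟨C, hC⟩, rfl⟩ := Quotient.mk''_surjective q
      obtain ⟨c, rfl⟩ := ConjClasses.mk_surjective C
      exact ⟨Quot.mk _ ⟨c, (ConjClasses.mk_eq_mk_iff_isConj.mp (hC c rfl)).symm⟩, rfl⟩

end Cfsg.Agent.S4866
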