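import Cfsg.Agent.Brauer.Inflation
import Cfsg.Agent.S4653
import Cfsg.Agent.PGroup.Frattini

/-!
S4964: blocks of `G` and of `G / D'` for a normal `p`-subgroup `D`.
-/

set_option autoImplicit false
set_option linter.style.haveILetI false
open Cfsg
open scoped ComplexConjugate

namespace Cfsg.Agent.S4964

open Cfsg.Agent.Brauer Cfsg.Agent.Block

universe u

variable {G : Type u} [Group G] [Finite G] {p : ℕ} {M : Ideal AlgInt}

theorem not_dvd_iff_coprime (hp : p.Prime) {n : ℕ} : ¬ p ∣ n ↔ n.Coprime p :=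
  (Nat.coprime_comm.trans hp.coprime_iff_not_dvd).symm

/-- A block idempotent lives on p-regular elements centralizing a normal p-subgroup. -/
theorem blockCoeff_eq_zero (hM : IsPModular p M) {P : Subgroup G} [P.Normal] (hP : IsPGroup p P)
    {B : Set (IrrCharacter G)} (hB : IsPBlock M B) {g : G}
    (hg : ¬ (¬ p ∣ orderOf g ∧ g ∈ Subgroup.centralizer (P : Set G))) : blockCoeff B g = 0 := by
  haveI : M.IsPrime := hM.2.1.isPrime
  haveI : Fact p.Prime := ⟨hM.1⟩
  haveI := Fintype.ofFinite G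
  by_cases h : p ∣ orderOf g
  · exact Brauer.blockCoeff_eq_zero_of_integral hM B (blockCoeff_memLocalRing hB) h
  · exact S4653.result p M hM P hP B hB g fun hc => hg ⟨h, hc⟩

/-- Congruence on the p-regular classes centralizing a normal p-subgroup suffices. -/
theorem sameBlock_of_regular_centralizing (hM : IsPModular p M) {P : Subgroup G} [P.Normal]
    (hP : IsPGroup p P) (χ ψ : IrrCharacter G)
    (h : ∀ g : G, ¬ p ∣ orderOf g → g ∈ Subgroup.centralizer (P : Set G) →
      MemLocalIdeal M (centralChar (χ : G → ℂ) g - centralChar (ψ : G → ℂ) g)) :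
    SameBlock M (χ : G → ℂ) (ψ : G → ℂ) := by
  classical
  haveI : M.IsPrime := hM.2.1.isPrime
  haveI := Fintype.ofFinite G
  have hB : IsPBlock M (blockOf M (χ : G → ℂ)) := isPBlock_blockOf χ
  haveI : Finite (ConjClasses G) := Finite.of_surjective _ ConjClasses.mk_surjective
  haveI := Fintype.ofFinite (ConjClasses G)
  have h1 : MemLocalIdeal M (omega (χ : G → ℂ) (toC M (idemS M (blockOf M (χ : G → ℂ)))) -
      omega (ψ : G → ℂ) (toC M (idemS M (blockOf M (χ : G → ℂ))))) := by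
    rw [isCentralElt_eq_sum_classSum (idemS_isCentralElt (blockOf M (χ : G → ℂ)))]
    simp only [map_sum, mapR_smul, map_smul, smul_eq_mul, ← Finset.sum_sub_distrib, ← mul_sub]
    refine memLocalIdeal_sum _ _ fun c _ => ?_
    by_cases hc : ¬ p ∣ orderOf c.out ∧ c.out ∈ Subgroup.centralizer (P : Set G)
    · refine memLocalIdeal_mul_left ((idemS M _).coeff c.out).2 ?_
      rw [mapR_classSum, centralChar_eq _ (Char.irr_isClassFunction χ.2),
        centralChar_eq _ (Char.irr_isClassFunction ψ.2)]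
      exact h _ hc.1 hc.2
    · have h0 : (idemS M (blockOf M (χ : G → ℂ))).coeff c.out = 0 := by
        apply Subtype.ext
        have h2 := congrArg (fun a : MonoidAlgebra ℂ G => a.coeff c.out) (toC_idemS hB)
        simp only [coeff_mapR, coeff_blockIdem, blockCoeff_eq_zero hM hP hB hc] at h2
        exact h2
      rw [h0]; simp [memLocalIdeal_zero]
  rw [omega_idemS hB, omega_idemS hB, if_pos (mem_blockOf_self χ)] at h1
  by_contra hn
  rw [if_neg (show ψ ∉ blockOf M (χ : G → ℂ) from hn), sub_zero] at h1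
  exact not_memLocalIdeal_one h1

variable [Fact p.Prime] {D : Subgroup G} [D.Normal]

theorem map_frattini_ge (hD : IsPGroup p D) : ⁅D, D⁆ ≤ (frattini ↥D).map D.subtype := by
  rw [← Subgroup.map_subtype_commutator]
  exact Subgroup.map_mono (PGroup.commutator_le_frattini hD)

/-- Regular elements centralizing `D/D'` centralize `D`. -/
theorem mem_centralizer_of_mk (hD : IsPGroup p D) {y : G} (hy : (orderOf y).Coprime p)
    (h : (y : G ⧸ ⁅D, D⁆) ∈ Subgroup.centralizer
      ((D.map (QuotientGroup.mk' ⁅D, D⁆) : Subgroup (G ⧸ ⁅D, D⁆)) : Set (G ⧸ ⁅D, D⁆))) :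
    y ∈ Subgroup.centralizer (D : Set G) := by
  have hc := PGroup.commute_of_coprime_of_frattini hD hy
    (by rw [Subgroup.normalizer_eq_top_iff.2 ‹D.Normal›]; trivial) fun x hx => map_frattini_ge hD ?_
  · rw [Subgroup.mem_centralizer_iff]
    exact fun x hx => (hc x hx).symm
  · rw [← QuotientGroup.eq_one_iff]
    have := Subgroup.mem_centralizer_iff.1 h _ ⟨x, hx, rfl⟩
    simp only [QuotientGroup.coe_mk'] at this
    rw [QuotientGroup.mk_mul, QuotientGroup.mk_mul, QuotientGroup.mk_mul, QuotientGroup.mk_inv,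
      QuotientGroup.mk_inv, ← this, mul_inv_cancel_right, inv_mul_cancel]

/-- Regular lifts of centralizing elements are unique up to conjugation. -/
theorem conj_eq_of_mk (hD : IsPGroup p D) {y x c : G} (hy : (orderOf y).Coprime p)
    (hyD : y ∈ Subgroup.centralizer (D : Set G)) (hx : (orderOf x).Coprime p)
    (h : ((c * y * c⁻¹ : G) : G ⧸ ⁅D, D⁆) = (x : G ⧸ ⁅D, D⁆)) : c * y * c⁻¹ = x := by
  have hz : c * y * c⁻¹ ∈ Subgroup.centralizer (D : Set G) :=
    (inferInstance : (Subgroup.centralizer (D : Set G)).Normal).conj_mem _ hyD _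
  have hm : (orderOf (c * y * c⁻¹)).Coprime p := by
    rw [show c * y * c⁻¹ = MulAut.conj c y from rfl, MulEquiv.orderOf_eq]; exact hy
  have hn : (c * y * c⁻¹)⁻¹ * x ∈ D := Subgroup.commutator_le_self D (QuotientGroup.eq.1 h)
  have hcomm : Commute (c * y * c⁻¹) ((c * y * c⁻¹)⁻¹ * x) :=
    (Subgroup.mem_centralizer_iff.1 hz _ hn).symm
  obtain ⟨k, hk⟩ := (IsPGroup.iff_orderOf.1 hD) ⟨_, hn⟩
  rw [← Subgroup.orderOf_coe] at hk
  have hco : (orderOf (c * y * c⁻¹)).Coprime (orderOf ((c * y * c⁻¹)⁻¹ * x)) := by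
    rw [hk]; exact hm.pow_right k
  have h2 := hcomm.orderOf_mul_eq_mul_orderOf_of_coprime hco
  rw [mul_inv_cancel_left] at h2
  have h3 : orderOf ((c * y * c⁻¹)⁻¹ * x) = 1 := by
    refine Nat.eq_one_of_dvd_coprimes (Nat.Coprime.pow_right k hx) ?_ (dvd_of_eq hk)
    exact Dvd.intro_left _ h2.symm
  exact inv_mul_eq_one.1 (orderOf_eq_one_iff.1 h3)

theorem centralChar_comp_mk (hD : IsPGroup p D) {y : G} (hy : (orderOf y).Coprime p)
    (hyD : y ∈ Subgroup.centralizer (D : Set G)) (F : G ⧸ ⁅D, D⁆ → ℂ) :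
    centralChar (F ∘ QuotientGroup.mk) y = centralChar F (y : G ⧸ ⁅D, D⁆) := by
  have he : (Subgroup.centralizer ({(y : G ⧸ ⁅D, D⁆)} : Set (G ⧸ ⁅D, D⁆))).comap
      (QuotientGroup.mk' ⁅D, D⁆) = Subgroup.centralizer ({y} : Set G) := by
    refine le_antisymm (fun c hc => ?_) (centralizer_le_comap_mk _ y)
    rw [Subgroup.mem_comap, Subgroup.mem_centralizer_singleton_iff, QuotientGroup.mk'_apply] at hc
    rw [Subgroup.mem_centralizer_singleton_iff]
    have h := conj_eq_of_mk hD hy hyD hy (c := c) (by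
      rw [QuotientGroup.mk_mul, QuotientGroup.mk_mul, QuotientGroup.mk_inv, hc, mul_inv_cancel_right])
    calc c * y = c * y * c⁻¹ * c := by rw [inv_mul_cancel_right]
      _ = y * c := by rw [h]
  haveI := Fintype.ofFinite G
  rw [centralChar, centralChar, ← index_comap_centralizer_mk, he, Function.comp_apply,
    Function.comp_apply, QuotientGroup.mk_one]

/-- Let D be a normal p-subgroup of the finite group G, let D′ be its commutator subgroup (normal in G), and fix a maximal ideal M of the algebraic integers containing p. Then (i) two irreducible characters of G ⧸ D′ lie in the same p-block if and only if their inflations to G do, and (ii) every p-block of G contains the inflation of some irreducible character of G ⧸ D′; so inflation induces a bijection between the p-blocks of G ⧸ D′ and the p-blocks of G. -/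
theorem result {G : Type*} [Group G] [Finite G] (p : ℕ) [Fact p.Prime] (M : Ideal Cfsg.AlgInt) (hM : Cfsg.IsPModular p M) (D : Subgroup G) [D.Normal] (hD : IsPGroup p D) : (∀ χ ψ : Cfsg.IrrCharacter (G ⧸ ⁅D, D⁆), Cfsg.SameBlock M (χ : G ⧸ ⁅D, D⁆ → ℂ) (ψ : G ⧸ ⁅D, D⁆ → ℂ) ↔ Cfsg.SameBlock M ((χ : G ⧸ ⁅D, D⁆ → ℂ) ∘ QuotientGroup.mk) ((ψ : G ⧸ ⁅D, D⁆ → ℂ) ∘ QuotientGroup.mk)) ∧ ∀ B : Set (Cfsg.IrrCharacter G), Cfsg.IsPBlock M B → ∃ χ : Cfsg.IrrCharacter (G ⧸ ⁅D, D⁆), ∃ θ ∈ B, (θ : G → ℂ) = (χ : G ⧸ ⁅D, D⁆ → ℂ) ∘ QuotientGroup.mk := by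
  classical
  haveI : M.IsPrime := hM.2.1.isPrime
  haveI := Fintype.ofFinite G
  have hp : p.Prime := Fact.out
  haveI : (D.map (QuotientGroup.mk' ⁅D, D⁆)).Normal :=
    Subgroup.Normal.map ‹_› _ (QuotientGroup.mk'_surjective _)
  have hDb : IsPGroup p (D.map (QuotientGroup.mk' ⁅D, D⁆)) := hD.map _
  have lift : ∀ z : G ⧸ ⁅D, D⁆, ¬ p ∣ orderOf z →
      z ∈ Subgroup.centralizer
        ((D.map (QuotientGroup.mk' ⁅D, D⁆) : Subgroup (G ⧸ ⁅D, D⁆)) : Set (G ⧸ ⁅D, D⁆)) →
      ∃ y : G, (y : G ⧸ ⁅D, D⁆) = z ∧ (orderOf y).Coprime p ∧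
        y ∈ Subgroup.centralizer (D : Set G) := by
    intro z hz hzD
    obtain ⟨y, hy, hyp⟩ := Element.exists_pPrimeElement_preimage hp (QuotientGroup.mk' ⁅D, D⁆)
      (QuotientGroup.mk'_surjective _) ((not_dvd_iff_coprime hp).1 hz)
    exact ⟨y, hy, hyp, mem_centralizer_of_mk hD hyp (by rw [← QuotientGroup.mk'_apply, hy]; exact hzD)⟩
  refine ⟨fun χ ψ => ⟨sameBlock_comp_mk _, fun h => ?_⟩, fun B hB => ?_⟩
  · refine sameBlock_of_regular_centralizing hM hDb χ ψ fun z hz hzD => ?_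
    obtain ⟨y, rfl, hyp, hyD⟩ := lift z hz hzD
    rw [← centralChar_comp_mk hD hyp hyD, ← centralChar_comp_mk hD hyp hyD]
    exact h y
  · by_contra hcon
    push Not at hcon
    have hpos : blockCoeff B 1 ≠ 0 := by
      obtain ⟨φ, hφ⟩ := pBlock_nonempty hB
      rw [blockCoeff_eq_sum]
      refine mul_ne_zero (inv_ne_zero (Nat.cast_ne_zero.2 Nat.card_pos.ne')) fun h0 => ?_
      have h1 := congrArg Complex.re h0
      rw [Complex.re_sum, Complex.zero_re] at h1
      refine (Finset.sum_pos (fun θ hθ => ?_) ⟨φ, by simp [hφ]⟩).ne' h1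
      obtain ⟨d, hd0, hd⟩ := Char.irr_one_pos θ.2
      rw [hd, Complex.conj_natCast, ← Nat.cast_mul, Complex.natCast_re]
      exact_mod_cast Nat.mul_pos hd0 hd0
    refine hpos ?_
    have hsum : ∀ χ : IrrCharacter (G ⧸ ⁅D, D⁆),
        ∑ g : G, blockCoeff B g * (χ : G ⧸ ⁅D, D⁆ → ℂ) (g : G ⧸ ⁅D, D⁆) = 0 := by
      intro χ
      let θ : IrrCharacter G := ⟨(χ : G ⧸ ⁅D, D⁆ → ℂ) ∘ QuotientGroup.mk,
        Char.isIrrCharacter_comp χ.2 (QuotientGroup.mk' _) (QuotientGroup.mk'_surjective _)⟩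
      have hθ : θ ∉ B := fun hθ => hcon χ θ hθ rfl
      have := omega_blockIdem B θ
      rw [if_neg hθ, omega_eq_sum, div_eq_zero_iff] at this
      simpa [coeff_blockIdem, θ, Char.irr_one_ne_zero χ.2] using this
    have h1 : ∑ g : G, blockCoeff B g *
        ∑ χ : IrrCharacter (G ⧸ ⁅D, D⁆), (χ : G ⧸ ⁅D, D⁆ → ℂ) (g : G ⧸ ⁅D, D⁆) *
          conj ((χ : G ⧸ ⁅D, D⁆ → ℂ) ((1 : G) : G ⧸ ⁅D, D⁆)) = 0 := by
      simp only [Finset.mul_sum]
      rw [Finset.sum_comm]
      refine Finset.sum_eq_zero fun χ _ => ?_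
      simp only [← mul_assoc, ← Finset.sum_mul, hsum, zero_mul]
    simp only [Char.sum_irr_mul_conj] at h1
    rw [Finset.sum_eq_single (1 : G)] at h1
    · rw [if_pos (IsConj.refl _), mul_eq_zero] at h1
      exact h1.resolve_right (Nat.cast_ne_zero.2 Nat.card_pos.ne')
    · intro g _ hg
      by_cases hbc : ¬ p ∣ orderOf g ∧ g ∈ Subgroup.centralizer (D : Set G)
      · rw [if_neg, mul_zero]
        intro hc
        obtain ⟨c, hc'⟩ := isConj_iff.1 hc
        obtain ⟨c, rfl⟩ := QuotientGroup.mk_surjective c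
        have := conj_eq_of_mk hD ((not_dvd_iff_coprime hp).1 hbc.1) hbc.2
          (by rw [orderOf_one]; exact Nat.coprime_one_left _) (c := c) (by simpa using hc')
        exact hg (conj_eq_one_iff.1 this)
      · rw [blockCoeff_eq_zero hM hD hB hbc, zero_mul]
    · exact fun h => absurd (Finset.mem_univ _) h

end Cfsg.Agent.S4964
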