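import Cfsg.Statements.S4997
import Cfsg.Agent.VanishOrd.Orders

set_option autoImplicit false
open Cfsg

namespace Cfsg.Agent.S4997

/-- Let p be an odd prime and G a finite solvable group with exactly one conjugacy class consisting of vanishing elements (elements at which some irreducible complex character is zero) of order divisible by p. Let P be a Sylow p-subgroup of G. Then the order of P is at most p times the order of the largest normal p-subgroup of G. -/
theorem result {G : Type*} [Group G] [Finite G] (hsolv : Group.IsSolvable G) (p : ℕ) [Fact p.Prime] (hp : p ≠ 2) (h1 : Set.ncard {C : ConjClasses G | (∀ g ∈ C.carrier, ∃ χ : Cfsg.IrrCharacter G, (χ : G → ℂ) g = 0) ∧ ∃ g ∈ C.carrier, p ∣ orderOf g} = 1) (P : Sylow p G) : Nat.card ↥(P : Subgroup G) ≤ p * Nat.card ↥(Cfsg.pCore p G) := by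
  classical
  haveI := hsolv
  have hp' : p.Prime := Fact.out
  obtain ⟨C, hC⟩ := Set.ncard_eq_one.mp h1
  have hmem : ∀ g : G, p ∣ orderOf g → Cfsg.Agent.VanishOrd.Van g → ConjClasses.mk g = C := by
    rintro g hg ⟨χ, hχ⟩
    have h : ConjClasses.mk g ∈ ({C} : Set (ConjClasses G)) := hC ▸ ⟨fun y hy => ⟨χ, by
      rw [Cfsg.Agent.Char.isClassFunction_eq_of_isConj (Cfsg.Agent.Char.irr_isClassFunction χ.2)
        (ConjClasses.mk_eq_mk_iff_isConj.mp (ConjClasses.mem_carrier_iff_mk_eq.mp hy))]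
      exact hχ⟩, g, ConjClasses.mem_carrier_mk, hg⟩
    exact h
  have hord : ∀ g g' : G, p ∣ orderOf g → Cfsg.Agent.VanishOrd.Van g → p ∣ orderOf g' →
      Cfsg.Agent.VanishOrd.Van g' → orderOf g = orderOf g' := fun g g' a b c d => by
    obtain ⟨u, hu⟩ := isConj_iff.mp (ConjClasses.mk_eq_mk_iff_isConj.mp ((hmem g a b).trans (hmem g' c d).symm))
    rw [← hu]
    exact ((MulAut.conj u).orderOf_eq g).symm
  have hv : Cfsg.Agent.VanishOrd.VHyp p G := by
    constructor
    · rintro ⟨x, hx1, ⟨k, hk⟩, hx⟩ g hg hpg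
      have hk0 : k ≠ 0 := fun e => hx1 (orderOf_eq_one_iff.mp (by rw [hk, e, pow_zero]))
      exact ⟨k, by rw [hord g x hpg hg (hk ▸ dvd_pow_self p hk0) hx, hk]⟩
    · rintro x ⟨k, hk⟩ hx hne hvx
      have hk0 : k ≠ 0 := fun e => hne (by
        rw [orderOf_eq_one_iff.mp (show orderOf x = 1 by rw [hk, e, pow_zero]), one_pow])
      have h1 : orderOf (x ^ p) = p ^ (k - 1) := by
        rw [orderOf_pow' x hp'.ne_zero, hk, Nat.gcd_eq_right (dvd_pow_self p hk0)]
        obtain ⟨j, rfl⟩ : ∃ j, k = j + 1 := ⟨k - 1, by omega⟩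
        rw [pow_succ, Nat.mul_div_cancel _ hp'.pos, Nat.add_sub_cancel]
      have hk1 : k - 1 ≠ 0 := fun e => hne (orderOf_eq_one_iff.mp (by rw [h1, e, pow_zero]))
      have h3 := hord x (x ^ p) (hk ▸ dvd_pow_self p hk0) hx (h1 ▸ dvd_pow_self p hk1) hvx
      rw [h1, hk] at h3
      have := Nat.pow_right_injective hp'.two_le h3
      omega
  have hrel := Cfsg.Agent.VanishOrd.relIndex_pCore_dvd (p := p) (Nat.card G) G le_rfl hv P
  rw [← Subgroup.relIndex_bot_left (H := (P : Subgroup G)),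
    ← Subgroup.relIndex_mul_relIndex ⊥ (Cfsg.pCore p G) (P : Subgroup G) bot_le
      (Cfsg.Agent.Cores.pCore_le_sylow P), Subgroup.relIndex_bot_left, mul_comm]
  exact Nat.mul_le_mul_right _ (Nat.le_of_dvd hp'.pos hrel)

end Cfsg.Agent.S4997
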