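import Cfsg.Agent.Tech.NormalMeet
import Cfsg.Statements.S5129
-- import your own Cfsg.Agent.* helpers here

set_option autoImplicit false
open Cfsg

namespace Cfsg.Agent.S5129

/-- Let F be a saturated fusion system over a finite p-group S and E₁, E₂ normal subsystems over T₁, T₂. Then there is a normal subsystem of F over T₁ ∩ T₂ that is normal in E₁ and in E₂ and contains every other such subsystem. -/
theorem result {Ω : Type*} [Group Ω] {S : Subgroup Ω} [Finite S] (p : ℕ) [Fact p.Prime] (hS : IsPGroup p S) (F : Cfsg.FusionSystem S) (hF : F.IsSaturated p) {T₁ T₂ : Subgroup Ω} (E₁ : Cfsg.FusionSystem T₁) (E₂ : Cfsg.FusionSystem T₂) (h₁ : E₁.IsNormalIn F p) (h₂ : E₂.IsNormalIn F p) : ∃ D : Cfsg.FusionSystem (T₁ ⊓ T₂), (D.IsNormalIn F p ∧ D.IsNormalIn E₁ p ∧ D.IsNormalIn E₂ p) ∧ ∀ D' : Cfsg.FusionSystem (T₁ ⊓ T₂), D'.IsNormalIn F p → D'.IsNormalIn E₁ p → D'.IsNormalIn E₂ p → D'.IsSubsystemOf D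 := by
  have hd : Tech.Meet.Data p F E₁ E₂ := ⟨hS, hF, h₁.1.2.2, h₁.1.1, h₂.1.2.2, h₂.1.1⟩
  refine ⟨Tech.Meet.normalMeet hd, ⟨?_, ?_, ?_⟩,
    fun D hF h₁ h₂ => Tech.Meet.normalMeet_greatest hd hF h₁ h₂⟩
  · exact Tech.Meet.normalMeet_normal_in hd (fun _ _ h => h) le_rfl hF
      (Tech.Meet.meet_invariant hd) fun _ h => h.1
  · exact Tech.Meet.normalMeet_normal_in hd hd.inv₁.1 hd.inv₁.2.1.1 hd.sat₁
      (Tech.Meet.meet_invariant_sub hd hd.inv₁ hd.sat₁ inf_le_left Tech.Meet.meet_sub_left)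
      fun _ h => h.2.1
  · exact Tech.Meet.normalMeet_normal_in hd hd.inv₂.1 hd.inv₂.2.1.1 hd.sat₂
      (Tech.Meet.meet_invariant_sub hd hd.inv₂ hd.sat₂ inf_le_right Tech.Meet.meet_sub_right)
      fun _ h => h.2.2

end Cfsg.Agent.S5129
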