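import Cfsg.Agent.FusionSys.Basic
import Cfsg.Prelude.Def_FusionComponents
import Cfsg.Statements.S5136
-- import your own Cfsg.Agent.* helpers here

set_option autoImplicit false
open Cfsg

namespace Cfsg.Agent.S5136

open Cfsg.Agent.FusionSys Cfsg.FusionSystem

/-- Let F₁ and F₂ be fusion systems over finite p-groups S₁ and S₂ (inside ambient groups Ω₁ and Ω₂). Then their direct product exists: there is a fusion system over S₁ × S₂ inside Ω₁ × Ω₂ whose maps with source P ≤ S₁ × S₂ are exactly the restrictions to P of the homomorphisms (x₁, x₂) ↦ (φ₁ x₁, φ₂ x₂) with φ₁ a map of F₁ on the first projection of P and φ₂ a map of F₂ on the second projection. -/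
theorem result {Ω₁ Ω₂ : Type*} [Group Ω₁] [Group Ω₂] {S₁ : Subgroup Ω₁} {S₂ : Subgroup Ω₂} [Finite S₁] [Finite S₂] (p : ℕ) [Fact p.Prime] (h₁ : IsPGroup p S₁) (h₂ : IsPGroup p S₂) (F₁ : Cfsg.FusionSystem S₁) (F₂ : Cfsg.FusionSystem S₂) : ∃ E : Cfsg.FusionSystem (S₁.prod S₂), Cfsg.FusionSystem.IsProductSystem F₁ F₂ E := by
  have hker : ∀ {P : Subgroup (Ω₁ × Ω₂)}, P ≤ S₁.prod S₂ →
      P.map (MonoidHom.fst Ω₁ Ω₂) ≤ S₁ ∧ P.map (MonoidHom.snd Ω₁ Ω₂) ≤ S₂ := fun {P} hP =>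
    ⟨by rintro _ ⟨x, hx, rfl⟩; exact (hP hx).1, by rintro _ ⟨x, hx, rfl⟩; exact (hP hx).2⟩
  refine ⟨
    { Hom := fun P => {φ | P ≤ S₁.prod S₂ ∧
        ∃ φ₁ ∈ F₁.Hom (P.map (MonoidHom.fst Ω₁ Ω₂)), ∃ φ₂ ∈ F₂.Hom (P.map (MonoidHom.snd Ω₁ Ω₂)),
          ∀ (x : P) (h₁ : (x : Ω₁ × Ω₂).1 ∈ P.map (MonoidHom.fst Ω₁ Ω₂))
            (h₂ : (x : Ω₁ × Ω₂).2 ∈ P.map (MonoidHom.snd Ω₁ Ω₂)),
            φ x = (φ₁ ⟨(x : Ω₁ × Ω₂).1, h₁⟩, φ₂ ⟨(x : Ω₁ × Ω₂).2, h₂⟩)}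
      le_of_mem := ?_
      injective_of_mem := ?_
      conj_mem := ?_
      comp_mem := ?_
      inv_mem := ?_ }, fun P φ => Iff.rfl⟩
  · rintro P φ ⟨hP, φ₁, hφ₁, φ₂, hφ₂, he⟩
    refine ⟨hP, fun x => ?_⟩
    rw [he x ⟨_, x.2, rfl⟩ ⟨_, x.2, rfl⟩]
    exact ⟨map_mem_S F₁ hφ₁ _, map_mem_S F₂ hφ₂ _⟩
  · rintro P φ ⟨hP, φ₁, hφ₁, φ₂, hφ₂, he⟩ x y hxy
    rw [he x ⟨_, x.2, rfl⟩ ⟨_, x.2, rfl⟩, he y ⟨_, y.2, rfl⟩ ⟨_, y.2, rfl⟩] at hxy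
    have a := congrArg Subtype.val (F₁.injective_of_mem hφ₁ (congrArg Prod.fst hxy))
    have b := congrArg Subtype.val (F₂.injective_of_mem hφ₂ (congrArg Prod.snd hxy))
    exact Subtype.ext (Prod.ext a b)
  · intro P g hP hg
    exact ⟨hP, _, F₁.conj_mem (hker hP).1 hg.1, _, F₂.conj_mem (hker hP).2 hg.2,
      fun x _ _ => rfl⟩
  · rintro P Q φ ψ ⟨hP, φ₁, hφ₁, φ₂, hφ₂, he⟩ ⟨-, ψ₁, hψ₁, ψ₂, hψ₂, he'⟩ h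
    have m₁ : ∀ y : P.map (MonoidHom.fst Ω₁ Ω₂), φ₁ y ∈ Q.map (MonoidHom.fst Ω₁ Ω₂) := by
      rintro ⟨_, x, hx, rfl⟩
      refine ⟨φ ⟨x, hx⟩, h _, ?_⟩
      rw [he ⟨x, hx⟩ ⟨_, hx, rfl⟩ ⟨_, hx, rfl⟩]
      rfl
    have m₂ : ∀ y : P.map (MonoidHom.snd Ω₁ Ω₂), φ₂ y ∈ Q.map (MonoidHom.snd Ω₁ Ω₂) := by
      rintro ⟨_, x, hx, rfl⟩
      refine ⟨φ ⟨x, hx⟩, h _, ?_⟩
      rw [he ⟨x, hx⟩ ⟨_, hx, rfl⟩ ⟨_, hx, rfl⟩]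
      rfl
    refine ⟨hP, _, F₁.comp_mem hφ₁ hψ₁ m₁, _, F₂.comp_mem hφ₂ hψ₂ m₂, fun x h₁ h₂ => ?_⟩
    show ψ ⟨φ x, h x⟩ = _
    rw [he' ⟨φ x, h x⟩ ⟨_, h x, rfl⟩ ⟨_, h x, rfl⟩]
    refine Prod.ext ?_ ?_
    · exact congrArg ψ₁ (Subtype.ext (congrArg Prod.fst (he x h₁ h₂)))
    · exact congrArg ψ₂ (Subtype.ext (congrArg Prod.snd (he x h₁ h₂)))
  · rintro P φ ⟨hP, φ₁, hφ₁, φ₂, hφ₂, he⟩
    have e₁ : φ.range.map (MonoidHom.fst Ω₁ Ω₂) ≤ φ₁.range := by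
      rintro _ ⟨_, ⟨x, rfl⟩, rfl⟩
      rw [he x ⟨_, x.2, rfl⟩ ⟨_, x.2, rfl⟩]
      exact ⟨_, rfl⟩
    have e₂ : φ.range.map (MonoidHom.snd Ω₁ Ω₂) ≤ φ₂.range := by
      rintro _ ⟨_, ⟨x, rfl⟩, rfl⟩
      rw [he x ⟨_, x.2, rfl⟩ ⟨_, x.2, rfl⟩]
      exact ⟨_, rfl⟩
    obtain ⟨χ₁, hχ₁, hx₁⟩ := F₁.inv_mem hφ₁
    obtain ⟨χ₂, hχ₂, hx₂⟩ := F₂.inv_mem hφ₂
    let χ : φ.range →* Ω₁ × Ω₂ :=
      (((restr e₁ χ₁).comp ((MonoidHom.fst Ω₁ Ω₂).subgroupMap φ.range))).prod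
        (((restr e₂ χ₂).comp ((MonoidHom.snd Ω₁ Ω₂).subgroupMap φ.range)))
    refine ⟨χ, ⟨?_, _, restr_mem F₁ e₁ hχ₁, _, restr_mem F₂ e₂ hχ₂, fun x _ _ => rfl⟩, fun x => ?_⟩
    · rintro _ ⟨x, rfl⟩
      rw [he x ⟨_, x.2, rfl⟩ ⟨_, x.2, rfl⟩]
      exact ⟨map_mem_S F₁ hφ₁ _, map_mem_S F₂ hφ₂ _⟩
    · have hh := he x ⟨_, x.2, rfl⟩ ⟨_, x.2, rfl⟩
      refine Prod.ext ?_ ?_
      · refine Eq.trans ?_ (hx₁ ⟨_, x, x.2, rfl⟩)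
        exact congrArg χ₁ (Subtype.ext (congrArg Prod.fst hh))
      · refine Eq.trans ?_ (hx₂ ⟨_, x, x.2, rfl⟩)
        exact congrArg χ₂ (Subtype.ext (congrArg Prod.snd hh))

end Cfsg.Agent.S5136
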