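import Cfsg.Agent.FusionSys.Saturation
import Cfsg.Agent.FusionAlperin.GroupLemmas
import Cfsg.Prelude.Def_FusionComponents
import Cfsg.Statements.S5137
-- import your own Cfsg.Agent.* helpers here

set_option autoImplicit false
open Cfsg

namespace Cfsg.Agent.S5137

open Cfsg.Agent.FusionAlperin Cfsg.Agent.FusionSys Cfsg.FusionSystem

section
variable {Ω₁ Ω₂ : Type*} [Group Ω₁] [Group Ω₂] {S₁ : Subgroup Ω₁} {S₂ : Subgroup Ω₂}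
  {F₁ : Cfsg.FusionSystem S₁} {F₂ : Cfsg.FusionSystem S₂}
  {E : Cfsg.FusionSystem (S₁.prod S₂)}

/-- The first projection of a subgroup of a direct product. -/
abbrev proj₁ (P : Subgroup (Ω₁ × Ω₂)) : Subgroup Ω₁ := P.map (MonoidHom.fst Ω₁ Ω₂)

/-- The second projection of a subgroup of a direct product. -/
abbrev proj₂ (P : Subgroup (Ω₁ × Ω₂)) : Subgroup Ω₂ := P.map (MonoidHom.snd Ω₁ Ω₂)

theorem proj₁_mem {P : Subgroup (Ω₁ × Ω₂)} (x : P) : (x : Ω₁ × Ω₂).1 ∈ proj₁ P := ⟨x, x.2, rfl⟩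

theorem proj₂_mem {P : Subgroup (Ω₁ × Ω₂)} (x : P) : (x : Ω₁ × Ω₂).2 ∈ proj₂ P := ⟨x, x.2, rfl⟩

/-- The restriction to `P` of a product map. -/
def pairHom {A₁ : Subgroup Ω₁} {A₂ : Subgroup Ω₂} (φ₁ : A₁ →* Ω₁) (φ₂ : A₂ →* Ω₂)
    (P : Subgroup (Ω₁ × Ω₂)) (h₁ : proj₁ P ≤ A₁) (h₂ : proj₂ P ≤ A₂) : P →* Ω₁ × Ω₂ :=
  (((restr h₁ φ₁).comp ((MonoidHom.fst Ω₁ Ω₂).subgroupMap P))).prod
    (((restr h₂ φ₂).comp ((MonoidHom.snd Ω₁ Ω₂).subgroupMap P)))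

theorem pairHom_mem (hE : IsProductSystem F₁ F₂ E) {A₁ : Subgroup Ω₁} {A₂ : Subgroup Ω₂}
    {φ₁ : A₁ →* Ω₁} {φ₂ : A₂ →* Ω₂} (hφ₁ : φ₁ ∈ F₁.Hom A₁) (hφ₂ : φ₂ ∈ F₂.Hom A₂)
    {P : Subgroup (Ω₁ × Ω₂)} (hP : P ≤ S₁.prod S₂) (h₁ : proj₁ P ≤ A₁) (h₂ : proj₂ P ≤ A₂) :
    pairHom φ₁ φ₂ P h₁ h₂ ∈ E.Hom P :=
  (hE P _).2 ⟨hP, _, restr_mem F₁ h₁ hφ₁, _, restr_mem F₂ h₂ hφ₂, fun _ _ _ => rfl⟩

/-- Conjugation by a pair carries a subgroup to a given image. -/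
theorem exists_conj_pair (hE : IsProductSystem F₁ F₂ E) {A₁ : Subgroup Ω₁} {A₂ : Subgroup Ω₂}
    {φ₁ : A₁ →* Ω₁} {φ₂ : A₂ →* Ω₂} (hφ₁ : φ₁ ∈ F₁.Hom A₁) (hφ₂ : φ₂ ∈ F₂.Hom A₂)
    {P : Subgroup (Ω₁ × Ω₂)} (hP : P ≤ S₁.prod S₂) (h₁ : proj₁ P = A₁) (h₂ : proj₂ P = A₂) :
    E.IsConj P (pairHom φ₁ φ₂ P h₁.le h₂.le).range ∧
      proj₁ (pairHom φ₁ φ₂ P h₁.le h₂.le).range = φ₁.range ∧
      proj₂ (pairHom φ₁ φ₂ P h₁.le h₂.le).range = φ₂.range := by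
  refine ⟨⟨_, pairHom_mem hE hφ₁ hφ₂ hP _ _, rfl⟩, ?_, ?_⟩
  · ext y
    constructor
    · rintro ⟨_, ⟨x, rfl⟩, rfl⟩
      exact ⟨_, rfl⟩
    · rintro ⟨⟨a, ha⟩, rfl⟩
      obtain ⟨x, hx, rfl⟩ := h₁.ge ha
      exact ⟨_, ⟨⟨x, hx⟩, rfl⟩, rfl⟩
  · ext y
    constructor
    · rintro ⟨_, ⟨x, rfl⟩, rfl⟩
      exact ⟨_, rfl⟩
    · rintro ⟨⟨a, ha⟩, rfl⟩
      obtain ⟨x, hx, rfl⟩ := h₂.ge ha
      exact ⟨_, ⟨⟨x, hx⟩, rfl⟩, rfl⟩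

/-- The function on `P` given by a pair of automorphisms of the projections. -/
def pairFun {P₁ : Subgroup Ω₁} {P₂ : Subgroup Ω₂} (a : MulAut P₁ × MulAut P₂)
    (x : Ω₁ × Ω₂) (h₁ : x.1 ∈ P₁) (h₂ : x.2 ∈ P₂) : Ω₁ × Ω₂ :=
  ((a.1 ⟨x.1, h₁⟩ : P₁), (a.2 ⟨x.2, h₂⟩ : P₂))

/-- `a` maps `P` into `Q`. -/
def MapsInto {P₁ : Subgroup Ω₁} {P₂ : Subgroup Ω₂} (a : MulAut P₁ × MulAut P₂)
    (P Q : Subgroup (Ω₁ × Ω₂)) : Prop :=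
  ∀ x ∈ P, ∀ h₁ h₂, pairFun a x h₁ h₂ ∈ Q

theorem mapsInto_mul {P₁ : Subgroup Ω₁} {P₂ : Subgroup Ω₂} {a b : MulAut P₁ × MulAut P₂}
    {P Q R : Subgroup (Ω₁ × Ω₂)} (hb : MapsInto b P Q) (ha : MapsInto a Q R) :
    MapsInto (a * b) P R := fun x hx h₁ h₂ =>
  ha _ (hb x hx h₁ h₂) (b.1 ⟨x.1, h₁⟩).2 (b.2 ⟨x.2, h₂⟩).2

/-- The pairs stabilizing `P`, as a submonoid; a subgroup as the group is finite. -/
def stabPair {P₁ : Subgroup Ω₁} {P₂ : Subgroup Ω₂} [Finite P₁] [Finite P₂]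
    (P : Subgroup (Ω₁ × Ω₂)) : Subgroup (MulAut P₁ × MulAut P₂) where
  carrier := {a | MapsInto a P P}
  mul_mem' ha hb := mapsInto_mul hb ha
  one_mem' := fun x hx h₁ h₂ => hx
  inv_mem' := fun {a} ha => by
    have hpow : ∀ n : ℕ, MapsInto (a ^ n) P P := by
      intro n
      induction n with
      | zero => exact fun x hx h₁ h₂ => hx
      | succ n ih => rw [pow_succ]; exact mapsInto_mul ha ih
    have e : a ^ (orderOf a - 1) = a⁻¹ := by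
      refine eq_inv_of_mul_eq_one_left ?_
      rw [← pow_succ, Nat.sub_add_cancel (orderOf_pos a), pow_orderOf_eq_one]
    exact e ▸ hpow _

theorem sylIn_prod {G₁ G₂ : Type*} [Group G₁] [Group G₂] [Finite G₁] [Finite G₂] {p : ℕ}
    [Fact p.Prime] {T₁ A₁ : Subgroup G₁} {T₂ A₂ : Subgroup G₂} (h₁ : SylIn p T₁ A₁)
    (h₂ : SylIn p T₂ A₂) : SylIn p (T₁.prod T₂) (A₁.prod A₂) := by
  have hle : T₁.prod T₂ ≤ A₁.prod A₂ := Subgroup.prod_mono h₁.le h₂.le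
  obtain ⟨R, hR, hTR⟩ := exists_sylIn_ge (p := p) hle (show IsPGroup p (T₁.prod T₂) from fun x => by
    obtain ⟨i, hi⟩ := h₁.isPGroup ⟨_, x.2.1⟩
    obtain ⟨j, hj⟩ := h₂.isPGroup ⟨_, x.2.2⟩
    refine ⟨i + j, Subtype.ext (Prod.ext ?_ ?_)⟩
    · show (x : G₁ × G₂).1 ^ p ^ (i + j) = 1
      have : (x : G₁ × G₂).1 ^ p ^ i = 1 := congrArg Subtype.val hi
      rw [pow_add, pow_mul, this, one_pow]
    · show (x : G₁ × G₂).2 ^ p ^ (i + j) = 1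
      have : (x : G₁ × G₂).2 ^ p ^ j = 1 := congrArg Subtype.val hj
      rw [add_comm i j, pow_add, pow_mul, this, one_pow])
  have h1 : R.map (MonoidHom.fst G₁ G₂) ≤ T₁ := by
    refine h₁.le_of_ge ?_ (hR.isPGroup.map _) fun x hx => ⟨(x, 1), hTR ⟨hx, one_mem _⟩, rfl⟩
    rintro _ ⟨x, hx, rfl⟩
    exact (hR.le hx).1
  have h2 : R.map (MonoidHom.snd G₁ G₂) ≤ T₂ := by
    refine h₂.le_of_ge ?_ (hR.isPGroup.map _) fun x hx => ⟨(1, x), hTR ⟨one_mem _, hx⟩, rfl⟩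
    rintro _ ⟨x, hx, rfl⟩
    exact (hR.le hx).2
  have : R = T₁.prod T₂ :=
    le_antisymm (fun x hx => ⟨h1 ⟨x, hx, rfl⟩, h2 ⟨x, hx, rfl⟩⟩) hTR
  exact this ▸ hR

theorem sylIn_autInduced {Ω : Type*} [Group Ω] {S : Subgroup Ω} [Finite S] {p : ℕ} [Fact p.Prime]
    {F : Cfsg.FusionSystem S} {P : Subgroup Ω} (h : F.IsFullyAutomized p P) :
    SylIn p (Cfsg.autInducedBy S P) (F.autGroup P) :=
  ⟨autInducedBy_le_autGroup F h.1, h.2⟩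

end


/-- Let F₁ and F₂ be saturated fusion systems over finite p-groups S₁ and S₂. Then their direct product (the fusion system over S₁ × S₂ whose maps are the restrictions of the product maps (φ₁, φ₂)) is saturated. -/
theorem result {Ω₁ Ω₂ : Type*} [Group Ω₁] [Group Ω₂] {S₁ : Subgroup Ω₁} {S₂ : Subgroup Ω₂} [Finite S₁] [Finite S₂] (p : ℕ) [Fact p.Prime] (h₁ : IsPGroup p S₁) (h₂ : IsPGroup p S₂) (F₁ : Cfsg.FusionSystem S₁) (F₂ : Cfsg.FusionSystem S₂) (hF₁ : F₁.IsSaturated p) (hF₂ : F₂.IsSaturated p) (E : Cfsg.FusionSystem (S₁.prod S₂)) (hE : Cfsg.FusionSystem.IsProductSystem F₁ F₂ E) : E.IsSaturated p := by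
  intro P hP
  have hP₁ : proj₁ P ≤ S₁ := by rintro _ ⟨x, hx, rfl⟩; exact (hP hx).1
  have hP₂ : proj₂ P ≤ S₂ := by rintro _ ⟨x, hx, rfl⟩; exact (hP hx).2
  obtain ⟨A₁, ⟨φ₁, hφ₁, rfl⟩, hA₁⟩ := exists_fullyNormalized F₁ hP₁
  obtain ⟨A₂, ⟨φ₂, hφ₂, rfl⟩, hA₂⟩ := exists_fullyNormalized F₂ hP₂
  obtain ⟨hc, hq₁, hq₂⟩ := exists_conj_pair hE hφ₁ hφ₂ hP rfl rfl
  set Q := (pairHom φ₁ φ₂ P le_rfl le_rfl).range
  suffices key : ∀ Q : Subgroup (Ω₁ × Ω₂), Q ≤ S₁.prod S₂ → F₁.IsFullyNormalized (proj₁ Q) →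
      F₂.IsFullyNormalized (proj₂ Q) →
      ∃ R, E.IsConj Q R ∧ E.IsFullyAutomized p R ∧ E.IsReceptive R by
    obtain ⟨R, hR, h⟩ := key Q (isConj_le_right hc) (hq₁ ▸ hA₁) (hq₂ ▸ hA₂)
    exact ⟨R, isConj_trans hc hR, h⟩
  clear hc hq₁ hq₂ hA₁ hA₂ hφ₁ hφ₂
  intro Q hQ hn₁ hn₂
  haveI : Finite (proj₁ Q) := finite_of_le ‹_› hn₁.1
  haveI : Finite (proj₂ Q) := finite_of_le ‹_› hn₂.1
  set P₁ := proj₁ Q
  set P₂ := proj₂ Q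
  set A := (F₁.autGroup P₁).prod (F₂.autGroup P₂)
  set T := (Cfsg.autInducedBy S₁ P₁).prod (Cfsg.autInducedBy S₂ P₂) with hTdef
  have hT : SylIn p T A := sylIn_prod
    (sylIn_autInduced (saturated_fullyNormalized h₁ hF₁ hn₁).2)
    (sylIn_autInduced (saturated_fullyNormalized h₂ hF₂ hn₂).2)
  -- move `Q` so that a Sylow subgroup of its stabilizer lies in `T`
  obtain ⟨X, hX, -⟩ := exists_sylIn_ge (p := p) (N := A ⊓ stabPair (P₁ := P₁) (P₂ := P₂) Q)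
    (bot_le) IsPGroup.of_bot
  obtain ⟨a, ha, haX⟩ := hT.exists_conj_le (hX.le.trans inf_le_left) hX.isPGroup
  have ha₁ := autGroup_mem_hom F₁ hn₁.1 ha.1
  have ha₂ := autGroup_mem_hom F₂ hn₂.1 ha.2
  obtain ⟨hcR, hr₁, hr₂⟩ := exists_conj_pair hE ha₁ ha₂ hQ rfl rfl
  set R := (pairHom (P₁.subtype.comp a.1.toMonoidHom) (P₂.subtype.comp a.2.toMonoidHom) Q le_rfl le_rfl).range
  rw [range_subtype_comp] at hr₁ hr₂
  have hRS : R ≤ S₁.prod S₂ := isConj_le_right hcR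
  have hm₁ : ∀ x ∈ R, (x : Ω₁ × Ω₂).1 ∈ P₁ := fun x hx => hr₁ ▸ proj₁_mem ⟨x, hx⟩
  have hm₂ : ∀ x ∈ R, (x : Ω₁ × Ω₂).2 ∈ P₂ := fun x hx => hr₂ ▸ proj₂_mem ⟨x, hx⟩
  have haQR : MapsInto a Q R := fun x hx _ _ => ⟨⟨x, hx⟩, rfl⟩
  have haRQ : MapsInto a⁻¹ R Q := by
    rintro _ ⟨x, rfl⟩ _ _
    refine Set.mem_of_eq_of_mem (Prod.ext ?_ ?_) x.2
    · exact congrArg Subtype.val (a.1.symm_apply_apply ⟨(x : Ω₁ × Ω₂).1, proj₁_mem x⟩)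
    · exact congrArg Subtype.val (a.2.symm_apply_apply ⟨(x : Ω₁ × Ω₂).2, proj₂_mem x⟩)
  set B := A ⊓ stabPair (P₁ := P₁) (P₂ := P₂) R with hB
  have hTB : SylIn p (T ⊓ B) B := by
    refine ⟨inf_le_right, ?_⟩
    obtain ⟨Y, hY, hle⟩ := exists_sylIn_ge (p := p) (N := B) inf_le_right
      (hT.isPGroup.to_le (inf_le_left : T ⊓ B ≤ T))
    suffices Y = T ⊓ B from this ▸ hY.2
    -- compare with the conjugate of `X`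
    have hback : ∀ y ∈ B, a⁻¹ * y * a ∈ A ⊓ stabPair (P₁ := P₁) (P₂ := P₂) Q := fun y hy =>
      ⟨A.mul_mem (A.mul_mem (A.inv_mem ha) hy.1) ha, mapsInto_mul haQR (mapsInto_mul hy.2 haRQ)⟩
    obtain ⟨m, hm, hmY⟩ := hX.exists_conj_le (X := Y.map (MulAut.conj a⁻¹).toMonoidHom)
      (by rintro _ ⟨y, hy, rfl⟩
          show a⁻¹ * y * a⁻¹⁻¹ ∈ _
          rw [inv_inv]
          exact hback y (hY.le hy))
      (hY.isPGroup.map _)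
    refine (eq_of_le_of_card_le hle ?_).symm
    refine Nat.card_le_card_of_injective (fun y : Y => (⟨a * (m * (a⁻¹ * y * a⁻¹⁻¹) * m⁻¹) * a⁻¹,
      haX _ (hmY _ ⟨y, y.2, rfl⟩), ?_⟩ : (T ⊓ B : Subgroup _))) fun u v huv => ?_
    · have h := hX.le (hmY _ ⟨y, y.2, rfl⟩)
      exact ⟨A.mul_mem (A.mul_mem ha h.1) (A.inv_mem ha),
        mapsInto_mul haRQ (mapsInto_mul h.2 haQR)⟩
    · exact Subtype.ext (mul_left_cancel (mul_right_cancel (mul_left_cancel (mul_right_cancel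
        (mul_left_cancel (mul_right_cancel (congrArg Subtype.val huv)))))))
  -- restriction to `R`
  have hres : ∀ b : B, ∃ r : E.autGroup R, ∀ x : R,
      (((r : MulAut R) x : R) : Ω₁ × Ω₂) =
        pairFun (b : MulAut P₁ × MulAut P₂) x (hm₁ x x.2) (hm₂ x x.2) := by
    intro b
    have hb := pairHom_mem hE (autGroup_mem_hom F₁ hn₁.1 b.2.1.1) (autGroup_mem_hom F₂ hn₂.1 b.2.1.2)
      hRS hr₁.le hr₂.le
    have hr : (pairHom (P₁.subtype.comp b.1.1.toMonoidHom) (P₂.subtype.comp b.1.2.toMonoidHom) R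
        hr₁.le hr₂.le).range = R := by
      haveI : Finite R := finite_of_le (Finite.of_equiv _ (Subgroup.prodEquiv S₁ S₂).toEquiv.symm) hRS
      refine range_eq_of_image_le (E.injective_of_mem hb) ?_ le_rfl
      rintro _ ⟨x, rfl⟩
      exact b.2.2 x x.2 _ _
    exact ⟨⟨_, toIso_mem_autGroup E hb hr⟩, fun x => rfl⟩
  choose res hres using hres
  have hext : ∀ u v : E.autGroup R, (∀ x : R, ((u : MulAut R) x : Ω₁ × Ω₂) = ((v : MulAut R) x : R)) →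
      u = v := fun u v h => Subtype.ext (MulEquiv.ext fun x => Subtype.ext (h x))
  let resh : B →* E.autGroup R := MonoidHom.mk' res fun u v => hext _ _ fun x => by
    show _ = (((res u : MulAut R) ((res v : MulAut R) x) : R) : Ω₁ × Ω₂)
    rw [hres, hres]
    refine Prod.ext ?_ ?_
    · exact congrArg (fun w => ((u.1.1 w : P₁) : Ω₁)) (Subtype.ext (congrArg Prod.fst (hres v x)).symm)
    · exact congrArg (fun w => ((u.1.2 w : P₂) : Ω₂)) (Subtype.ext (congrArg Prod.snd (hres v x)).symm)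
  have hsurj : Function.Surjective resh := by
    intro r
    obtain ⟨-, ψ₁, hψ₁, ψ₂, hψ₂, he⟩ := (hE R _).1 (autGroup_mem_hom E hRS r.2)
    have e₁ := restr_mem F₁ hr₁.ge hψ₁
    have e₂ := restr_mem F₂ hr₂.ge hψ₂
    have k₁ : (restr hr₁.ge ψ₁).range = P₁ := by
      refine range_eq_of_image_le (F₁.injective_of_mem e₁) ?_ le_rfl
      rintro _ ⟨y, rfl⟩
      obtain ⟨x, hx, hxy⟩ := hr₁.ge y.2
      have h := congrArg Prod.fst (he ⟨x, hx⟩ (proj₁_mem ⟨x, hx⟩) (proj₂_mem ⟨x, hx⟩))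
      exact Set.mem_of_eq_of_mem ((congrArg ψ₁ (Subtype.ext hxy.symm)).trans h.symm)
        (hm₁ _ ((r : MulAut R) ⟨x, hx⟩).2)
    have k₂ : (restr hr₂.ge ψ₂).range = P₂ := by
      refine range_eq_of_image_le (F₂.injective_of_mem e₂) ?_ le_rfl
      rintro _ ⟨y, rfl⟩
      obtain ⟨x, hx, hxy⟩ := hr₂.ge y.2
      have h := congrArg Prod.snd (he ⟨x, hx⟩ (proj₁_mem ⟨x, hx⟩) (proj₂_mem ⟨x, hx⟩))
      exact Set.mem_of_eq_of_mem ((congrArg ψ₂ (Subtype.ext hxy.symm)).trans h.symm)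
        (hm₂ _ ((r : MulAut R) ⟨x, hx⟩).2)
    refine ⟨⟨(toIso F₁ e₁ k₁, toIso F₂ e₂ k₂), ⟨toIso_mem_autGroup F₁ e₁ k₁,
      toIso_mem_autGroup F₂ e₂ k₂⟩, fun x hx _ _ => ?_⟩, hext _ _ fun x => ?_⟩
    · exact Set.mem_of_eq_of_mem (he ⟨x, hx⟩ (proj₁_mem ⟨x, hx⟩) (proj₂_mem ⟨x, hx⟩)).symm
        ((r : MulAut R) ⟨x, hx⟩).2
    · exact (hres _ x).trans (he x (proj₁_mem x) (proj₂_mem x)).symm
  have himage : ((T ⊓ B).subgroupOf B).map resh =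
      (Cfsg.autInducedBy (S₁.prod S₂) R).subgroupOf (E.autGroup R) := by
    ext r
    constructor
    · rintro ⟨b, hb, rfl⟩
      obtain ⟨s₁, hs₁, e₁⟩ := mem_autInducedBy.1 hb.1.1
      obtain ⟨s₂, hs₂, e₂⟩ := mem_autInducedBy.1 hb.1.2
      exact mem_autInducedBy.2 ⟨(s₁, s₂), ⟨hs₁, hs₂⟩, fun x =>
        (hres b x).trans (Prod.ext (e₁ _) (e₂ _))⟩
    · intro hr
      obtain ⟨s, hs, hse⟩ := mem_autInducedBy.1 hr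
      have hN := mem_normalizer_of_conj_eq _ hse
      have hN₁ : s.1 ∈ Subgroup.normalizer (P₁ : Set Ω₁) := by
        rw [← hr₁]
        exact Subgroup.le_normalizer_map _ ⟨s, hN, rfl⟩
      have hN₂ : s.2 ∈ Subgroup.normalizer (P₂ : Set Ω₂) := by
        rw [← hr₂]
        exact Subgroup.le_normalizer_map _ ⟨s, hN, rfl⟩
      have m₁ : P₁.normalizerMonoidHom ⟨s.1, hN₁⟩ ∈ Cfsg.autInducedBy S₁ P₁ :=
        mem_autInducedBy.2 ⟨s.1, hs.1, fun _ => rfl⟩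
      have m₂ : P₂.normalizerMonoidHom ⟨s.2, hN₂⟩ ∈ Cfsg.autInducedBy S₂ P₂ :=
        mem_autInducedBy.2 ⟨s.2, hs.2, fun _ => rfl⟩
      have hmem : (P₁.normalizerMonoidHom ⟨s.1, hN₁⟩, P₂.normalizerMonoidHom ⟨s.2, hN₂⟩) ∈ B :=
        ⟨⟨autInducedBy_le_autGroup F₁ hn₁.1 m₁, autInducedBy_le_autGroup F₂ hn₂.1 m₂⟩,
          fun x hx _ _ => (Subgroup.mem_normalizer_iff.1 hN x).1 hx⟩
      exact ⟨⟨_, hmem⟩, ⟨⟨m₁, m₂⟩, hmem⟩, hext _ _ fun x => (hres _ x).trans (hse x).symm⟩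
  refine ⟨R, hcR, ⟨hRS, ?_⟩, hRS, ?_⟩
  · haveI : Finite R := finite_of_le (Finite.of_equiv _ (Subgroup.prodEquiv S₁ S₂).toEquiv.symm) hRS
    obtain ⟨-, W, hW⟩ := hTB
    refine ⟨W.mapSurjective hsurj, ?_⟩
    rw [Sylow.coe_mapSurjective, hW, himage]
  -- receptivity
  intro R' φ hφ hr
  obtain ⟨hR', ψ₁, hψ₁, ψ₂, hψ₂, he⟩ := (hE R' φ).1 hφ
  have k₁ : ψ₁.range = P₁ := by
    rw [← hr₁]
    ext y
    constructor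
    · rintro ⟨⟨_, x, hx, rfl⟩, rfl⟩
      exact ⟨φ ⟨x, hx⟩, hr.le ⟨_, rfl⟩, congrArg Prod.fst (he ⟨x, hx⟩ _ (proj₂_mem ⟨x, hx⟩))⟩
    · rintro ⟨z, hz, rfl⟩
      obtain ⟨x, rfl⟩ := hr.ge hz
      exact ⟨_, (congrArg Prod.fst (he x (proj₁_mem x) (proj₂_mem x))).symm⟩
  have k₂ : ψ₂.range = P₂ := by
    rw [← hr₂]
    ext y
    constructor
    · rintro ⟨⟨_, x, hx, rfl⟩, rfl⟩
      exact ⟨φ ⟨x, hx⟩, hr.le ⟨_, rfl⟩, congrArg Prod.snd (he ⟨x, hx⟩ (proj₁_mem ⟨x, hx⟩) _)⟩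
    · rintro ⟨z, hz, rfl⟩
      obtain ⟨x, rfl⟩ := hr.ge hz
      exact ⟨_, (congrArg Prod.snd (he x (proj₁_mem x) (proj₂_mem x))).symm⟩
  obtain ⟨χ₁, hχ₁, hχ₁e, -, -⟩ := receptive_extend
    (saturated_receptive_of_fullyNormalized h₁ hF₁ hn₁) hψ₁ k₁
  obtain ⟨χ₂, hχ₂, hχ₂e, -, -⟩ := receptive_extend
    (saturated_receptive_of_fullyNormalized h₂ hF₂ hn₂) hψ₂ k₂
  have hext₁ : proj₁ (extender (S₁.prod S₂) R' φ) ≤ extender S₁ (proj₁ R') ψ₁ := by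
    rintro _ ⟨g, hg, rfl⟩
    obtain ⟨hgS, hgN, h, hh, hhe⟩ := mem_extender.1 hg
    refine mem_extender.2 ⟨hgS.1, Subgroup.le_normalizer_map _ ⟨g, hgN, rfl⟩, h.1, hh.1, ?_⟩
    rintro ⟨_, x, hx, rfl⟩ hm
    have hx' := (Subgroup.mem_normalizer_iff.1 hgN x).1 hx
    have h1 := congrArg Prod.fst (hhe ⟨x, hx⟩ hx')
    rw [he ⟨_, hx'⟩ (proj₁_mem ⟨_, hx'⟩) (proj₂_mem ⟨_, hx'⟩)] at h1
    refine Eq.trans h1 ?_
    show h.1 * (φ ⟨x, hx⟩).1 * h.1⁻¹ = _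
    rw [he ⟨x, hx⟩ (proj₁_mem ⟨x, hx⟩) (proj₂_mem ⟨x, hx⟩)]
    rfl
  have hext₂ : proj₂ (extender (S₁.prod S₂) R' φ) ≤ extender S₂ (proj₂ R') ψ₂ := by
    rintro _ ⟨g, hg, rfl⟩
    obtain ⟨hgS, hgN, h, hh, hhe⟩ := mem_extender.1 hg
    refine mem_extender.2 ⟨hgS.2, Subgroup.le_normalizer_map _ ⟨g, hgN, rfl⟩, h.2, hh.2, ?_⟩
    rintro ⟨_, x, hx, rfl⟩ hm
    have hx' := (Subgroup.mem_normalizer_iff.1 hgN x).1 hx
    have h1 := congrArg Prod.snd (hhe ⟨x, hx⟩ hx')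
    rw [he ⟨_, hx'⟩ (proj₁_mem ⟨_, hx'⟩) (proj₂_mem ⟨_, hx'⟩)] at h1
    refine Eq.trans h1 ?_
    show h.2 * (φ ⟨x, hx⟩).2 * h.2⁻¹ = _
    rw [he ⟨x, hx⟩ (proj₁_mem ⟨x, hx⟩) (proj₂_mem ⟨x, hx⟩)]
    rfl
  refine ⟨_, pairHom_mem hE hχ₁ hχ₂ ((extender_le_normalizerIn φ).trans inf_le_left) hext₁ hext₂,
    fun x hxP hxN => ?_⟩
  rw [he ⟨x, hxP⟩ (proj₁_mem ⟨x, hxP⟩) (proj₂_mem ⟨x, hxP⟩)]
  exact Prod.ext (hχ₁e ⟨x.1, proj₁_mem ⟨x, hxP⟩⟩) (hχ₂e ⟨x.2, proj₂_mem ⟨x, hxP⟩⟩)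

end Cfsg.Agent.S5137
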