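import Cfsg.Statements.S5162
import Cfsg.Agent.Tech.ComponentCommute

set_option autoImplicit false
open Cfsg

namespace Cfsg.Agent.S5162

/-- Let F be a saturated fusion system over a finite p-group S that is a central product of two saturated subsystems F₁ (over S₁) and F₂ (over S₂) inside S. Then every component of F is a component of F₁ or a component of F₂. -/
theorem result {Ω : Type*} [Group Ω] {S : Subgroup Ω} [Finite S] (p : ℕ) [Fact p.Prime] (hS : IsPGroup p S) (F : Cfsg.FusionSystem S) (hF : F.IsSaturated p) {S₁ S₂ : Subgroup Ω} (F₁ : Cfsg.FusionSystem S₁) (F₂ : Cfsg.FusionSystem S₂) (h₁ : F₁.IsSaturated p) (h₂ : F₂.IsSaturated p) (h₁F : F₁.IsSubsystemOf F) (h₂F : F₂.IsSubsystemOf F) (hc : Cfsg.FusionSystem.IsCentralProductOf F₁ F₂ F) {T : Subgroup Ω} (C : Cfsg.FusionSystem T) (hC : C.IsComponentIn F p) : C.IsComponentIn F₁ p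 ∨ C.IsComponentIn F₂ p := by
  obtain ⟨hsub, hq⟩ := id hC
  have hTS := Agent.Tech.Meet.subnormal_le hsub
  have hr : S₁ ≤ S ∧ S₂ ≤ S :=
    ⟨Agent.Tech.Meet.le_of_sub h₁F, Agent.Tech.Meet.le_of_sub h₂F⟩
  have : Finite S₁ := Agent.FusionSys.finite_of_le ‹_› hr.1
  have : Finite S₂ := Agent.FusionSys.finite_of_le ‹_› hr.2
  have : Finite T := Agent.FusionSys.finite_of_le ‹_› hTS
  have hcp := Agent.Tech.CProd.of_isCentralProductOf (hS.to_le hr.1) (hS.to_le hr.2) h₁ h₂ hc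
  have hn₁ := hcp.normal_left
  have hn₂ := hcp.normal_right
  by_cases ha : T ≤ S₁
  · exact Or.inl (Agent.Tech.Meet.component_of_le hS hF hC hn₁ ha)
  by_cases hb : T ≤ S₂
  · exact Or.inr (Agent.Tech.Meet.component_of_le hS hF hC hn₂ hb)
  exfalso
  obtain ⟨V, L, hL, hTV, -, hLl, hmin⟩ := Agent.Tech.Meet.exists_closure hS hF hC
  have hVS := hL.1.2.2.2.1.1
  have : Finite V := Agent.FusionSys.finite_of_le ‹_› hVS
  have hCL := Agent.Tech.Meet.component_of_le hS hF hC hL hTV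
  obtain ⟨hR₁, -⟩ := Agent.Tech.Meet.meet_core hS hF hL hTV hLl hmin hn₁ ha fun T₃ E₃ h3 h3l hn =>
    Agent.Tech.Meet.apart _ L rfl (hS.to_le hVS) hL.1.1 C hCL E₃ h3 h3l hn
  obtain ⟨hR₂, -⟩ := Agent.Tech.Meet.meet_core hS hF hL hTV hLl hmin hn₂ hb fun T₃ E₃ h3 h3l hn =>
    Agent.Tech.Meet.apart _ L rfl (hS.to_le hVS) hL.1.1 C hCL E₃ h3 h3l hn
  have hQC : C.IsNormal (T ⊓ F.core) := Agent.Tech.Meet.inf_isNormal_of_subnormal hsub hS ‹_› _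
    (Agent.FusionAlperin.isNormal_core F)
  have hZ := Agent.FusionAlperin.normal_le_center_of_quasisimple (hS.to_le hTS) hq hQC
  refine Agent.Tech.Meet.quasisimple_not_class_two (hS.to_le hTS) hq fun a haT b hbT => hZ ⟨?_, ?_⟩
  · exact T.mul_mem (T.mul_mem (T.mul_mem haT hbT) (T.inv_mem haT)) (T.inv_mem hbT)
  have hsc₁ := hn₁.1.2.2.2.1
  have hsc₂ := hn₂.1.2.2.2.1
  have hscV := hL.1.2.2.2.1
  obtain ⟨a₁, ha₁, a₂, ha₂, rfl⟩ :=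
    Agent.FusionAlperin.exists_mul_of_mem_sup hcp.comm (hcp.sup.ge (hTS haT))
  obtain ⟨b₁, hb₁, b₂, hb₂, rfl⟩ :=
    Agent.FusionAlperin.exists_mul_of_mem_sup hcp.comm (hcp.sup.ge (hTS hbT))
  have key : ∀ (X : Subgroup Ω), F.StronglyClosed X → ∀ u ∈ T, ∀ v ∈ X,
      u * v * u⁻¹ * v⁻¹ ∈ V ⊓ X := by
    intro X hX u hu v hv
    refine ⟨?_, X.mul_mem (Agent.FusionAlperin.sc_conj_mem hX (hTS hu) hv) (X.inv_mem hv)⟩
    have := V.mul_mem (hTV hu)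
      (Agent.FusionAlperin.sc_conj_mem hscV (hX.1 hv) (V.inv_mem (hTV hu)))
    simpa [mul_assoc] using this
  have c₁ := hR₁ (key S₁ hsc₁ _ haT b₁ hb₁)
  have c₂ := hR₂ (key S₂ hsc₂ _ haT b₂ hb₂)
  have hcm := hcp.comm
  have z₁ : a₁ * a₂ * b₁ * (a₁ * a₂)⁻¹ = a₁ * b₁ * a₁⁻¹ := by
    calc a₁ * a₂ * b₁ * (a₁ * a₂)⁻¹ = a₁ * (a₂ * b₁) * a₂⁻¹ * a₁⁻¹ := by group
      _ = _ := by rw [← hcm b₁ hb₁ a₂ ha₂]; group
  have z₂ : a₁ * a₂ * b₂ * (a₁ * a₂)⁻¹ = a₂ * b₂ * a₂⁻¹ := by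
    calc a₁ * a₂ * b₂ * (a₁ * a₂)⁻¹ = (a₁ * (a₂ * b₂ * a₂⁻¹)) * a₁⁻¹ := by group
      _ = _ := by
        rw [hcm a₁ ha₁ _ (S₂.mul_mem (S₂.mul_mem ha₂ hb₂) (S₂.inv_mem ha₂)), mul_inv_cancel_right]
  rw [z₁] at c₁
  rw [z₂] at c₂
  have e : a₁ * a₂ * (b₁ * b₂) * (a₁ * a₂)⁻¹ * (b₁ * b₂)⁻¹ =
      (a₁ * b₁ * a₁⁻¹ * b₁⁻¹) * (b₁ * (a₂ * b₂ * a₂⁻¹ * b₂⁻¹) * b₁⁻¹) := by
    rw [show a₁ * a₂ * (b₁ * b₂) * (a₁ * a₂)⁻¹ * (b₁ * b₂)⁻¹ =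
      (a₁ * a₂ * b₁ * (a₁ * a₂)⁻¹) * (a₁ * a₂ * b₂ * (a₁ * a₂)⁻¹) * (b₁ * b₂)⁻¹ by group, z₁, z₂]
    group
  rw [e]
  exact F.core.mul_mem c₁ (Agent.FusionAlperin.sc_conj_mem
    (Agent.FusionAlperin.isNormal_stronglyClosed (Agent.FusionAlperin.isNormal_core F))
    (hsc₁.1 hb₁) c₂)

end Cfsg.Agent.S5162
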