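import Cfsg.Statements.S5187
import Mathlib
import Cfsg.Agent.H73.SmallEssential.Homocyclic
-- import your own Cfsg.Agent.* helpers here

set_option autoImplicit false
set_option linter.style.haveILetI false
universe u
open Cfsg

namespace Cfsg.Agent.S5187

/-- Let F be a saturated fusion system over a finite p-group S and H an abelian essential subgroup that can be generated by two elements (its Frattini quotient has order at most p²). Then H is elementary abelian of order p², or p ≤ 3 and H is homocyclic of rank two, that is isomorphic to C_{pᵏ} × C_{pᵏ} for some k. -/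
theorem result {Ω : Type u} [Group Ω] {S : Subgroup Ω} [Finite S] (p : ℕ) [Fact p.Prime] (hS : IsPGroup p S)
    (F : Cfsg.FusionSystem S) (hF : F.IsSaturated p) (H : Subgroup Ω) (hH : F.IsEssential p H) (hab : IsMulCommutative ↥H) (hrk : (frattini ↥H).index ≤ p ^ 2) :
    (Cfsg.IsElementaryAbelian p H ∧ Nat.card H = p ^ 2) ∨
      (p ≤ 3 ∧ ∃ k : ℕ, Nonempty (↥H ≃* Multiplicative (ZMod (p ^ k) × ZMod (p ^ k)))) := by
  obtain ⟨e, he1, hcard, hexp, h5, hiso⟩ :=
    H73.SmallEssential.abelian_rank_two hS hF hH (fun a b => hab.is_comm.comm a b) hrk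
  by_cases he : e = 1
  · subst he
    exact Or.inl ⟨⟨hab, fun a ha => by simpa using congrArg Subtype.val (hexp ⟨a, ha⟩)⟩,
      by simpa using hcard⟩
  · refine Or.inr ⟨?_, e, hiso⟩
    by_contra hp
    have h4 : p ≠ 4 := by rintro rfl; exact absurd (Fact.out : (4 : ℕ).Prime) (by decide)
    exact he (h5 (by omega))

end Cfsg.Agent.S5187
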