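import Cfsg.Statements.S5188
import Mathlib
import Cfsg.Agent.H73.SmallEssential.Quartic
-- import your own Cfsg.Agent.* helpers here

set_option autoImplicit false
set_option linter.style.haveILetI false
universe u
open Cfsg

namespace Cfsg.Agent.S5188

/-- Let F be a saturated fusion system over a finite p-group S and H an essential subgroup of order p⁴. Then H is isomorphic to one of: C_p⁴ or C_{p²} × C_p × C_p (any p); C_{p²} × C_{p²} with p ∈ {2, 3}; p^{1+2}_+ × C_p with p odd (the direct product of an extraspecial group of order p³ and exponent p with a group of order p); Q₈ × C₂ (p = 2); or the non-abelian group of order p⁴ of exponent p² whose centre is cyclic of order p² (the central product of an extraspecial group of order p³ with a cyclic group of order p²; for p = 2 this is D₈ ∘ C₄). -/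
theorem result {Ω : Type u} [Group Ω] {S : Subgroup Ω} [Finite S] (p : ℕ) [Fact p.Prime] (hS : IsPGroup p S)
    (F : Cfsg.FusionSystem S) (hF : F.IsSaturated p) (H : Subgroup Ω) (hH : F.IsEssential p H) (hcard : Nat.card H = p ^ 4) :
    Cfsg.IsElementaryAbelian p H ∨
      Nonempty (↥H ≃* Multiplicative (ZMod (p ^ 2) × ZMod p × ZMod p)) ∨
      ((p = 2 ∨ p = 3) ∧ Nonempty (↥H ≃* Multiplicative (ZMod (p ^ 2) × ZMod (p ^ 2)))) ∨
      (Odd p ∧ ∃ (E : Type) (_ : Group E) (_ : Finite E), Cfsg.IsExtraspecial p E ∧ Nat.card E = p ^ 3 ∧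
        (∀ x : E, x ^ p = 1) ∧ Nonempty (↥H ≃* E × Multiplicative (ZMod p))) ∨
      (p = 2 ∧ Nonempty (↥H ≃* QuaternionGroup 2 × Multiplicative (ZMod 2))) ∨
      (¬ IsMulCommutative ↥H ∧ (∀ x ∈ H, x ^ (p ^ 2) = 1) ∧ IsCyclic ↥(Subgroup.center ↥H) ∧
        Nat.card (Subgroup.center ↥H) = p ^ 2) := by
  classical
  haveI : Finite H := FusionSys.finite_of_le ‹_› hH.1.1
  have hp := (Fact.out : p.Prime)
  have hHp : IsPGroup p H := hS.to_le hH.1.1
  have hno : H73.SmallEssential.NoSmallSeries p H := by
    intro K L D hK hL hD hKL hLD h1 h2 h3 h4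
    refine H73.SmallEssential.false_of_series hS hF hH (fun i => if i = 0 then ⊥ else
      if i = 1 then K else if i = 2 then L else if i = 3 then D else ⊤) 4 rfl rfl ?_ ?_ ?_
    · refine monotone_nat_of_le_succ fun i => ?_
      rcases i with _ | _ | _ | _ | i <;> simp [hKL, hLD]
    · intro i hi α hα v hv
      rcases i with _ | _ | _ | _ | i
      · simp at hv; simp [hv]
      · simpa using H73.SmallEssential.char_mem hK α (by simpa using hv)
      · simpa using H73.SmallEssential.char_mem hL α (by simpa using hv)
      · simpa using H73.SmallEssential.char_mem hD α (by simpa using hv)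
      · simp
    · intro i hi
      rcases i with _ | _ | _ | _ | i
      · simpa [Subgroup.relIndex_bot_left] using h1
      · simpa using h2
      · simpa using h3
      · simpa [Subgroup.relIndex_top_right] using h4
      · omega
  by_cases hab : IsMulCommutative H
  · obtain ⟨k, hk⟩ := hHp.index (frattini H)
    have hk4 : k ≤ 4 := by
      have h1 := Subgroup.index_dvd_card (frattini H)
      rw [hk, hcard] at h1
      exact (Nat.pow_dvd_pow_iff_le_right hp.one_lt).1 h1
    by_cases hk2 : k ≤ 2
    · obtain ⟨e, he1, hec, hexp, h5, hiso⟩ := H73.SmallEssential.abelian_rank_two hS hF hH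
        (fun a b => hab.is_comm.comm a b) (hk ▸ Nat.pow_le_pow_right hp.pos hk2)
      obtain rfl : e = 2 := by
        have := Nat.pow_right_injective hp.two_le (hec.symm.trans hcard)
        omega
      refine Or.inr (Or.inr (Or.inl ⟨?_, hiso⟩))
      by_contra hp23
      have h2' := hp.two_le
      have h4 : p ≠ 4 := by rintro rfl; exact absurd (Fact.out : (4 : ℕ).Prime) (by decide)
      have := h5 (by omega)
      omega
    · rcases (by omega : k = 3 ∨ k = 4) with rfl | rfl
      · exact Or.inr (Or.inl (H73.SmallEssential.quartic_abelian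
          (fun a b => hab.is_comm.comm a b) hcard hk))
      · refine Or.inl ⟨hab, fun a ha => ?_⟩
        have hbot : frattini H = ⊥ := by
          refine Subgroup.card_eq_one.1 ?_
          have h1 := (frattini H).card_mul_index
          rw [hk, hcard] at h1
          exact Nat.eq_of_mul_eq_mul_right (Nat.pow_pos hp.pos) (h1.trans (one_mul _).symm)
        exact congrArg Subtype.val (((PGroup.frattini_eq_bot_iff hHp).1 hbot).2 ⟨a, ha⟩)
  · rcases H73.SmallEssential.quartic_nonabelian hno hcard hab with
      ⟨hodd, a, b, hes, hEc, hexp, ⟨iso⟩⟩ | ⟨h2, hiso⟩ | ⟨hexp, hcyc, hZ⟩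
    · set E := Subgroup.closure ({a, b} : Set H) with hE
      let e : Shrink.{0} E ≃* E := Shrink.mulEquiv
      haveI : Finite (Shrink.{0} E) := Finite.of_equiv E e.symm.toEquiv
      have hc' : Nat.card (Shrink.{0} E) = p ^ 3 := (Nat.card_congr e.toEquiv).trans hEc
      refine Or.inr (Or.inr (Or.inr (Or.inl ⟨hodd, Shrink.{0} E, inferInstance, inferInstance,
        (FusionSys.nonabelian_cube hc' fun hcomm => ?_).1, hc', fun x => e.injective ?_,
        ⟨iso.trans (e.symm.prodCongr (MulEquiv.refl _))⟩⟩)))
      · have hEna : IsMulCommutative E := ⟨⟨fun u v => e.symm.injective (by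
          rw [map_mul, map_mul]; exact hcomm.is_comm.comm _ _)⟩⟩
        obtain ⟨-, hZc⟩ := hes
        have htop : Subgroup.center E = ⊤ :=
          eq_top_iff.2 fun v _ => Subgroup.mem_center_iff.2 fun u => hEna.is_comm.comm u v
        rw [htop, Subgroup.card_top, hEc] at hZc
        have := Nat.pow_right_injective hp.two_le (hZc.trans (pow_one p).symm)
        omega
      · rw [map_pow, map_one]
        exact Subtype.ext (hexp _)
    · exact Or.inr (Or.inr (Or.inr (Or.inr (Or.inl ⟨h2, hiso⟩))))
    · exact Or.inr (Or.inr (Or.inr (Or.inr (Or.inr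
        ⟨hab, fun x hx => congrArg Subtype.val (hexp ⟨x, hx⟩), hcyc, hZ⟩))))

end Cfsg.Agent.S5188
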