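import Cfsg.Statements.S5189
import Cfsg.Agent.CharPair.Main
import Cfsg.Agent.CharPair.Third
import Cfsg.Agent.PearlExists.RankTwo

set_option autoImplicit false
universe u
open Cfsg

namespace Cfsg.Agent.S5189

/-- Let p be an odd prime, S a finite p-group of sectional p-rank exactly 3, and F a saturated fusion system over S whose largest subgroup normal in F is trivial. Suppose S has two distinct essential subgroups E₁, E₂ each of which is invariant under every F-automorphism of S. Then S is isomorphic to a Sylow p-subgroup of Sp(4,p), and one of E₁, E₂ is extraspecial of order p³ and exponent p while the other is elementary abelian of order p³. -/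
theorem result {Ω : Type u} [Group Ω] {S : Subgroup Ω} [Finite S] (p : ℕ) [Fact p.Prime] (hp : Odd p) (hS : IsPGroup p S)
    (hsr : Cfsg.SectionalPRankLE p 3 ↥S ∧ ¬ Cfsg.SectionalPRankLE p 2 ↥S)
    (F : Cfsg.FusionSystem S) (hF : F.IsSaturated p) (hO : F.core = ⊥)
    (E₁ E₂ : Subgroup Ω) (hne : E₁ ≠ E₂) (hE₁ : F.IsEssential p E₁) (hE₂ : F.IsEssential p E₂)
    (hc₁ : (∀ φ : MulAut ↥S, φ ∈ F.autGroup S → (E₁.subgroupOf S).map φ.toMonoidHom = E₁.subgroupOf S))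
    (hc₂ : (∀ φ : MulAut ↥S, φ ∈ F.autGroup S → (E₂.subgroupOf S).map φ.toMonoidHom = E₂.subgroupOf S)) :
    (∃ P : Sylow p ↥(Matrix.symplecticGroup (Fin 2) (ZMod p)),
        Nonempty (↥S ≃* ↥(P : Subgroup ↥(Matrix.symplecticGroup (Fin 2) (ZMod p))))) ∧
      ((Cfsg.IsExtraspecial p ↥E₁ ∧ Nat.card E₁ = p ^ 3 ∧ (∀ x ∈ E₁, x ^ p = 1) ∧
          Cfsg.IsElementaryAbelian p E₂ ∧ Nat.card E₂ = p ^ 3) ∨
        (Cfsg.IsExtraspecial p ↥E₂ ∧ Nat.card E₂ = p ^ 3 ∧ (∀ x ∈ E₂, x ^ p = 1) ∧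
          Cfsg.IsElementaryAbelian p E₁ ∧ Nat.card E₁ = p ^ 3)) := by
  have hr := Cfsg.Agent.FusRankThree.rankThree_of_sectional (p := p) hsr.1
  have hp' := Cfsg.Agent.CharPair.pair_of_fusion hp hS hr hF hne hE₁ hE₂ hc₁ hc₂
  have conv : ∀ {P Q : Subgroup Ω}, P ≤ S → Q ≤ S →
      Cfsg.IsExtraspecial p ↥(P.subgroupOf S) → Nat.card (P.subgroupOf S) = p ^ 3 →
      (∀ x ∈ P.subgroupOf S, x ^ p = 1) → Cfsg.IsElementaryAbelian p (Q.subgroupOf S) →
      Nat.card (Q.subgroupOf S) = p ^ 3 →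
      Cfsg.IsExtraspecial p ↥P ∧ Nat.card P = p ^ 3 ∧ (∀ x ∈ P, x ^ p = 1) ∧
        Cfsg.IsElementaryAbelian p Q ∧ Nat.card Q = p ^ 3 := by
    intro P Q hP hQ hx hc he hel hcq
    let eP := Subgroup.subgroupOfEquivOfLe hP
    let eQ := Subgroup.subgroupOfEquivOfLe hQ
    refine ⟨Cfsg.Agent.PearlExists.isExtraspecial_equiv hx eP,
      (Nat.card_congr eP.toEquiv).symm.trans hc, fun x hx' => ?_, ⟨⟨⟨?_⟩⟩, fun x hx' => ?_⟩,
      (Nat.card_congr eQ.toEquiv).symm.trans hcq⟩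
    · have := congrArg Subtype.val (he ⟨x, hP hx'⟩ hx')
      simpa using this
    · rintro ⟨x, hx'⟩ ⟨y, hy'⟩
      have h1 := hel.1.1.1 (⟨⟨x, hQ hx'⟩, hx'⟩ : Q.subgroupOf S) ⟨⟨y, hQ hy'⟩, hy'⟩
      exact Subtype.ext (congrArg (fun z : Q.subgroupOf S => ((z : S) : Ω)) h1)
    · have := congrArg Subtype.val (hel.2 ⟨x, hQ hx'⟩ hx')
      simpa using this
  rcases Cfsg.Agent.CharPair.main_alternative hp' hsr.2 with h | h | ⟨K, hK, hne', hKc, hidx⟩
  · obtain ⟨hiso, hx, hc, he, hel, hcq⟩ := Cfsg.Agent.CharPair.sp_shape hp' h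
    exact ⟨hiso, Or.inl (conv hE₁.1.1 hE₂.1.1 hx hc he hel hcq)⟩
  · obtain ⟨hiso, hx, hc, he, hel, hcq⟩ := Cfsg.Agent.CharPair.sp_shape hp'.symm h
    exact ⟨hiso, Or.inr (conv hE₂.1.1 hE₁.1.1 hx hc he hel hcq)⟩
  · exact (Cfsg.Agent.CharPair.third_false hp hS hr hF hO hne hE₁ hE₂ hc₁ hc₂ hne' hKc hidx
      hK.invB hK.inv₁ hK.inv₂).elim

end Cfsg.Agent.S5189
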