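import Cfsg.Statements.S5191
-- import your own Cfsg.Agent.* helpers here

set_option autoImplicit false
open Cfsg

namespace Cfsg.Agent.S5191

/-- Fusion in a finite group G and in its quotient by O_{p'}(G) agree. Let S be a Sylow p-subgroup of G, N = O_{p'}(G) and P ≤ S. If an element of G/N conjugates the image of P into the image of S, then some element g of G conjugates P into S and induces the same map on P modulo N. (Together with the injectivity of S → G/N this says that g ↦ gN induces an isomorphism of the fusion system of G on S with that of G/N on SN/N.) -/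
theorem result {G : Type*} [Group G] [Finite G] {p : ℕ} [Fact p.Prime]
    [hN : (Cfsg.pPrimeCore p G).Normal] (S : Sylow p G) (P : Subgroup G) (hP : P ≤ (S : Subgroup G))
    (γ : G ⧸ Cfsg.pPrimeCore p G)
    (hγ : ∀ x ∈ P, γ * QuotientGroup.mk x * γ⁻¹ ∈ ((S : Subgroup G).map (QuotientGroup.mk' (Cfsg.pPrimeCore p G)))) :
    ∃ g : G, ∀ x ∈ P, g * x * g⁻¹ ∈ S ∧
      (QuotientGroup.mk (g * x * g⁻¹) : G ⧸ Cfsg.pPrimeCore p G) = γ * QuotientGroup.mk x * γ⁻¹ := by
  obtain ⟨g0, rfl⟩ := QuotientGroup.mk_surjective γ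
  set N := Cfsg.pPrimeCore p G with hNdef
  set H : Subgroup G := N ⊔ (S : Subgroup G) with hH
  have hmem : ∀ x ∈ P, g0 * x * g0⁻¹ ∈ H := by
    intro x hx
    obtain ⟨s, hs, he⟩ := Subgroup.mem_map.1 (hγ x hx)
    have : s⁻¹ * (g0 * x * g0⁻¹) ∈ N := by
      rw [← QuotientGroup.eq]
      simpa using he
    have h2 := H.mul_mem (Subgroup.mem_sup_right hs) (Subgroup.mem_sup_left this : _ ∈ H)
    simpa using h2
  set P' : Subgroup G := P.map (MulAut.conj g0).toMonoidHom with hP'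
  have hP'H : P' ≤ H := by
    rintro _ ⟨x, hx, rfl⟩
    exact hmem x hx
  have hP'p : IsPGroup p P' := (S.2.to_le hP).map _
  have hsub : IsPGroup p (P'.subgroupOf H) :=
    hP'p.of_equiv (Subgroup.subgroupOfEquivOfLe hP'H).symm
  obtain ⟨Q, hQ⟩ := hsub.exists_le_sylow
  obtain ⟨h, rfl⟩ := MulAction.exists_smul_eq H (S.subtype (le_sup_right : (S : Subgroup G) ≤ H)) Q
  obtain ⟨n, hn, s, hs, hns⟩ := Subgroup.mem_sup_of_normal_left.1 (SetLike.coe_mem h)
  refine ⟨n⁻¹ * g0, fun x hx => ?_⟩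
  constructor
  · have hxH := hQ (show (⟨g0 * x * g0⁻¹, hmem x hx⟩ : H) ∈ P'.subgroupOf H from
      ⟨x, hx, rfl⟩)
    obtain ⟨t, ht, hte⟩ := (Subgroup.mem_map.1 hxH)
    have hte' : (h : G) * (t : G) * (h : G)⁻¹ = g0 * x * g0⁻¹ := congrArg Subtype.val hte
    have htS : (t : G) ∈ (S : Subgroup G) := ht
    have e : n⁻¹ * g0 * x * (n⁻¹ * g0)⁻¹ = s * (t : G) * s⁻¹ := by
      rw [← hns] at hte'
      calc n⁻¹ * g0 * x * (n⁻¹ * g0)⁻¹ = n⁻¹ * (g0 * x * g0⁻¹) * n := by group
        _ = s * (t : G) * s⁻¹ := by rw [← hte']; group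
    rw [e]
    exact mul_mem (mul_mem hs htS) (inv_mem hs)
  · have hn1 : (QuotientGroup.mk n : G ⧸ N) = 1 := (QuotientGroup.eq_one_iff n).2 hn
    simp only [QuotientGroup.mk_mul, QuotientGroup.mk_inv]
    simp [show (QuotientGroup.mk n : G ⧸ Cfsg.pPrimeCore p G) = 1 from hn1, mul_assoc]

end Cfsg.Agent.S5191
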