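import Cfsg.Statements.S5253
import Cfsg.Agent.FusionAux.QuadraticFunctor
-- import your own Cfsg.Agent.* helpers here

set_option autoImplicit false
universe u
open Cfsg

namespace Cfsg.Agent.S5253

/-- Let p be a prime and W a positive characteristic p-functor with Z(Q) ≤ W(Q): W assigns to every finite p-group Q (in a fixed universe) a subgroup W(Q), nontrivial when Q is, carried to W(R) by every isomorphism Q ≅ R, and containing the centre of Q. Suppose that for every finite group G with Sylow p-subgroup P in which W(P) is not normal there is g ∈ P outside O_p(G) with [Z(O_p(G)), g, g] = 1. Then for every saturated fusion system F over a finite p-group S and every normalizer fusion system N of W(S) in F, every p-th power of an element of Z(S) that lies in the centre of N lies in the centre of F. -/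
theorem result {p : ℕ} [Fact p.Prime] (W : ∀ (Q : Type u) [Group Q], Subgroup Q) (hW1 : ∀ (Q : Type u) [Group Q] [Finite Q], IsPGroup p Q → Nontrivial Q → W Q ≠ ⊥) (hW2 : ∀ (Q R : Type u) [Group Q] [Group R] [Finite Q], IsPGroup p Q → ∀ φ : Q ≃* R, (W Q).map φ.toMonoidHom = W R) (hWZ : ∀ (Q : Type u) [Group Q] [Finite Q], IsPGroup p Q → Subgroup.center Q ≤ W Q) (hq : ∀ (G : Type u) [Group G] [Finite G] (P : Sylow p G), ¬ (((W ↥(P : Subgroup G)).map (P : Subgroup G).subtype : Subgroup G)).Normal → ∃ g : G, g ∈ (P : Subgroup G) ∧ g ∉ Cfsg.pCore p G ∧ ⁅⁅Subgroup.center ↥(Cfsg.pCore p G) |>.map (Cfsg.pCore p G).subtype, Subgroup.zpowers g⁆, Subgroup.zpowers g⁆ = ⊥) {Ω : Type u} [Group Ω] {S : Subgroup Ω} [Finite S] (hS : IsPGroup p S) (F : Cfsg.FusionSystem S) (hF : F.IsSaturated p) (N : Cfsg.FusionSystem (Cfsg.FusionSystem.normalizerIn S ((W ↥S).map S.subtype))) (hN : F.IsNormalizerSystem ((W ↥S).map S.subtype) N) : Subgroup.closure ((fun z => z ^ p) '' ((S ⊓ Subgroup.centralizer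 (S : Set Ω) : Subgroup Ω) : Set Ω)) ⊓ N.center ≤ F.center := by
  rintro z ⟨hzc, hzN⟩
  obtain ⟨y, hyS, hyc, hz⟩ : ∃ y ∈ S, (∀ s ∈ S, s * y = y * s) ∧ z = y ^ p := by
    have h : Subgroup.closure ((fun z => z ^ p) ''
        ((S ⊓ Subgroup.centralizer (S : Set Ω) : Subgroup Ω) : Set Ω)) ≤
        ({ carrier := {w | ∃ y ∈ S, (∀ s ∈ S, s * y = y * s) ∧ w = y ^ p}
           one_mem' := ⟨1, S.one_mem, fun s _ => by simp, by simp⟩
           mul_mem' := by
             rintro _ _ ⟨a, ha, hac, rfl⟩ ⟨b, hb, hbc, rfl⟩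
             exact ⟨a * b, S.mul_mem ha hb, fun s hs => (Commute.mul_right (hac s hs) (hbc s hs)).eq,
               ((show Commute a b from hbc a ha).mul_pow p).symm⟩
           inv_mem' := by
             rintro _ ⟨a, ha, hac, rfl⟩
             exact ⟨a⁻¹, S.inv_mem ha, fun s hs => (Commute.inv_right (hac s hs)).eq,
               (inv_pow a p).symm⟩ } : Subgroup Ω) := by
      rw [Subgroup.closure_le]
      rintro _ ⟨a, ⟨ha, hac⟩, rfl⟩
      exact ⟨a, ha, fun s hs => hac s hs, rfl⟩
    exact h hzc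
  have hfn := Cfsg.Agent.FusionModel.fullyNormalized_wOf (W := W) hW2 hS F
  have hNp : IsPGroup p ↥(Cfsg.FusionSystem.normalizerIn S ((W ↥S).map S.subtype)) :=
    hS.to_le inf_le_left
  have hNsat := Cfsg.Agent.FusionSys.normalizerSystem_saturated hS hF hfn hN
  have hfix := ((Cfsg.Agent.FusionModel.mem_center_iff_fixes hNp hNsat).1 hzN).2
  refine (Cfsg.Agent.FusionModel.mem_center_iff_fixes hS hF).2 ⟨hz ▸ S.pow_mem hyS p,
    Cfsg.Agent.FusionAux.QuadFunctor.fixes_all hS hF
      (Cfsg.Agent.FusionAux.QuadFunctor.goodAt hS hF hW2 hWZ hq hyS hyc hz fun P φ hφ =>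
        hfix P φ ?_)⟩
  rw [hN P]
  exact hφ

end Cfsg.Agent.S5253
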