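import Cfsg.Statements.S5193
import Cfsg.Agent.FusionAux.FreeCenter
import Cfsg.Agent.FusionBatch.ThompsonCenter
import Cfsg.Agent.S5253

set_option autoImplicit false
open Cfsg

namespace Cfsg.Agent.S5193

open Cfsg.Agent.FusionModel Cfsg.Agent.FusionBatch.ThompsonCenter

universe u

lemma jA_ne_bot {p : ℕ} [Fact p.Prime] (Q : Type u) [Group Q] [Finite Q] (hQ : IsPGroup p Q)
    (hne : Nontrivial Q) : jA.{u} Q ≠ ⊥ := by
  have := IsPGroup.center_nontrivial hQ
  intro h
  exact (Subgroup.nontrivial_iff_ne_bot _).1 this (le_bot_iff.1 ((center_le_jA Q).trans h.le))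

lemma exists_quadratic {p : ℕ} [Fact p.Prime] (G : Type u) [Group G] [Finite G] (P : Sylow p G)
    (hn : ¬ (((jA.{u} ↥(P : Subgroup G)).map (P : Subgroup G).subtype : Subgroup G)).Normal) :
    ∃ g : G, g ∈ (P : Subgroup G) ∧ g ∉ Cfsg.pCore p G ∧
      ⁅⁅Subgroup.center ↥(Cfsg.pCore p G) |>.map (Cfsg.pCore p G).subtype, Subgroup.zpowers g⁆,
        Subgroup.zpowers g⁆ = ⊥ := by
  obtain ⟨g, hgP, hgQ, hq⟩ := LocalP.exists_quadratic_local (p := p) (H := (⊤ : Subgroup G))
    (T := (P : Subgroup G)) le_top P.2 (by rw [Subgroup.relIndex_top_right]; exact P.not_dvd_index)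
    fun h => hn (Subgroup.normalizer_eq_top_iff.1 (top_le_iff.1 h))
  rw [LocalP.pCoreOf_top] at hgQ hq
  have hZ : (Subgroup.center ↥(Cfsg.pCore p G)).map (Cfsg.pCore p G).subtype =
      Cfsg.pCore p G ⊓ Subgroup.centralizer ((Cfsg.pCore p G : Subgroup G) : Set G) := by
    ext x
    constructor
    · rintro ⟨y, hy, rfl⟩
      exact ⟨y.2, fun h hh => congrArg Subtype.val (Subgroup.mem_center_iff.1 hy ⟨h, hh⟩)⟩
    · rintro ⟨hx, hc⟩
      exact ⟨⟨x, hx⟩, Subgroup.mem_center_iff.2 fun h => Subtype.ext (hc h h.2), rfl⟩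
  exact ⟨g, hgP, hgQ, hZ.symm ▸ hq⟩

lemma freeCondition :
    FusionAux.FreeCenter.FreeCondition (fun Q [Group Q] => jA.{u} Q) (Equiv.Perm (Fin 4)) 2 := by
  have : Fact (Nat.Prime 2) := ⟨Nat.prime_two⟩
  intro G _ _ P hfree x hxO hx
  have hOP : pCore 2 G ≤ (P : Subgroup G) := Cores.pCore_le_sylow P
  refine Subgroup.mem_center_iff.2 fun g => ?_
  have h := LocalP.wc_thompson_two hfree P (hOP hxO)
    (Subgroup.mem_centralizer_iff.2 fun n hn => mul_inv_eq_iff_eq_mul.1 (hx n hn)) g
    (hOP ((inferInstance : (pCore 2 G).Normal).conj_mem _ hxO g))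
  exact mul_inv_eq_iff_eq_mul.1 h

/-- Glauberman's Theorem for fusion systems. Let F be a saturated fusion system over a finite p-group S, let J(S) be the subgroup generated by the abelian subgroups of S of largest order, and let N be the normalizer fusion system of J(S) in F (a fusion system over N_S(J(S)) = S). Then every p-th power of an element of Z(S) that lies in the centre of N lies in the centre of F; and if p is odd, or if the symmetric group of degree 4 is not involved in any model of the normalizer system of a fully normalized F-centric subgroup (F is S₄-free), then the centre of N equals the centre of F. -/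
theorem result {Ω : Type*} [Group Ω] {S : Subgroup Ω} [Finite S] (p : ℕ) [Fact p.Prime] (hS : IsPGroup p S) (F : Cfsg.FusionSystem S) (hF : F.IsSaturated p) (N : Cfsg.FusionSystem (Cfsg.FusionSystem.normalizerIn S (Cfsg.thompsonSubgroupAOf S))) (hN : F.IsNormalizerSystem (Cfsg.thompsonSubgroupAOf S) N) : Subgroup.closure ((fun z : Ω => z ^ p) '' ((S ⊓ Subgroup.centralizer (S : Set Ω) : Subgroup Ω) : Set Ω)) ⊓ N.center ≤ F.center ∧ (p ≠ 2 ∨ F.IsSectionFree p (Equiv.Perm (Fin 4)) → N.center = F.center) := by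
  have hWnat := jA_natural p
  refine ⟨S5253.result (fun Q [Group Q] => jA Q) (fun Q _ _ => jA_ne_bot Q) hWnat
    (fun Q _ _ _ => center_le_jA Q) (fun G _ _ P => exists_quadratic G P) hS F hF N hN, fun h => ?_⟩
  by_cases hp : p = 2
  swap
  · exact center_normalizer_eq hp hS hF N hN
  subst hp
  have hfree : F.IsSectionFree 2 (Equiv.Perm (Fin 4)) := h.resolve_left fun h => h rfl
  have hfn : F.IsFullyNormalized (thompsonSubgroupAOf S) := fullyNormalized_wOf hWnat hS F
  have hnS := normalizerIn_thompsonAOf (S := S) hS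
  have hNp : IsPGroup 2 ↥(Cfsg.FusionSystem.normalizerIn S (thompsonSubgroupAOf S)) :=
    hS.to_le inf_le_left
  have hNsat := Cfsg.Agent.FusionSys.normalizerSystem_saturated hS hF hfn hN
  ext x
  rw [mem_center_iff_fixes hNp hNsat, mem_center_iff_fixes hS hF]
  constructor
  · rintro ⟨hx, h⟩
    refine ⟨hx.1, FusionAux.FreeCenter.fixes_of_normalizer_free (W := fun Q [Group Q] => jA Q)
      (fun Q _ _ _ => center_le_jA Q) hWnat freeCondition _ _ hS F hF
      (locallyFree_of_sectionFree hS hF hfree) rfl rfl x hx.1 fun P φ hφ => h P φ ?_⟩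
    rw [hN P]
    exact hφ
  · rintro ⟨hx, h⟩
    refine ⟨hnS.ge hx, fun P φ hφ => h P φ ?_⟩
    rw [hN P] at hφ
    exact hφ.1

end Cfsg.Agent.S5193
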