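import Cfsg.Statements.S5212
import Cfsg.Agent.FusionSys.MetacyclicTwo
import Cfsg.Agent.FusionSys.InnerCriterion
import Cfsg.Agent.S1896

set_option autoImplicit false
open Cfsg Cfsg.FusionSystem Cfsg.Agent.FusionSys

namespace Cfsg.Agent.S5212

/-- Let S be a finite metacyclic 2-group that is not homocyclic abelian (a direct product of cyclic groups of one common order), not dihedral, not semidihedral and not generalized quaternion. Then every saturated fusion system over S is the inner fusion system of S. -/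
theorem result {Ω : Type*} [Group Ω] {S : Subgroup Ω} [Finite S] (hS : IsPGroup 2 S) (F : Cfsg.FusionSystem S) (hF : F.IsSaturated 2) (hm : Cfsg.IsMetacyclic ↥S) (hh : ¬ ∃ n k : ℕ, Nonempty (↥S ≃* Multiplicative (Fin k → ZMod (2 ^ n)))) (hd : ¬ ∃ m : ℕ, Nonempty (↥S ≃* DihedralGroup m)) (hq : ¬ ∃ m : ℕ, Nonempty (↥S ≃* QuaternionGroup m)) (hsd : ¬ Cfsg.IsQuasiDihedral ↥S) : ∀ P : Subgroup Ω, F.Hom P = (Cfsg.innerFusionSystem S).Hom P := by
  haveI : Fact (Nat.Prime 2) := ⟨Nat.prime_two⟩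
  have hA : IsPGroup 2 (MulAut S) := by
    by_contra hA
    rcases Cfsg.Agent.S1896.result hS hm hA with ⟨e⟩ | ⟨n, ⟨e⟩⟩
    · exact hq ⟨2, e⟩
    · exact hh ⟨n, 2, ⟨e.trans ((MulEquiv.prodMultiplicative _ _).symm.trans
        (AddEquiv.toMultiplicative (LinearEquiv.finTwoArrow ℤ (ZMod (2 ^ n))).symm.toAddEquiv))⟩⟩
  have hN : F.IsNormal S := isNormal_of_metacyclic_two hS hF
    ⟨le_rfl, fun _ _ _ hφ x => map_mem_S F hφ x⟩ hm hd hq hsd
  have hP : PAut 2 F := by
    intro P hP a
    obtain ⟨ψ, hψ, hψP, hψS⟩ := hN.2 P _ (autGroup_mem_hom F hP a.2)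
    have hle : S ≤ P ⊔ S := le_sup_right
    have hr : (restr hle ψ).range = S := by
      rw [range_restr]; exact hψS
    obtain ⟨k, hk⟩ := hA (toIso F (restr_mem F hle hψ) hr)
    refine ⟨k, Subtype.ext (MulEquiv.ext fun x => Subtype.ext ?_)⟩
    have hc := mulAut_pow_compat (Subgroup.inclusion hP) (a := (a : MulAut P))
      (b := toIso F (restr_mem F hle hψ) hr) (fun y => Subtype.ext (by
        rw [toIso_coe, restr_apply]
        exact (hψP y).symm)) (2 ^ k) x
    rw [hk, MulAut.one_apply] at hc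
    simpa using congrArg Subtype.val hc
  exact fun P => Set.Subset.antisymm (hP.le_inner hS hF P) (innerFusionSystem_le F P)

end Cfsg.Agent.S5212
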