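import Cfsg.Statements.S5246
import Cfsg.Agent.FusionAux.Quadratic
import Cfsg.Agent.FusionSys.Focal
-- import your own Cfsg.Agent.* helpers here

set_option autoImplicit false
open Cfsg

namespace Cfsg.Agent.S5246

open Cfsg.FusionSystem Cfsg.Agent.FusionSys Cfsg.Agent.FusionAux

variable {G : Type*} [Group G]

/-- `[Q, g, g] = 1` says exactly that conjugation by `g` is quadratic on `Q`. -/
theorem commutator_eq_bot_iff [Finite G] {Q : Subgroup G}
    (n : (Subgroup.normalizer (Q : Set G) : Subgroup G)) :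
    ⁅⁅Q, Subgroup.zpowers (n : G)⁆, Subgroup.zpowers (n : G)⁆ = ⊥ ↔
      ∀ a : Q, (Q.normalizerMonoidHom n a⁻¹) * a * (Q.normalizerMonoidHom n a⁻¹) *
        (Q.normalizerMonoidHom n (Q.normalizerMonoidHom n a)) = 1 := by
  set χ := Q.normalizerMonoidHom n with hχ
  simp only [quadratic_iff]
  rw [Subgroup.commutator_eq_bot_iff_le_centralizer, Subgroup.commutator_le]
  simp only [commutatorElement_def]
  constructor
  · intro h a
    have h1 := h (a⁻¹ : G) (Q.inv_mem a.2) n (Subgroup.mem_zpowers _)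
    have h2 := Subgroup.mem_centralizer_iff.1 h1 n (Subgroup.mem_zpowers (n : G))
    rw [inv_inv] at h2
    apply Subtype.ext
    show (n : G) * ((a : G)⁻¹ * ((n : G) * a * (n : G)⁻¹)) * (n : G)⁻¹ =
      (a : G)⁻¹ * ((n : G) * a * (n : G)⁻¹)
    rw [mul_inv_eq_iff_eq_mul]
    simpa [mul_assoc] using h2
  · intro h a ha g hg
    obtain ⟨m, rfl⟩ := ((isOfFinOrder_of_finite (n : G)).mem_powers_iff_mem_zpowers).2 hg
    have hm : ∀ (b : Q) (m : ℕ), (χ ^ m) b = b * (b⁻¹ * χ b) ^ m := by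
      intro b m
      induction m with
      | zero => simp
      | succ m ih =>
        rw [pow_succ' χ, MulAut.mul_apply, ih, map_mul, map_pow, h b, pow_succ' (b⁻¹ * χ b)]
        simp [mul_assoc]
    have hfix : Subgroup.zpowers (n : G) ≤
        Subgroup.centralizer {((⟨a, ha⟩ : Q)⁻¹⁻¹ * χ (⟨a, ha⟩ : Q)⁻¹ : G)} := by
      rw [Subgroup.zpowers_le, Subgroup.mem_centralizer_iff]
      rintro _ rfl
      have h1 := congrArg Subtype.val (h (⟨a, ha⟩ : Q)⁻¹)
      simp only [hχ, normalizerMonoidHom_coe, Subgroup.coe_mul, Subgroup.coe_inv] at h1 ⊢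
      rw [mul_inv_eq_iff_eq_mul] at h1
      exact h1.symm
    rw [Subgroup.mem_centralizer_iff]
    intro k hk
    have h2 := hm (⟨a, ha⟩ : Q)⁻¹ m
    rw [← map_pow] at h2
    have h3 := congrArg (fun t : Q => (a : G) * (t : G)) h2
    simp only [normalizerMonoidHom_coe, SubgroupClass.coe_pow, Subgroup.coe_mul,
      Subgroup.coe_inv, ← mul_assoc, mul_inv_cancel, one_mul] at h3
    rw [h3]
    exact ((Commute.symm ((Subgroup.mem_centralizer_iff.1 (hfix hk) _ rfl :) :
      Commute ((⟨a, ha⟩ : Q)⁻¹⁻¹ * χ (⟨a, ha⟩ : Q)⁻¹ : G) k)).pow_right m).eq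

/-- `p`-stability at one subgroup, read in its automorphism group. -/
theorem mem_pCore_quotient_iff {p : ℕ} (Q : Subgroup G)
    (n : (Subgroup.normalizer (Q : Set G) : Subgroup G)) :
    QuotientGroup.mk (s := (Subgroup.centralizer (Q : Set G)).subgroupOf
        (Subgroup.normalizer (Q : Set G))) n ∈
      pCore p ((Subgroup.normalizer (Q : Set G) : Subgroup G) ⧸
        (Subgroup.centralizer (Q : Set G)).subgroupOf (Subgroup.normalizer (Q : Set G))) ↔
    Q.normalizerMonoidHom n ∈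
      (pCore p ↥(Q.normalizerMonoidHom.range)).map Q.normalizerMonoidHom.range.subtype := by
  let e : ((Subgroup.normalizer (Q : Set G) : Subgroup G) ⧸
      (Subgroup.centralizer (Q : Set G)).subgroupOf (Subgroup.normalizer (Q : Set G))) ≃*
      Q.normalizerMonoidHom.range :=
    (QuotientGroup.quotientMulEquivOfEq (Subgroup.normalizerMonoidHom_ker Q).symm).trans
      (QuotientGroup.quotientKerEquivRange Q.normalizerMonoidHom)
  have he : e (QuotientGroup.mk n) = ⟨Q.normalizerMonoidHom n, n, rfl⟩ := rfl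
  rw [← Cores.map_pCore_equiv e]
  constructor
  · exact fun h => ⟨_, ⟨_, h, he⟩, rfl⟩
  · rintro ⟨_, ⟨y, hy, rfl⟩, hyn⟩
    rwa [← e.injective (a₁ := y) (Subtype.ext hyn |>.trans he.symm)]

/-- Let p be an odd prime, G a finite group and P a Sylow p-subgroup. Call a fusion system F p-stable when, for every fully normalized subgroup Q and every χ ∈ Aut_F(Q) acting quadratically on Q (that is, χ fixes a⁻¹χ(a) for every a ∈ Q; equivalently χ(a⁻¹)·a·χ(a⁻¹)·χ(χ(a)) = 1), χ lies in O_p(Aut_F(Q)). Then G is p-stable in the normalizer form (for every p-subgroup Q and x ∈ N_G(Q) with [Q, x, x] = 1, the image of x lies in O_p(N_G(Q)/C_G(Q))) if and only if the fusion system of G on P is p-stable. -/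
theorem result {Ω : Type*} [Group Ω] [Finite Ω] {p : ℕ} [Fact p.Prime] (hp : p ≠ 2) (P : Sylow p Ω) : Cfsg.IsNormalizerPStable p Ω ↔ (∀ Q : Subgroup Ω, (Cfsg.groupFusionSystem (P : Subgroup Ω)).IsFullyNormalized Q → ∀ χ : MulAut ↥Q, χ ∈ (Cfsg.groupFusionSystem (P : Subgroup Ω)).autGroup Q → (∀ a : ↥Q, (χ a⁻¹) * a * (χ a⁻¹) * (χ (χ a)) = 1) → χ ∈ ((Cfsg.pCore p ↥((Cfsg.groupFusionSystem (P : Subgroup Ω)).autGroup Q)).map ((Cfsg.groupFusionSystem (P : Subgroup Ω)).autGroup Q).subtype : Subgroup (MulAut ↥Q))) := by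
  have hrange : ∀ Q : Subgroup Ω, Q ≤ (P : Subgroup Ω) →
      (Cfsg.groupFusionSystem (P : Subgroup Ω)).autGroup Q = Q.normalizerMonoidHom.range :=
    fun Q hQ => le_antisymm (autGroup_group_le_range _ _) fun _ ⟨n, hn⟩ =>
      hn ▸ normalizerMonoidHom_mem_autGroup hQ n
  constructor
  · intro h Q hQ χ hχ hquad
    rw [hrange Q hQ.1] at hχ ⊢
    obtain ⟨n, rfl⟩ := hχ
    exact (mem_pCore_quotient_iff Q n).1
      (h Q (P.2.to_le hQ.1) n n.2 ((commutator_eq_bot_iff n).2 hquad))
  · intro h Q hQ g hg hquad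
    refine (mem_pCore_quotient_iff Q ⟨g, hg⟩).2 ?_
    -- move `Q` to a fully normalized subgroup of `P`
    obtain ⟨T, hT⟩ := hQ.exists_le_sylow
    obtain ⟨x, hx⟩ := MulAction.exists_smul_eq Ω T P
    have hQ₁ : Q.map (MulAut.conj x).toMonoidHom ≤ (P : Subgroup Ω) := by
      rw [← hx, Sylow.coe_subgroup_smul]
      exact Subgroup.map_mono hT
    obtain ⟨R, ⟨φ, ⟨-, -, y, hy⟩, hφ⟩, hR⟩ := exists_fullyNormalized (groupFusionSystem _) hQ₁
    let e : Q ≃* R := ((MulAut.conj (y * x)).subgroupMap Q).trans (MulEquiv.subgroupCongr (by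
      ext w
      rw [← hφ]
      simp only [Subgroup.mem_map, MonoidHom.mem_range, Subtype.exists, hy]
      constructor
      · rintro ⟨q, hq, rfl⟩
        exact ⟨x * q * x⁻¹, ⟨q, hq, rfl⟩, by simp [mul_assoc]⟩
      · rintro ⟨_, ⟨q, hq, rfl⟩, rfl⟩
        exact ⟨q, hq, by simp [mul_assoc]⟩))
    have he : ∀ q : Q, (e q : Ω) = y * x * q * (y * x)⁻¹ := fun q => rfl
    have hconj : ∀ n : (Subgroup.normalizer (Q : Set Ω) : Subgroup Ω),
        ∃ m : (Subgroup.normalizer (R : Set Ω) : Subgroup Ω),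
          R.normalizerMonoidHom m = MulAut.congr e (Q.normalizerMonoidHom n) := by
      intro n
      have key : ∀ r : R, (MulAut.congr e (Q.normalizerMonoidHom n) r : Ω) =
          (y * x * n * (y * x)⁻¹) * r * (y * x * n * (y * x)⁻¹)⁻¹ := by
        intro r
        obtain ⟨q, rfl⟩ := e.surjective r
        rw [autCongr_apply, MulEquiv.symm_apply_apply, he, he, normalizerMonoidHom_coe]
        simp [mul_assoc]
      exact ⟨⟨_, mem_normalizer_of_conj_eq _ key⟩, MulEquiv.ext fun r => Subtype.ext (key r).symm⟩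
    have hmap : Q.normalizerMonoidHom.range.map (MulAut.congr e).toMonoidHom =
        R.normalizerMonoidHom.range := by
      refine le_antisymm ?_ ?_
      · rintro _ ⟨_, ⟨n, rfl⟩, rfl⟩
        exact hconj n
      · rintro _ ⟨m, rfl⟩
        have key : ∀ q : Q, (MulAut.congr e.symm (R.normalizerMonoidHom m) q : Ω) =
            ((y * x)⁻¹ * m * (y * x)) * q * ((y * x)⁻¹ * m * (y * x))⁻¹ := by
          intro q
          have h1 := he (e.symm (R.normalizerMonoidHom m (e q)))
          rw [e.apply_symm_apply, normalizerMonoidHom_coe, he] at h1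
          rw [autCongr_apply, MulEquiv.symm_symm]
          have h2 := congrArg (fun t => (y * x)⁻¹ * t * (y * x)) h1
          simp only [mul_inv_rev, mul_assoc, inv_mul_cancel, inv_mul_cancel_left, mul_one] at h2 ⊢
          simpa [mul_assoc] using h2.symm
        refine ⟨_, ⟨⟨_, mem_normalizer_of_conj_eq _ key⟩,
          MulEquiv.ext fun q => Subtype.ext (key q).symm⟩, ?_⟩
        ext r
        simp
    obtain ⟨m, hm⟩ := hconj ⟨g, hg⟩
    have h1 := h R hR _ (normalizerMonoidHom_mem_autGroup hR.1 m) (fun a => by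
      rw [hm]
      have h0 := (commutator_eq_bot_iff (Q := Q) ⟨g, hg⟩).1 hquad (e.symm a)
      have h2 := congrArg e h0
      simpa [autCongr_apply] using h2)
    rw [hrange R hR.1, hm] at h1
    let E : ↥Q.normalizerMonoidHom.range ≃* ↥R.normalizerMonoidHom.range :=
      ((MulAut.congr e).subgroupMap _).trans (MulEquiv.subgroupCongr hmap)
    obtain ⟨z, hz, hze⟩ := h1
    rw [← Cores.map_pCore_equiv E] at hz
    obtain ⟨w, hw, rfl⟩ := hz
    exact ⟨w, hw, (MulAut.congr e).injective hze⟩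

end Cfsg.Agent.S5246
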