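import Cfsg.Statements.S5264
import Cfsg.Agent.PFifth.Build
import Cfsg.Agent.PFifth.Sign
import Cfsg.Agent.PFifth.Focal
import Cfsg.Agent.PFifth.Quartic
import Cfsg.Agent.PFifth.Extra
import Cfsg.Agent.PFifth.Elem
import Cfsg.Agent.PFifth.Pearl
import Cfsg.Agent.PFifth.TransvSmall
import Cfsg.Agent.PFifth.TransvQuartic
-- import your own Cfsg.Agent.* helpers here

set_option autoImplicit false
open Cfsg

namespace Cfsg.Agent.S5264

/-- Let p be an odd prime other than 7, S a finite p-group of order p^5, and F a saturated fusion system over S with no nontrivial normal subgroup and with hyperfocal subgroup equal to S (so F is its own p-residual subsystem). Then S has an abelian subgroup of index p. -/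
theorem result {Ω : Type*} [Group Ω] {S : Subgroup Ω} [Finite S] (p : ℕ) [Fact p.Prime] (hS : IsPGroup p ↥S) (F : Cfsg.FusionSystem S) (hF : F.IsSaturated p) (hp : p ≠ 2) (hp7 : p ≠ 7) (hcard : Nat.card S = p ^ 5) (hcore : F.core = ⊥) (hhyp : F.hyperfocalSubgroup p = S) : ∃ A : Subgroup Ω, A ≤ S ∧ IsMulCommutative ↥A ∧ (A.subgroupOf S).index = p := by
  classical
  by_contra hA
  have hpp : p.Prime := Fact.out
  have hna : Cfsg.Agent.PFifth.NoAbelian p S := fun A hAc hidx =>
    hA ⟨A.map S.subtype, Subgroup.map_subtype_le A,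
      ⟨⟨fun a b => by
        obtain ⟨a', ha', ha⟩ := a.2
        obtain ⟨b', hb', hb⟩ := b.2
        refine Subtype.ext ?_
        show (a : Ω) * b = b * a
        rw [← ha, ← hb, ← map_mul, ← map_mul]
        exact congrArg S.subtype (congrArg Subtype.val (hAc.is_comm.comm ⟨a', ha'⟩ ⟨b', hb'⟩))⟩⟩,
      by rw [← Subgroup.comap_subtype, Subgroup.comap_map_eq_self_of_injective S.subtype_injective, hidx]⟩
  have hT : ∀ Q, F.IsEssential p Q → Cfsg.Agent.PFifth.Transv F p Q := fun Q hQ => by
    rcases PFifth.card_cases hS hF hcard hQ with h | h | h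
    · exact PFifth.transv_small hS hF hp hcard hna hQ (Or.inl h)
    · exact PFifth.transv_small hS hF hp hcard hna hQ (Or.inr h)
    · exact (PFifth.quartic_facts hS hF hp hcard hna hQ h).2.2.2.2
  have hne : S ≠ ⊥ := fun h => by
    have h1 := hcard
    rw [h, Subgroup.card_bot] at h1
    exact absurd h1.symm (Nat.one_lt_pow (by norm_num) hpp.one_lt).ne'
  obtain ⟨P0, hP0⟩ := PFifth.exists_essential hS hF hne hcore
  have hfin : {Q : Subgroup Ω | F.IsEssential p Q}.Finite :=
    (FusionSys.setOf_le_finite (S := S)).subset fun Q hQ => hQ.1.1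
  obtain ⟨P, hP, hmax⟩ := Set.exists_max_image _ (fun Q : Subgroup Ω => Nat.card Q) hfin ⟨P0, hP0⟩
  have hPS : P ≤ S := hP.1.1
  have hcardP : Nat.card (P.subgroupOf S) = Nat.card P :=
    Nat.card_congr (Subgroup.subgroupOfEquivOfLe hPS).toEquiv
  have hcomm : IsMulCommutative ↥(P.subgroupOf S) ↔ IsMulCommutative ↥P :=
    ⟨fun h => ⟨⟨fun a b => (Subgroup.subgroupOfEquivOfLe hPS).symm.injective (by
        rw [map_mul, map_mul]; exact h.is_comm.comm _ _)⟩⟩,
     fun h => ⟨⟨fun a b => (Subgroup.subgroupOfEquivOfLe hPS).injective (by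
        rw [map_mul, map_mul]; exact h.is_comm.comm _ _)⟩⟩⟩
  have hfacts : Nat.card P = p ^ 2 ∨ Nat.card P = p ^ 3 ∨
      (Nat.card P = p ^ 4 ∧ ¬ IsMulCommutative ↥P ∧ Nat.card (Subgroup.center ↥P) = p ^ 2 ∧
        Nat.card (frattini ↥P) = p ∧ frattini ↥P = commutator ↥P) := by
    rcases PFifth.card_cases hS hF hcard hP with h | h | h
    · exact Or.inl h
    · exact Or.inr (Or.inl h)
    · obtain ⟨a, b, c, d, -⟩ := PFifth.quartic_facts hS hF hp hcard hna hP h
      exact Or.inr (Or.inr ⟨h, a, b, c, d⟩)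
  obtain ⟨O, x, e1, e2, hframe⟩ :=
    PFifth.exists_frame hS hF hp hP (hT P hP) (fun Q hQ => hmax Q hQ) hfacts
  obtain ⟨x', e1', e2', τ, hs⟩ := PFifth.exists_signed hS hp hframe
  have hgoal : PFifth.Goal p ↥S := by
    rcases hfacts with h | h | ⟨h, hnab, -⟩
    · exact PFifth.pearl_case hp hp7 hcard hs (hcardP.trans h)
    · by_cases hab : IsMulCommutative ↥P
      · exact PFifth.elem_case hp hcard hs (hcardP.trans h) (hcomm.2 hab)
      · exact PFifth.extra_case hp hcard hs (hcardP.trans h) (fun h' => hab (hcomm.1 h'))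
    · exact PFifth.quartic_case hp hcard hs (hcardP.trans h) (fun h' => hnab (hcomm.1 h'))
  rcases hgoal with ⟨A, hAc, hidx⟩ | ⟨-, z, hz, hfix⟩
  · exact hna A hAc hidx
  · exact PFifth.focal_contradiction hS hp hF hT hhyp hz fun ψ _ => hfix ψ

end Cfsg.Agent.S5264
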