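import Cfsg.Statements.S5265
import Cfsg.Agent.FusionAux.CenterIndexModel

set_option autoImplicit false
open Cfsg Cfsg.FusionSystem Cfsg.Agent.FusionAux.CenterIndexSq

namespace Cfsg.Agent.S5265

/-- Let p be a prime, S a nontrivial finite p-group whose centre has index at most p², and F a saturated fusion system over S with no nontrivial normal subgroup and with hyperfocal subgroup equal to S. Then S is extraspecial of order p³; for odd p it has exponent p, and for p = 2 it is dihedral of order 8. -/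
theorem result {Ω : Type*} [Group Ω] {S : Subgroup Ω} [Finite S] (p : ℕ) [Fact p.Prime] (hS : IsPGroup p ↥S) (F : Cfsg.FusionSystem S) (hF : F.IsSaturated p) (hS1 : S ≠ ⊥) (hcore : F.core = ⊥) (hhyp : F.hyperfocalSubgroup p = S) (hZ : (Subgroup.center ↥S).index ≤ p ^ 2) : Cfsg.IsExtraspecial p ↥S ∧ Nat.card S = p ^ 3 ∧ (p ≠ 2 → Monoid.exponent ↥S = p) ∧ (p = 2 → Nonempty (↥S ≃* DihedralGroup 4)) := by
  have hab : ¬ ∀ a ∈ S, ∀ b ∈ S, a * b = b * a := fun h => by
    have hN := Cfsg.Agent.S5233.isNormal_of_abelian hS hF (F := F)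
      Cfsg.Agent.FusionAlperin.sc_self h
    exact hS1 (le_bot_iff.1 (hcore ▸ le_sSup hN))
  push Not at hab
  have hidx : (Subgroup.center S).index = p ^ 2 := by
    obtain ⟨k, hk⟩ := hS.index (Subgroup.center S)
    rw [hk] at hZ
    have hk2 : k ≤ 2 := (Nat.pow_le_pow_iff_right (Fact.out : p.Prime).one_lt).1 hZ
    rcases (by omega : k ≤ 1 ∨ k = 2) with hk1 | rfl
    · exfalso
      obtain ⟨a, ha, b, hb, hne⟩ := hab
      have : IsCyclic (S ⧸ Subgroup.center S) := by
        rw [Subgroup.index_eq_card] at hk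
        rcases (by omega : k = 0 ∨ k = 1) with rfl | rfl
        · have : Subsingleton (S ⧸ Subgroup.center S) :=
            (Nat.card_eq_one_iff_unique.1 (hk.trans (pow_zero p))).1
          infer_instance
        · exact isCyclic_of_prime_card (p := p) (hk.trans (pow_one p))
      exact hne (congrArg Subtype.val (commutative_of_cyclic_center_quotient
        (QuotientGroup.mk' (Subgroup.center S)) (QuotientGroup.ker_mk' _).le ⟨a, ha⟩ ⟨b, hb⟩))
    · exact hk
  have d : Data F p := ⟨hS, hF, by rw [subgroupOf_zCenter]; exact hidx, hab⟩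
  have hcore' : ∀ N, F.IsNormal N → N = ⊥ := fun N hN => le_bot_iff.1 (hcore ▸ le_sSup hN)
  rcases eq_or_ne p 2 with rfl | hp2
  · obtain ⟨h1, h2, h3⟩ := d.two_case hcore' hhyp hS1
    exact ⟨h1, h2, fun h => absurd rfl h, fun _ => h3⟩
  · obtain ⟨h1, h2, h3⟩ := d.odd_case hp2 hcore' hS1
    exact ⟨h1, h2, fun _ => h3, fun h => absurd h hp2⟩

end Cfsg.Agent.S5265
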