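import Cfsg.Statements.S5271
import Cfsg.Agent.FusionAux.WeaklyEmbedded
-- import your own Cfsg.Agent.* helpers here

set_option autoImplicit false
open Cfsg Cfsg.FusionSystem Cfsg.Agent.FusionSys Cfsg.Agent.FusionAux

namespace Cfsg.Agent.S5271

/-- A nilpotency criterion for fusion systems. Let F be a saturated fusion system over a finite p-group S of order at least p². Call a subgroup Q of S weakly embedded in F when there is a subgroup P of S strongly closed in F such that both the product QP and the intersection Q ∩ P are strongly closed in F. Then F is the inner fusion system of S if and only if there is a subgroup D of S with 1 < D < S such that every subgroup of S of the same order as D is weakly embedded in F and, for every fully normalized subgroup H of S of that order, the normalizer fusion system of H in F is the inner fusion system of N_S(H). -/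
theorem result {Ω : Type*} [Group Ω] {S : Subgroup Ω} [Finite S] (p : ℕ) [Fact p.Prime] (hS : IsPGroup p ↥S) (F : Cfsg.FusionSystem S) (hF : F.IsSaturated p) (hcard : p ^ 2 ≤ Nat.card S) : (∀ P : Subgroup Ω, F.Hom P = (Cfsg.innerFusionSystem S).Hom P) ↔ ∃ D : Subgroup Ω, ⊥ < D ∧ D < S ∧ (∀ Q : Subgroup Ω, Q ≤ S → Nat.card ↥Q = Nat.card ↥D → ∃ P : Subgroup Ω, F.StronglyClosed P ∧ F.StronglyClosed (Q ⊔ P) ∧ F.StronglyClosed (Q ⊓ P)) ∧ (∀ H : Subgroup Ω, F.IsFullyNormalized H → Nat.card ↥H = Nat.card ↥D → ∀ N : Cfsg.FusionSystem (Cfsg.FusionSystem.normalizerIn S H), F.IsNormalizerSystem H N → ∀ P : Subgroup Ω, N.Hom P = (Cfsg.innerFusionSystem (Cfsg.FusionSystem.normalizerIn S H)).Hom P) := by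
  have hp := (Fact.out : p.Prime)
  obtain ⟨n, hn⟩ := IsPGroup.iff_card.1 hS
  have h2n : 2 ≤ n := (Nat.pow_le_pow_iff_right hp.one_lt).1 (hn ▸ hcard)
  constructor
  · intro hinner
    obtain ⟨D, -, hDS, hDc⟩ := WeakEmb.exists_between (L := (⊥ : Subgroup Ω)) hS bot_le
      (b := n - 1) (by rw [Subgroup.card_bot]; exact Nat.one_le_pow _ _ hp.pos)
      (hn ▸ Nat.pow_le_pow_right hp.pos (Nat.sub_le n 1))
    have hne : ∀ Q : Subgroup Ω, Nat.card Q = Nat.card D → Q ≠ S := fun Q hQ he => by
      rw [he, hDc, hn] at hQ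
      have := Nat.pow_right_injective hp.two_le hQ
      omega
    have hnorm : ∀ Q : Subgroup Ω, Q ≤ S → Nat.card Q = Nat.card D → normalizerIn S Q = S := by
      intro Q hQ hc
      have h1 := card_lt_card_of_lt (normalizerIn_le Q) (lt_normalizerIn hS hQ (hne Q hc))
      have : Finite (normalizerIn S Q) := finite_of_le ‹_› (normalizerIn_le Q)
      refine eq_of_le_of_card_le (normalizerIn_le Q) ?_
      obtain ⟨c, hc'⟩ := IsPGroup.iff_card.1 (hS.to_le (normalizerIn_le (S := S) Q))
      rw [hc, hDc, hc'] at h1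
      have := (Nat.pow_lt_pow_iff_right hp.one_lt).1 h1
      rw [hn, hc']
      exact Nat.pow_le_pow_right hp.pos (by omega)
    refine ⟨D, bot_lt_iff_ne_bot.2 fun h => ?_, lt_of_le_of_ne hDS (hne D rfl),
      fun Q hQ hc => ?_, fun H hH hc N hN P => ?_⟩
    · rw [h, Subgroup.card_bot] at hDc
      have := (Nat.pow_eq_one.1 hDc.symm).resolve_left hp.ne_one
      omega
    · have hsc : F.StronglyClosed Q := by
        refine ⟨hQ, fun R hR φ hφ x => ?_⟩
        rw [hinner R] at hφ
        obtain ⟨-, g, hg, hgx⟩ := hφ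
        rw [hgx x]
        exact (Subgroup.mem_normalizer_iff.1 ((hnorm Q hQ hc).ge hg).2 _).1 (hR x.2)
      exact ⟨Q, hsc, by rwa [sup_idem], by rwa [inf_idem]⟩
    · have hNS := hnorm H hH.1 hc
      rw [hN P]
      refine Set.Subset.antisymm ?_ ?_
      · rintro φ ⟨hφ, hP, -, -⟩
        rw [hinner P] at hφ
        obtain ⟨-, g, hg, hgx⟩ := hφ
        exact ⟨hP, g, hNS.ge hg, hgx⟩
      · rintro φ ⟨hP, g, hg, hgx⟩
        have hφ : φ = conjHom P g := MonoidHom.ext fun x => by rw [hgx x]; rfl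
        exact hN P ▸ hφ ▸ N.conj_mem hP hg
  · rintro ⟨D, hD1, hDS, hW, hN⟩ P
    have hDfin : Finite D := finite_of_le ‹_› hDS.le
    obtain ⟨k, hk⟩ := IsPGroup.iff_card.1 (hS.to_le hDS.le)
    have hlt : p ^ k < Nat.card S := hk ▸ card_lt_card_of_lt le_rfl hDS
    have h := WeakEmb.hyperfocal_le_sc hS hF (fun Q hQ hc => hW Q hQ (hc.trans hk.symm))
      (fun H hH hc => hN H hH (hc.trans hk.symm)) hlt _ ⊥ Cfsg.Agent.FusionAlperin.sc_bot rfl
    rw [inner_of_hyperfocal_eq_bot hS hF (le_bot_iff.1 h)]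

end Cfsg.Agent.S5271
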