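import Cfsg.Statements.S5273
import Cfsg.Agent.FusionAux.SmallExponent
import Cfsg.Agent.FusionAux.Induction
import Cfsg.Agent.FusionSys.Essential
import Cfsg.Agent.FusionSys.Centric
-- import your own Cfsg.Agent.* helpers here

set_option autoImplicit false
open Cfsg

namespace Cfsg.Agent.S5273

open Cfsg.FusionSystem Cfsg.Agent.FusionSys Cfsg.Agent.FusionAux
open Cfsg.Agent.FusionAlperin (exists_ext_aut extendable_dichotomy extendable_le_of_larger)

variable {Ω : Type*} [Group Ω] {S : Subgroup Ω} [Finite S] {p : ℕ} [Fact p.Prime]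

omit [Finite S] [Fact p.Prime] in
theorem comm_of {Q A : Subgroup Ω} {φ : Q →* Ω} (h : IsMulCommutative A) :
    IsMulCommutative ((A.subgroupOf Q).map φ) := by
  refine ⟨⟨?_⟩⟩
  rintro ⟨_, a, ha, rfl⟩ ⟨_, b, hb, rfl⟩
  apply Subtype.ext
  show φ a * φ b = φ b * φ a
  rw [← map_mul, ← map_mul]
  exact congrArg φ (Subtype.ext (congrArg Subtype.val (h.is_comm.comm ⟨a, ha⟩ ⟨b, hb⟩) :))

/-- A centric fully normalized subgroup: an automorphism of `F` conjugating a non-inner `p`-element of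
`Aut_E(Q)` into `Aut_S(Q)` lies in `E`, provided the maps on larger subgroups agree. -/
theorem mem_of_conj_mem {E F : FusionSystem S} (hS : IsPGroup p S) (hF : F.IsSaturated p)
    {Q : Subgroup Ω} (hQ : F.IsFullyNormalized Q)
    (ih : ∀ R, R ≤ S → Nat.card Q < Nat.card R → F.Hom R ⊆ E.Hom R)
    {α β : F.autGroup Q} (hβE : (β : MulAut Q) ∈ E.autGroup Q)
    (hβp : ∃ k, β ^ p ^ k = 1) (hβI : (β : MulAut Q) ∉ Inn Q)
    (hαβ : ((α⁻¹ * β * α : F.autGroup Q) : MulAut Q) ∈ autInducedBy S Q) :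
    (α : MulAut Q) ∈ E.autGroup Q := by
  have hQS := hQ.1
  have : Finite Q := finite_of_le ‹_› hQS
  let H : Subgroup (F.autGroup Q) := (E.autGroup Q).subgroupOf (F.autGroup Q)
  let I : Subgroup (F.autGroup Q) := (Inn Q).subgroupOf (F.autGroup Q)
  have hIn : I.Normal := FusionAlperin.inn_normal_autGroup F Q
  obtain ⟨-, R, hR⟩ := (saturated_fullyNormalized hS hF hQ).2
  have hRH : (R : Subgroup (F.autGroup Q)) ≤ H := by
    rw [hR]
    exact Subgroup.comap_mono (autInducedBy_le_autGroup E hQS)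
  have hIR : I ≤ (R : Subgroup (F.autGroup Q)) := by
    rw [hR]
    refine Subgroup.comap_mono ?_
    rw [inn_eq_autInducedBy]
    exact autInducedBy_mono hQS Q
  set π := QuotientGroup.mk' I with hπ
  set Rb := R.mapSurjective (f := π) (QuotientGroup.mk'_surjective _) with hRb
  have hRbmem : ∀ a : (F.autGroup Q), π a ∈ (Rb : Subgroup _) → a ∈ (R : Subgroup (F.autGroup Q)) := by
    intro a ha
    rw [hRb, Sylow.coe_mapSurjective] at ha
    have h := (Subgroup.comap_map_eq π (R : Subgroup (F.autGroup Q))).le ha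
    rwa [QuotientGroup.ker_mk', sup_eq_left.2 hIR] at h
  have hN : ∀ U ≤ (Rb : Subgroup ((F.autGroup Q) ⧸ I)), U ≠ ⊥ →
      Subgroup.normalizer (U : Set ((F.autGroup Q) ⧸ I)) ≤ H.map π := by
    intro U hU hU1 z hz
    obtain ⟨a, rfl⟩ := QuotientGroup.mk'_surjective I z
    refine ⟨a, ?_, rfl⟩
    let c : normalizerIn S Q → (F.autGroup Q) := fun g => ⟨Q.normalizerMonoidHom ⟨g, g.2.2⟩,
      autInducedBy_le_autGroup F hQS (mem_autInducedBy.2 ⟨g, g.2.1, fun x => rfl⟩)⟩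
    let ch : normalizerIn S Q →* (F.autGroup Q) := MonoidHom.mk' c fun g g' => Subtype.ext
      (map_mul Q.normalizerMonoidHom ⟨g, g.2.2⟩ ⟨g', g'.2.2⟩)
    let T' : Subgroup Ω := ((U.comap π).comap ch).map (normalizerIn S Q).subtype
    have hT' : T' ≤ normalizerIn S Q := Subgroup.map_subtype_le _
    have hQT' : Q ≤ T' := by
      intro q hq
      refine ⟨⟨q, le_normalizerIn hQS hq⟩, ?_, rfl⟩
      show π (c ⟨q, le_normalizerIn hQS hq⟩) ∈ U
      have hcI : c ⟨q, le_normalizerIn hQS hq⟩ ∈ I := ⟨⟨q, hq⟩, MulEquiv.ext fun x => rfl⟩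
      rw [show π (c ⟨q, le_normalizerIn hQS hq⟩) = 1 from (QuotientGroup.eq_one_iff _).2 hcI]
      exact U.one_mem
    obtain ⟨ψ, hψ, hψa⟩ := exists_ext_aut (saturated_receptive_of_fullyNormalized hS hF hQ) a.2
      hQT' hT' (fun g hg => by
        obtain ⟨g', hg', rfl⟩ := hg
        have h1 : π a * π (c g') * (π a)⁻¹ ∈ U := (Subgroup.mem_normalizer_iff.1 hz _).1 hg'
        rw [← map_mul, ← map_inv, ← map_mul] at h1
        exact hR.le (hRbmem _ (hU h1)))
    have hlt : Q < T' := by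
      refine lt_of_le_of_ne hQT' fun he => hU1 ((Subgroup.eq_bot_iff_forall _).2 fun u hu => ?_)
      obtain ⟨b, rfl⟩ := QuotientGroup.mk'_surjective I u
      have hb := hR.le (hRbmem b (hU hu))
      obtain ⟨t, htS, htb⟩ := mem_autInducedBy.1 hb
      have htN : t ∈ normalizerIn S Q := ⟨htS, mem_normalizer_of_conj_eq _ htb⟩
      have hcb : c ⟨t, htN⟩ = b := Subtype.ext (MulEquiv.ext fun x => Subtype.ext (htb x).symm)
      have htT' : t ∈ T' := ⟨⟨t, htN⟩, show π (c ⟨t, htN⟩) ∈ U by rw [hcb]; exact hu, rfl⟩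
      rw [← he] at htT'
      exact (QuotientGroup.eq_one_iff b).2
        ⟨⟨t, htT'⟩, MulEquiv.ext fun x => Subtype.ext (htb x).symm⟩
    have hψE := ih T' (hT'.trans inf_le_left)
      (card_lt_card_of_lt (hT'.trans inf_le_left) hlt) hψ
    exact (mem_autGroup E hQS).2 (mem_of_restricts E hlt.le hψE fun x => (hψa x).symm)
  -- conjugate `β` into `R` inside `Aut_E(Q)`
  obtain ⟨h', hh'H, hh'⟩ : ∃ h' ∈ H, h' * β * h'⁻¹ ∈ (R : Subgroup (F.autGroup Q)) := by
    obtain ⟨k, hk⟩ := hβp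
    have hz : IsPGroup p (Subgroup.zpowers (⟨β, hβE⟩ : H)) := fun x => ⟨k, by
      obtain ⟨i, hi⟩ := Subgroup.mem_zpowers_iff.1 x.2
      apply Subtype.ext
      rw [SubgroupClass.coe_pow, ← hi, ← zpow_natCast, ← zpow_mul, mul_comm, zpow_mul, zpow_natCast,
        show (⟨β, hβE⟩ : H) ^ p ^ k = 1 from Subtype.ext hk, one_zpow]
      rfl⟩
    obtain ⟨T₁, hT₁⟩ := hz.exists_le_sylow
    obtain ⟨e, he⟩ := MulAction.exists_smul_eq H T₁ (R.subtype hRH)
    refine ⟨e, e.2, ?_⟩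
    have h1 : MulAut.conj e (⟨β, hβE⟩ : H) ∈ (e • T₁ : Sylow p H) :=
      Subgroup.smul_mem_pointwise_smul _ (MulAut.conj e) (T₁ : Subgroup H)
        (hT₁ (Subgroup.mem_zpowers _))
    rw [he] at h1
    exact h1
  have hγR : α⁻¹ * β * α ∈ (R : Subgroup (F.autGroup Q)) := hR.ge hαβ
  have hne : Subgroup.zpowers (π (α⁻¹ * β * α)) ≠ ⊥ := by
    rw [Ne, Subgroup.zpowers_eq_bot]
    intro h
    refine hβI (show β ∈ I from ?_)
    have h1 := hIn.conj_mem _ ((QuotientGroup.eq_one_iff _).1 h) α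
    simpa [mul_assoc] using h1
  have hx : π (h' * α) ∈ H.map π := by
    refine spe_mem_of_conj Rb hN (Subgroup.zpowers_le.2 ?_) hne ?_
    · rw [hRb, Sylow.coe_mapSurjective]
      exact Subgroup.mem_map_of_mem _ hγR
    · rintro u ⟨i, rfl⟩
      simp only
      rw [← map_zpow π, ← map_inv, ← map_mul, ← map_mul]
      show _ ∈ (Rb : Subgroup ((F.autGroup Q) ⧸ I))
      rw [hRb, Sylow.coe_mapSurjective]
      refine Subgroup.mem_map_of_mem _ ?_
      rw [← conj_zpow, show h' * α * (α⁻¹ * β * α) * (h' * α)⁻¹ = h' * β * h'⁻¹ by group]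
      exact zpow_mem hh' i
  obtain ⟨b, hb, hbe⟩ := hx
  have h1 : b⁻¹ * (h' * α) ∈ H := hRH (hIR (QuotientGroup.eq.1 hbe))
  have h2 := H.mul_mem (H.inv_mem hh'H) (H.mul_mem hb h1)
  have h3 : α ∈ H := by simpa using h2
  exact h3

/-- The inductive step. -/
theorem autGroup_le {E F : FusionSystem S} (hS : IsPGroup p S) (hE : E.IsSaturated p)
    (hF : F.IsSaturated p) (hEF : ∀ P : Subgroup Ω, E.Hom P ⊆ F.Hom P)
    (hsmall : ∀ A : Subgroup Ω, IsMulCommutative A → (∀ a ∈ A, a ^ p ^ smallExp p = 1) →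
      F.Hom A ⊆ E.Hom A)
    {Q : Subgroup Ω} (hQ : F.IsFullyNormalized Q)
    (ih : ∀ R, R ≤ S → Nat.card Q < Nat.card R → F.Hom R ⊆ E.Hom R)
    (hcent : ∀ R, F.IsConj Q R → centralizerIn S R ≤ R) : F.autGroup Q ≤ E.autGroup Q := by
  intro α₀ hα₀
  set α : F.autGroup Q := ⟨α₀, hα₀⟩ with hαdef
  have hQS := hQ.1
  have : Finite Q := finite_of_le ‹_› hQS
  set T := normalizerIn S Q with hT
  have hTS : T ≤ S := inf_le_left
  have : Finite T := finite_of_le ‹_› hTS
  have hQT : Q ≤ T := le_normalizerIn hQS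
  obtain ⟨A, hAQ, hTA, hAc, hAe, hdet⟩ :=
    exists_detecting_abelian (hS.to_le hTS) hQT (inf_le_right : T ≤ _)
  obtain ⟨-, R, hR⟩ := (saturated_fullyNormalized hS hF hQ).2
  -- automorphisms fixing `A` are induced by `S`
  have hK : ∀ γ : F.autGroup Q, (∀ x : Q, (x : Ω) ∈ A → (γ : MulAut Q) x = x) →
      (γ : MulAut Q) ∈ autInducedBy S Q := by
    let K : Subgroup (F.autGroup Q) :=
      { carrier := {γ | ∀ x : Q, (x : Ω) ∈ A → (γ : MulAut Q) x = x}
        one_mem' := fun x _ => rfl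
        mul_mem' := fun {a b} ha hb x hx => by
          rw [Subgroup.coe_mul, MulAut.mul_apply, hb x hx, ha x hx]
        inv_mem' := fun {a} ha x hx => by
          conv_lhs => rw [← ha x hx]
          simp }
    have hKp : IsPGroup p K := by
      intro γ
      refine ⟨(orderOf γ).factorization p, ?_⟩
      have hco : (orderOf (γ ^ p ^ (orderOf γ).factorization p)).Coprime p := by
        rw [orderOf_pow' γ (pow_ne_zero _ (Fact.out : p.Prime).ne_zero),
          Nat.gcd_eq_right (Nat.ordProj_dvd _ _)]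
        exact (Nat.coprime_ordCompl Fact.out (orderOf_pos γ).ne').symm
      rw [← Subgroup.orderOf_coe, ← Subgroup.orderOf_coe] at hco
      apply Subtype.ext
      apply Subtype.ext
      exact hdet _ hco (γ ^ p ^ (orderOf γ).factorization p).2
    have hRK : (R : Subgroup (F.autGroup Q)) ≤ Subgroup.normalizer (K : Set (F.autGroup Q)) := by
      rw [hR]
      intro b hb
      obtain ⟨t, htS, htb⟩ := mem_autInducedBy.1 hb
      have htA := hTA ⟨htS, mem_normalizer_of_conj_eq _ htb⟩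
      have key : ∀ x : Q, ((b : MulAut Q) x : Ω) ∈ A ↔ (x : Ω) ∈ A := fun x => by
        erw [htb x]
        exact (Subgroup.mem_normalizer_iff.1 htA _).symm
      refine Subgroup.mem_normalizer_iff.2 fun γ => ⟨fun hγ x hx => ?_, fun hγ x hx => ?_⟩
      · have h := hγ ((b : MulAut Q)⁻¹ x) ((key _).1 (by simpa using hx))
        show (b : MulAut Q) ((γ : MulAut Q) ((b : MulAut Q)⁻¹ x)) = x
        rw [h]
        simp
      · have h := hγ ((b : MulAut Q) x) ((key x).2 hx)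
        change (b : MulAut Q) ((γ : MulAut Q) ((b : MulAut Q)⁻¹ ((b : MulAut Q) x))) =
          (b : MulAut Q) x at h
        simpa using h
    intro γ hγ
    have hsup : IsPGroup p ((R : Subgroup (F.autGroup Q)) ⊔ K : Subgroup _) :=
      R.2.to_sup_of_normal_right' hKp hRK
    exact hR.le ((R.3 hsup le_sup_left).le (Subgroup.mem_sup_right hγ))
  -- a map `θ` on `T` sending `A` to a fully normalized subgroup
  obtain ⟨A₀, θ, hθE, hA₀, hA₀fn⟩ : ∃ (A₀ : Subgroup Ω) (θ : T →* Ω), θ ∈ E.Hom T ∧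
      (A.subgroupOf T).map θ = A₀ ∧ F.IsFullyNormalized A₀ := by
    rcases hQS.eq_or_lt with hQeq | hlt
    · refine ⟨A, T.subtype, subtype_mem E hTS, Subgroup.map_subgroupOf_eq_of_le (hAQ.trans hQT),
        hAQ.trans hQS, fun B hB => ?_⟩
      have hTeq : S ≤ T := hQeq ▸ hQT
      have : Finite (normalizerIn S A : Subgroup Ω) := finite_of_le ‹_› inf_le_left
      exact Subgroup.card_le_of_le (le_inf (normalizerIn_le B)
        ((normalizerIn_le B).trans (hTeq.trans hTA)))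
    · obtain ⟨A₀, hconj, hA₀⟩ := exists_fullyNormalized F (hAQ.trans hQS)
      obtain ⟨θ, hθ, -, hθA⟩ := exists_normalizer_map_fullyNormalized hS hF hA₀ hconj
      have hle : T ≤ normalizerIn S A := le_inf hTS hTA
      have hlt' : Q < T := lt_normalizerIn hS hQS hlt.ne
      refine ⟨A₀, restr hle θ, restr_mem E hle (ih _ inf_le_left ?_ hθ), ?_, hA₀⟩
      · exact card_lt_card_of_lt inf_le_left (hlt'.trans_le hle)
      · rw [← hθA]
        ext y
        simp only [mem_map_subgroupOf, restr_apply]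
        exact ⟨fun ⟨x, hx, hy⟩ => ⟨_, hx, hy⟩, fun ⟨x, hx, hy⟩ => ⟨⟨x, hQT (hAQ hx)⟩, hx, hy⟩⟩
  have hA₀E : E.IsFullyNormalized A₀ :=
    ⟨hA₀fn.1, fun B ⟨φ, hφ, hφB⟩ => hA₀fn.2 B ⟨φ, hEF _ hφ, hφB⟩⟩
  -- the image of `A` under `α`
  set B := (A.subgroupOf Q).map (Q.subtype.comp α₀.toMonoidHom) with hB
  have hBmem : ∀ x : Q, (x : Ω) ∈ B ↔ ((α₀.symm x : Q) : Ω) ∈ A := by
    intro x
    rw [hB, mem_map_subgroupOf]
    constructor
    · rintro ⟨y, hy, hyx⟩
      rw [show α₀.symm x = y by rw [MulEquiv.symm_apply_eq]; exact Subtype.ext hyx.symm]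
      exact hy
    · intro h
      exact ⟨_, h, by simp⟩
  have hBQ : B ≤ Q := (Subgroup.map_le_range _ _).trans (le_of_eq (range_subtype_comp α₀))
  have hQB : Q ≤ Subgroup.normalizer (B : Set Ω) := by
    have key : ∀ q : Q, ∀ x ∈ B, (q : Ω) * x * (q : Ω)⁻¹ ∈ B := by
      intro q x hx
      have h1 := (hBmem (q * ⟨x, hBQ hx⟩ * q⁻¹)).2
      simp only [map_mul, map_inv, Subgroup.coe_mul, Subgroup.coe_inv] at h1
      exact h1 ((Subgroup.mem_normalizer_iff.1 (hTA (hQT (α₀.symm q).2)) _).1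
        ((hBmem ⟨x, hBQ hx⟩).1 hx))
    intro q hq
    refine Subgroup.mem_normalizer_iff.2 fun y => ⟨key ⟨q, hq⟩ y, fun hy => ?_⟩
    have := key (⟨q, hq⟩⁻¹) _ hy
    simpa [mul_assoc] using this
  let u : Q →* Ω := (θ.comp (Subgroup.inclusion hQT)).comp α₀.symm.toMonoidHom
  let e : B →* Ω := u.comp (Subgroup.inclusion hBQ)
  have huF : u ∈ F.Hom Q := comp_mem' F
    (autGroup_mem_hom F hQS ((F.autGroup Q).inv_mem hα₀)) (hEF _ hθE)
    (fun x => hQT (α₀.symm x).2) (fun x => rfl)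
  have heE : e ∈ E.Hom B := by
    refine hsmall B (comm_of hAc) (fun b hb => ?_) (restr_mem F hBQ huF)
    have h1 := hAe _ ((hBmem ⟨b, hBQ hb⟩).1 hb)
    rw [← SubgroupClass.coe_pow, ← map_pow, OneMemClass.coe_eq_one, EmbeddingLike.map_eq_one_iff]
      at h1
    simpa using congrArg Subtype.val h1
  have her : e.range = A₀ := by
    rw [← hA₀]
    ext y
    rw [mem_map_subgroupOf]
    constructor
    · rintro ⟨x, rfl⟩
      exact ⟨Subgroup.inclusion hQT (α₀.symm (Subgroup.inclusion hBQ x)), (hBmem _).1 x.2, rfl⟩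
    · rintro ⟨x, hx, rfl⟩
      have hxB : (α₀ ⟨x, hAQ hx⟩ : Ω) ∈ B := (hBmem _).2 (by simpa using hx)
      refine ⟨⟨_, hxB⟩, congrArg θ (Subtype.ext ?_)⟩
      show ((α₀.symm (α₀ ⟨(x : Ω), hAQ hx⟩) : Q) : Ω) = x
      rw [MulEquiv.symm_apply_apply]
  obtain ⟨ψ, hψ, hψe, -, -⟩ :=
    receptive_extend (saturated_receptive_of_fullyNormalized hS hE hA₀E) heE her
  have hQext : Q ≤ extender S B e := by
    intro q hq
    refine mem_extender.2 ⟨hQS hq, hQB hq, u ⟨q, hq⟩, map_mem_S F huF _, fun x hx => ?_⟩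
    show u _ = u ⟨q, hq⟩ * u _ * (u ⟨q, hq⟩)⁻¹
    rw [← map_mul, ← map_inv, ← map_mul]
    rfl
  set ψQ := restr hQext ψ with hψQ
  set θQ := restr hQT θ with hθQ
  have hψQE : ψQ ∈ E.Hom Q := restr_mem E hQext hψ
  have hθQE : θQ ∈ E.Hom Q := restr_mem E hQT hθE
  have hagree : ∀ x : Q, (x : Ω) ∈ B → ψQ x = θQ (α₀.symm x) := fun x hx => hψe ⟨x, hx⟩
  have hRE : autInducedBy S Q ≤ E.autGroup Q := autInducedBy_le_autGroup E hQS
  by_cases hrange : ψQ.range = θQ.range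
  · set h := (toIso E hψQE hrange).trans (toIso E hθQE rfl).symm with hh
    have hhE : h ∈ E.autGroup Q := (mem_autGroup E hQS).2
      ((toIso_isIso E hψQE hrange).trans (toIso_isIso E hθQE rfl).symm)
    have hfix : ∀ x : Q, (x : Ω) ∈ A → h (α₀ x) = x := by
      intro x hx
      rw [hh, MulEquiv.trans_apply, MulEquiv.symm_apply_eq]
      apply Subtype.ext
      rw [toIso_coe, toIso_coe, hagree _ ((hBmem _).2 (by simpa using hx))]
      simp
    have h1 := hRE (hK ((⟨h, (mem_autGroup F hQS).2 (hEF _ ((mem_autGroup E hQS).1 hhE))⟩ :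
      F.autGroup Q) * α) fun x hx => hfix x hx)
    have h2 := (E.autGroup Q).mul_mem ((E.autGroup Q).inv_mem hhE) h1
    simpa [hαdef] using h2
  -- otherwise a non-inner `p`-element of `Aut_E(Q)` is conjugated by `α` into `Aut_S(Q)`
  set Q₁ := ψQ.range with hQ₁
  set Q₀ := θQ.range with hQ₀
  have hQ₀n : Q₀ ≤ Subgroup.normalizer (centralizerIn S A₀ : Set Ω) := by
    have key : ∀ q : Q, ∀ c ∈ centralizerIn S A₀, θQ q * c * (θQ q)⁻¹ ∈ centralizerIn S A₀ := by
      rintro q c ⟨hcS, hc⟩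
      have hq : θQ q ∈ S := map_mem_S E hθQE q
      refine ⟨S.mul_mem (S.mul_mem hq hcS) (S.inv_mem hq), Subgroup.mem_centralizer_iff.2 ?_⟩
      intro y hy
      rw [SetLike.mem_coe, ← hA₀, mem_map_subgroupOf] at hy
      obtain ⟨a, ha, rfl⟩ := hy
      have ha' : θ (⟨(q : Ω), hQT q.2⟩⁻¹ * a * ⟨(q : Ω), hQT q.2⟩) ∈ A₀ := by
        rw [← hA₀]
        refine Subgroup.mem_map_of_mem θ ?_
        have := (Subgroup.mem_normalizer_iff''.1 (hTA (hQT q.2)) _).1 ha
        simpa [Subgroup.mem_subgroupOf] using this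
      have h1 := Subgroup.mem_centralizer_iff.1 hc _ ha'
      rw [map_mul, map_mul, map_inv] at h1
      show θ a * (θQ q * c * (θQ q)⁻¹) = θQ q * c * (θQ q)⁻¹ * θ a
      have h2 := congrArg (fun t => θ ⟨(q : Ω), hQT q.2⟩ * t * (θ ⟨(q : Ω), hQT q.2⟩)⁻¹) h1
      simp [hθQ, Subgroup.inclusion, mul_assoc] at h2 ⊢
      exact h2
    rintro _ ⟨q, rfl⟩
    refine Subgroup.mem_normalizer_iff.2 fun y => ⟨key q y, fun hy => ?_⟩
    have := key q⁻¹ _ hy
    simpa [map_inv, mul_assoc] using this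
  set W := Q₀ ⊔ centralizerIn S A₀ with hW
  have hWS : W ≤ S := sup_le (range_le_S E hθQE) inf_le_left
  have : Finite W := finite_of_le ‹_› hWS
  have hQ₁W : Q₁ ≤ W := by
    rintro _ ⟨q, rfl⟩
    have hc : (θQ (α₀.symm q))⁻¹ * ψQ q ∈ centralizerIn S A₀ := by
      refine ⟨S.mul_mem (S.inv_mem (map_mem_S E hθQE _)) (map_mem_S E hψQE _),
        Subgroup.mem_centralizer_iff.2 fun y hy => ?_⟩
      rw [SetLike.mem_coe, ← her] at hy
      obtain ⟨x, rfl⟩ := hy
      have hx' : (q : Ω) * x * (q : Ω)⁻¹ ∈ B := (Subgroup.mem_normalizer_iff.1 (hQB q.2) _).1 x.2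
      have h1 := hagree (q * Subgroup.inclusion hBQ x * q⁻¹) hx'
      simp only [map_mul, map_inv] at h1
      rw [hagree (Subgroup.inclusion hBQ x) x.2] at h1
      show θQ (α₀.symm (Subgroup.inclusion hBQ x)) * _ = _ * θQ (α₀.symm (Subgroup.inclusion hBQ x))
      have h2 := congrArg (fun t => (θQ (α₀.symm q))⁻¹ * t * ψQ q) h1
      simp only [mul_assoc, inv_mul_cancel_left, inv_mul_cancel, mul_one] at h2 ⊢
      exact h2.symm
    have := Subgroup.mul_mem_sup (S := Q₀) (T := centralizerIn S A₀) ⟨α₀.symm q, rfl⟩ hc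
    rwa [mul_inv_cancel_left] at this
  have : Finite Q₁ := finite_of_le ‹_› (range_le_S E hψQE)
  obtain ⟨n, hn, hnN, hnQ⟩ := FusionAlperin.exists_normalizer_mem_not_mem (hS.to_le hWS)
    (lt_of_le_of_ne hQ₁W fun he => hrange (eq_of_le_of_card_le (he.symm ▸ le_sup_left : Q₀ ≤ Q₁)
      (le_of_eq ((Nat.card_congr (MonoidHom.ofInjective (E.injective_of_mem hψQE)).toEquiv).symm.trans
        (Nat.card_congr (MonoidHom.ofInjective (E.injective_of_mem hθQE)).toEquiv)))).symm)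
  have hnS : n ∈ S := hWS hn
  rw [← SetLike.mem_coe, Subgroup.coe_mul_of_left_le_normalizer_right _ _ hQ₀n] at hn
  obtain ⟨_, ⟨q', rfl⟩, c, hc, rfl⟩ := hn
  set ε := toIso E hψQE rfl with hε
  let cn : MulAut Q₁ := Q₁.normalizerMonoidHom ⟨_, hnN⟩
  have hcn : cn ∈ E.autGroup Q₁ := autInducedBy_le_autGroup E (range_le_S E hψQE)
    (mem_autInducedBy.2 ⟨_, hnS, fun x => rfl⟩)
  set β := MulAut.congr ε.symm cn with hβdef
  have hβE : β ∈ E.autGroup Q := autCongr_mem E (toIso_isIso E hψQE rfl).symm hcn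
  have hβψ : ∀ x : Q, ψQ (β x) = θQ q' * c * ψQ x * (θQ q' * c)⁻¹ := by
    intro x
    rw [hβdef, autCongr_apply, ← toIso_coe E hψQE rfl, ← hε, MulEquiv.apply_symm_apply,
      MulEquiv.symm_symm, normalizerMonoidHom_coe]
    rfl
  have hγ : ∀ a : Q, (a : Ω) ∈ A →
      α₀.symm (β (α₀ a)) = q' * a * q'⁻¹ := by
    intro a ha
    have ha' : (α₀ a : Ω) ∈ B := (hBmem _).2 (by simpa using ha)
    have h1 : ψQ (β (α₀ a)) = θQ (q' * a * q'⁻¹) := by
      rw [hβψ, hagree _ ha', MulEquiv.symm_apply_apply, map_mul, map_mul, map_inv, mul_inv_rev,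
        mul_assoc (θQ q') c, Subgroup.mem_centralizer_iff.1 hc.2 _ (show θQ a ∈ (A₀ : Set Ω) from
          hA₀.le ⟨Subgroup.inclusion hQT a, ha, rfl⟩) |>.symm]
      simp [mul_assoc]
    have hconjA : ((q' * a * q'⁻¹ : Q) : Ω) ∈ A :=
      (Subgroup.mem_normalizer_iff.1 (hTA (hQT q'.2)) _).1 ha
    have h2 : ψQ (α₀ (q' * a * q'⁻¹)) = θQ (q' * a * q'⁻¹) := by
      rw [hagree _ ((hBmem _).2 (by simpa using hconjA)), MulEquiv.symm_apply_apply]
    rw [MulEquiv.symm_apply_eq]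
    exact E.injective_of_mem hψQE (h1.trans h2.symm)
  have hβF : β ∈ F.autGroup Q := (mem_autGroup F hQS).2 (hEF _ ((mem_autGroup E hQS).1 hβE))
  refine mem_of_conj_mem hS hF hQ ih (α := α) (β := ⟨β, hβF⟩) hβE ?_ ?_ ?_
  · obtain ⟨k, hk⟩ := hS ⟨_, hnS⟩
    refine ⟨k, Subtype.ext ?_⟩
    show β ^ p ^ k = 1
    rw [hβdef, ← map_pow, show cn ^ p ^ k = 1 from ?_, map_one]
    rw [← map_pow, show (⟨θQ q' * c, hnN⟩ : Subgroup.normalizer (Q₁ : Set Ω)) ^ p ^ k = 1 from
      Subtype.ext (congrArg Subtype.val hk :), map_one]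
  · rintro ⟨q, hq⟩
    refine hnQ ?_
    have hCQ₁ := hcent Q₁ ⟨ψQ, hEF _ hψQE, rfl⟩
    have hmem : (ψQ q)⁻¹ * (θQ q' * c) ∈ centralizerIn S Q₁ := by
      refine ⟨S.mul_mem (S.inv_mem (map_mem_S E hψQE q)) hnS, Subgroup.mem_centralizer_iff.2 ?_⟩
      rintro _ ⟨x, rfl⟩
      have h1 := hβψ x
      rw [← show MulAut.conj q = β from hq, MulAut.conj_apply, map_mul, map_mul, map_inv] at h1
      have h2 := congrArg (fun t => (ψQ q)⁻¹ * t * (θQ q' * c)) h1
      simp only [mul_assoc, inv_mul_cancel_left, inv_mul_cancel, mul_one] at h2 ⊢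
      exact h2
    have := Q₁.mul_mem ⟨q, rfl⟩ (hCQ₁ hmem)
    simpa using this
  · -- `γ = α⁻¹ β α` agrees with conjugation by `q'` on `A`
    set γ : F.autGroup Q := α⁻¹ * ⟨β, hβF⟩ * α with hγdef
    let cq : F.autGroup Q := ⟨MulAut.conj q', inn_le_autGroup F hQS ⟨q', rfl⟩⟩
    have h1 := hK (cq⁻¹ * γ) fun x hx => by
      show (MulAut.conj q')⁻¹ (α₀.symm (β (α₀ x))) = x
      rw [hγ x hx]
      simp [mul_assoc]
    have h2 : (cq : MulAut Q) ∈ autInducedBy S Q := by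
      refine mem_autInducedBy.2 ⟨q', hQS q'.2, fun x => ?_⟩
      rfl
    have := (autInducedBy S Q).mul_mem h2 h1
    simpa using this

/-- Small-exponent abelian subgroups control fusion. Let E and F be saturated fusion systems over the same finite p-group S with E contained in F. Suppose that E and F have the same maps between A and B for all subgroups A, B of S that are elementary abelian when p is odd, respectively abelian of exponent dividing 4 when p = 2. Then E = F (they have the same maps on every subgroup). -/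
theorem result {Ω : Type*} [Group Ω] {S : Subgroup Ω} [Finite S] (p : ℕ) [Fact p.Prime] (hS : IsPGroup p ↥S) (E F : Cfsg.FusionSystem S) (hE : E.IsSaturated p) (hF : F.IsSaturated p) (hEF : E.IsSubsystemOf F) (hodd : p ≠ 2 → ∀ A B : Subgroup Ω, A ≤ S → B ≤ S → Cfsg.IsElementaryAbelian p A → Cfsg.IsElementaryAbelian p B → E.homSet A B = F.homSet A B) (htwo : p = 2 → ∀ A B : Subgroup Ω, A ≤ S → B ≤ S → IsMulCommutative ↥A → IsMulCommutative ↥B → (∀ a ∈ A, a ^ 4 = 1) → (∀ b ∈ B, b ^ 4 = 1) → E.homSet A B = F.homSet A B) : ∀ P : Subgroup Ω, E.Hom P = F.Hom P := by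
  have hsmall : ∀ A : Subgroup Ω, IsMulCommutative A → (∀ a ∈ A, a ^ p ^ smallExp p = 1) →
      F.Hom A ⊆ E.Hom A := by
    intro A hA hAe φ hφ
    have hAB : IsMulCommutative φ.range ∧ ∀ b ∈ φ.range, b ^ p ^ smallExp p = 1 := by
      refine ⟨⟨⟨?_⟩⟩, ?_⟩
      · rintro ⟨_, a, rfl⟩ ⟨_, b, rfl⟩
        apply Subtype.ext
        show φ a * φ b = φ b * φ a
        rw [← map_mul, ← map_mul, hA.is_comm.comm a b]
      · rintro _ ⟨a, rfl⟩
        rw [← map_pow, show a ^ p ^ smallExp p = 1 from Subtype.ext (hAe _ a.2), map_one]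
    have hmem : φ ∈ F.homSet A φ.range := ⟨hφ, fun x => ⟨x, rfl⟩⟩
    by_cases h2 : p = 2
    · rw [← htwo h2 A φ.range (le_S F hφ) (range_le_S F hφ) hA hAB.1
        (by subst h2; exact hAe) (by subst h2; exact hAB.2)] at hmem
      exact hmem.1
    · rw [smallExp, if_neg h2, pow_one] at hAe hAB
      rw [← hodd h2 A φ.range (le_S F hφ) (range_le_S F hφ) ⟨hA, hAe⟩ hAB] at hmem
      exact hmem.1
  suffices h : F ≤ E from fun P => Set.Subset.antisymm (hEF P) (h P)
  refine FusionAlperin.hom_subset_of_step hS hF E fun Q hQ ih => ?_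
  rcases hQ.1.eq_or_lt with rfl | hlt
  · refine autGroup_le hS hE hF hEF hsmall hQ ih fun R hR => ?_
    rw [FusionAlperin.eq_of_isConj_self hR]
    exact inf_le_left
  · rcases extendable_dichotomy hS hF hlt hQ with h1 | ⟨h1, -⟩
    · exact h1 ▸ extendable_le_of_larger E ih hQ.1
    · exact autGroup_le hS hE hF hEF hsmall hQ ih fun R hR => h1.1.2 R hR

end Cfsg.Agent.S5273
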