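import Cfsg.Statements.S5289
import Mathlib
import Cfsg.Agent.H73.Resistant.TypeOne
import Cfsg.Agent.H73.Resistant.TypeTwoMain
import Cfsg.Agent.H73.Resistant.Metacyclic
import Cfsg.Agent.FusionAlperin.NormalCriteria
import Cfsg.Agent.S3888
import Mathlib
-- import your own Cfsg.Agent.* helpers here

set_option autoImplicit false
set_option linter.style.haveILetI false
open Cfsg

namespace Cfsg.Agent.S5289

/-- Let p ≥ 5 be a prime and S a finite p-group of p-rank two (it has an elementary abelian subgroup of order p² and none of order p³) which is not the extraspecial group of order p³ and exponent p. Then S is resistant: for every saturated fusion system F over S, S is normal in F, that is, every map of F extends to an F-automorphism of S. -/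
theorem result {Ω : Type*} [Group Ω] {S : Subgroup Ω} [Finite S] (p : ℕ) [Fact p.Prime] (hS : IsPGroup p S)
    (F : Cfsg.FusionSystem S) (hF : F.IsSaturated p)
    (hp : 5 ≤ p)
    (hrank2 : ∃ E : Subgroup Ω, E ≤ S ∧ Cfsg.IsElementaryAbelian p E ∧ Nat.card E = p ^ 2)
    (hrank3 : ∀ E : Subgroup Ω, E ≤ S → Cfsg.IsElementaryAbelian p E → Nat.card E ≤ p ^ 2)
    (hnotE : ¬ (Nat.card S = p ^ 3 ∧ Monoid.exponent ↥S = p)) : F.IsNormal S := by
  classical
  have hpp := (Fact.out : p.Prime)
  obtain ⟨n, hn⟩ := IsPGroup.iff_card.1 hS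
  have hrk : Cfsg.PRankLE p 2 S := by
    intro A hA hAp
    have hcard : Nat.card (A.map S.subtype) = Nat.card A := Subgroup.card_map_of_injective S.subtype_injective
    rw [← hcard]
    refine hrank3 _ (Subgroup.map_subtype_le A) ⟨⟨⟨?_⟩⟩, ?_⟩
    · rintro ⟨_, a, ha, rfl⟩ ⟨_, b, hb, rfl⟩
      exact Subtype.ext (congrArg (fun t : A => ((t : S) : Ω)) (hA.is_comm.comm ⟨a, ha⟩ ⟨b, hb⟩))
    · rintro _ ⟨a, ha, rfl⟩
      exact congrArg Subtype.val (hAp a ha)
  have hcases := Cfsg.Agent.S3888.result (by omega : p ≠ 2) n hn hrk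
  refine Cfsg.Agent.FusionAlperin.isNormal_of_autGroups hS hF fun P hP => ?_
  rcases hP with rfl | hEss
  · exact ⟨le_rfl, fun α _ => by
      rw [Subgroup.subgroupOf_self]; exact Subgroup.map_top_of_surjective _ α.surjective⟩
  exfalso
  rcases hcases with hm | ⟨hn3, x, y, z, hgen, hx, hy, hz, hxz, hyz, hxy⟩ |
    ⟨hn4, s, x, y, z, hs, hgen, hx, hy, hz, hyz, hxy, hxz⟩ | ⟨h3, -, -⟩
  · exact H73.Resistant.not_essential_of_metacyclic hS hF (by omega) hm hEss
  · rcases Nat.lt_or_ge 3 n with hn4 | hn4
    · have hES : P ≤ S := hEss.1.1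
      have hlt : P < S := by
        refine lt_of_le_of_ne hES fun h => ?_
        subst h
        obtain ⟨-, -, hn', Y, hY⟩ := hEss
        haveI := hn'
        obtain ⟨hd, -, -⟩ := FusionSys.spe_exists_sylow hY
        obtain ⟨R, hR⟩ := FusionBatch.autGroup_self_sylow hS hF
        exact R.not_dvd_index (hR ▸ hd)
      refine H73.Resistant.not_essential_of_typeOne hS hEss hlt (e := n - 4) hgen hxz hyz ?_
      rw [← pow_succ, show n - 4 + 1 = n - 3 by omega]
      exact hxy
    · obtain rfl : n = 3 := by omega
      haveI : Nontrivial S := Finite.one_lt_card_iff_nontrivial.1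
        (hn ▸ Nat.one_lt_pow (by norm_num) hpp.one_lt)
      refine hnotE ⟨hn, H73.Resistant.exponent_of_typeOne (by omega) hgen hxz hyz ?_ hx hy ?_⟩
      · simpa using hxy
      · simpa using hz
  · obtain ⟨m, rfl⟩ : ∃ m, n = m + 2 := ⟨n - 2, by omega⟩
    rw [show m + 2 - 3 = m - 1 by omega] at hxy
    rw [Nat.add_sub_cancel] at hz
    have hs' : ¬ (p : ℤ) ∣ (s : ℤ) := by
      intro h
      have h' : p ∣ s := by exact_mod_cast h
      rcases hs with rfl | hs
      · exact hpp.one_lt.ne' (Nat.dvd_one.1 h')
      · exact hs ⟨0, by rw [(ZMod.natCast_eq_zero_iff s p).2 h', mul_zero]⟩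
    have T : H73.Resistant.TypeTwo p S m (s : ℤ) (x : Ω) (y : Ω) (z : Ω) :=
      { hm := by omega
        hs := hs'
        hgen := by
          have h := congrArg (Subgroup.map S.subtype) hgen
          rw [MonoidHom.map_closure, ← MonoidHom.range_eq_map, Subgroup.range_subtype] at h
          simpa [Set.image_insert_eq] using h
        hcard := hn
        hx := congrArg Subtype.val hx
        hy := congrArg Subtype.val hy
        hz := congrArg Subtype.val hz
        hyz := congrArg Subtype.val hyz
        hxy := by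
          have h := congrArg Subtype.val hxy
          simp only [Subgroup.coe_mul, Subgroup.coe_inv, Subgroup.coe_pow] at h
          rw [h, ← zpow_natCast]
          push_cast
          rfl
        hxz := congrArg Subtype.val hxz }
    exact T.not_essential hS hp hF hEss
  · omega

end Cfsg.Agent.S5289
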