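import Cfsg.Statements.S5296
import Cfsg.Agent.FusionBatch.HyperfocalDetect

set_option autoImplicit false
set_option maxHeartbeats 1000000
universe u
open Cfsg
open Cfsg.FusionSystem Cfsg.Agent.FusionSys Cfsg.Agent.FusionAux Cfsg.Agent.FusionBatch

namespace Cfsg.Agent.S5296

/-- Small-exponent abelian subgroups of the hyperfocal subgroup control fusion. Let E and F be saturated fusion systems over the same finite p-group S with E contained in F. Suppose that E and F have the same maps between A and B for all subgroups A, B of the hyperfocal subgroup of F that are elementary abelian when p is odd, respectively abelian of exponent dividing 4 when p = 2. Then E = F. -/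
theorem result {Ω : Type u} [Group Ω] {S : Subgroup Ω} [Finite S] (p : ℕ) [Fact p.Prime] (hS : IsPGroup p S)
    (E F : Cfsg.FusionSystem S) (hE : E.IsSaturated p) (hF : F.IsSaturated p) (hEF : E.IsSubsystemOf F)
    (hodd : p ≠ 2 → ∀ A B : Subgroup Ω, A ≤ (F.hyperfocalSubgroup p) → B ≤ (F.hyperfocalSubgroup p) →
      Cfsg.IsElementaryAbelian p A → Cfsg.IsElementaryAbelian p B → E.homSet A B = F.homSet A B)
    (htwo : p = 2 → ∀ A B : Subgroup Ω, A ≤ (F.hyperfocalSubgroup p) → B ≤ (F.hyperfocalSubgroup p) →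
      IsMulCommutative ↥A → IsMulCommutative ↥B → (∀ a ∈ A, a ^ 4 = 1) → (∀ b ∈ B, b ^ 4 = 1) → E.homSet A B = F.homSet A B) :
    ∀ P : Subgroup Ω, E.Hom P = F.Hom P := by
  have hSC := HypDetect.hyperfocal_stronglyClosed' hS hF
  have hsmall : ∀ A : Subgroup Ω, A ≤ F.hyperfocalSubgroup p → IsMulCommutative A →
      (∀ a ∈ A, a ^ p ^ smallExp p = 1) → F.Hom A ⊆ E.Hom A := by
    intro A hAh hA hAe φ hφ
    have hBh : φ.range ≤ F.hyperfocalSubgroup p := by
      rintro _ ⟨a, rfl⟩
      exact hSC.2 A hAh φ hφ a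
    have hAB : IsMulCommutative φ.range ∧ ∀ b ∈ φ.range, b ^ p ^ smallExp p = 1 := by
      refine ⟨⟨⟨?_⟩⟩, ?_⟩
      · rintro ⟨_, a, rfl⟩ ⟨_, b, rfl⟩
        apply Subtype.ext
        show φ a * φ b = φ b * φ a
        rw [← map_mul, ← map_mul, hA.is_comm.comm a b]
      · rintro _ ⟨a, rfl⟩
        rw [← map_pow, show a ^ p ^ smallExp p = 1 from Subtype.ext (hAe _ a.2), map_one]
    have hmem : φ ∈ F.homSet A φ.range := ⟨hφ, fun x => ⟨x, rfl⟩⟩
    by_cases h2 : p = 2
    · rw [← htwo h2 A φ.range hAh hBh hA hAB.1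
        (by subst h2; exact hAe) (by subst h2; exact hAB.2)] at hmem
      exact hmem.1
    · rw [smallExp, if_neg h2, pow_one] at hAe hAB
      rw [← hodd h2 A φ.range hAh hBh ⟨hA, hAe⟩ hAB] at hmem
      exact hmem.1
  suffices h : F ≤ E from fun P => Set.Subset.antisymm (hEF P) (h P)
  refine Cfsg.Agent.FusionAlperin.hom_subset_of_step hS hF E fun Q hQ ih => ?_
  rcases hQ.1.eq_or_lt with rfl | hlt
  · refine HypDetect.autGroup_le hS hE hF hEF hsmall hQ ih fun R hR => ?_
    rw [Cfsg.Agent.FusionAlperin.eq_of_isConj_self hR]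
    exact inf_le_left
  · rcases Cfsg.Agent.FusionAlperin.extendable_dichotomy hS hF hlt hQ with h1 | ⟨h1, -⟩
    · exact h1 ▸ Cfsg.Agent.FusionAlperin.extendable_le_of_larger E ih hQ.1
    · exact HypDetect.autGroup_le hS hE hF hEF hsmall hQ ih fun R hR => h1.1.2 R hR

end Cfsg.Agent.S5296
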