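import Cfsg.Statements.S5299
import Cfsg.Agent.FusionBatch.Basic
import Cfsg.Prelude.Def_LocalEven

set_option autoImplicit false
set_option maxHeartbeats 1000000
universe u
open Cfsg
open Cfsg.FusionSystem Cfsg.Agent.FusionSys Cfsg.Agent.FusionBatch

namespace Cfsg.Agent.S5299

section helpers

universe v w

variable {Ω : Type v} [Group Ω] {S : Subgroup Ω} [Finite S]

theorem involves_of_model {p : ℕ} [Fact p.Prime] (_hS : IsPGroup p S) {H : Type w} [Group H] [Finite H]
    {Q : Subgroup H} (hQ : IsPGroup p Q) {P : Subgroup Ω} {N : FusionSystem (normalizerIn S P)}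
    {L : Type v} [Group L] {ι : ↥(normalizerIn S P) →* L} (hmod : N.IsModel p L ι)
    (hinv : Involves H L) : Involves (↥Q) (↥S) := by
  obtain ⟨hfin, hreal, ⟨T, hT⟩, -⟩ := hmod
  obtain ⟨K, R, hn, ⟨e⟩⟩ := hinv
  haveI := hn
  let π : K →* H := e.toMonoidHom.comp (QuotientGroup.mk' (R.subgroupOf K))
  have hπ : Function.Surjective π := e.surjective.comp (QuotientGroup.mk'_surjective _)
  -- a Sylow subgroup of the preimage maps onto `Q`
  let π' : Q.comap π →* Q := (π.comp (Q.comap π).subtype).codRestrict Q fun x => x.2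
  have hπ' : Function.Surjective π' := fun q => by
    obtain ⟨k, hk⟩ := hπ q
    exact ⟨⟨k, Subgroup.mem_comap.2 (hk ▸ q.2)⟩, Subtype.ext hk⟩
  obtain ⟨U⟩ : Nonempty (Sylow p (Q.comap π)) := inferInstance
  have htop : (U : Subgroup (Q.comap π)).map π' = ⊤ := by
    have h1 : ((U : Subgroup (Q.comap π)).map π').index ∣ (U : Subgroup (Q.comap π)).index :=
      Subgroup.index_map_dvd _ hπ'
    obtain ⟨k, hk⟩ := hQ.index ((U : Subgroup (Q.comap π)).map π')
    rw [hk] at h1
    rcases Nat.eq_zero_or_pos k with rfl | hk0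
    · exact Subgroup.index_eq_one.1 (by rw [hk, pow_zero])
    · exact absurd ((dvd_pow_self p hk0.ne').trans h1) U.not_dvd_index
  -- conjugate it into the image of `S`
  let f : Q.comap π →* L := K.subtype.comp (Q.comap π).subtype
  obtain ⟨V, hV⟩ := (U.2.map f).exists_le_sylow
  obtain ⟨g, hg⟩ := MulAction.exists_smul_eq L V T
  have hconj : ∀ u : (U : Subgroup (Q.comap π)), g * f u * g⁻¹ ∈ ι.range := fun u => by
    rw [← hT, ← hg]
    exact Subgroup.mem_map.2 ⟨f u, hV ⟨u, u.2, rfl⟩, rfl⟩
  let j : (U : Subgroup (Q.comap π)) →* S :=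
    (Subgroup.inclusion (normalizerIn_le P)).comp
      ((MonoidHom.ofInjective hreal.1).symm.toMonoidHom.comp
        (((MulAut.conj g).toMonoidHom.comp (f.comp (U : Subgroup (Q.comap π)).subtype)).codRestrict
          ι.range hconj))
  have hj : Function.Injective j := by
    refine (Subgroup.inclusion_injective (normalizerIn_le P)).comp
      ((MonoidHom.ofInjective hreal.1).symm.injective.comp ?_)
    intro a b hab
    have h' := (MulAut.conj g).injective (congrArg Subtype.val hab)
    exact Subtype.ext (Subtype.ext (Subtype.ext h'))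
  -- the section of `S`
  let ej := MonoidHom.ofInjective hj
  let σ : j.range →* Q := π'.comp ((U : Subgroup (Q.comap π)).subtype.comp ej.symm.toMonoidHom)
  have hσ : Function.Surjective σ := by
    intro q
    obtain ⟨u, hu, he⟩ := (htop ▸ Subgroup.mem_top q : q ∈ (U : Subgroup (Q.comap π)).map π')
    exact ⟨ej ⟨u, hu⟩, by show π' ((ej.symm (ej ⟨u, hu⟩) : _) : Q.comap π) = q; rw [ej.symm_apply_apply]; exact he⟩
  have hker : (σ.ker.map j.range.subtype).subgroupOf j.range = σ.ker :=
    Subgroup.comap_map_eq_self_of_injective j.range.subtype_injective σ.ker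
  haveI hnor : ((σ.ker.map j.range.subtype).subgroupOf j.range).Normal := by
    rw [hker]; exact σ.normal_ker
  refine ⟨j.range, σ.ker.map j.range.subtype, hnor, ⟨?_⟩⟩
  exact (QuotientGroup.quotientMulEquivOfEq hker).trans
    (QuotientGroup.quotientKerEquivOfSurjective σ hσ)

end helpers

/-- Let F be a saturated fusion system over a finite p-group S, H a finite group and Q a p-subgroup of H. If Q is not involved in S (no section of S is isomorphic to Q), then F is H-free: H is involved in no model of the normalizer system of a fully normalized centric subgroup. -/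
theorem result {Ω : Type u} [Group Ω] {S : Subgroup Ω} [Finite S] (p : ℕ) [Fact p.Prime] (hS : IsPGroup p S)
    (F : Cfsg.FusionSystem S) (hF : F.IsSaturated p) (H : Type*) [Group H] [Finite H] (Q : Subgroup H) (hQ : IsPGroup p Q)
    (hfree : ¬ Cfsg.Involves (↥Q) (↥S)) : F.IsSectionFree p H := by
  intro P _ _ N _ L _ ι hmod hinv
  exact hfree (involves_of_model hS hQ hmod hinv)

end Cfsg.Agent.S5299
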