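import Cfsg.Statements.S5312
import Cfsg.Agent.Tech.ComponentCommute

set_option autoImplicit false
open Cfsg

namespace Cfsg.Agent.S5312

/-- Let F be a saturated fusion system over a finite p-group S. Every component C of F is a normal subsystem of every generalized Fitting subsystem of F. -/
theorem result {Ω : Type*} [Group Ω] {S : Subgroup Ω} [Finite S] (p : ℕ) [Fact p.Prime] (hS : IsPGroup p S) (F : Cfsg.FusionSystem S) (hF : F.IsSaturated p)
    {T : Subgroup Ω} (C : Cfsg.FusionSystem T) (hC : C.IsComponentIn F p)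
    {U : Subgroup Ω} (D : Cfsg.FusionSystem U) (hD : D.IsGeneralizedFittingOf F p) : C.IsNormalIn D p := by
  obtain ⟨V, E, hE, hprod⟩ := hD
  have hQS := (Agent.FusionAlperin.isNormal_core F).1
  have hVS := hE.1.1.2.2.2.1.1
  have : Finite F.core := Agent.FusionSys.finite_of_le ‹_› hQS
  have : Finite V := Agent.FusionSys.finite_of_le ‹_› hVS
  have hcp := Agent.Tech.CProd.of_isCentralProductOf (hS.to_le hQS) (hS.to_le hVS)
    (Agent.FusionBatch.inner_saturated hS hQS) hE.1.1.1 hprod
  exact hcp.normal_of_right (Agent.Tech.Meet.normal_in_layer _ E rfl (hS.to_le hVS) hE.1.1.1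
    (Agent.Tech.Meet.layer_self hS hF hE) C (Agent.Tech.Meet.component_of_le hS hF hC hE.1
      (Agent.Tech.Meet.le_of_sub (hE.2.1 _ C hC))))

end Cfsg.Agent.S5312
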