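import Cfsg.Statements.S5316
import Cfsg.Agent.MCE.Extend
import Cfsg.Agent.S5185
import Cfsg.Agent.S5186
-- import your own Cfsg.Agent.* helpers here

set_option autoImplicit false
open Cfsg

namespace Cfsg.Agent.S5316

/-- Let p ≥ 5 be a prime, S a finite p-group of maximal class of order p^n with n ≥ 5 (nilpotency class n − 1), F a saturated fusion system over S, and E an F-essential subgroup that is not a pearl (not elementary abelian of order p² and not extraspecial of order p³ and exponent p). Then E has order at least p⁴. -/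
theorem result {Ω : Type*} [Group Ω] {S : Subgroup Ω} [Finite S] (p : ℕ) [Fact p.Prime] (hp : 5 ≤ p) (hS : IsPGroup p ↥S) (n : ℕ) (hn : Nat.card S = p ^ n) (h5 : 5 ≤ n)
    (hmax : Subgroup.lowerCentralSeries S (n - 2) ≠ ⊥) (F : Cfsg.FusionSystem S) (hF : F.IsSaturated p)
    (E : Subgroup Ω) (hE : F.IsEssential p E)
    (hnp : ¬ ((Nat.card ↥E = p ^ 2 ∧ Cfsg.IsElementaryAbelian p E) ∨ (Nat.card ↥E = p ^ 3 ∧ Cfsg.IsExtraspecial p ↥E ∧ Monoid.exponent ↥E = p))) :
    p ^ 4 ≤ Nat.card ↥E := by
  classical
  have hpp := (Fact.out : p.Prime)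
  haveI : Group.IsNilpotent ↥S := hS.isNilpotent
  have hmax' : (⊤ : Subgroup S).lowerCentralSeries (n - 2) ≠ ⊥ := by
    intro h
    refine hmax ?_
    have h1 := Subgroup.map_lowerCentralSeries (S := (⊤ : Subgroup S)) S.subtype (n - 2)
    rw [← MonoidHom.range_eq_map, Subgroup.range_subtype, h, Subgroup.map_bot] at h1
    exact h1.symm
  have hcl : Group.nilpotencyClass ↥S = n - 1 := by
    have h1 : ¬ Group.nilpotencyClass ↥S ≤ n - 2 := fun h =>
      hmax' (Subgroup.lowerCentralSeries_eq_bot_iff_nilpotencyClass_le.2 h)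
    obtain ⟨j, hj⟩ := hS.index (commutator ↥S)
    obtain ⟨k, hk⟩ := (hS.to_subgroup (commutator ↥S)).exists_card_eq
    have hjk : k + j = n := by
      have h := Subgroup.card_mul_index (commutator ↥S)
      rw [hj, hk, hn, ← pow_add] at h
      exact Nat.pow_right_injective hpp.two_le h
    have h2 := Cfsg.Agent.H4.nilpotencyClass_le_of_card_commutator hS hk.le
    have hj2 : 2 ≤ j := by
      by_contra hlt
      have hcy : IsCyclic ↥S := by
        refine Cfsg.Agent.PGroup.isCyclic_of_index_frattini_le hS ?_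
        refine (Nat.le_of_dvd (Nat.pos_of_ne_zero Subgroup.index_ne_zero_of_finite)
          (Subgroup.index_dvd_of_le (Cfsg.Agent.PGroup.commutator_le_frattini hS))).trans ?_
        rw [hj]
        exact (Nat.pow_le_pow_right hpp.pos (show j ≤ 1 by omega)).trans (pow_one p).le
      have hbot : commutator ↥S = ⊥ := by
        rw [commutator_eq_bot_iff_center_eq_top, eq_top_iff]
        exact fun x _ => Subgroup.mem_center_iff.mpr fun y => hcy.isMulCommutative.is_comm.comm y x
      have h3 : Group.nilpotencyClass ↥S ≤ 1 := by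
        rw [← Subgroup.lowerCentralSeries_eq_bot_iff_nilpotencyClass_le,
          Subgroup.top_lowerCentralSeries_one, hbot]
      omega
    omega
  have hD : MCE.MaxData p (n - 1) ↥S :=
    ⟨by omega, by rw [hn, Nat.sub_add_cancel (by omega : 1 ≤ n)],
      MaxClassP.card_lcs (by omega) hn hcl⟩
  have hES : E ≤ S := hE.1.1
  haveI : Finite E := FusionSys.finite_of_le ‹_› hES
  obtain ⟨k, hk⟩ := IsPGroup.iff_card.1 (hS.to_le hES)
  by_contra hlt
  rw [hk, Nat.pow_le_pow_iff_right hpp.one_lt, not_le] at hlt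
  have hself : Cfsg.FusionSystem.centralizerIn S E ≤ E := hE.1.2 E (FusionSys.isConj_refl F hES)
  have hZE : (Subgroup.center ↥S).map S.subtype ≤ E := by
    rintro _ ⟨z, hz, rfl⟩
    exact hself (FusionSys.mem_centralizerIn.2 ⟨z.2, fun y hy =>
      congrArg Subtype.val (Subgroup.mem_center_iff.1 hz ⟨y, hES hy⟩)⟩)
  rcases (by omega : k ≤ 1 ∨ k = 2 ∨ k = 3) with hk1 | rfl | rfl
  · -- the centre is the whole of `E`
    haveI : Nontrivial ↥S := Finite.one_lt_card_iff_nontrivial.1
      (by rw [hn]; exact Nat.one_lt_pow (by omega) hpp.one_lt)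
    haveI := hS.center_nontrivial
    have hZc : 1 < Nat.card ((Subgroup.center ↥S).map S.subtype) := by
      rw [Subgroup.card_map_of_injective S.subtype_injective]
      exact Finite.one_lt_card
    haveI : Finite ↥((Subgroup.center ↥S).map S.subtype) :=
      FusionSys.finite_of_le ‹_› (Subgroup.map_subtype_le _)
    have hEZ : (Subgroup.center ↥S).map S.subtype = E := by
      refine Subgroup.eq_of_le_of_card_ge hZE ?_
      obtain ⟨a, ha⟩ := IsPGroup.iff_card.1 (hS.to_le (Subgroup.map_subtype_le (Subgroup.center ↥S)))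
      rw [ha] at hZc ⊢
      rw [hk]
      exact Nat.pow_le_pow_right hpp.pos (by
        rcases Nat.eq_zero_or_pos a with rfl | h
        · simp at hZc
        · omega)
    have hSE : S ≤ E := fun x hx => hself ((FusionSys.mem_centralizerIn (P := E)).2 ⟨hx, fun y hy => by
      rw [← hEZ] at hy
      obtain ⟨z, hz, rfl⟩ := hy
      exact (congrArg Subtype.val (Subgroup.mem_center_iff.1 hz ⟨x, hx⟩)).symm⟩)
    have := Subgroup.card_le_of_le hSE
    rw [hn, hk, Nat.pow_le_pow_iff_right hpp.one_lt] at this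
    omega
  · exact hnp (Or.inl ⟨hk, (S5185.result p hS F hF E hE hk).1⟩)
  · rcases S5186.result p hS F hF E hE hk with h | ⟨-, hx, he⟩ | ⟨h2, -⟩
    · exact MCE.false_of_essential hS hp hD F hF E hE hk h
    · refine hnp (Or.inr ⟨hk, hx, ?_⟩)
      refine ((Nat.dvd_prime hpp).1 (Monoid.exponent_dvd_iff_forall_pow_eq_one.2
        fun g => Subtype.ext (by push_cast; exact he g g.2))).resolve_left fun h1 => ?_
      haveI := Monoid.exp_eq_one_iff.1 h1
      have : Nat.card E = 1 := Nat.card_eq_one_iff_unique.2 ⟨inferInstance, inferInstance⟩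
      rw [this] at hk
      exact absurd hk.symm (Nat.one_lt_pow (by omega) hpp.one_lt).ne'
    · omega

end Cfsg.Agent.S5316
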