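import Cfsg.Statements.S5343
import Cfsg.Agent.Tech.SimpleRealized
-- import your own Cfsg.Agent.* helpers here

set_option autoImplicit false
universe u
open Cfsg

namespace Cfsg.Agent.S5343

/-- Let F be a simple saturated fusion system over a finite p-group S that is realized by some finite group on a Sylow p-subgroup. Then F is realized by a finite simple group on a Sylow p-subgroup. -/
theorem result {Ω : Type u} [Group Ω] {S : Subgroup Ω} [Finite S] (p : ℕ) [Fact p.Prime] (hS : IsPGroup p S) (F : Cfsg.FusionSystem S) (hsimple : F.IsSimple p) (hreal : F.IsRealizable p) : ∃ (G : Type u) (_ : Group G) (_ : Finite G) (_ : IsSimpleGroup G) (ι : ↥S →* G), F.IsRealizedBy ι ∧ ∃ T : Sylow p G, (T : Subgroup G) = ι.range := by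
  classical
  haveI : Fact p.Prime := ‹_›
  have hex : ∃ n : ℕ, ∃ (G : Type u) (_ : Group G) (_ : Finite G) (ι : ↥S →* G),
      F.IsRealizedBy ι ∧ (∃ T : Sylow p G, (T : Subgroup G) = ι.range) ∧ Nat.card G = n := by
    obtain ⟨G, i, j, ι, h1, h2⟩ := hreal
    exact ⟨_, G, i, j, ι, h1, h2, rfl⟩
  obtain ⟨G, iG, fG, ι, hι, ⟨U, hU⟩, hcard⟩ := Nat.find_spec hex
  have hmin : ∀ (H : Type u) [Group H] [Finite H] (κ : ↥S →* H), F.IsRealizedBy κ →
      (∃ T : Sylow p H, (T : Subgroup H) = κ.range) → Nat.card G ≤ Nat.card H := fun H _ _ κ h1 h2 =>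
    hcard.le.trans (Nat.find_min' hex ⟨H, inferInstance, inferInstance, κ, h1, h2, rfl⟩)
  have hcore : Cfsg.pPrimeCore p G = ⊥ := by
    by_contra hne
    have hK : (Nat.card ↥(Cfsg.pPrimeCore p G)).Coprime p :=
      Cfsg.Agent.PSolv.coprime_card_pPrimeCore p G
    have hle := hmin (G ⧸ Cfsg.pPrimeCore p G) _
      (Cfsg.Agent.Tech.SimpleReal.realized_quotient hι U hU _ hK)
      ⟨U.mapSurjective (QuotientGroup.mk'_surjective _), by
        rw [Sylow.coe_mapSurjective, hU, MonoidHom.map_range]⟩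
    have hlt : Nat.card (G ⧸ Cfsg.pPrimeCore p G) < Nat.card G := by
      rw [Subgroup.card_eq_card_quotient_mul_card_subgroup (Cfsg.pPrimeCore p G)]
      exact lt_mul_of_one_lt_right Nat.card_pos ((Subgroup.one_lt_card_iff_ne_bot _).2 hne)
    omega
  haveI : Nontrivial G := by
    by_contra hG
    haveI := not_nontrivial_iff_subsingleton.1 hG
    refine hsimple.2.1 (eq_bot_iff.2 fun x hx => Subgroup.mem_bot.2 ?_)
    exact congrArg Subtype.val (hι.1 (Subsingleton.elim (ι ⟨x, hx⟩) (ι 1)))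
  refine ⟨G, iG, fG, { eq_bot_or_eq_top_of_normal := fun N hN => ?_ }, ι, hι, U, hU⟩
  haveI := hN
  rcases Cfsg.Agent.Tech.SimpleReal.normal_dichotomy hι hsimple U hU N with h | ⟨h, hHom⟩
  · exact Or.inl (Cfsg.Agent.Tech.SimpleReal.eq_bot_of_inf_sylow hcore U hN (by rw [hU]; exact h))
  · refine Or.inr (Subgroup.eq_top_of_le_card N (hmin ↥N (ι.codRestrict N fun x => h ⟨x, rfl⟩) ?_ ?_))
    · refine ⟨fun x y e => hι.1 (congrArg Subtype.val e), fun P hP φ hφ => ⟨fun hm => ?_, ?_⟩⟩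
      · obtain ⟨g, hg, hge⟩ := hHom P φ hm
        exact ⟨⟨g, hg⟩, fun x => Subtype.ext (hge x (hP x.2) (hφ x))⟩
      · rintro ⟨g, hg⟩
        exact (hι.2 P hP φ hφ).2 ⟨g, fun x => congrArg Subtype.val (hg x)⟩
    · refine ⟨U.subtype (hU.le.trans h), ?_⟩
      rw [Sylow.coe_subtype, hU]
      ext y
      rw [Subgroup.mem_subgroupOf]
      exact ⟨fun ⟨x, hx⟩ => ⟨x, Subtype.ext hx⟩, fun ⟨x, hx⟩ => ⟨x, congrArg Subtype.val hx⟩⟩

end Cfsg.Agent.S5343
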