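import Cfsg.Statements.S5405
import Cfsg.Agent.OmegaTwo.Cohomology

set_option autoImplicit false
open scoped MatrixGroups
open Cfsg

namespace Cfsg.Agent.S5405

open TTClass.OrthF2 TTClass.OrthModels

/-- A connected family of non-singular vectors spanning the space. -/
def eA : Fin 4 → (Fin 1 ⊕ Fin 1) ⊕ Fin 2 → ZMod 2 :=
  ![Sum.elim (Sum.elim ![0] ![0]) ![0, 1],
    Sum.elim (Sum.elim ![0] ![0]) ![1, 0],
    Sum.elim (Sum.elim ![1] ![0]) ![1, 0],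
    Sum.elim (Sum.elim ![0] ![1]) ![1, 0]]

/-- Number of steps needed to reach a non-singular vector from the family. -/
def htA (u : (Fin 1 ⊕ Fin 1) ⊕ Fin 2 → ZMod 2) : ℕ :=
  (1218640352537995149312 >>> (5 * (1 * (u (.inl (.inl 0))).val + 2 * (u (.inl (.inr 0))).val + 4 * (u (.inr 0)).val + 8 * (u (.inr 1)).val))) % 32

theorem injA : ∀ x, (∀ i, bMinus 1 x (eA i) = 0) → x = 0 := by decide +kernel

theorem treeA : ∀ i, i ≠ 0 → ∃ j, j < i ∧ bMinus 1 (eA j) (eA i) = 1 := by decide +kernel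

theorem valA : ∀ i, Cfsg.quadFormMinus 1 (ZMod 2) 1 1 (eA i) = 1 := by decide +kernel

theorem closA : ∀ u, Cfsg.quadFormMinus 1 (ZMod 2) 1 1 u = 1 → (∃ i, u = eA i) ∨
    ∃ i, bMinus 1 u (eA i) = 1 ∧ htA (u + eA i) < htA u := by decide +kernel

/-- A connected family of non-singular vectors spanning the space. -/
def eB : Fin 6 → (Fin 2 ⊕ Fin 2) ⊕ Fin 2 → ZMod 2 :=
  ![Sum.elim (Sum.elim ![0, 0] ![0, 0]) ![0, 1],
    Sum.elim (Sum.elim ![0, 0] ![0, 0]) ![1, 0],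
    Sum.elim (Sum.elim ![1, 0] ![0, 0]) ![1, 0],
    Sum.elim (Sum.elim ![0, 1] ![0, 0]) ![1, 0],
    Sum.elim (Sum.elim ![0, 0] ![1, 0]) ![1, 0],
    Sum.elim (Sum.elim ![0, 0] ![0, 1]) ![1, 0]]

/-- Number of steps needed to reach a non-singular vector from the family. -/
def htB (u : (Fin 2 ⊕ Fin 2) ⊕ Fin 2 → ZMod 2) : ℕ :=
  (467253275404072659969065276722120483666151894372161330690381178962770585479725683895013468012544 >>> (5 * (1 * (u (.inl (.inl 0))).val + 2 * (u (.inl (.inl 1))).val + 4 * (u (.inl (.inr 0))).val + 8 * (u (.inl (.inr 1))).val + 16 * (u (.inr 0)).val + 32 * (u (.inr 1)).val))) % 32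

theorem injB : ∀ x, (∀ i, bMinus 2 x (eB i) = 0) → x = 0 := by decide +kernel

theorem treeB : ∀ i, i ≠ 0 → ∃ j, j < i ∧ bMinus 2 (eB j) (eB i) = 1 := by decide +kernel

theorem valB : ∀ i, Cfsg.quadFormMinus 2 (ZMod 2) 1 1 (eB i) = 1 := by decide +kernel

theorem closB : ∀ u, Cfsg.quadFormMinus 2 (ZMod 2) 1 1 u = 1 → (∃ i, u = eB i) ∨
    ∃ i, bMinus 2 u (eB i) = 1 ∧ htB (u + eB i) < htB u := by decide +kernel

/-- A connected family of non-singular vectors spanning the space. -/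
def eC : Fin 8 → Fin 4 ⊕ Fin 4 → ZMod 2 :=
  ![Sum.elim ![1, 1, 0, 0] ![0, 1, 0, 0],
    Sum.elim ![1, 0, 0, 0] ![1, 0, 0, 0],
    Sum.elim ![1, 0, 1, 0] ![1, 0, 0, 0],
    Sum.elim ![1, 0, 0, 1] ![1, 0, 0, 0],
    Sum.elim ![1, 0, 0, 0] ![1, 0, 1, 0],
    Sum.elim ![1, 0, 0, 0] ![1, 0, 0, 1],
    Sum.elim ![1, 0, 1, 0] ![0, 0, 1, 0],
    Sum.elim ![1, 1, 1, 0] ![1, 0, 0, 0]]

/-- Number of steps needed to reach a non-singular vector from the family. -/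
def htC (u : Fin 4 ⊕ Fin 4 → ZMod 2) : ℕ :=
  (148650927267310603129757388779043568394681338818705631624144157821407449702799407096894873843221944176113064901285479695551216928248536321541604694510111564111564763738035349057041286830859864010340399000350586298654966173335540287734479081117781843831940896630916635688019608666489351049599003845807231560846888216388256486323335898919787778453590220904752332897598399711808426344448 >>> (5 * (1 * (u (.inl 0)).val + 2 * (u (.inl 1)).val + 4 * (u (.inl 2)).val + 8 * (u (.inl 3)).val + 16 * (u (.inr 0)).val + 32 * (u (.inr 1)).val + 64 * (u (.inr 2)).val + 128 * (u (.inr 3)).val))) % 32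

theorem injC : ∀ x, (∀ i, bPlus 4 x (eC i) = 0) → x = 0 := by decide +kernel

theorem treeC : ∀ i, i ≠ 0 → ∃ j, j < i ∧ bPlus 4 (eC j) (eC i) = 1 := by decide +kernel

theorem valC : ∀ i, Cfsg.quadFormPlus 4 (ZMod 2) (eC i) = 1 := by decide +kernel

theorem closC : ∀ u, Cfsg.quadFormPlus 4 (ZMod 2) u = 1 → (∃ i, u = eC i) ∨
    ∃ i, bPlus 4 u (eC i) = 1 ∧ htC (u + eC i) < htC u := by decide +kernel

/-- Vanishing of first cohomology on the natural module for three small orthogonal groups over the field with two elements: for the commutator subgroup of the isometry group of the elliptic quadratic form in dimension 4, of the elliptic form in dimension 6, and of the hyperbolic form in dimension 8, every crossed homomorphism into the natural module (a map f with f(gh) = f(g) + g·f(h)) is principal (of the form g ↦ g·v − v). -/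
theorem result : (∀ f : ↥(Cfsg.Omega (ZMod 2) (Cfsg.quadFormMinus 1 (ZMod 2) 1 1)) → ((Fin 1 ⊕ Fin 1) ⊕ Fin 2 → ZMod 2), (∀ g h : ↥(Cfsg.Omega (ZMod 2) (Cfsg.quadFormMinus 1 (ZMod 2) 1 1)), f (g * h) = f g + Matrix.mulVec (((g : ↥(Cfsg.isometryGroup (ZMod 2) (Cfsg.quadFormMinus 1 (ZMod 2) 1 1))) : GL ((Fin 1 ⊕ Fin 1) ⊕ Fin 2) (ZMod 2)) : Matrix ((Fin 1 ⊕ Fin 1) ⊕ Fin 2) ((Fin 1 ⊕ Fin 1) ⊕ Fin 2) (ZMod 2)) (f h)) → ∃ v : (Fin 1 ⊕ Fin 1) ⊕ Fin 2 → ZMod 2, ∀ g : ↥(Cfsg.Omega (ZMod 2) (Cfsg.quadFormMinus 1 (ZMod 2) 1 1)), f g = Matrix.mulVec (((g : ↥(Cfsg.isometryGroup (ZMod 2) (Cfsg.quadFormMinus 1 (ZMod 2) 1 1))) : GL ((Fin 1 ⊕ Fin 1) ⊕ Fin 2) (ZMod 2)) : Matrix ((Fin 1 ⊕ Fin 1) ⊕ Fin 2) ((Fin 1 ⊕ Fin 1) ⊕ Fin 2) (ZMod 2)) v - v) ∧ (∀ f : ↥(Cfsg.Omega (ZMod 2) (Cfsg.quadFormMinus 2 (ZMod 2) 1 1)) → ((Fin 2 ⊕ Fin 2) ⊕ Fin 2 → ZMod 2), (∀ g h : ↥(Cfsg.Omega (ZMod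 2) (Cfsg.quadFormMinus 2 (ZMod 2) 1 1)), f (g * h) = f g + Matrix.mulVec (((g : ↥(Cfsg.isometryGroup (ZMod 2) (Cfsg.quadFormMinus 2 (ZMod 2) 1 1))) : GL ((Fin 2 ⊕ Fin 2) ⊕ Fin 2) (ZMod 2)) : Matrix ((Fin 2 ⊕ Fin 2) ⊕ Fin 2) ((Fin 2 ⊕ Fin 2) ⊕ Fin 2) (ZMod 2)) (f h)) → ∃ v : (Fin 2 ⊕ Fin 2) ⊕ Fin 2 → ZMod 2, ∀ g : ↥(Cfsg.Omega (ZMod 2) (Cfsg.quadFormMinus 2 (ZMod 2) 1 1)), f g = Matrix.mulVec (((g : ↥(Cfsg.isometryGroup (ZMod 2) (Cfsg.quadFormMinus 2 (ZMod 2) 1 1))) : GL ((Fin 2 ⊕ Fin 2) ⊕ Fin 2) (ZMod 2)) : Matrix ((Fin 2 ⊕ Fin 2) ⊕ Fin 2) ((Fin 2 ⊕ Fin 2) ⊕ Fin 2) (ZMod 2)) v - v) ∧ (∀ f : ↥(Cfsg.Omega (ZMod 2) (Cfsg.quadFormPlus 4 (ZMod 2))) → (Fin 4 ⊕ Fin 4 → ZMod 2), (∀ g h : ↥(Cfsg.Omega (ZMod 2) (Cfsg.quadFormPlus 4 (ZMod 2))), f (g * h) = f g + Matrix.mulVec (((g : ↥(Cfsg.isometryGroup (ZMod 2) (Cfsg.quadFormPlus 4 (ZMod 2)))) : GL (Fin 4 ⊕ Fin 4) (ZMod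 2)) : Matrix (Fin 4 ⊕ Fin 4) (Fin 4 ⊕ Fin 4) (ZMod 2)) (f h)) → ∃ v : Fin 4 ⊕ Fin 4 → ZMod 2, ∀ g : ↥(Cfsg.Omega (ZMod 2) (Cfsg.quadFormPlus 4 (ZMod 2))), f g = Matrix.mulVec (((g : ↥(Cfsg.isometryGroup (ZMod 2) (Cfsg.quadFormPlus 4 (ZMod 2)))) : GL (Fin 4 ⊕ Fin 4) (ZMod 2)) : Matrix (Fin 4 ⊕ Fin 4) (Fin 4 ⊕ Fin 4) (ZMod 2)) v - v) := by
  refine ⟨fun f hf => ?_, fun f hf => ?_, fun f hf => ?_⟩
  · exact OmegaTwo.principal (qf_minus 1) (gen_minus 1) eA htA (by simp) valA injA treeA closA f hf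
  · exact OmegaTwo.principal (qf_minus 2) (gen_minus 2) eB htB (by simp) valB injB treeB closB f hf
  · exact OmegaTwo.principal (qf_plus 4) (gen_plus 4 (by omega)) eC htC (by simp) valC injC treeC
      closC f hf

end Cfsg.Agent.S5405
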