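import Cfsg.Statements.S5728

set_option autoImplicit false
open Cfsg

namespace Cfsg.Agent.S5728

/-- An elusive transitive action. -/
theorem result (p s : ℕ) [Fact p.Prime] (hs : p = 2 ^ s - 1)
    (g : Equiv.Perm (GaloisField p 2)) (hg : g ∈ Cfsg.affineGroup (GaloisField p 2)) (hord : (orderOf g).Prime) :
    ∃ x ∈ Cfsg.affineGroup (GaloisField p 2), ∃ a b : ZMod p, a ≠ 0 ∧
      ∀ y : GaloisField p 2, (x * g * x⁻¹) y = algebraMap (ZMod p) (GaloisField p 2) a * y + algebraMap (ZMod p) (GaloisField p 2) b := by
  have hp : p.Prime := Fact.out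
  obtain ⟨a, b, hab⟩ := hg
  by_cases ha : (a : GaloisField p 2) = 1
  · have hb : b ≠ 0 := by
      intro hb
      have : g = 1 := Equiv.ext fun y => by simp [hab, ha, hb]
      rw [this, orderOf_one] at hord
      exact Nat.not_prime_one hord
    let x : Equiv.Perm (GaloisField p 2) := Equiv.mulLeft₀ b⁻¹ (inv_ne_zero hb)
    refine ⟨x, ⟨Units.mk0 b⁻¹ (inv_ne_zero hb), 0, fun y => by simp [x]⟩, 1, 1, one_ne_zero, fun y => ?_⟩
    have hx : x⁻¹ y = b * y := by
      rw [Equiv.Perm.inv_eq_iff_eq]
      simp [x, hb]
    rw [Equiv.Perm.mul_apply, Equiv.Perm.mul_apply, hx, hab, ha]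
    simp [x, hb, mul_add]
  · have h1 : (1 : GaloisField p 2) - (a : GaloisField p 2) ≠ 0 := sub_ne_zero.mpr (Ne.symm ha)
    let c : GaloisField p 2 := b / (1 - (a : GaloisField p 2))
    have hc : (a : GaloisField p 2) * c + b = c := by
      simp only [c]
      field_simp
      ring
    have hiter : ∀ (n : ℕ) (z : GaloisField p 2), (g ^ n) z = (a : GaloisField p 2) ^ n * (z - c) + c := by
      intro n
      induction n with
      | zero => intro z; simp
      | succ n ih =>
        intro z
        rw [pow_succ, Equiv.Perm.mul_apply, ih, hab, pow_succ]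
        linear_combination ((a : GaloisField p 2) ^ n) * hc
    have har : (a : GaloisField p 2) ^ orderOf g = 1 := by
      have h := hiter (orderOf g) (c + 1)
      rw [pow_orderOf_eq_one, Equiv.Perm.one_apply] at h
      linear_combination -h
    have hord_a : orderOf (a : GaloisField p 2) = orderOf g :=
      @orderOf_eq_prime _ _ _ _ ⟨hord⟩ har ha
    have hcard : Nat.card (GaloisField p 2) = p ^ 2 := GaloisField.card p 2 two_ne_zero
    have hpow : (a : GaloisField p 2) ^ (p ^ 2 - 1) = 1 := by
      haveI := Fintype.ofFinite (GaloisField p 2)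
      rw [← hcard, Nat.card_eq_fintype_card]
      exact FiniteField.pow_card_sub_one_eq_one _ a.ne_zero
    have hdvd : orderOf g ∣ p ^ 2 - 1 := hord_a ▸ orderOf_dvd_of_pow_eq_one hpow
    have hdvd' : orderOf g ∣ p - 1 := by
      have hfac : p ^ 2 - 1 = (p + 1) * (p - 1) := by
        rw [← Nat.sq_sub_sq]
      rw [hfac] at hdvd
      rcases (Nat.Prime.dvd_mul hord).mp hdvd with h | h
      · have hp1 : p + 1 = 2 ^ s := by
          have := Nat.one_le_two_pow (n := s)
          omega
        rw [hp1] at h
        have h2 := (Nat.prime_dvd_prime_iff_eq hord Nat.prime_two).mp (hord.dvd_of_dvd_pow h)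
        rw [h2]
        rcases hp.eq_two_or_odd with hp2 | hp2
        · exfalso
          rcases s with _ | s
          · simp at hp1; omega
          · rw [pow_succ] at hp1; omega
        · omega
      · exact h
    have hafix : (a : GaloisField p 2) ^ p = (a : GaloisField p 2) := by
      obtain ⟨d, hd⟩ := hdvd'
      have : p = orderOf g * d + 1 := by have := hp.one_lt; omega
      rw [congrArg (fun k => (a : GaloisField p 2) ^ k) this, pow_succ, pow_mul, har, one_pow, one_mul]
    obtain ⟨a₀, ha₀⟩ : ∃ a₀ : ZMod p, algebraMap (ZMod p) (GaloisField p 2) a₀ = (a : GaloisField p 2) := by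
      have hroot : ∀ z : ZMod p, z ^ p = z := ZMod.pow_card
      classical
      let R : Finset (GaloisField p 2) := Finset.univ.image (algebraMap (ZMod p) (GaloisField p 2))
      let P : Polynomial (GaloisField p 2) := Polynomial.X ^ p - Polynomial.X
      have hP : P ≠ 0 := FiniteField.X_pow_card_sub_X_ne_zero _ hp.one_lt
      have hsub : R ⊆ P.roots.toFinset := by
        intro z hz
        obtain ⟨w, -, rfl⟩ := Finset.mem_image.mp hz
        rw [Multiset.mem_toFinset, Polynomial.mem_roots hP]
        simp [P, ← map_pow, hroot]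
      have hR : R.card = p := by
        rw [Finset.card_image_of_injective _ (algebraMap (ZMod p) (GaloisField p 2)).injective, Finset.card_univ, ZMod.card]
      have heq : R = P.roots.toFinset := by
        refine Finset.eq_of_subset_of_card_le hsub ?_
        rw [hR]
        refine (Multiset.toFinset_card_le _).trans ((Polynomial.card_roots' _).trans ?_)
        exact le_of_eq (FiniteField.X_pow_card_sub_X_natDegree_eq _ hp.one_lt)
      have hmem : (a : GaloisField p 2) ∈ R := by
        rw [heq, Multiset.mem_toFinset, Polynomial.mem_roots hP]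
        simp [P, hafix]
      obtain ⟨w, -, hw⟩ := Finset.mem_image.mp hmem
      exact ⟨w, hw⟩
    let x : Equiv.Perm (GaloisField p 2) := Equiv.subRight c
    refine ⟨x, ⟨1, -c, fun y => by simp [x, sub_eq_add_neg]⟩, a₀, 0, ?_, fun y => ?_⟩
    · intro h
      rw [h, map_zero] at ha₀
      exact a.ne_zero ha₀.symm
    · have hx : x⁻¹ y = y + c := by
        rw [Equiv.Perm.inv_eq_iff_eq]
        simp [x]
      rw [Equiv.Perm.mul_apply, Equiv.Perm.mul_apply, hx, hab, map_zero, ha₀]
      simp only [x, Equiv.subRight_apply]
      linear_combination hc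

end Cfsg.Agent.S5728
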