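import Cfsg.Statements.S5736
import Cfsg.Agent.ClassicalMax.BinaryFull
import Cfsg.Agent.ClassicalMax.BinaryOddMain
import Cfsg.Agent.ClassicalMax.BinarySmall

set_option autoImplicit false
open Cfsg Cfsg.Agent.ClassicalMax.Binary

namespace Cfsg.Agent.S5736

/-- Let F be a finite field with q ≥ 4 elements, q ≠ 5, let G = PSL₂(F) and let H be a proper subgroup of G. Then the action of G on the cosets of H is binary if and only if H is trivial, or q is a power of 2 and H is a Sylow 2-subgroup, or q = 2^a with a odd and H has order 3. Here an action is binary (relational complexity 2) when, for every n ≥ 2 and all n-tuples I, J of points, if for every pair of positions some group element carries the corresponding pair of entries of I to those of J, then a single group element carries I to J. -/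
theorem result {F : Type*} [Field F] [Fintype F] (h4 : 4 ≤ Fintype.card F) (h5 : Fintype.card F ≠ 5)
    (H : Subgroup (Matrix.ProjectiveSpecialLinearGroup (Fin 2) F)) (hH : H ≠ ⊤) :
    (∀ (n : ℕ) (I J : Fin n → Matrix.ProjectiveSpecialLinearGroup (Fin 2) F ⧸ H), 2 ≤ n →
        (∀ i j : Fin n, i ≠ j → ∃ g : Matrix.ProjectiveSpecialLinearGroup (Fin 2) F, g • I i = J i ∧ g • I j = J j) → ∃ g : Matrix.ProjectiveSpecialLinearGroup (Fin 2) F, ∀ i, g • I i = J i) ↔
      (H = ⊥ ∨ ((∃ a : ℕ, Fintype.card F = 2 ^ a) ∧ ∃ P : Sylow 2 (Matrix.ProjectiveSpecialLinearGroup (Fin 2) F), H = P) ∨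
        ((∃ a : ℕ, Odd a ∧ Fintype.card F = 2 ^ a) ∧ Nat.card H = 3)) := by
  have hpow : Even (Fintype.card F) → ∃ a : ℕ, Fintype.card F = 2 ^ a := by
    intro he
    obtain ⟨p, hp⟩ := CharP.exists F
    obtain ⟨f, hpp, hq⟩ := FiniteField.card F p
    have hp2 : p = 2 :=
      (hpp.eq_two_or_odd').resolve_right (fun h => Nat.not_even_iff_odd.2 h (Nat.even_pow.1 (hq ▸ he)).1)
    exact ⟨f, hp2 ▸ hq⟩
  have hmod : ∀ a : ℕ, 3 ∣ 2 ^ a - 1 ↔ Even a := by
    intro a
    constructor
    · intro h
      by_contra hodd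
      obtain ⟨k, rfl⟩ := Nat.not_even_iff_odd.1 hodd
      rw [pow_succ, pow_mul] at h
      have h4 : ((2 ^ 2) ^ k) % 3 = 1 := by rw [Nat.pow_mod]; simp
      omega
    · rintro ⟨k, rfl⟩
      rw [← two_mul, pow_mul]
      have h4 : ((2 ^ 2) ^ k) % 3 = 1 := by rw [Nat.pow_mod]; simp
      omega
  constructor
  · intro hbin
    by_cases hne : H = ⊥
    · exact Or.inl hne
    right
    by_cases hfull : Fintype.card F ∣ Nat.card H
    · obtain ⟨he, hP⟩ := full_case hbin hfull hH
      exact Or.inl ⟨hpow he, hP⟩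
    · rcases Nat.even_or_odd (Nat.card H) with hev | hodd
      · exfalso
        rcases Nat.even_or_odd (Fintype.card F) with he | ho
        · exact even_invol_contra h4 he hbin hev hfull
        · by_cases h11 : 11 ≤ Fintype.card F
          · exact odd_invol_contra h11 ho hbin hev hfull
          · rcases ho with ⟨k, hk⟩
            exact small_invol_contra (by omega) hbin hev hfull
      · obtain ⟨he, h3, hc⟩ := odd_not_full h4 h5 hbin hodd hfull hne
        obtain ⟨a, ha⟩ := hpow he
        refine Or.inr ⟨⟨a, Nat.not_even_iff_odd.1 (fun h => h3 ?_), ha⟩, hc⟩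
        rw [ha]; exact (hmod a).2 h
  · rintro (rfl | ⟨⟨a, ha⟩, P, rfl⟩ | ⟨⟨a, hodd, ha⟩, hc⟩)
    · intro n I J hn hp
      have hfree : ∀ (g g' : Matrix.ProjectiveSpecialLinearGroup (Fin 2) F)
          (p : Matrix.ProjectiveSpecialLinearGroup (Fin 2) F ⧸
            (⊥ : Subgroup (Matrix.ProjectiveSpecialLinearGroup (Fin 2) F))),
          g • p = g' • p → g = g' := by
        intro g g' p h
        obtain ⟨u, rfl⟩ := QuotientGroup.mk_surjective p
        change (QuotientGroup.mk (g * u) : Matrix.ProjectiveSpecialLinearGroup (Fin 2) F ⧸ _) =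
          QuotientGroup.mk (g' * u) at h
        rw [QuotientGroup.eq, Subgroup.mem_bot, inv_mul_eq_one] at h
        exact mul_right_cancel h
      obtain ⟨g, hg, -⟩ := hp (⟨0, by omega⟩ : Fin n) ⟨1, by omega⟩ (by simp)
      refine ⟨g, fun k => ?_⟩
      rcases eq_or_ne k ⟨0, by omega⟩ with rfl | hk
      · exact hg
      · obtain ⟨g', h0, hk'⟩ := hp _ k hk.symm
        rw [hfree g g' _ (hg.trans h0.symm)]
        exact hk'
    · refine sylow_binary h4 ?_ P
      rw [ha, Nat.even_pow]
      exact ⟨even_two, fun h => by rw [h] at ha; omega⟩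
    · refine three_binary ?_ ?_ hc
      · rw [ha, Nat.even_pow]
        exact ⟨even_two, fun h => by rw [h] at ha; omega⟩
      · rw [ha, hmod]
        exact Nat.not_even_iff_odd.2 hodd

end Cfsg.Agent.S5736
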