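import Cfsg.Statements.S5737
import Cfsg.Agent.ClassicalMax.BinarySz
import Cfsg.Agent.Suzuki.LieModel

set_option autoImplicit false
open Cfsg Cfsg.Agent.ClassicalMax.Binary Cfsg.Agent.ClassicalMax.BinarySz

namespace Cfsg.Agent.S5737

/-- Let G = Sz(q) be a Suzuki group, q = 2^(2a+1) with a ≥ 1 (realised inside Sp₄ over the field with q elements), and let H be a proper subgroup of G. Then the action of G on the cosets of H is binary if and only if H is trivial or H is the centre of a Sylow 2-subgroup of G. Here an action is binary (relational complexity 2) when, for every n ≥ 2 and all n-tuples I, J of points, if for every pair of positions some group element carries the corresponding pair of entries of I to those of J, then a single group element carries I to J. -/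
theorem result {F : Type*} [Field F] [Fintype F] (a : ℕ) (ha : 1 ≤ a) (hF : Fintype.card F = 2 ^ (2 * a + 1))
    (H : Subgroup (Cfsg.Lie.Sz F (2 ^ (a + 1)))) (hH : H ≠ ⊤) :
    (∀ (n : ℕ) (I J : Fin n → (Cfsg.Lie.Sz F (2 ^ (a + 1))) ⧸ H), 2 ≤ n →
        (∀ i j : Fin n, i ≠ j → ∃ g : (Cfsg.Lie.Sz F (2 ^ (a + 1))), g • I i = J i ∧ g • I j = J j) → ∃ g : (Cfsg.Lie.Sz F (2 ^ (a + 1))), ∀ i, g • I i = J i) ↔
      (H = ⊥ ∨ ∃ P : Sylow 2 (Cfsg.Lie.Sz F (2 ^ (a + 1))), H = (Subgroup.center (P : Subgroup (Cfsg.Lie.Sz F (2 ^ (a + 1))))).map (P : Subgroup (Cfsg.Lie.Sz F (2 ^ (a + 1)))).subtype) := by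
  haveI : Suzuki.SuzukiField F a := ⟨ha, hF⟩
  let e := Suzuki.szEquivLie F a
  set H₀ := H.map e.symm.toMonoidHom with hH₀
  have hback : H₀.map e.toMonoidHom = H := by
    rw [hH₀, Subgroup.map_map, show e.toMonoidHom.comp e.symm.toMonoidHom = MonoidHom.id _ from
      MonoidHom.ext fun x => e.apply_symm_apply x, Subgroup.map_id]
  have hH₀top : H₀ ≠ ⊤ := by
    intro h
    apply hH
    rw [← hback, h]
    exact Subgroup.map_top_of_surjective _ e.surjective
  have hbin : IsBin H ↔ IsBin H₀ := by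
    refine ⟨fun h => isBin_map e.symm h, fun h => ?_⟩
    have := isBin_map e h
    rwa [hback] at this
  haveI := Fact.mk Nat.prime_two
  have hcenter : (Subgroup.center (Suzuki.unipSylow F a : Subgroup (Cfsg.Sz F a))).map
      (Suzuki.unipSylow F a : Subgroup (Cfsg.Sz F a)).subtype = Suzuki.unipZ F a := by
    show (Subgroup.center (Suzuki.unip F a)).map (Suzuki.unip F a).subtype = _
    rw [Suzuki.center_unip, Subgroup.subgroupOf_map_subtype, inf_eq_left.2 Suzuki.unipZ_le_unip]
  have hconj : ∀ k : Cfsg.Sz F a,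
      (Subgroup.center ((k • Suzuki.unipSylow F a : Sylow 2 (Cfsg.Sz F a)) : Subgroup (Cfsg.Sz F a))).map
        ((k • Suzuki.unipSylow F a : Sylow 2 (Cfsg.Sz F a)) : Subgroup (Cfsg.Sz F a)).subtype =
      (Suzuki.unipZ F a).map (MulAut.conj k).toMonoidHom := by
    intro k
    rw [← hcenter, center_map]
    rfl
  show IsBin H ↔ _
  rw [hbin, isBin_iff hH₀top]
  constructor
  · rintro (h | ⟨k, h⟩)
    · left
      rw [← hback, h, Subgroup.map_bot]
    · right
      obtain ⟨P, hP⟩ : ∃ P : Sylow 2 (Cfsg.Lie.Sz F (2 ^ (a + 1))),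
          (P : Subgroup (Cfsg.Lie.Sz F (2 ^ (a + 1)))) =
            ((k • Suzuki.unipSylow F a : Sylow 2 (Cfsg.Sz F a)) : Subgroup (Cfsg.Sz F a)).map e.toMonoidHom :=
        ⟨(k • Suzuki.unipSylow F a).mapSurjective (f := e.toMonoidHom) e.surjective, rfl⟩
      refine ⟨P, ?_⟩
      rw [hP, ← center_map, hconj, ← h, hback]
  · rintro (h | ⟨P, hP⟩)
    · left
      rw [hH₀, h, Subgroup.map_bot]
    · right
      obtain ⟨k, hk⟩ := MulAction.exists_smul_eq (Cfsg.Sz F a) (Suzuki.unipSylow F a)
        (P.mapSurjective (f := e.symm.toMonoidHom) e.symm.surjective)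
      refine ⟨k, ?_⟩
      rw [← hconj, hk, hH₀, hP, center_map]
      rfl

end Cfsg.Agent.S5737
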