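import Cfsg.Statements.S5742
import Cfsg.Agent.TwE6Fi22.Main
import Cfsg.Agent.S2079

set_option autoImplicit false
open Cfsg

namespace Cfsg.Agent.S5742

open Cfsg.Agent.TwE6Fi22

/-- The simple group ²E₆(2) contains at least three pairwise non-conjugate subgroups `Fi₂₂`. -/
theorem result {K : Type*} [Field K] [Fintype K] (hK : Fintype.card K = 4) :
    ∃ H : Fin 3 → Subgroup (Cfsg.Lie.twistedE6 K 2),
      (∀ i, Cfsg.Spor.IsoFi22 (H i)) ∧
      (∀ i j, i ≠ j → ∀ g : (Cfsg.Lie.twistedE6 K 2), (H i).map (MulAut.conj g).toMonoidHom ≠ H j) := by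
  obtain ⟨e⟩ := exists_tw_equiv hK
  let ef : Cfsg.Spor.Fi22 ≃* ↥fiSub := MonoidHom.ofInjective fiHom_injective
  have hsq : ∀ a : MulAut ↥fiSub, ∃ g : ↥fiSub, a * a = MulAut.conj g := by
    refine sq_inner_congr ef.symm fun a => sq_inner_of_out (fun x => ?_) a
    rw [← pow_two, ← Cfsg.Agent.S2079.result]
    exact pow_card_eq_one'
  refine ⟨fun i => (famSub fiSub i).map e.toMonoidHom, fun i => ?_,
    transfer e (nonconj fiHom_range_le (fun k hk => oImg_le (zEl_mem_oImg hk)) hsq)⟩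
  obtain ⟨u⟩ := famSub_equiv fiHom_range_le i
  exact ⟨((famSub fiSub i).equivMapOfInjective e.toMonoidHom e.injective).symm.trans (u.trans ef.symm)⟩

end Cfsg.Agent.S5742
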