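import Cfsg.Statements.S5744
import Cfsg.Agent.TwE6Fi22.Main
import Cfsg.Agent.RecogA.NineEightOdd
import Cfsg.Agent.S2604

set_option autoImplicit false
open Cfsg

namespace Cfsg.Agent.S5744

open Cfsg.Agent.TwE6Fi22

/-- The simple group ²E₆(2) contains at least three pairwise non-conjugate subgroups `Ω₇(3)`. -/
theorem result {K : Type*} [Field K] [Fintype K] (hK : Fintype.card K = 4) :
    ∃ H : Fin 3 → Subgroup (Cfsg.Lie.twistedE6 K 2),
      (∀ i, Nonempty ((H i) ≃* Cfsg.Omega (ZMod 3) (Cfsg.quadFormOdd 3 (ZMod 3)))) ∧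
      (∀ i j, i ≠ j → ∀ g : (Cfsg.Lie.twistedE6 K 2), (H i).map (MulAut.conj g).toMonoidHom ≠ H j) := by
  obtain ⟨e⟩ := exists_tw_equiv hK
  obtain ⟨o⟩ := SporB.FischerO.oSub_iso
  haveI : Fact (Nat.Prime 3) := ⟨Nat.prime_three⟩
  let eo : ↥oImg ≃* Cfsg.POmega (ZMod 3) (Cfsg.quadFormOdd 3 (ZMod 3)) :=
    (SporB.FischerO.oSub.equivMapOfInjective fiHom fiHom_injective).symm.trans o
  have hc := RecogA.center_Omega_odd_eq_bot (F := ZMod 3) (Ring.two_ne_zero (by rw [ZMod.ringChar_zmod_n]; norm_num)) (m := 3) (by norm_num)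
  let eq3 : Cfsg.POmega (ZMod 3) (Cfsg.quadFormOdd 3 (ZMod 3)) ≃*
      ↥(Cfsg.Omega (ZMod 3) (Cfsg.quadFormOdd 3 (ZMod 3))) :=
    (QuotientGroup.quotientMulEquivOfEq hc).trans QuotientGroup.quotientBot
  have hsq : ∀ a : MulAut ↥oImg, ∃ g : ↥oImg, a * a = MulAut.conj g := by
    refine sq_inner_congr eo fun a => sq_inner_of_out (fun x => ?_) a
    obtain ⟨z⟩ := Cfsg.Agent.S2604.result (F := ZMod 3) (p := 3) (f := 1) (m := 3) le_rfl
      (by simp) (by norm_num) le_rfl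
    have h2 : ∀ y : Multiplicative (ZMod 2 × ZMod 1), y * y = 1 := by decide
    exact z.injective (by rw [map_mul, h2, map_one])
  have hL : oImg ≤ Tw := oImg_le.trans fiHom_range_le
  refine ⟨fun i => (famSub oImg i).map e.toMonoidHom, fun i => ?_,
    transfer e (nonconj hL (fun k hk => zEl_mem_oImg hk) hsq)⟩
  obtain ⟨u⟩ := famSub_equiv hL i
  exact ⟨((famSub oImg i).equivMapOfInjective e.toMonoidHom e.injective).symm.trans (u.trans (eo.trans eq3))⟩

end Cfsg.Agent.S5744
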