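import Cfsg.Statements.S5769
import Cfsg.Agent.CycTori.ESeven
import Cfsg.Agent.CentralExt.SL2
import Cfsg.Agent.SpecGL.Symplectic
import Cfsg.Agent.SympSub.Count
import Cfsg.Agent.Spec.UnitaryElements

set_option autoImplicit false
open Cfsg

namespace Cfsg.Agent.S5769

instance factPrimeTwoAux : Fact (Nat.Prime 2) := ⟨Nat.prime_two⟩

theorem exists_pow_orderOf {G : Type*} [Group G] [Finite G] {x : G} {n : ℕ} (h : n ∣ orderOf x) :
    ∃ y : G, orderOf y = n := by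
  obtain ⟨m, hm⟩ := h
  have hne : m ≠ 0 := fun h0 => (orderOf_pos x).ne' (by rw [hm, h0, mul_zero])
  exact ⟨x ^ m, by rw [orderOf_pow, hm, Nat.gcd_mul_left_left, Nat.mul_div_cancel _ (Nat.pos_of_ne_zero hne)]⟩

theorem center_sl_eq_bot {F : Type*} [Field F] [CharP F 2] {n : ℕ} {k : ℕ} (hn : n = 2 ^ k) :
    Subgroup.center (Matrix.SpecialLinearGroup (Fin n) F) = ⊥ := by
  rw [eq_bot_iff]
  intro A hA
  obtain ⟨c, hc, hA⟩ := Matrix.SpecialLinearGroup.mem_center_iff.1 hA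
  rw [Fintype.card_fin, hn] at hc
  have h1 : c = 1 := by
    have h2 : ∀ m, c ^ 2 ^ m = 1 → c = 1 := by
      intro m
      induction m with
      | zero => simp
      | succ m ih =>
        intro h
        refine ih ?_
        rw [pow_succ, pow_mul] at h
        exact sub_eq_zero.1 (eq_zero_of_pow_eq_zero (n := 2) (by rw [sub_pow_char, h, one_pow, sub_self]))
    exact h2 k hc
  rw [Subgroup.mem_bot]
  exact Subtype.ext (by rw [← hA, h1, map_one]; rfl)

theorem key {A P : Type*} [Group A] [Group P] (hno : ∀ x : A, orderOf x ≠ 65) (h : ∃ p : P, orderOf p = 65) :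
    IsEmpty (A ≃* P) :=
  ⟨fun e => by obtain ⟨p, hp⟩ := h; exact hno (e.symm p) (by rw [MulEquiv.orderOf_eq, hp])⟩

theorem exists_psp_sixtyfive {F : Type*} [Field F] [Fintype F] [CharP F 2] (h8 : Fintype.card F = 8) {n : ℕ}
    (hn : n = 2 ∨ n = 3) : ∃ x : Cfsg.PSp n F, orderOf x = 5 * 13 := by
  haveI : NeZero n := ⟨by omega⟩
  have hk : orderOf ((Fintype.card F : ℕ) : ZMod 5) = 4 := by
    rw [h8, orderOf_eq_iff (by norm_num)]
    exact ⟨by decide, by decide⟩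
  have hl : orderOf ((Fintype.card F : ℕ) : ZMod 13) = 4 := by
    rw [h8, orderOf_eq_iff (by norm_num)]
    exact ⟨by decide, by decide⟩
  have hdvd : 13 ∣ Nat.card (Cfsg.PSp n F) := by
    have h1 := Subgroup.card_eq_card_quotient_mul_card_subgroup
      (Subgroup.center (Matrix.symplecticGroup (Fin n) F))
    rw [Linear.Symp.card_center, h8, SympSub.card_symplecticGroup] at h1
    simp only [Nat.reduceSub, show Nat.gcd 2 7 = 1 from rfl, mul_one] at h1
    show 13 ∣ Nat.card (Matrix.symplecticGroup (Fin n) F ⧸ Subgroup.center (Matrix.symplecticGroup (Fin n) F))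
    rw [← h1, h8]
    rcases hn with rfl | rfl <;> decide
  refine (SpecGL.sp_adjacent_iff 2 (k := 4) (l := 4) (ηk := 2) (ηl := 2) (by norm_num) (by norm_num) (by norm_num)
    (by norm_num) (by norm_num) (by norm_num) (by norm_num) hdvd hk hl (Or.inr ⟨by decide, rfl⟩)
    (Or.inr ⟨by decide, rfl⟩) le_rfl).2 ?_
  rintro ⟨-, h⟩
  exact h ⟨1, odd_one, rfl⟩

theorem result_aux {A : Type*} [Group A] {F₈ F₆₄ : Type*} [Field F₈] [Fintype F₈] (h8 : Fintype.card F₈ = 8)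
    [Field F₆₄] [Fintype F₆₄] (h64 : Fintype.card F₆₄ = 64) (hno : ∀ x : A, orderOf x ≠ 65) :
    IsEmpty (A ≃* Matrix.ProjectiveSpecialLinearGroup (Fin 2) F₆₄) ∧ IsEmpty (A ≃* Cfsg.PSp 2 F₈) ∧
    IsEmpty (A ≃* Matrix.ProjectiveSpecialLinearGroup (Fin 4) F₈) ∧ IsEmpty (A ≃* Cfsg.PSU 4 F₆₄ 8) ∧
    IsEmpty (A ≃* Cfsg.PSp 3 F₈) := by
  classical
  haveI hc8 : CharP F₈ 2 := charP_of_card_eq_prime_pow (p := 2) (f := 3) (by rw [h8]; norm_num)
  haveI hc64 : CharP F₆₄ 2 := charP_of_card_eq_prime_pow (p := 2) (f := 6) (by rw [h64]; norm_num)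
  refine ⟨key hno ?_, key hno (exists_psp_sixtyfive h8 (Or.inl rfl)), key hno ?_, key hno ?_, key hno (exists_psp_sixtyfive h8 (Or.inr rfl))⟩
  · obtain ⟨t, ht, -⟩ := CentralExt.SL2.exists_norm_torus (F := F₆₄)
    refine ⟨QuotientGroup.mk' _ t, ?_⟩
    rw [orderOf_injective (QuotientGroup.mk' _), ht, h64]
    rw [← MonoidHom.ker_eq_bot_iff, QuotientGroup.ker_mk', center_sl_eq_bot (n := 2) (k := 1) rfl]
  · obtain ⟨x, hx⟩ := exists_psp_sixtyfive h8 (n := 2) (Or.inl rfl)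
    obtain ⟨g, hg⟩ := (SpecGL.exists_psp_iff (F := F₈) (n := 2) (N := 5 * 13) (by rw [h8]; decide)).1 ⟨x, hx⟩
    let e : Fin 2 ⊕ Fin 2 ≃ Fin 4 := finSumFinEquiv
    let ψ : Matrix.symplecticGroup (Fin 2) F₈ →* Matrix (Fin 4) (Fin 4) F₈ :=
      (Matrix.reindexAlgEquiv F₈ F₈ e).toMonoidHom.comp (Matrix.symplecticGroup (Fin 2) F₈).subtype
    have hdet : ∀ a, (ψ a).det = 1 := fun a => by
      show (Matrix.reindexAlgEquiv F₈ F₈ e (a : Matrix (Fin 2 ⊕ Fin 2) (Fin 2 ⊕ Fin 2) F₈)).det = 1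
      rw [Matrix.det_reindexAlgEquiv]
      have h1 := SymplecticGroup.symplectic_det a.2
      have h2 := congrArg Matrix.det (SymplecticGroup.mem_iff.1 a.2)
      rw [Matrix.det_mul, Matrix.det_mul, Matrix.det_transpose] at h2
      have hJ : (Matrix.J (Fin 2) F₈).det ≠ 0 := ((Matrix.isUnit_det_J (Fin 2) F₈)).ne_zero
      have h3 : (a : Matrix (Fin 2 ⊕ Fin 2) (Fin 2 ⊕ Fin 2) F₈).det ^ 2 = 1 := by
        refine mul_right_cancel₀ hJ ?_
        rw [one_mul]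
        linear_combination h2
      exact sub_eq_zero.1 (eq_zero_of_pow_eq_zero (n := 2) (by rw [sub_pow_char, h3, one_pow, sub_self]))
    let ψ' : Matrix.symplecticGroup (Fin 2) F₈ →* Matrix.SpecialLinearGroup (Fin 4) F₈ :=
      MonoidHom.mk' (fun a => ⟨ψ a, hdet a⟩) fun a b => Subtype.ext (map_mul ψ a b)
    have hψ' : Function.Injective ψ' := fun a b h => Subtype.ext
      ((Matrix.reindexAlgEquiv F₈ F₈ e).injective (congrArg Subtype.val h))
    refine ⟨QuotientGroup.mk' _ (ψ' g), ?_⟩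
    rw [orderOf_injective (QuotientGroup.mk' _), orderOf_injective ψ' hψ', hg]
    rw [← MonoidHom.ker_eq_bot_iff, QuotientGroup.ker_mk', center_sl_eq_bot (n := 4) (k := 2) rfl]
  · obtain ⟨c, hc⟩ := Spec.Unitary.exists_torus (n := 4) (q := 8) (F := F₆₄) (by rw [h64]; norm_num) (by norm_num)
    refine exists_pow_orderOf ((dvd_trans ?_ hc : 65 ∣ orderOf _))
    rw [Spec.Unitary.torusD]
    decide

theorem result_sub {G : Type*} [Group G] (H : Subgroup G) {F₈ F₆₄ : Type*} [Field F₈] [Fintype F₈] (h8 : Fintype.card F₈ = 8)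
    [Field F₆₄] [Fintype F₆₄] (h64 : Fintype.card F₆₄ = 64) (hno : ∀ x : G, orderOf x ≠ 65) :
    IsEmpty (↥H ≃* Matrix.ProjectiveSpecialLinearGroup (Fin 2) F₆₄) ∧ IsEmpty (↥H ≃* Cfsg.PSp 2 F₈) ∧
    IsEmpty (↥H ≃* Matrix.ProjectiveSpecialLinearGroup (Fin 4) F₈) ∧ IsEmpty (↥H ≃* Cfsg.PSU 4 F₆₄ 8) ∧
    IsEmpty (↥H ≃* Cfsg.PSp 3 F₈) :=
  result_aux h8 h64 fun x h => hno x (by rw [Subgroup.orderOf_coe, h])

/-- The Chevalley group of type E₇ over the field with two elements (generated by its root elements in the adjoint representation) has no subgroup isomorphic to any of PSL₂(64), PSp₄(8), PSL₄(8), PSU₄(8) or PSp₆(8). Here F₈ and F₆₄ denote fields with 8 and 64 elements. -/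
theorem result {F₈ F₆₄ : Type*} [Field F₈] [Fintype F₈] (h8 : Fintype.card F₈ = 8) [Field F₆₄] [Fintype F₆₄] (h64 : Fintype.card F₆₄ = 64)
    (H : Subgroup ↥(Cfsg.Lie.chevE7.group (ZMod 2))) :
    IsEmpty (↥H ≃* Matrix.ProjectiveSpecialLinearGroup (Fin 2) F₆₄) ∧ IsEmpty (↥H ≃* Cfsg.PSp 2 F₈) ∧
    IsEmpty (↥H ≃* Matrix.ProjectiveSpecialLinearGroup (Fin 4) F₈) ∧ IsEmpty (↥H ≃* Cfsg.PSU 4 F₆₄ 8) ∧ IsEmpty (↥H ≃* Cfsg.PSp 3 F₈) := by
  exact result_sub H h8 h64 fun x => CycTori.eSeven_two_no_order_sixtyfive (F := ZMod 2) (ZMod.card 2) x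

end Cfsg.Agent.S5769
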