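import Cfsg.Statements.S5825
import Cfsg.Agent.MaxSub.OmegaEight.NondegApp
import Cfsg.Agent.GeoClasses.OrthPoint
import Cfsg.Agent.GeoClasses.OrthParabolic
import Cfsg.Agent.GeoClasses.OrthSubfield
import Cfsg.Agent.MaxSub.OrthExt.Matrices

set_option autoImplicit false
open Cfsg

namespace Cfsg.Agent.S5825

/-- Maximal subgroups of Ω_8^-(q) of geometric type (any q). Let F be a finite field with q elements, Q a non-degenerate quadratic form on F^8 (non-degenerate polar form) of minus type (Witt index 3: no totally singular 4-space), and Ω = Ω_8^-(q) the commutator subgroup of the isometry group of Q, inside GL_8(F). Each of the following, intersected with Ω, is a maximal subgroup of Ω: (1) the stabiliser of any non-zero subspace on which Q vanishes identically (totally singular 1-, 2- and 3-spaces); (2) for q odd, the stabiliser of any proper subspace of odd dimension (1, 3, 5 or 7) on which the polar form of Q is non-degenerate; (3) the stabiliser of any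 non-degenerate 2-space of minus type (containing no non-zero singular vector); (4) for q ≥ 4, the stabiliser of any non-degenerate 2-space of plus type (containing a non-zero singular vector); (5) the stabiliser of any non-degenerate 4-space (its orthogonal complement is then a non-degenerate 4-space of the opposite type); (6) for q even, the stabiliser of the 1-space spanned by any non-singular vector v (Q(v) ≠ 0); (7) for q odd, the normaliser of any degree-2 subfield K of the matrix algebra whose elements are self-adjoint for the polar form of Q (Q is then the trace of a quadratic form over K); (8) every subfield group for a subfield F₀ of odd prime index r in F whose F₀-structure carries a non-zero scalar multiple of Q. -/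
theorem result {F : Type*} [Field F] [Fintype F] (Q : (Fin 8 → F) → F) (hQ : Cfsg.Geo.IsNondegenerateQuadraticForm Q) (hminus : ¬ Cfsg.Geo.IsPlusTypeOn Q ⊤) :
    (∀ W : Submodule F (Fin 8 → F), W ≠ ⊥ → Cfsg.Geo.IsTotallySingularQuad Q W → Cfsg.Geo.IsMaximalIn (Cfsg.Geo.omegaGL Q) (Cfsg.Geo.subspaceStabilizer W ⊓ Cfsg.Geo.omegaGL Q)) ∧
    (Odd (Fintype.card F) → ∀ W : Submodule F (Fin 8 → F), W ≠ ⊥ → W ≠ ⊤ → Odd (Module.finrank F W) → Cfsg.Geo.IsNondegenerateOn (QuadraticMap.polar Q) W → Cfsg.Geo.IsMaximalIn (Cfsg.Geo.omegaGL Q) (Cfsg.Geo.subspaceStabilizer W ⊓ Cfsg.Geo.omegaGL Q)) ∧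
    (∀ W : Submodule F (Fin 8 → F), Module.finrank F W = 2 → Cfsg.Geo.IsNondegenerateOn (QuadraticMap.polar Q) W → ¬ Cfsg.Geo.IsPlusTypeOn Q W → Cfsg.Geo.IsMaximalIn (Cfsg.Geo.omegaGL Q) (Cfsg.Geo.subspaceStabilizer W ⊓ Cfsg.Geo.omegaGL Q)) ∧
    (4 ≤ Fintype.card F → ∀ W : Submodule F (Fin 8 → F), Module.finrank F W = 2 → Cfsg.Geo.IsNondegenerateOn (QuadraticMap.polar Q) W → Cfsg.Geo.IsPlusTypeOn Q W → Cfsg.Geo.IsMaximalIn (Cfsg.Geo.omegaGL Q) (Cfsg.Geo.subspaceStabilizer W ⊓ Cfsg.Geo.omegaGL Q)) ∧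
    (∀ W : Submodule F (Fin 8 → F), Module.finrank F W = 4 → Cfsg.Geo.IsNondegenerateOn (QuadraticMap.polar Q) W → Cfsg.Geo.IsMaximalIn (Cfsg.Geo.omegaGL Q) (Cfsg.Geo.subspaceStabilizer W ⊓ Cfsg.Geo.omegaGL Q)) ∧
    (¬ Odd (Fintype.card F) → ∀ v : (Fin 8 → F), Q v ≠ 0 → Cfsg.Geo.IsMaximalIn (Cfsg.Geo.omegaGL Q) (Cfsg.Geo.subspaceStabilizer (Submodule.span F {v}) ⊓ Cfsg.Geo.omegaGL Q)) ∧
    (Odd (Fintype.card F) → ∀ K : Subalgebra F (Matrix (Fin 8) (Fin 8) F), Cfsg.Geo.IsFieldSubalgebra 2 K → Cfsg.Geo.IsSelfAdjointFor (QuadraticMap.polar Q) K → Cfsg.Geo.IsMaximalIn (Cfsg.Geo.omegaGL Q) (Cfsg.Geo.subalgebraNormalizer K ⊓ Cfsg.Geo.omegaGL Q)) ∧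
    (∀ (F₀ : Subfield F) (r : ℕ) (P : Matrix.GeneralLinearGroup (Fin 8) F) (ζ : F), r.Prime → Odd r → Fintype.card F = Nat.card F₀ ^ r → ζ ≠ 0 → Cfsg.Geo.IsQuadFormRationalStructure (fun v : Fin 8 → F => ζ * Q v) F₀ P → Cfsg.Geo.IsMaximalIn (Cfsg.Geo.omegaGL Q) (Cfsg.Geo.subfieldSubgroup F₀ P ⊓ Cfsg.Geo.omegaGL Q)) := by
  have hcard : Fintype.card (Fin 8) = 8 := Fintype.card_fin 8
  have hne : ∀ W : Submodule F (Fin 8 → F), Module.finrank F W ≠ 0 → W ≠ ⊥ := fun W h hW =>
    h (by rw [hW, finrank_bot])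
  have hne' : ∀ W : Submodule F (Fin 8 → F), Module.finrank F W ≠ 8 → W ≠ ⊤ := fun W h hW =>
    h (by rw [hW, finrank_top]; simp)
  refine ⟨fun W hW0 hW => ?_, fun _ W hW0 hW1 hW2 hW => ?_, fun W hd hW hm => ?_,
    fun hq W hd hW _ => ?_, fun W hd hW => ?_, fun hev v hv => ?_, fun hodd K hK hsa => ?_,
    fun F₀ r P ζ hr _ hcardF hζ hP => ?_⟩
  · exact Cfsg.Agent.GeoClasses.omegaGL_parabolic_maximal hQ (by omega) hW0 hW (Or.inr hminus)
  · obtain ⟨k, hk⟩ := hW2
    exact Cfsg.Agent.MaxSub.OmegaEight.nondeg_maximal_ne_four hQ hW0 hW1 hW (by omega) (by omega)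
      (fun h => by omega)
  · exact Cfsg.Agent.MaxSub.OmegaEight.nondeg_maximal_ne_four hQ (hne W (by omega))
      (hne' W (by omega)) hW (by omega) (by omega) (fun _ hp => absurd hp hm)
  · exact Cfsg.Agent.MaxSub.OmegaEight.nondeg_maximal_ne_four hQ (hne W (by omega))
      (hne' W (by omega)) hW (by omega) (by omega) (fun _ _ => hq)
  · exact Cfsg.Agent.MaxSub.OmegaEight.nondeg_maximal_four hQ hminus hd hW
  · have h2 : (2 : F) = 0 := by
      by_contra h2
      apply hev
      have hchar : ringChar F ≠ 2 := fun h => h2 (by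
        have := ringChar.of_eq h
        exact CharTwo.two_eq_zero)
      exact Nat.odd_iff.2 (FiniteField.odd_card_of_char_ne_two hchar)
    have := Cfsg.Agent.GeoClasses.isMaximalIn_map
      (Cfsg.Agent.GeoClasses.oqToGL_injective (Cfsg.Agent.GeoClasses.toQF hQ))
      (Cfsg.Agent.GeoClasses.orth_point_maximal (Cfsg.Agent.GeoClasses.bNondeg_toQF hQ) h2
        (by simp) (v := v) hv)
    rwa [Cfsg.Agent.GeoClasses.map_oqToGL_stabSub, Cfsg.Agent.GeoClasses.map_oqToGL_commutator,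
      Cfsg.Agent.GeoClasses.coe_toQF] at this
  · exact Cfsg.Agent.MaxSub.OrthExt.omega_extField_maximal_of_dim (by omega) hodd
      (fun d hd => by omega) Nat.prime_two hQ K hK hsa
  · have hQ' : Cfsg.Geo.IsNondegenerateQuadraticForm (fun v : Fin 8 → F => ζ * Q v) := by
      have hp : ∀ x y : Fin 8 → F, QuadraticMap.polar (fun v : Fin 8 → F => ζ * Q v) x y =
          ζ * QuadraticMap.polar Q x y := fun x y => by simp only [QuadraticMap.polar]; ring
      refine ⟨fun c v => ?_, ⟨fun x y z => ?_, fun c x y => ?_, fun x y z => ?_, fun c x y => ?_⟩,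
        fun x hx => ?_⟩
      · show ζ * Q (c • v) = c ^ 2 * (ζ * Q v)
        rw [hQ.smul]; ring
      · rw [hp, hp, hp, hQ.polar_bilinear.add_left]; ring
      · rw [hp, hp, hQ.polar_bilinear.smul_left]; ring
      · rw [hp, hp, hp, hQ.polar_bilinear.add_right]; ring
      · rw [hp, hp, hQ.polar_bilinear.smul_right]; ring
      · obtain ⟨⟨y, hy⟩, ⟨z, hz⟩⟩ := hQ.nondegenerate x hx
        exact ⟨⟨y, by rw [hp]; exact mul_ne_zero hζ hy⟩, ⟨z, by rw [hp]; exact mul_ne_zero hζ hz⟩⟩
    rw [← Cfsg.Agent.GeoClasses.omegaGL_const_mul (Q := Q) hζ]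
    exact Cfsg.Agent.GeoClasses.omegaGL_subfield_maximal hQ' (by omega) hr hcardF P hP

end Cfsg.Agent.S5825
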