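import Cfsg.Statements.S5847
import Cfsg.Agent.OrthMax.EvenTen

set_option autoImplicit false
open Cfsg Cfsg.Agent.OrthMax

namespace Cfsg.Agent.S5847

set_option maxHeartbeats 1600000 in
/-- Every maximal subgroup of Ω_10^+(q) is of one of the listed geometric types or lies in the residual class. Let F be a finite field with q elements (characteristic p), Q a non-degenerate quadratic form on F^10 of plus type (Witt index 5: some totally singular 5-space), Ω the commutator subgroup of its isometry group, and H a maximal subgroup of Ω (inside GL_10(F)). Then H is the intersection with Ω of one of: the stabiliser of a non-zero totally singular subspace of dimension ≠ 4; for q odd, the stabiliser of a non-degenerate subspace of odd dimension ≠ 5; the stabiliser of a non-degenerate 2-space of minus type; for q ≥ 4, the stabiliser of a non-degenerate 2-space of plus type; the stabiliser of a non-degenerate 4-space; for q even, the stabiliser of the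 span of a non-singular vector; for q = p prime with p ≡ 1 mod 4, the stabiliser of a decomposition into 10 pairwise orthogonal, pairwise isometric non-degenerate 1-spaces; for q ≥ 7, the stabiliser of a decomposition into 5 pairwise orthogonal, pairwise isometric non-degenerate 2-spaces; for q ≡ 1 mod 4, the stabiliser of a decomposition into 2 pairwise orthogonal, pairwise isometric non-degenerate 5-spaces; for q ≡ 3 mod 4, the stabiliser of a decomposition into two orthogonal, non-isometric non-degenerate 5-spaces; for q odd, the normaliser of a degree-2 subfield of the matrix algebra, self-adjoint for the polar form; a subfield group (|F| = |F₀|^r, r prime) whose F₀-structure carries a non-zero multiple of Q — or else H lies in the residual class of the orthogonal case (modulo scalars H is almost simple, with absolutely irreducible perfect socle preimage realisable over no proper subfield and fixing no non-degenerate unitary form). -/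
theorem result {F : Type*} [Field F] [Fintype F] (Q : (Fin 10 → F) → F) (hQ : Cfsg.Geo.IsNondegenerateQuadraticForm Q) (hplus : Cfsg.Geo.IsPlusTypeOn Q ⊤) (H : Subgroup (Matrix.GeneralLinearGroup (Fin 10) F)) (hH : Cfsg.Geo.IsMaximalIn (Cfsg.Geo.omegaGL Q) H) :
    (∃ W : Submodule F (Fin 10 → F), W ≠ ⊥ ∧ Cfsg.Geo.IsTotallySingularQuad Q W ∧ Module.finrank F W ≠ 4 ∧ H = Cfsg.Geo.subspaceStabilizer W ⊓ Cfsg.Geo.omegaGL Q) ∨
    (Odd (Fintype.card F) ∧ ∃ W : Submodule F (Fin 10 → F), W ≠ ⊥ ∧ W ≠ ⊤ ∧ Odd (Module.finrank F W) ∧ 2 * Module.finrank F W ≠ 10 ∧ Cfsg.Geo.IsNondegenerateOn (QuadraticMap.polar Q) W ∧ H = Cfsg.Geo.subspaceStabilizer W ⊓ Cfsg.Geo.omegaGL Q) ∨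
    (∃ W : Submodule F (Fin 10 → F), Module.finrank F W = 2 ∧ Cfsg.Geo.IsNondegenerateOn (QuadraticMap.polar Q) W ∧ ¬ Cfsg.Geo.IsPlusTypeOn Q W ∧ H = Cfsg.Geo.subspaceStabilizer W ⊓ Cfsg.Geo.omegaGL Q) ∨
    (4 ≤ Fintype.card F ∧ ∃ W : Submodule F (Fin 10 → F), Module.finrank F W = 2 ∧ Cfsg.Geo.IsNondegenerateOn (QuadraticMap.polar Q) W ∧ Cfsg.Geo.IsPlusTypeOn Q W ∧ H = Cfsg.Geo.subspaceStabilizer W ⊓ Cfsg.Geo.omegaGL Q) ∨
    (∃ W : Submodule F (Fin 10 → F), Module.finrank F W = 4 ∧ Cfsg.Geo.IsNondegenerateOn (QuadraticMap.polar Q) W ∧ H = Cfsg.Geo.subspaceStabilizer W ⊓ Cfsg.Geo.omegaGL Q) ∨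
    (¬ Odd (Fintype.card F) ∧ ∃ v : (Fin 10 → F), Q v ≠ 0 ∧ H = Cfsg.Geo.subspaceStabilizer (Submodule.span F {v}) ⊓ Cfsg.Geo.omegaGL Q) ∨
    ((∃ p : ℕ, p.Prime ∧ Fintype.card F = p ∧ (p % 4 = 1)) ∧ ∃ D : Fin 10 → Submodule F (Fin 10 → F), Cfsg.Geo.IsOrthogonalMDecomposition Q 1 D ∧ H = Cfsg.Geo.decompositionStabilizer D ⊓ Cfsg.Geo.omegaGL Q) ∨
    (7 ≤ Fintype.card F ∧ ∃ D : Fin 5 → Submodule F (Fin 10 → F), Cfsg.Geo.IsOrthogonalMDecomposition Q 2 D ∧ H = Cfsg.Geo.decompositionStabilizer D ⊓ Cfsg.Geo.omegaGL Q) ∨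
    (Fintype.card F % 4 = 1 ∧ ∃ D : Fin 2 → Submodule F (Fin 10 → F), Cfsg.Geo.IsOrthogonalMDecomposition Q 5 D ∧ H = Cfsg.Geo.decompositionStabilizer D ⊓ Cfsg.Geo.omegaGL Q) ∨
    (Fintype.card F % 4 = 3 ∧ ∃ D : Fin 2 → Submodule F (Fin 10 → F), Cfsg.Geo.IsNondegenerateMDecomposition (QuadraticMap.polar Q) 5 D ∧ ¬ Cfsg.Geo.AreIsometricFor Q (D 0) (D 1) ∧ H = Cfsg.Geo.decompositionStabilizer D ⊓ Cfsg.Geo.omegaGL Q) ∨
    (Odd (Fintype.card F) ∧ ∃ K : Subalgebra F (Matrix (Fin 10) (Fin 10) F), Cfsg.Geo.IsFieldSubalgebra 2 K ∧ Cfsg.Geo.IsSelfAdjointFor (QuadraticMap.polar Q) K ∧ H = Cfsg.Geo.subalgebraNormalizer K ⊓ Cfsg.Geo.omegaGL Q) ∨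
    (∃ (F₀ : Subfield F) (r : ℕ) (P : Matrix.GeneralLinearGroup (Fin 10) F) (ζ : F), r.Prime ∧ Fintype.card F = Nat.card F₀ ^ r ∧ ζ ≠ 0 ∧ Cfsg.Geo.IsQuadFormRationalStructure (fun v : Fin 10 → F => ζ * Q v) F₀ P ∧ H = Cfsg.Geo.subfieldSubgroup F₀ P ⊓ Cfsg.Geo.omegaGL Q) ∨
    Cfsg.Geo.InOrthogonalResidualClass H := by
  classical
  obtain ⟨Q, hB, hfun⟩ : ∃ Q' : QuadraticForm F (Fin 10 → F), Classical.BNondeg Q' ∧ ⇑Q' = Q :=
    ⟨GeoClasses.toQF hQ, GeoClasses.bNondeg_toQF hQ, rfl⟩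
  clear hQ
  subst hfun
  have hcard : Fintype.card (Fin 10) = 10 := Fintype.card_fin _
  have hHiso : H ≤ Cfsg.isometryGroup F ⇑Q := hH.1.le.trans omega_le_isometry
  have hsub : (∃ (F₀ : Subfield F) (r : ℕ) (P : Matrix.GeneralLinearGroup (Fin 10) F) (ζ : F), r.Prime ∧
      Fintype.card F = Nat.card F₀ ^ r ∧ ζ ≠ 0 ∧
      Cfsg.Geo.IsQuadFormRationalStructure (fun v => ζ * Q v) F₀ P ∧ H ≤ Cfsg.Geo.subfieldSubgroup F₀ P) → _ :=
    eq_subfield hB (by omega) hH
  rcases irreducible_cases hB (by omega) (fun h => by omega) hH.1.le with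
    ⟨W, hb, hW, hle⟩ | ⟨h2, v, hv, hle⟩ | ⟨W, hd0, hd, hW, hle, hle'⟩ | ⟨t, k, D, hD, hle⟩ |
    ⟨k, D, hk, hD, hts, hrest⟩ | ⟨r, K, hr, hrn, hK, hs, hle, hirr⟩ | ⟨b, L, J₁, J₂, hb2, hbe, -⟩ |
    ⟨h12, -⟩ | h | h
  · exact Or.inl (ts_case_plus hB (by omega) hH hplus (m := 4) hcard hb hW hle)
  · exact Or.inr <| Or.inr <| Or.inr <| Or.inr <| Or.inr <| Or.inl (point_case hB (by omega) hH h2 hv hle)
  · rcases (show Odd (Module.finrank F W) ∧ 2 * Module.finrank F W < 10 ∨ Module.finrank F W = 2 ∨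
      Module.finrank F W = 4 ∨ Module.finrank F W = 5 by rw [Nat.odd_iff]; omega) with ⟨ho, hd'⟩ | e | e | e
    · obtain ⟨hodd, h⟩ := odd_nondeg_case hB (by omega) hH ho (by omega) hW hle
      simp only [hcard] at h
      exact Or.inr <| Or.inl ⟨hodd, h⟩
    · rcases plane_case hB (by omega) hH e hW hle with h | h | h | h
      · exact Or.inr <| Or.inr <| Or.inl h
      · exact Or.inr <| Or.inr <| Or.inr <| Or.inl h
      · exact Or.inr <| Or.inr <| Or.inr <| Or.inr <| Or.inr <| Or.inl h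
      · simp only [hcard] at h
        exact Or.inr <| Or.inl h
    · exact Or.inr <| Or.inr <| Or.inr <| Or.inr <| Or.inl ⟨W, e, hW, eq_stabilizer hB (by omega) hH (ne_bot_of_finrank e (by omega)) (by omega) hle⟩
    · obtain ⟨hD, hleD⟩ := halves hB hW (by omega) e hcard hle hle'
      obtain ⟨h2, ⟨hiff, h⟩ | ⟨hiff, h⟩⟩ := ten_half hB hcard hH hD hleD
      · exact Or.inr <| Or.inr <| Or.inr <| Or.inr <| Or.inr <| Or.inr <| Or.inr <| Or.inr <| Or.inl ⟨card_mod_four_of_square h2 (hiff.1 hplus), h⟩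
      · exact Or.inr <| Or.inr <| Or.inr <| Or.inr <| Or.inr <| Or.inr <| Or.inr <| Or.inr <| Or.inr <| Or.inl ⟨card_mod_four_of_nonsquare (hiff.1 hplus), h⟩
  · obtain ⟨ht, hk, htk⟩ := decomposition_sizes hD
    rw [hcard] at htk
    have : t ≤ 10 := by nlinarith
    have hlines : ∀ D : Fin 10 → Submodule F (Fin 10 → F), Cfsg.Geo.IsOrthogonalMDecomposition ⇑Q 1 D →
        H ≤ Cfsg.Geo.decompositionStabilizer D → _ := fun D hD hle => ten_lines hB hcard hH hD hle
    rcases (show (t = 2 ∧ k = 5) ∨ (t = 5 ∧ k = 2) ∨ (t = 10 ∧ k = 1) by interval_cases t <;> omega) with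
      ⟨rfl, rfl⟩ | ⟨rfl, rfl⟩ | ⟨rfl, rfl⟩
    · obtain ⟨h2, ⟨hiff, h⟩ | ⟨hiff, h⟩⟩ := ten_half hB hcard hH hD.decomp hle
      · exact Or.inr <| Or.inr <| Or.inr <| Or.inr <| Or.inr <| Or.inr <| Or.inr <| Or.inr <| Or.inl ⟨card_mod_four_of_square h2 (hiff.1 hplus), h⟩
      · exact Or.inr <| Or.inr <| Or.inr <| Or.inr <| Or.inr <| Or.inr <| Or.inr <| Or.inr <| Or.inr <| Or.inl ⟨card_mod_four_of_nonsquare (hiff.1 hplus), h⟩
    · have hparts := parts_plus hB hD (by decide) (by decide) hplus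
      by_cases hq : 7 ≤ Fintype.card F
      · exact Or.inr <| Or.inr <| Or.inr <| Or.inr <| Or.inr <| Or.inr <| Or.inr <| Or.inl ⟨hq, D, hD, eq_decomposition hB (by omega) hH hD.decomp.decomp hle⟩
      have hq1 : 1 < Fintype.card F := Fintype.one_lt_card
      rcases (show Fintype.card F = 2 ∨ Fintype.card F = 3 ∨ Fintype.card F = 4 ∨ Fintype.card F = 5 ∨
          Fintype.card F = 6 by omega) with h | h | h | h | h
      · obtain ⟨v, -, hQv, hlev⟩ := point_of_plus_planes_two h hHiso hD hparts hle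
        have h20 : (2 : F) = 0 := by
          by_contra h2
          have := odd_card_iff.2 h2
          rw [h] at this
          norm_num [Nat.odd_iff] at this
        exact Or.inr <| Or.inr <| Or.inr <| Or.inr <| Or.inr <| Or.inl (point_case hB (by omega) hH h20
          (by rw [hQv]; push_cast; intro h5; exact one_ne_zero (show (1 : F) = 0 by linear_combination h5 - 2 * h20))
          hlev)
      · obtain ⟨W, e, hW, hleW, hleW'⟩ := subspace_of_plus_planes_three h hHiso hD hparts hle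
        obtain ⟨hD', hleD⟩ := halves hB hW (by omega) e hcard hleW hleW'
        obtain ⟨h2, ⟨hiff, h'⟩ | ⟨hiff, h'⟩⟩ := ten_half hB hcard hH hD' hleD
        · exact Or.inr <| Or.inr <| Or.inr <| Or.inr <| Or.inr <| Or.inr <| Or.inr <| Or.inr <| Or.inl ⟨card_mod_four_of_square h2 (hiff.1 hplus), h'⟩
        · exact Or.inr <| Or.inr <| Or.inr <| Or.inr <| Or.inr <| Or.inr <| Or.inr <| Or.inr <| Or.inr <| Or.inl ⟨card_mod_four_of_nonsquare (hiff.1 hplus), h'⟩
      · exact Or.inr <| Or.inr <| Or.inr <| Or.inr <| Or.inr <| Or.inr <| Or.inr <| Or.inr <| Or.inr <| Or.inr <| Or.inr <| Or.inl (hsub (subfield_of_plus_planes_four h hHiso hD hparts hle))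
      · obtain ⟨D', hD', hle'⟩ := lines_of_value_pairs (odd_card_iff.1 (by rw [h]; decide)) hHiso hD hle
          fun i => value_one_plus_five h (hD.decomp.nondegenerate i) (hD.decomp.decomp.finrank_eq i) (hparts i)
        obtain ⟨h2, hiff, ⟨hp, h'⟩ | h'⟩ := hlines D' hD' hle'
        · exact Or.inr <| Or.inr <| Or.inr <| Or.inr <| Or.inr <| Or.inr <| Or.inl ⟨⟨_, hp, rfl, card_mod_four_of_square h2 (hiff.1 hplus)⟩, h'⟩
        · exact Or.inr <| Or.inr <| Or.inr <| Or.inr <| Or.inr <| Or.inr <| Or.inr <| Or.inr <| Or.inr <| Or.inr <| Or.inr <| Or.inl (hsub h')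
      · exfalso
        obtain ⟨p, hp⟩ := CharP.exists F
        obtain ⟨n, hpp, hn⟩ := FiniteField.card F p
        rw [h] at hn
        have hp6 : p ∣ 6 := hn ▸ dvd_pow_self p n.pos.ne'
        have hp6' : p ≤ 6 := Nat.le_of_dvd (by norm_num) hp6
        have hn3 : (n : ℕ) < 3 := by
          by_contra hc
          have := Nat.pow_le_pow_right (show 0 < p from hpp.pos) (not_lt.1 hc)
          have := Nat.pow_le_pow_left hpp.two_le 3
          omega
        have := n.pos
        interval_cases hn' : (n : ℕ) <;> interval_cases p <;> first | omega | (norm_num at hpp; done)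
    · obtain ⟨h2, hiff, ⟨hp, h⟩ | h⟩ := hlines D hD hle
      · exact Or.inr <| Or.inr <| Or.inr <| Or.inr <| Or.inr <| Or.inr <| Or.inl ⟨⟨_, hp, rfl, card_mod_four_of_square h2 (hiff.1 hplus)⟩, h⟩
      · exact Or.inr <| Or.inr <| Or.inr <| Or.inr <| Or.inr <| Or.inr <| Or.inr <| Or.inr <| Or.inr <| Or.inr <| Or.inr <| Or.inl (hsub h)
  · obtain ⟨-, g, hg, hgD⟩ := hrest
    exact (swap_false hB (by omega) hk (by rw [show k = 5 by omega]; decide) hD hts (hH.1.le hg) hgD).elim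
  · have key : ∀ (K : Subalgebra F (Matrix (Fin 10) (Fin 10) F)), Cfsg.Geo.IsFieldSubalgebra 2 K →
        GeoClasses.StarClosed (RingEquiv.refl F) (polarMat Q) K → H ≤ Cfsg.Geo.subalgebraNormalizer K → _ :=
      fun K hK hs hle => And.intro (eq_normalizer hB (by omega) hH Nat.prime_two hK hle) (And.intro hK hs)
    obtain ⟨K, hK, hs, hle⟩ : ∃ K : Subalgebra F (Matrix (Fin 10) (Fin 10) F), Cfsg.Geo.IsFieldSubalgebra 2 K ∧
        GeoClasses.StarClosed (RingEquiv.refl F) (polarMat Q) K ∧ H ≤ Cfsg.Geo.subalgebraNormalizer K := by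
      rw [hcard] at hrn
      have hr10 : r ≤ 10 := Nat.le_of_dvd (by norm_num) hrn
      rcases (show r = 2 ∨ r = 5 by interval_cases r <;> first | omega | (norm_num at hr; done)) with rfl | rfl
      · exact ⟨K, hK, hs, hle⟩
      · have hsa := ((isPolar_polarMat hB).selfAdjoint_or_quadratic rfl hr hK hs).resolve_right (by norm_num)
        rcases field_five hB hcard hHiso hirr hK hsa hle with ⟨K, hK, hs, -, hle⟩ | ⟨k, D, hk, hD, hts, -, g, hg, hgD⟩
        · exact ⟨K, hK, hs, hle⟩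
        · exact (swap_false hB (by omega) hk (by rw [show k = 5 by omega]; decide) hD hts (hH.1.le hg) hgD).elim
    obtain ⟨heq, -, -⟩ := key K hK hs hle
    by_cases hsa : ∀ k ∈ K, qadj Q k = k
    · refine Or.inr <| Or.inr <| Or.inr <| Or.inr <| Or.inr <| Or.inr <| Or.inr <| Or.inr <| Or.inr <| Or.inr <| Or.inl ⟨odd_card_iff.2 fun h2 => ?_, K, hK, (isSelfAdjointFor_iff hB K).2 hsa, heq⟩
      have := two_mul_dvd_of_selfAdjoint hB h2 hK hsa
      rw [hcard] at this
      norm_num at this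
    · exact absurd hplus (not_plus_of_field hB hHiso hirr hK hs hsa hle (j := 2) hcard)
  · obtain ⟨j, hj⟩ := hbe
    omega
  · omega
  · exact Or.inr <| Or.inr <| Or.inr <| Or.inr <| Or.inr <| Or.inr <| Or.inr <| Or.inr <| Or.inr <| Or.inr <| Or.inr <| Or.inr <| h
  · exact Or.inr <| Or.inr <| Or.inr <| Or.inr <| Or.inr <| Or.inr <| Or.inr <| Or.inr <| Or.inr <| Or.inr <| Or.inr <| Or.inl (hsub h)

end Cfsg.Agent.S5847
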