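import Cfsg.Statements.S5850
import Cfsg.Agent.OrthMax.EvenTen

set_option autoImplicit false
open Cfsg Cfsg.Agent.OrthMax

namespace Cfsg.Agent.S5850

set_option maxHeartbeats 1600000 in
/-- Every maximal subgroup of Ω_10^-(q) is of one of the listed geometric types or lies in the residual class. Let F be a finite field with q elements (characteristic p), Q a non-degenerate quadratic form on F^10 of minus type (Witt index 4: no totally singular 5-space), Ω the commutator subgroup of its isometry group, and H a maximal subgroup of Ω (inside GL_10(F)). Then H is the intersection with Ω of one of: the stabiliser of a non-zero totally singular subspace; for q odd, the stabiliser of a non-degenerate subspace of odd dimension ≠ 5; the stabiliser of a non-degenerate 2-space of minus type; for q ≥ 4, the stabiliser of a non-degenerate 2-space of plus type; the stabiliser of a non-degenerate 4-space; for q even, the stabiliser of the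 span of a non-singular vector; for q = p prime with p ≡ 3 mod 4, the stabiliser of a decomposition into 10 pairwise orthogonal, pairwise isometric non-degenerate 1-spaces; for q ≠ 3, the stabiliser of a decomposition into 5 pairwise orthogonal, pairwise isometric non-degenerate 2-spaces; for q ≡ 3 mod 4, the stabiliser of a decomposition into 2 pairwise orthogonal, pairwise isometric non-degenerate 5-spaces; for q ≡ 1 mod 4, the stabiliser of a decomposition into two orthogonal, non-isometric non-degenerate 5-spaces; for q odd, the normaliser of a degree-2 subfield of the matrix algebra, self-adjoint for the polar form; the normaliser of a degree-2 subfield K, adjoint-closed but not self-adjoint, acting by similarities of Q; a subfield group (|F| = |F₀|^r, r odd prime) whose F₀-structure carries a non-zero multiple of Q — or else H lies in the residual class of the orthogonal case (modulo scalars H is almost simple, with absolutely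 irreducible perfect socle preimage realisable over no proper subfield and fixing no non-degenerate unitary form). -/
theorem result {F : Type*} [Field F] [Fintype F] (Q : (Fin 10 → F) → F) (hQ : Cfsg.Geo.IsNondegenerateQuadraticForm Q) (hminus : ¬ Cfsg.Geo.IsPlusTypeOn Q ⊤) (H : Subgroup (Matrix.GeneralLinearGroup (Fin 10) F)) (hH : Cfsg.Geo.IsMaximalIn (Cfsg.Geo.omegaGL Q) H) :
    (∃ W : Submodule F (Fin 10 → F), W ≠ ⊥ ∧ Cfsg.Geo.IsTotallySingularQuad Q W ∧ H = Cfsg.Geo.subspaceStabilizer W ⊓ Cfsg.Geo.omegaGL Q) ∨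
    (Odd (Fintype.card F) ∧ ∃ W : Submodule F (Fin 10 → F), W ≠ ⊥ ∧ W ≠ ⊤ ∧ Odd (Module.finrank F W) ∧ 2 * Module.finrank F W ≠ 10 ∧ Cfsg.Geo.IsNondegenerateOn (QuadraticMap.polar Q) W ∧ H = Cfsg.Geo.subspaceStabilizer W ⊓ Cfsg.Geo.omegaGL Q) ∨
    (∃ W : Submodule F (Fin 10 → F), Module.finrank F W = 2 ∧ Cfsg.Geo.IsNondegenerateOn (QuadraticMap.polar Q) W ∧ ¬ Cfsg.Geo.IsPlusTypeOn Q W ∧ H = Cfsg.Geo.subspaceStabilizer W ⊓ Cfsg.Geo.omegaGL Q) ∨
    (4 ≤ Fintype.card F ∧ ∃ W : Submodule F (Fin 10 → F), Module.finrank F W = 2 ∧ Cfsg.Geo.IsNondegenerateOn (QuadraticMap.polar Q) W ∧ Cfsg.Geo.IsPlusTypeOn Q W ∧ H = Cfsg.Geo.subspaceStabilizer W ⊓ Cfsg.Geo.omegaGL Q) ∨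
    (∃ W : Submodule F (Fin 10 → F), Module.finrank F W = 4 ∧ Cfsg.Geo.IsNondegenerateOn (QuadraticMap.polar Q) W ∧ H = Cfsg.Geo.subspaceStabilizer W ⊓ Cfsg.Geo.omegaGL Q) ∨
    (¬ Odd (Fintype.card F) ∧ ∃ v : (Fin 10 → F), Q v ≠ 0 ∧ H = Cfsg.Geo.subspaceStabilizer (Submodule.span F {v}) ⊓ Cfsg.Geo.omegaGL Q) ∨
    ((∃ p : ℕ, p.Prime ∧ Fintype.card F = p ∧ (p % 4 = 3)) ∧ ∃ D : Fin 10 → Submodule F (Fin 10 → F), Cfsg.Geo.IsOrthogonalMDecomposition Q 1 D ∧ H = Cfsg.Geo.decompositionStabilizer D ⊓ Cfsg.Geo.omegaGL Q) ∨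
    (Fintype.card F ≠ 3 ∧ ∃ D : Fin 5 → Submodule F (Fin 10 → F), Cfsg.Geo.IsOrthogonalMDecomposition Q 2 D ∧ H = Cfsg.Geo.decompositionStabilizer D ⊓ Cfsg.Geo.omegaGL Q) ∨
    (Fintype.card F % 4 = 3 ∧ ∃ D : Fin 2 → Submodule F (Fin 10 → F), Cfsg.Geo.IsOrthogonalMDecomposition Q 5 D ∧ H = Cfsg.Geo.decompositionStabilizer D ⊓ Cfsg.Geo.omegaGL Q) ∨
    (Fintype.card F % 4 = 1 ∧ ∃ D : Fin 2 → Submodule F (Fin 10 → F), Cfsg.Geo.IsNondegenerateMDecomposition (QuadraticMap.polar Q) 5 D ∧ ¬ Cfsg.Geo.AreIsometricFor Q (D 0) (D 1) ∧ H = Cfsg.Geo.decompositionStabilizer D ⊓ Cfsg.Geo.omegaGL Q) ∨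
    (Odd (Fintype.card F) ∧ ∃ K : Subalgebra F (Matrix (Fin 10) (Fin 10) F), Cfsg.Geo.IsFieldSubalgebra 2 K ∧ Cfsg.Geo.IsSelfAdjointFor (QuadraticMap.polar Q) K ∧ H = Cfsg.Geo.subalgebraNormalizer K ⊓ Cfsg.Geo.omegaGL Q) ∨
    (∃ K : Subalgebra F (Matrix (Fin 10) (Fin 10) F), Cfsg.Geo.IsFieldSubalgebra 2 K ∧ Cfsg.Geo.IsAdjointClosedFor (QuadraticMap.polar Q) K ∧ ¬ Cfsg.Geo.IsSelfAdjointFor (QuadraticMap.polar Q) K ∧ (∀ k ∈ K, ∃ c : F, ∀ v : (Fin 10 → F), Q (Matrix.mulVec k v) = c * Q v) ∧ H = Cfsg.Geo.subalgebraNormalizer K ⊓ Cfsg.Geo.omegaGL Q) ∨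
    (∃ (F₀ : Subfield F) (r : ℕ) (P : Matrix.GeneralLinearGroup (Fin 10) F) (ζ : F), r.Prime ∧ Odd r ∧ Fintype.card F = Nat.card F₀ ^ r ∧ ζ ≠ 0 ∧ Cfsg.Geo.IsQuadFormRationalStructure (fun v : Fin 10 → F => ζ * Q v) F₀ P ∧ H = Cfsg.Geo.subfieldSubgroup F₀ P ⊓ Cfsg.Geo.omegaGL Q) ∨
    Cfsg.Geo.InOrthogonalResidualClass H := by
  classical
  obtain ⟨Q, hB, hfun⟩ : ∃ Q' : QuadraticForm F (Fin 10 → F), Classical.BNondeg Q' ∧ ⇑Q' = Q :=
    ⟨GeoClasses.toQF hQ, GeoClasses.bNondeg_toQF hQ, rfl⟩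
  clear hQ
  subst hfun
  have hcard : Fintype.card (Fin 10) = 10 := Fintype.card_fin _
  have hHiso : H ≤ Cfsg.isometryGroup F ⇑Q := hH.1.le.trans omega_le_isometry
  have hsub : (∃ (F₀ : Subfield F) (r : ℕ) (P : Matrix.GeneralLinearGroup (Fin 10) F) (ζ : F), r.Prime ∧
      Fintype.card F = Nat.card F₀ ^ r ∧ ζ ≠ 0 ∧
      Cfsg.Geo.IsQuadFormRationalStructure (fun v => ζ * Q v) F₀ P ∧ H ≤ Cfsg.Geo.subfieldSubgroup F₀ P) → _ :=
    eq_subfield_odd hB (by omega) (by rw [hcard]; decide) hminus hH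
  rcases irreducible_cases hB (by omega) (fun h => by omega) hH.1.le with
    ⟨W, hb, hW, hle⟩ | ⟨h2, v, hv, hle⟩ | ⟨W, hd0, hd, hW, hle, hle'⟩ | ⟨t, k, D, hD, hle⟩ |
    ⟨k, D, hk, hD, hts, -⟩ | ⟨r, K, hr, hrn, hK, hs, hle, hirr⟩ | ⟨b, L, J₁, J₂, -, -, -, -, -, -, -, -, hp⟩ |
    ⟨h12, -⟩ | h | h
  · exact Or.inl (ts_case hB (by omega) hH hb hW hle)
  · exact Or.inr <| Or.inr <| Or.inr <| Or.inr <| Or.inr <| Or.inl (point_case hB (by omega) hH h2 hv hle)
  · rcases (show Odd (Module.finrank F W) ∧ 2 * Module.finrank F W < 10 ∨ Module.finrank F W = 2 ∨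
      Module.finrank F W = 4 ∨ Module.finrank F W = 5 by rw [Nat.odd_iff]; omega) with ⟨ho, hd'⟩ | e | e | e
    · obtain ⟨hodd, h⟩ := odd_nondeg_case hB (by omega) hH ho (by omega) hW hle
      simp only [hcard] at h
      exact Or.inr <| Or.inl ⟨hodd, h⟩
    · rcases plane_case hB (by omega) hH e hW hle with h | h | h | h
      · exact Or.inr <| Or.inr <| Or.inl h
      · exact Or.inr <| Or.inr <| Or.inr <| Or.inl h
      · exact Or.inr <| Or.inr <| Or.inr <| Or.inr <| Or.inr <| Or.inl h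
      · simp only [hcard] at h
        exact Or.inr <| Or.inl h
    · exact Or.inr <| Or.inr <| Or.inr <| Or.inr <| Or.inl ⟨W, e, hW, eq_stabilizer hB (by omega) hH (ne_bot_of_finrank e (by omega)) (by omega) hle⟩
    · obtain ⟨hD, hleD⟩ := halves hB hW (by omega) e hcard hle hle'
      obtain ⟨h2, ⟨hiff, h⟩ | ⟨hiff, h⟩⟩ := ten_half hB hcard hH hD hleD
      · exact Or.inr <| Or.inr <| Or.inr <| Or.inr <| Or.inr <| Or.inr <| Or.inr <| Or.inr <| Or.inl ⟨card_mod_four_of_nonsquare fun hs => hminus (hiff.2 hs), h⟩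
      · exact Or.inr <| Or.inr <| Or.inr <| Or.inr <| Or.inr <| Or.inr <| Or.inr <| Or.inr <| Or.inr <| Or.inl ⟨card_mod_four_of_square h2 (not_not.1 fun hs => hminus (hiff.2 hs)), h⟩
  · obtain ⟨ht, hk, htk⟩ := decomposition_sizes hD
    rw [hcard] at htk
    have : t ≤ 10 := by nlinarith
    have hlines : ∀ D : Fin 10 → Submodule F (Fin 10 → F), Cfsg.Geo.IsOrthogonalMDecomposition ⇑Q 1 D →
        H ≤ Cfsg.Geo.decompositionStabilizer D → _ := fun D hD hle => ten_lines hB hcard hH hD hle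
    rcases (show (t = 2 ∧ k = 5) ∨ (t = 5 ∧ k = 2) ∨ (t = 10 ∧ k = 1) by interval_cases t <;> omega) with
      ⟨rfl, rfl⟩ | ⟨rfl, rfl⟩ | ⟨rfl, rfl⟩
    · obtain ⟨h2, ⟨hiff, h⟩ | ⟨hiff, h⟩⟩ := ten_half hB hcard hH hD.decomp hle
      · exact Or.inr <| Or.inr <| Or.inr <| Or.inr <| Or.inr <| Or.inr <| Or.inr <| Or.inr <| Or.inl ⟨card_mod_four_of_nonsquare fun hs => hminus (hiff.2 hs), h⟩
      · exact Or.inr <| Or.inr <| Or.inr <| Or.inr <| Or.inr <| Or.inr <| Or.inr <| Or.inr <| Or.inr <| Or.inl ⟨card_mod_four_of_square h2 (not_not.1 fun hs => hminus (hiff.2 hs)), h⟩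
    · by_cases h3 : Fintype.card F = 3
      · obtain ⟨D', hD', hle'⟩ := lines_of_value_pairs (odd_card_iff.1 (by rw [h3]; decide)) hHiso hD hle
          fun i => value_one_minus_three h3 (hD.decomp.nondegenerate i) (hD.decomp.decomp.finrank_eq i)
            fun hi => hminus (plus_of_parts hD hi)
        obtain ⟨h2, hiff, ⟨hp, h⟩ | h⟩ := hlines D' hD' hle'
        · exact Or.inr <| Or.inr <| Or.inr <| Or.inr <| Or.inr <| Or.inr <| Or.inl ⟨⟨_, hp, rfl, card_mod_four_of_nonsquare fun hs => hminus (hiff.2 hs)⟩, h⟩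
        · exact Or.inr <| Or.inr <| Or.inr <| Or.inr <| Or.inr <| Or.inr <| Or.inr <| Or.inr <| Or.inr <| Or.inr <| Or.inr <| Or.inr <| Or.inl (hsub h)
      · exact Or.inr <| Or.inr <| Or.inr <| Or.inr <| Or.inr <| Or.inr <| Or.inr <| Or.inl ⟨h3, D, hD, eq_decomposition hB (by omega) hH hD.decomp.decomp hle⟩
    · obtain ⟨h2, hiff, ⟨hp, h⟩ | h⟩ := hlines D hD hle
      · exact Or.inr <| Or.inr <| Or.inr <| Or.inr <| Or.inr <| Or.inr <| Or.inl ⟨⟨_, hp, rfl, card_mod_four_of_nonsquare fun hs => hminus (hiff.2 hs)⟩, h⟩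
      · exact Or.inr <| Or.inr <| Or.inr <| Or.inr <| Or.inr <| Or.inr <| Or.inr <| Or.inr <| Or.inr <| Or.inr <| Or.inr <| Or.inr <| Or.inl (hsub h)
  · exfalso
    refine hminus (plus_of_ts (le_top : D 0 ≤ ⊤) (hts 0) ?_ ?_)
    · rw [finrank_top_eq, hcard]; decide
    · rw [finrank_top_eq, hD.finrank_eq, hk]
  · have key : ∀ (K : Subalgebra F (Matrix (Fin 10) (Fin 10) F)), Cfsg.Geo.IsFieldSubalgebra 2 K →
        GeoClasses.StarClosed (RingEquiv.refl F) (polarMat Q) K → H ≤ Cfsg.Geo.subalgebraNormalizer K → _ :=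
      fun K hK hs hle => And.intro (eq_normalizer hB (by omega) hH Nat.prime_two hK hle) (And.intro hK hs)
    obtain ⟨K, hK, hs, hle⟩ : ∃ K : Subalgebra F (Matrix (Fin 10) (Fin 10) F), Cfsg.Geo.IsFieldSubalgebra 2 K ∧
        GeoClasses.StarClosed (RingEquiv.refl F) (polarMat Q) K ∧ H ≤ Cfsg.Geo.subalgebraNormalizer K := by
      rw [hcard] at hrn
      have hr10 : r ≤ 10 := Nat.le_of_dvd (by norm_num) hrn
      rcases (show r = 2 ∨ r = 5 by interval_cases r <;> first | omega | (norm_num at hr; done)) with rfl | rfl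
      · exact ⟨K, hK, hs, hle⟩
      · have hsa := ((isPolar_polarMat hB).selfAdjoint_or_quadratic rfl hr hK hs).resolve_right (by norm_num)
        rcases field_five hB hcard hHiso hirr hK hsa hle with ⟨K, hK, hs, -, hle⟩ | ⟨k, D, hk, hD, hts, -⟩
        · exact ⟨K, hK, hs, hle⟩
        · exfalso
          refine hminus (plus_of_ts (le_top : D 0 ≤ ⊤) (hts 0) ?_ ?_)
          · rw [finrank_top_eq, hcard]; decide
          · rw [finrank_top_eq, hD.finrank_eq, hk]
    obtain ⟨heq, -, -⟩ := key K hK hs hle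
    by_cases hsa : ∀ k ∈ K, qadj Q k = k
    · refine Or.inr <| Or.inr <| Or.inr <| Or.inr <| Or.inr <| Or.inr <| Or.inr <| Or.inr <| Or.inr <| Or.inr <| Or.inl ⟨odd_card_iff.2 fun h2 => ?_, K, hK, (isSelfAdjointFor_iff hB K).2 hsa, heq⟩
      have := two_mul_dvd_of_selfAdjoint hB h2 hK hsa
      rw [hcard] at this
      norm_num at this
    · refine Or.inr <| Or.inr <| Or.inr <| Or.inr <| Or.inr <| Or.inr <| Or.inr <| Or.inr <| Or.inr <| Or.inr <| Or.inr <| Or.inl ⟨K, hK, isAdjointClosedFor_of hB hs, fun h => hsa ((isSelfAdjointFor_iff hB K).1 h),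
        fun k hk => ?_, heq⟩
      obtain ⟨c, -, hc⟩ := similitude_of_field hB (by omega) hHiso hirr hK hs hsa hle k hk
      exact ⟨c, hc⟩
  · exact absurd hp hminus
  · omega
  · exact Or.inr <| Or.inr <| Or.inr <| Or.inr <| Or.inr <| Or.inr <| Or.inr <| Or.inr <| Or.inr <| Or.inr <| Or.inr <| Or.inr <| Or.inr <| h
  · exact Or.inr <| Or.inr <| Or.inr <| Or.inr <| Or.inr <| Or.inr <| Or.inr <| Or.inr <| Or.inr <| Or.inr <| Or.inr <| Or.inr <| Or.inl (hsub h)

end Cfsg.Agent.S5850
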