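import Cfsg.Statements.S5871
import Cfsg.Agent.OrthMax.EvenTwelve

set_option autoImplicit false
open Cfsg Cfsg.Agent.OrthMax

namespace Cfsg.Agent.S5871

set_option maxHeartbeats 1600000 in
/-- Every maximal subgroup of Ω_12^+(q) is of one of the listed geometric types or lies in the residual class. Let F be a finite field with q elements (characteristic p), Q a non-degenerate quadratic form on F^12 of plus type (Witt index 6: some totally singular 6-space), Ω the commutator subgroup of its isometry group, and H a maximal subgroup of Ω (inside GL_12(F)). Then H is the intersection with Ω of one of: the stabiliser of a non-zero totally singular subspace of dimension ≠ 5; for q odd, the stabiliser of a non-degenerate subspace of odd dimension; the stabiliser of a non-degenerate 2-space of minus type; for q ≥ 4, the stabiliser of a non-degenerate 2-space of plus type; the stabiliser of a non-degenerate 4-space; for q even, the stabiliser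 of the span of a non-singular vector; for q = p an odd prime, the stabiliser of a decomposition into 12 pairwise orthogonal, pairwise isometric non-degenerate 1-spaces; for q ≥ 7, the stabiliser of a decomposition into 6 pairwise orthogonal, pairwise isometric non-degenerate 2-spaces of plus type; for q ≠ 3, the stabiliser of a decomposition into 6 pairwise orthogonal, pairwise isometric non-degenerate 2-spaces of minus type; for q odd with q ≥ 5, the stabiliser of a decomposition into 4 pairwise orthogonal, pairwise isometric non-degenerate 3-spaces; for q ≥ 3, the stabiliser of a decomposition into 3 pairwise orthogonal, pairwise isometric non-degenerate 4-spaces; the stabiliser of a decomposition into 2 pairwise orthogonal, pairwise isometric non-degenerate 6-spaces; of a decomposition into two totally singular 6-spaces; the normaliser of a degree-2 subfield of the matrix algebra; the normaliser of a degree-3 subfield of the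 matrix algebra; the normaliser of a degree-2 subfield K, adjoint-closed but not self-adjoint, acting by similarities of Q; for q ≥ 3, the stabiliser of a tensor decomposition of Q into alternating forms on F^2 and F^6 (Q vanishing on pure tensors); a subfield group (|F| = |F₀|^r, r prime) whose F₀-structure carries a non-zero multiple of Q — or else H lies in the residual class of the orthogonal case (modulo scalars H is almost simple, with absolutely irreducible perfect socle preimage realisable over no proper subfield and fixing no non-degenerate unitary form). -/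
theorem result {F : Type*} [Field F] [Fintype F] (Q : (Fin 12 → F) → F) (hQ : Cfsg.Geo.IsNondegenerateQuadraticForm Q) (hplus : Cfsg.Geo.IsPlusTypeOn Q ⊤) (H : Subgroup (Matrix.GeneralLinearGroup (Fin 12) F)) (hH : Cfsg.Geo.IsMaximalIn (Cfsg.Geo.omegaGL Q) H) :
    (∃ W : Submodule F (Fin 12 → F), W ≠ ⊥ ∧ Cfsg.Geo.IsTotallySingularQuad Q W ∧ Module.finrank F W ≠ 5 ∧ H = Cfsg.Geo.subspaceStabilizer W ⊓ Cfsg.Geo.omegaGL Q) ∨
    (Odd (Fintype.card F) ∧ ∃ W : Submodule F (Fin 12 → F), W ≠ ⊥ ∧ W ≠ ⊤ ∧ Odd (Module.finrank F W) ∧ 2 * Module.finrank F W ≠ 12 ∧ Cfsg.Geo.IsNondegenerateOn (QuadraticMap.polar Q) W ∧ H = Cfsg.Geo.subspaceStabilizer W ⊓ Cfsg.Geo.omegaGL Q) ∨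
    (∃ W : Submodule F (Fin 12 → F), Module.finrank F W = 2 ∧ Cfsg.Geo.IsNondegenerateOn (QuadraticMap.polar Q) W ∧ ¬ Cfsg.Geo.IsPlusTypeOn Q W ∧ H = Cfsg.Geo.subspaceStabilizer W ⊓ Cfsg.Geo.omegaGL Q) ∨
    (4 ≤ Fintype.card F ∧ ∃ W : Submodule F (Fin 12 → F), Module.finrank F W = 2 ∧ Cfsg.Geo.IsNondegenerateOn (QuadraticMap.polar Q) W ∧ Cfsg.Geo.IsPlusTypeOn Q W ∧ H = Cfsg.Geo.subspaceStabilizer W ⊓ Cfsg.Geo.omegaGL Q) ∨
    (∃ W : Submodule F (Fin 12 → F), Module.finrank F W = 4 ∧ Cfsg.Geo.IsNondegenerateOn (QuadraticMap.polar Q) W ∧ H = Cfsg.Geo.subspaceStabilizer W ⊓ Cfsg.Geo.omegaGL Q) ∨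
    (¬ Odd (Fintype.card F) ∧ ∃ v : (Fin 12 → F), Q v ≠ 0 ∧ H = Cfsg.Geo.subspaceStabilizer (Submodule.span F {v}) ⊓ Cfsg.Geo.omegaGL Q) ∨
    ((∃ p : ℕ, p.Prime ∧ Odd p ∧ Fintype.card F = p) ∧ ∃ D : Fin 12 → Submodule F (Fin 12 → F), Cfsg.Geo.IsOrthogonalMDecomposition Q 1 D ∧ H = Cfsg.Geo.decompositionStabilizer D ⊓ Cfsg.Geo.omegaGL Q) ∨
    (7 ≤ Fintype.card F ∧ ∃ D : Fin 6 → Submodule F (Fin 12 → F), Cfsg.Geo.IsOrthogonalMDecomposition Q 2 D ∧ (∀ i, Cfsg.Geo.IsPlusTypeOn Q (D i)) ∧ H = Cfsg.Geo.decompositionStabilizer D ⊓ Cfsg.Geo.omegaGL Q) ∨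
    (Fintype.card F ≠ 3 ∧ ∃ D : Fin 6 → Submodule F (Fin 12 → F), Cfsg.Geo.IsOrthogonalMDecomposition Q 2 D ∧ (∀ i, ¬ Cfsg.Geo.IsPlusTypeOn Q (D i)) ∧ H = Cfsg.Geo.decompositionStabilizer D ⊓ Cfsg.Geo.omegaGL Q) ∨
    (Odd (Fintype.card F) ∧ 5 ≤ Fintype.card F ∧ ∃ D : Fin 4 → Submodule F (Fin 12 → F), Cfsg.Geo.IsOrthogonalMDecomposition Q 3 D ∧ H = Cfsg.Geo.decompositionStabilizer D ⊓ Cfsg.Geo.omegaGL Q) ∨
    (3 ≤ Fintype.card F ∧ ∃ D : Fin 3 → Submodule F (Fin 12 → F), Cfsg.Geo.IsOrthogonalMDecomposition Q 4 D ∧ H = Cfsg.Geo.decompositionStabilizer D ⊓ Cfsg.Geo.omegaGL Q) ∨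
    (∃ D : Fin 2 → Submodule F (Fin 12 → F), Cfsg.Geo.IsOrthogonalMDecomposition Q 6 D ∧ H = Cfsg.Geo.decompositionStabilizer D ⊓ Cfsg.Geo.omegaGL Q) ∨
    (∃ D : Fin 2 → Submodule F (Fin 12 → F), Cfsg.Geo.IsMDecomposition 6 D ∧ (∀ i, Cfsg.Geo.IsTotallySingularQuad Q (D i)) ∧ H = Cfsg.Geo.decompositionStabilizer D ⊓ Cfsg.Geo.omegaGL Q) ∨
    (∃ K : Subalgebra F (Matrix (Fin 12) (Fin 12) F), Cfsg.Geo.IsFieldSubalgebra 2 K ∧ H = Cfsg.Geo.subalgebraNormalizer K ⊓ Cfsg.Geo.omegaGL Q) ∨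
    (∃ K : Subalgebra F (Matrix (Fin 12) (Fin 12) F), Cfsg.Geo.IsFieldSubalgebra 3 K ∧ H = Cfsg.Geo.subalgebraNormalizer K ⊓ Cfsg.Geo.omegaGL Q) ∨
    (∃ K : Subalgebra F (Matrix (Fin 12) (Fin 12) F), Cfsg.Geo.IsFieldSubalgebra 2 K ∧ Cfsg.Geo.IsAdjointClosedFor (QuadraticMap.polar Q) K ∧ ¬ Cfsg.Geo.IsSelfAdjointFor (QuadraticMap.polar Q) K ∧ (∀ k ∈ K, ∃ c : F, ∀ v : (Fin 12 → F), Q (Matrix.mulVec k v) = c * Q v) ∧ H = Cfsg.Geo.subalgebraNormalizer K ⊓ Cfsg.Geo.omegaGL Q) ∨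
    (3 ≤ Fintype.card F ∧ ∃ (e : Fin 12 ≃ Fin 2 × Fin 6) (P : Matrix.GeneralLinearGroup (Fin 12) F) (f₁ : (Fin 2 → F) → (Fin 2 → F) → F) (f₂ : (Fin 6 → F) → (Fin 6 → F) → F), Cfsg.Geo.IsSymplecticForm f₁ ∧ Cfsg.Geo.IsSymplecticForm f₂ ∧ Cfsg.Geo.IsTensorFormStructure id (QuadraticMap.polar Q) f₁ f₂ e P ∧ (∀ (x₁ : Fin 2 → F) (x₂ : Fin 6 → F), Q (Matrix.mulVec (P : Matrix (Fin 12) (Fin 12) F) ((fun a : Fin 2 × Fin 6 => x₁ a.1 * x₂ a.2) ∘ e)) = 0) ∧ H = Cfsg.Geo.tensorProductSubgroup 2 6 e P ⊓ Cfsg.Geo.omegaGL Q) ∨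
    (∃ (F₀ : Subfield F) (r : ℕ) (P : Matrix.GeneralLinearGroup (Fin 12) F) (ζ : F), r.Prime ∧ Fintype.card F = Nat.card F₀ ^ r ∧ ζ ≠ 0 ∧ Cfsg.Geo.IsQuadFormRationalStructure (fun v : Fin 12 → F => ζ * Q v) F₀ P ∧ H = Cfsg.Geo.subfieldSubgroup F₀ P ⊓ Cfsg.Geo.omegaGL Q) ∨
    Cfsg.Geo.InOrthogonalResidualClass H := by
  classical
  obtain ⟨Q, hB, hfun⟩ : ∃ Q' : QuadraticForm F (Fin 12 → F), Classical.BNondeg Q' ∧ ⇑Q' = Q :=
    ⟨GeoClasses.toQF hQ, GeoClasses.bNondeg_toQF hQ, rfl⟩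
  clear hQ
  subst hfun
  have hcard : Fintype.card (Fin 12) = 12 := Fintype.card_fin _
  have hHiso : H ≤ Cfsg.isometryGroup F ⇑Q := hH.1.le.trans omega_le_isometry
  have h12 : 12 = 2 * (5 + 1) := rfl
  have hts : ∀ W : Submodule F (Fin 12 → F), W ≠ ⊥ → Cfsg.Geo.IsTotallySingularQuad ⇑Q W →
      H ≤ Cfsg.Geo.subspaceStabilizer W → _ :=
    fun W hb hW hle => ts_case_plus hB (by omega) hH hplus (m := 5) (hcard.trans h12) hb hW hle
  have hsub : (∃ (F₀ : Subfield F) (r : ℕ) (P : Matrix.GeneralLinearGroup (Fin 12) F) (ζ : F), r.Prime ∧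
      Fintype.card F = Nat.card F₀ ^ r ∧ ζ ≠ 0 ∧
      Cfsg.Geo.IsQuadFormRationalStructure (fun v => ζ * Q v) F₀ P ∧ H ≤ Cfsg.Geo.subfieldSubgroup F₀ P) → _ :=
    eq_subfield hB (by omega) hH
  have htop : ∀ W : Submodule F (Fin 12 → F), Cfsg.Geo.IsNondegenerateOn (QuadraticMap.polar ⇑Q) W →
      (Cfsg.Geo.IsPlusTypeOn ⇑Q W ↔ Cfsg.Geo.IsPlusTypeOn ⇑Q (OrthGen.perpSub Q W)) := by
    intro W hW
    refine ⟨fun h => plus_cancel hB hW areOrthogonal_perp h ?_,
      fun h => plus_cancel hB (isNondegenerateOn_perp hB hW) areOrthogonal_perp' h ?_⟩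
    · rwa [sup_perp_eq_top hB hW]
    · rwa [sup_comm, sup_perp_eq_top hB hW]
  have hsix : ∀ W : Submodule F (Fin 12 → F), Module.finrank F W = 6 →
      Cfsg.Geo.IsNondegenerateOn (QuadraticMap.polar ⇑Q) W → H ≤ Cfsg.Geo.subspaceStabilizer W →
      H ≤ Cfsg.Geo.subspaceStabilizer (OrthGen.perpSub Q W) →
      ∃ D : Fin 2 → Submodule F (Fin 12 → F), Cfsg.Geo.IsOrthogonalMDecomposition ⇑Q 6 D ∧
        H = Cfsg.Geo.decompositionStabilizer D ⊓ Cfsg.Geo.omegaGL ⇑Q := by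
    intro W e hW hle hle'
    obtain ⟨hD, hleD⟩ := halves hB hW (by omega) e hcard hle hle'
    refine ⟨_, ⟨hD, fun i j => ?_⟩, eq_decomposition hB (by omega) hH hD.decomp hleD⟩
    refine areIsometric_of_type (hD.nondegenerate i) (hD.nondegenerate j)
      (by rw [hD.decomp.finrank_eq, hD.decomp.finrank_eq]) (by rw [hD.decomp.finrank_eq]; decide) ?_
    fin_cases i <;> fin_cases j
    exacts [Iff.rfl, htop W hW, (htop W hW).symm, Iff.rfl]
  have hlines : ∀ D : Fin 12 → Submodule F (Fin 12 → F), Cfsg.Geo.IsOrthogonalMDecomposition ⇑Q 1 D →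
      H ≤ Cfsg.Geo.decompositionStabilizer D →
      ((∃ p : ℕ, p.Prime ∧ Odd p ∧ Fintype.card F = p) ∧ ∃ D : Fin 12 → Submodule F (Fin 12 → F),
        Cfsg.Geo.IsOrthogonalMDecomposition ⇑Q 1 D ∧
        H = Cfsg.Geo.decompositionStabilizer D ⊓ Cfsg.Geo.omegaGL ⇑Q) ∨
      (∃ (F₀ : Subfield F) (r : ℕ) (P : Matrix.GeneralLinearGroup (Fin 12) F) (ζ : F), r.Prime ∧
        Fintype.card F = Nat.card F₀ ^ r ∧ ζ ≠ 0 ∧
        Cfsg.Geo.IsQuadFormRationalStructure (fun v => ζ * Q v) F₀ P ∧ H ≤ Cfsg.Geo.subfieldSubgroup F₀ P) := by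
    intro D hD hle
    have h2 := two_ne_zero_of_odd_parts hD odd_one
    by_cases hp : (Fintype.card F).Prime
    · exact Or.inl ⟨⟨_, hp, odd_card_iff.2 h2, rfl⟩, D, hD, eq_decomposition hB (by omega) hH hD.decomp.decomp hle⟩
    · exact Or.inr (subfield_of_lines h2 hp hHiso hD hle)
  rcases irreducible_cases hB (by omega) (fun h => by omega) hH.1.le with
    ⟨W, hb, hW, hle⟩ | ⟨h2, v, hv, hle⟩ | ⟨W, hd0, hd, hW, hle, hle'⟩ | ⟨t, k, D, hD, hle⟩ |
    ⟨k, D, hk, hD, hDts, hle, -⟩ | ⟨r, K, hr, hrn, hK, -, hle, -⟩ |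
    ⟨b, L, J₁, J₂, hb2, -, hT, h1, h1d, h2', h2d, hpure, -⟩ |
    ⟨-, h2, hq, L, J₁, J₂, hT, h1, h2', hirr⟩ | h | h
  · exact Or.inl (hts W hb hW hle)
  · exact Or.inr <| Or.inr <| Or.inr <| Or.inr <| Or.inr <| Or.inl (point_case hB (by omega) hH h2 hv hle)
  · rcases (show Odd (Module.finrank F W) ∧ 2 * Module.finrank F W < 12 ∨ Module.finrank F W = 2 ∨
      Module.finrank F W = 4 ∨ Module.finrank F W = 6 by rw [Nat.odd_iff]; omega) with ⟨ho, hd'⟩ | e | e | e
    · obtain ⟨hodd, h⟩ := odd_nondeg_case hB (by omega) hH ho (by omega) hW hle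
      simp only [hcard] at h
      exact Or.inr <| Or.inl ⟨hodd, h⟩
    · rcases plane_case hB (by omega) hH e hW hle with h | h | h | h
      · exact Or.inr <| Or.inr <| Or.inl h
      · exact Or.inr <| Or.inr <| Or.inr <| Or.inl h
      · exact Or.inr <| Or.inr <| Or.inr <| Or.inr <| Or.inr <| Or.inl h
      · simp only [hcard] at h
        exact Or.inr <| Or.inl h
    · exact Or.inr <| Or.inr <| Or.inr <| Or.inr <| Or.inl ⟨W, e, hW, eq_stabilizer hB (by omega) hH (ne_bot_of_finrank e (by omega)) (by omega) hle⟩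
    · exact Or.inr <| Or.inr <| Or.inr <| Or.inr <| Or.inr <| Or.inr <| Or.inr <| Or.inr <| Or.inr <| Or.inr <| Or.inr <| Or.inl (hsix W e hW hle hle')
  · obtain ⟨ht, hk, htk⟩ := decomposition_sizes hD
    rw [hcard] at htk
    have : t ≤ 12 := by nlinarith
    have heq := eq_decomposition hB (by omega) hH hD.decomp.decomp hle
    have hq1 : 1 < Fintype.card F := Fintype.one_lt_card
    rcases (show (t = 2 ∧ k = 6) ∨ (t = 3 ∧ k = 4) ∨ (t = 4 ∧ k = 3) ∨ (t = 6 ∧ k = 2) ∨ (t = 12 ∧ k = 1) by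
      interval_cases t <;> omega) with ⟨rfl, rfl⟩ | ⟨rfl, rfl⟩ | ⟨rfl, rfl⟩ | ⟨rfl, rfl⟩ | ⟨rfl, rfl⟩
    · exact Or.inr <| Or.inr <| Or.inr <| Or.inr <| Or.inr <| Or.inr <| Or.inr <| Or.inr <| Or.inr <| Or.inr <| Or.inr <| Or.inl ⟨D, hD, heq⟩
    · by_cases hq : 3 ≤ Fintype.card F
      · exact Or.inr <| Or.inr <| Or.inr <| Or.inr <| Or.inr <| Or.inr <| Or.inr <| Or.inr <| Or.inr <| Or.inr <| Or.inl ⟨hq, D, hD, heq⟩
      · have h2q : Fintype.card F = 2 := by omega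
        obtain ⟨D', hD', hm, hle'⟩ := six_planes_of_three h2q hcard hHiso hD
          (parts_plus hB hD (by decide) (by decide) hplus) hle
        exact Or.inr <| Or.inr <| Or.inr <| Or.inr <| Or.inr <| Or.inr <| Or.inr <| Or.inr <| Or.inl ⟨by omega, D', hD', hm, eq_decomposition hB (by omega) hH hD'.decomp.decomp hle'⟩
    · have h2 := two_ne_zero_of_odd_parts hD (by decide)
      have ho := odd_card_iff.2 h2
      by_cases hq : 5 ≤ Fintype.card F
      · exact Or.inr <| Or.inr <| Or.inr <| Or.inr <| Or.inr <| Or.inr <| Or.inr <| Or.inr <| Or.inr <| Or.inl ⟨ho, hq, D, hD, heq⟩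
      · have h3 : Fintype.card F = 3 := by obtain ⟨j, hj⟩ := ho; omega
        obtain ⟨E, hE, hEle⟩ := exists_frame_of_three_spaces h3 h2 hD
        rcases hlines E hE ((le_inf hle hHiso).trans hEle) with h | h
        · exact Or.inr <| Or.inr <| Or.inr <| Or.inr <| Or.inr <| Or.inr <| Or.inl h
        · exact Or.inr <| Or.inr <| Or.inr <| Or.inr <| Or.inr <| Or.inr <| Or.inr <| Or.inr <| Or.inr <| Or.inr <| Or.inr <| Or.inr <| Or.inr <| Or.inr <| Or.inr <| Or.inr <| Or.inr <| Or.inl (hsub h)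
    · by_cases hp : Cfsg.Geo.IsPlusTypeOn ⇑Q (D 0)
      · have hparts := plus_part_transport hD hp
        by_cases hq : 7 ≤ Fintype.card F
        · exact Or.inr <| Or.inr <| Or.inr <| Or.inr <| Or.inr <| Or.inr <| Or.inr <| Or.inl ⟨hq, D, hD, hparts, heq⟩
        rcases (show Fintype.card F = 2 ∨ Fintype.card F = 3 ∨ Fintype.card F = 4 ∨ Fintype.card F = 5 ∨
            Fintype.card F = 6 by omega) with h | h | h | h | h
        · obtain ⟨v, hv0, hQv, hlev⟩ := point_of_plus_planes_two h hHiso hD hparts hle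
          have h20 : (2 : F) = 0 := by
            by_contra h2
            have := odd_card_iff.2 h2
            rw [h] at this
            norm_num [Nat.odd_iff] at this
          refine Or.inl (hts (Submodule.span F {v}) ?_ ?_ hlev)
          · exact ne_bot_of_finrank (finrank_span_singleton hv0) one_ne_zero
          · intro x hx
            obtain ⟨c, rfl⟩ := Submodule.mem_span_singleton.1 hx
            rw [QuadraticMap.map_smul, hQv, smul_eq_mul]
            push_cast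
            linear_combination 3 * c * c * h20
        · obtain ⟨W, e, hW, hleW, hleW'⟩ := subspace_of_plus_planes_three h hHiso hD hparts hle
          exact Or.inr <| Or.inr <| Or.inr <| Or.inr <| Or.inr <| Or.inr <| Or.inr <| Or.inr <| Or.inr <| Or.inr <| Or.inr <| Or.inl (hsix W e hW hleW hleW')
        · exact Or.inr <| Or.inr <| Or.inr <| Or.inr <| Or.inr <| Or.inr <| Or.inr <| Or.inr <| Or.inr <| Or.inr <| Or.inr <| Or.inr <| Or.inr <| Or.inr <| Or.inr <| Or.inr <| Or.inr <| Or.inl (hsub (subfield_of_plus_planes_four h hHiso hD hparts hle))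
        · obtain ⟨D', hD', hle'⟩ := lines_of_value_pairs (odd_card_iff.1 (by rw [h]; decide)) hHiso hD hle
            fun i => value_one_plus_five h (hD.decomp.nondegenerate i) (hD.decomp.decomp.finrank_eq i) (hparts i)
          rcases hlines D' hD' hle' with h | h
          · exact Or.inr <| Or.inr <| Or.inr <| Or.inr <| Or.inr <| Or.inr <| Or.inl h
          · exact Or.inr <| Or.inr <| Or.inr <| Or.inr <| Or.inr <| Or.inr <| Or.inr <| Or.inr <| Or.inr <| Or.inr <| Or.inr <| Or.inr <| Or.inr <| Or.inr <| Or.inr <| Or.inr <| Or.inr <| Or.inl (hsub h)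
        · exfalso
          exact card_ne_six h
      · have hparts : ∀ i, ¬ Cfsg.Geo.IsPlusTypeOn ⇑Q (D i) := fun i hi => hp (plus_part_transport hD hi 0)
        by_cases h3 : Fintype.card F = 3
        · obtain ⟨D', hD', hle'⟩ := lines_of_value_pairs (odd_card_iff.1 (by rw [h3]; decide)) hHiso hD hle
            fun i => value_one_minus_three h3 (hD.decomp.nondegenerate i) (hD.decomp.decomp.finrank_eq i) (hparts i)
          rcases hlines D' hD' hle' with h | h
          · exact Or.inr <| Or.inr <| Or.inr <| Or.inr <| Or.inr <| Or.inr <| Or.inl h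
          · exact Or.inr <| Or.inr <| Or.inr <| Or.inr <| Or.inr <| Or.inr <| Or.inr <| Or.inr <| Or.inr <| Or.inr <| Or.inr <| Or.inr <| Or.inr <| Or.inr <| Or.inr <| Or.inr <| Or.inr <| Or.inl (hsub h)
        · exact Or.inr <| Or.inr <| Or.inr <| Or.inr <| Or.inr <| Or.inr <| Or.inr <| Or.inr <| Or.inl ⟨h3, D, hD, hparts, heq⟩
    · rcases hlines D hD hle with h | h
      · exact Or.inr <| Or.inr <| Or.inr <| Or.inr <| Or.inr <| Or.inr <| Or.inl h
      · exact Or.inr <| Or.inr <| Or.inr <| Or.inr <| Or.inr <| Or.inr <| Or.inr <| Or.inr <| Or.inr <| Or.inr <| Or.inr <| Or.inr <| Or.inr <| Or.inr <| Or.inr <| Or.inr <| Or.inr <| Or.inl (hsub h)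
  · obtain rfl : k = 6 := by omega
    exact Or.inr <| Or.inr <| Or.inr <| Or.inr <| Or.inr <| Or.inr <| Or.inr <| Or.inr <| Or.inr <| Or.inr <| Or.inr <| Or.inr <| Or.inl ⟨D, hD, hDts, eq_decomposition hB (by omega) hH hD hle⟩
  · rw [hcard] at hrn
    have hr12 : r ≤ 12 := Nat.le_of_dvd (by norm_num) hrn
    rcases (show r = 2 ∨ r = 3 by interval_cases r <;> first | omega | (norm_num at hr; done)) with rfl | rfl
    · exact Or.inr <| Or.inr <| Or.inr <| Or.inr <| Or.inr <| Or.inr <| Or.inr <| Or.inr <| Or.inr <| Or.inr <| Or.inr <| Or.inr <| Or.inr <| Or.inl ⟨K, hK, eq_normalizer hB (by omega) hH hr hK hle⟩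
    · exact Or.inr <| Or.inr <| Or.inr <| Or.inr <| Or.inr <| Or.inr <| Or.inr <| Or.inr <| Or.inr <| Or.inr <| Or.inr <| Or.inr <| Or.inr <| Or.inr <| Or.inl ⟨K, hK, eq_normalizer hB (by omega) hH hr hK hle⟩
  · obtain rfl : b = 6 := by omega
    rcases tensor_six hB hH hT h1 h1d h2' h2d hpure with h | h
    · exact Or.inr <| Or.inr <| Or.inr <| Or.inr <| Or.inr <| Or.inr <| Or.inr <| Or.inr <| Or.inr <| Or.inr <| Or.inr <| Or.inr <| Or.inr <| Or.inr <| Or.inr <| Or.inr <| Or.inl h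
    · exact Or.inr <| Or.inr <| Or.inr <| Or.inr <| Or.inr <| Or.inr <| Or.inr <| Or.inr <| Or.inr <| Or.inr <| Or.inr <| Or.inr <| Or.inr <| Or.inl h
  · have hp : Cfsg.Geo.IsPlusTypeOn (fun v : Fin 4 → F => GeoClasses.formOf (RingEquiv.refl F) J₂ v v) ⊤ :=
      not_not.1 fun hp => not_plus_of_three_four hB h2 hT h1 h2' hp hplus
    obtain ⟨L', J₁', J₂', hT', hJ'⟩ := two_six_of_three_four h2 hH.1.le hT h1 h2' hp
    rcases tensor_kinds hB hHiso hirr hT' with ⟨⟨a1, a1d⟩, ⟨a2, a2d⟩, -, -⟩ | ⟨-, a1, -⟩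
    · rcases tensor_six hB hH hT' a1 a1d a2 a2d (quad_tensorVec_of_alt hB hHiso hirr hT' a1 a1d a2 a2d) with h | h
      · exact Or.inr <| Or.inr <| Or.inr <| Or.inr <| Or.inr <| Or.inr <| Or.inr <| Or.inr <| Or.inr <| Or.inr <| Or.inr <| Or.inr <| Or.inr <| Or.inr <| Or.inr <| Or.inr <| Or.inl h
      · exact Or.inr <| Or.inr <| Or.inr <| Or.inr <| Or.inr <| Or.inr <| Or.inr <| Or.inr <| Or.inr <| Or.inr <| Or.inr <| Or.inr <| Or.inr <| Or.inl h
    · exfalso
      refine hT'.unit₁.ne_zero ?_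
      rw [hJ'] at a1
      ext i j
      have := congrFun (congrFun a1 i) j
      simp only [Matrix.neg_apply, Matrix.zero_apply] at this ⊢
      exact (mul_eq_zero.1 (show (2 : F) * J₁' i j = 0 by linear_combination -this)).resolve_left h2
  · exact Or.inr <| Or.inr <| Or.inr <| Or.inr <| Or.inr <| Or.inr <| Or.inr <| Or.inr <| Or.inr <| Or.inr <| Or.inr <| Or.inr <| Or.inr <| Or.inr <| Or.inr <| Or.inr <| Or.inr <| Or.inr <| h
  · exact Or.inr <| Or.inr <| Or.inr <| Or.inr <| Or.inr <| Or.inr <| Or.inr <| Or.inr <| Or.inr <| Or.inr <| Or.inr <| Or.inr <| Or.inr <| Or.inr <| Or.inr <| Or.inr <| Or.inr <| Or.inl (hsub h)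

end Cfsg.Agent.S5871
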