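import Cfsg.Statements.S5874
import Cfsg.Agent.OrthMax.EvenCases

set_option autoImplicit false
open Cfsg Cfsg.Agent.OrthMax

namespace Cfsg.Agent.S5874

set_option maxHeartbeats 1600000 in
/-- Every maximal subgroup of Ω_12^-(q) is of one of the listed geometric types or lies in the residual class. Let F be a finite field with q elements (characteristic p), Q a non-degenerate quadratic form on F^12 of minus type (Witt index 5: no totally singular 6-space), Ω the commutator subgroup of its isometry group, and H a maximal subgroup of Ω (inside GL_12(F)). Then H is the intersection with Ω of one of: the stabiliser of a non-zero totally singular subspace; for q odd, the stabiliser of a non-degenerate subspace of odd dimension; the stabiliser of a non-degenerate 2-space of minus type; for q ≥ 4, the stabiliser of a non-degenerate 2-space of plus type; the stabiliser of a non-degenerate 4-space; the stabiliser of a non-degenerate 6-space; for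 q even, the stabiliser of the span of a non-singular vector; the stabiliser of a decomposition into 3 pairwise orthogonal, pairwise isometric non-degenerate 4-spaces of minus type; the normaliser of a degree-2 subfield of the matrix algebra; the normaliser of a degree-3 subfield of the matrix algebra; for q odd with q ≥ 5, the stabiliser of a tensor decomposition of the polar form into symmetric forms on F^3 and F^4 (minus type); a subfield group (|F| = |F₀|^r, r odd prime) whose F₀-structure carries a non-zero multiple of Q — or else H lies in the residual class of the orthogonal case (modulo scalars H is almost simple, with absolutely irreducible perfect socle preimage realisable over no proper subfield and fixing no non-degenerate unitary form). -/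
theorem result {F : Type*} [Field F] [Fintype F] (Q : (Fin 12 → F) → F) (hQ : Cfsg.Geo.IsNondegenerateQuadraticForm Q) (hminus : ¬ Cfsg.Geo.IsPlusTypeOn Q ⊤) (H : Subgroup (Matrix.GeneralLinearGroup (Fin 12) F)) (hH : Cfsg.Geo.IsMaximalIn (Cfsg.Geo.omegaGL Q) H) :
    (∃ W : Submodule F (Fin 12 → F), W ≠ ⊥ ∧ Cfsg.Geo.IsTotallySingularQuad Q W ∧ H = Cfsg.Geo.subspaceStabilizer W ⊓ Cfsg.Geo.omegaGL Q) ∨
    (Odd (Fintype.card F) ∧ ∃ W : Submodule F (Fin 12 → F), W ≠ ⊥ ∧ W ≠ ⊤ ∧ Odd (Module.finrank F W) ∧ 2 * Module.finrank F W ≠ 12 ∧ Cfsg.Geo.IsNondegenerateOn (QuadraticMap.polar Q) W ∧ H = Cfsg.Geo.subspaceStabilizer W ⊓ Cfsg.Geo.omegaGL Q) ∨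
    (∃ W : Submodule F (Fin 12 → F), Module.finrank F W = 2 ∧ Cfsg.Geo.IsNondegenerateOn (QuadraticMap.polar Q) W ∧ ¬ Cfsg.Geo.IsPlusTypeOn Q W ∧ H = Cfsg.Geo.subspaceStabilizer W ⊓ Cfsg.Geo.omegaGL Q) ∨
    (4 ≤ Fintype.card F ∧ ∃ W : Submodule F (Fin 12 → F), Module.finrank F W = 2 ∧ Cfsg.Geo.IsNondegenerateOn (QuadraticMap.polar Q) W ∧ Cfsg.Geo.IsPlusTypeOn Q W ∧ H = Cfsg.Geo.subspaceStabilizer W ⊓ Cfsg.Geo.omegaGL Q) ∨
    (∃ W : Submodule F (Fin 12 → F), Module.finrank F W = 4 ∧ Cfsg.Geo.IsNondegenerateOn (QuadraticMap.polar Q) W ∧ H = Cfsg.Geo.subspaceStabilizer W ⊓ Cfsg.Geo.omegaGL Q) ∨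
    (∃ W : Submodule F (Fin 12 → F), Module.finrank F W = 6 ∧ Cfsg.Geo.IsNondegenerateOn (QuadraticMap.polar Q) W ∧ H = Cfsg.Geo.subspaceStabilizer W ⊓ Cfsg.Geo.omegaGL Q) ∨
    (¬ Odd (Fintype.card F) ∧ ∃ v : (Fin 12 → F), Q v ≠ 0 ∧ H = Cfsg.Geo.subspaceStabilizer (Submodule.span F {v}) ⊓ Cfsg.Geo.omegaGL Q) ∨
    (∃ D : Fin 3 → Submodule F (Fin 12 → F), Cfsg.Geo.IsOrthogonalMDecomposition Q 4 D ∧ (∀ i, ¬ Cfsg.Geo.IsPlusTypeOn Q (D i)) ∧ H = Cfsg.Geo.decompositionStabilizer D ⊓ Cfsg.Geo.omegaGL Q) ∨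
    (∃ K : Subalgebra F (Matrix (Fin 12) (Fin 12) F), Cfsg.Geo.IsFieldSubalgebra 2 K ∧ H = Cfsg.Geo.subalgebraNormalizer K ⊓ Cfsg.Geo.omegaGL Q) ∨
    (∃ K : Subalgebra F (Matrix (Fin 12) (Fin 12) F), Cfsg.Geo.IsFieldSubalgebra 3 K ∧ H = Cfsg.Geo.subalgebraNormalizer K ⊓ Cfsg.Geo.omegaGL Q) ∨
    (Odd (Fintype.card F) ∧ 5 ≤ Fintype.card F ∧ ∃ (e : Fin 12 ≃ Fin 3 × Fin 4) (P : Matrix.GeneralLinearGroup (Fin 12) F) (f₁ : (Fin 3 → F) → (Fin 3 → F) → F) (f₂ : (Fin 4 → F) → (Fin 4 → F) → F), Cfsg.Geo.IsSymmetricForm f₁ ∧ Cfsg.Geo.IsSymmetricForm f₂ ∧ ¬ Cfsg.Geo.IsPlusTypeOn (fun v : Fin 4 → F => f₂ v v) ⊤ ∧ Cfsg.Geo.IsTensorFormStructure id (QuadraticMap.polar Q) f₁ f₂ e P ∧ H = Cfsg.Geo.tensorProductSubgroup 3 4 e P ⊓ Cfsg.Geo.omegaGL Q) ∨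
    (∃ (F₀ : Subfield F) (r : ℕ) (P : Matrix.GeneralLinearGroup (Fin 12) F) (ζ : F), r.Prime ∧ Odd r ∧ Fintype.card F = Nat.card F₀ ^ r ∧ ζ ≠ 0 ∧ Cfsg.Geo.IsQuadFormRationalStructure (fun v : Fin 12 → F => ζ * Q v) F₀ P ∧ H = Cfsg.Geo.subfieldSubgroup F₀ P ⊓ Cfsg.Geo.omegaGL Q) ∨
    Cfsg.Geo.InOrthogonalResidualClass H := by
  classical
  obtain ⟨Q, hB, hfun⟩ : ∃ Q' : QuadraticForm F (Fin 12 → F), Classical.BNondeg Q' ∧ ⇑Q' = Q :=
    ⟨GeoClasses.toQF hQ, GeoClasses.bNondeg_toQF hQ, rfl⟩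
  clear hQ
  subst hfun
  have hcard : Fintype.card (Fin 12) = 12 := Fintype.card_fin _
  have hHiso : H ≤ Cfsg.isometryGroup F ⇑Q := hH.1.le.trans omega_le_isometry
  rcases irreducible_cases hB (by omega) (fun h => by omega) hH.1.le with
    ⟨W, hb, hW, hle⟩ | ⟨h2, v, hv, hle⟩ | ⟨W, hd0, hd, hW, hle, -⟩ | ⟨t, k, D, hD, hle⟩ |
    ⟨k, D, hk, hD, hts, -⟩ | ⟨r, K, hr, hrn, hK, -, hle, -⟩ | ⟨b, L, J₁, J₂, -, -, -, -, -, -, -, -, hp⟩ |
    ⟨-, h2, hq, L, J₁, J₂, hT, h1, h2', -⟩ | h | h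
  · exact Or.inl (ts_case hB (by omega) hH hb hW hle)
  · exact Or.inr <| Or.inr <| Or.inr <| Or.inr <| Or.inr <| Or.inr <| Or.inl (point_case hB (by omega) hH h2 hv hle)
  · rcases (show Odd (Module.finrank F W) ∧ 2 * Module.finrank F W < 12 ∨ Module.finrank F W = 2 ∨
      Module.finrank F W = 4 ∨ Module.finrank F W = 6 by rw [Nat.odd_iff]; omega) with ⟨ho, hd'⟩ | e | e | e
    · obtain ⟨hodd, h⟩ := odd_nondeg_case hB (by omega) hH ho (by omega) hW hle
      simp only [hcard] at h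
      exact Or.inr <| Or.inl ⟨hodd, h⟩
    · rcases plane_case hB (by omega) hH e hW hle with h | h | h | h
      · exact Or.inr <| Or.inr <| Or.inl h
      · exact Or.inr <| Or.inr <| Or.inr <| Or.inl h
      · exact Or.inr <| Or.inr <| Or.inr <| Or.inr <| Or.inr <| Or.inr <| Or.inl h
      · simp only [hcard] at h
        exact Or.inr <| Or.inl h
    · exact Or.inr <| Or.inr <| Or.inr <| Or.inr <| Or.inl ⟨W, e, hW,
        eq_stabilizer hB (by omega) hH (ne_bot_of_finrank e (by omega)) (by omega) hle⟩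
    · exact Or.inr <| Or.inr <| Or.inr <| Or.inr <| Or.inr <| Or.inl ⟨W, e, hW,
        eq_stabilizer hB (by omega) hH (ne_bot_of_finrank e (by omega)) (by omega) hle⟩
  · obtain ⟨ht, hk, htk⟩ := decomposition_sizes hD
    rw [hcard] at htk
    have : t ≤ 12 := by nlinarith
    rcases (show (t = 2 ∧ k = 6) ∨ (t = 6 ∧ k = 2) ∨ 4 ∣ t ∨ (t = 3 ∧ k = 4) by interval_cases t <;> omega) with
      ⟨rfl, rfl⟩ | ⟨rfl, rfl⟩ | h4 | ⟨rfl, rfl⟩
    · exact absurd (plus_of_even_even hD (by decide) (by decide)) hminus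
    · exact absurd (plus_of_even_even hD (by decide) (by decide)) hminus
    · exact absurd (plus_of_four_dvd hD h4) hminus
    · exact Or.inr <| Or.inr <| Or.inr <| Or.inr <| Or.inr <| Or.inr <| Or.inr <| Or.inl
        ⟨D, hD, fun i hi => hminus (plus_of_parts hD hi), eq_decomposition hB (by omega) hH hD.decomp.decomp hle⟩
  · exfalso
    refine hminus (plus_of_ts (le_top : D 0 ≤ ⊤) (hts 0) ?_ ?_)
    · rw [finrank_top_eq, hcard]; decide
    · rw [finrank_top_eq, hD.finrank_eq, hk]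
  · rw [hcard] at hrn
    have hr12 : r ≤ 12 := Nat.le_of_dvd (by norm_num) hrn
    rcases (show r = 2 ∨ r = 3 by interval_cases r <;> first | omega | (norm_num at hr; done)) with rfl | rfl
    · exact Or.inr <| Or.inr <| Or.inr <| Or.inr <| Or.inr <| Or.inr <| Or.inr <| Or.inr <| Or.inl
        ⟨K, hK, eq_normalizer hB (by omega) hH hr hK hle⟩
    · exact Or.inr <| Or.inr <| Or.inr <| Or.inr <| Or.inr <| Or.inr <| Or.inr <| Or.inr <| Or.inr <| Or.inl
        ⟨K, hK, eq_normalizer hB (by omega) hH hr hK hle⟩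
  · exact absurd hp hminus
  · refine Or.inr <| Or.inr <| Or.inr <| Or.inr <| Or.inr <| Or.inr <| Or.inr <| Or.inr <| Or.inr <| Or.inr <|
      Or.inl ⟨odd_card_iff.2 h2, hq, ?_⟩
    obtain e := Fintype.equivOfCardEq (show Fintype.card (Fin 12) = Fintype.card (Fin 3 × Fin 4) by simp)
    obtain ⟨P, hPv, hPX⟩ := GeoClasses.exists_coordGL L e
    refine ⟨e, P, GeoClasses.formOf (RingEquiv.refl F) J₁, GeoClasses.formOf (RingEquiv.refl F) J₂,
      GeoClasses.isSymmetricForm_formOf hT.unit₁ h1, GeoClasses.isSymmetricForm_formOf hT.unit₂ h2',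
      fun hp => hminus (plus_of_three_four h2 hT h2' hp), ?_,
      ClassicalMax.eq_inf_max hH (fun h hh => ?_)
        (omega_not_le_tensorProductSubgroup hB (by omega) (by norm_num) (by norm_num) e P)⟩
    · have := GeoClasses.tensorFormStructure (σ := RingEquiv.refl F) (B := polarMat Q) hPv one_ne_zero
        (by rw [one_smul, hT.gram])
      rwa [formOf_polarMat] at this
    · obtain ⟨c, d, μ, ν, hcd, -, -⟩ := hT.mem h hh
      exact GeoClasses.mem_tensorProductSubgroup hPX c d hcd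
  · exact Or.inr <| Or.inr <| Or.inr <| Or.inr <| Or.inr <| Or.inr <| Or.inr <| Or.inr <| Or.inr <| Or.inr <| Or.inr <| Or.inr h
  · exact Or.inr <| Or.inr <| Or.inr <| Or.inr <| Or.inr <| Or.inr <| Or.inr <| Or.inr <| Or.inr <| Or.inr <| Or.inr <| Or.inl
      (eq_subfield_odd hB (by omega) (by rw [hcard]; decide) hminus hH h)

end Cfsg.Agent.S5874
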